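import Cfsg.Agent.Lib.CosetEnum.Pres
import Cfsg.Agent.Lib.Co1T.Top.D0
import Cfsg.Agent.Lib.Co1T.Top.D1
set_option autoImplicit false
set_option maxRecDepth 100000
namespace H18.H30T
open H54 (Tr force band)
open H18.TC
noncomputable def T : Tr := (.node (nat_lit 6141) (.node (nat_lit 3070) (.node (nat_lit 1534) (.node (nat_lit 766) (.node (nat_lit 382) (.node (nat_lit 190) (.node (nat_lit 94) T_127 T_126) (.node (nat_lit 286) T_125 T_124)) (.node (nat_lit 574) (.node (nat_lit 478) T_123 T_122) (.node (nat_lit 670) T_121 T_120))) (.node (nat_lit 1150) (.node (nat_lit 958) (.node (nat_lit 862) T_119 T_118) (.node (nat_lit 1054) T_117 T_116)) (.node (nat_lit 1342) (.node (nat_lit 1246) T_115 T_114) (.node (nat_lit 1438) T_113 T_112)))) (.node (nat_lit 2302) (.node (nat_lit 1918) (.node (nat_lit 1726) (.node (nat_lit 1630) T_111 T_110) (.node (nat_lit 1822) T_109 T_108)) (.node (nat_lit 2110) (.node (nat_lit 2014)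 T_107 T_106) (.node (nat_lit 2206) T_105 T_104))) (.node (nat_lit 2686) (.node (nat_lit 2494) (.node (nat_lit 2398) T_103 T_102) (.node (nat_lit 2590) T_101 T_100)) (.node (nat_lit 2878) (.node (nat_lit 2782) T_99 T_98) (.node (nat_lit 2974) T_97 T_96))))) (.node (nat_lit 4605) (.node (nat_lit 3837) (.node (nat_lit 3453) (.node (nat_lit 3261) (.node (nat_lit 3165) T_95 T_94) (.node (nat_lit 3357) T_93 T_92)) (.node (nat_lit 3645) (.node (nat_lit 3549) T_91 T_90) (.node (nat_lit 3741) T_89 T_88))) (.node (nat_lit 4221) (.node (nat_lit 4029) (.node (nat_lit 3933) T_87 T_86) (.node (nat_lit 4125) T_85 T_84)) (.node (nat_lit 4413) (.node (nat_lit 4317) T_83 T_82) (.node (nat_lit 4509) T_81 T_80)))) (.node (nat_lit 5373) (.node (nat_lit 4989) (.node (nat_lit 4797) (.node (nat_lit 4701) T_79 T_78) (.node (nat_lit 4893) T_77 T_76)) (.node (nat_lit 5181) (.node (nat_lit 5085) T_75 T_74) (.node (nat_lit 5277) T_73 T_72)))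 (.node (nat_lit 5757) (.node (nat_lit 5565) (.node (nat_lit 5469) T_71 T_70) (.node (nat_lit 5661) T_69 T_68)) (.node (nat_lit 5949) (.node (nat_lit 5853) T_67 T_66) (.node (nat_lit 6045) T_65 T_64)))))) (.node (nat_lit 9212) (.node (nat_lit 7676) (.node (nat_lit 6908) (.node (nat_lit 6524) (.node (nat_lit 6332) (.node (nat_lit 6236) T_63 T_62) (.node (nat_lit 6428) T_61 T_60)) (.node (nat_lit 6716) (.node (nat_lit 6620) T_59 T_58) (.node (nat_lit 6812) T_57 T_56))) (.node (nat_lit 7292) (.node (nat_lit 7100) (.node (nat_lit 7004) T_55 T_54) (.node (nat_lit 7196) T_53 T_52)) (.node (nat_lit 7484) (.node (nat_lit 7388) T_51 T_50) (.node (nat_lit 7580) T_49 T_48)))) (.node (nat_lit 8444) (.node (nat_lit 8060) (.node (nat_lit 7868) (.node (nat_lit 7772) T_47 T_46) (.node (nat_lit 7964) T_45 T_44)) (.node (nat_lit 8252) (.node (nat_lit 8156) T_43 T_42) (.node (nat_lit 8348) T_41 T_40))) (.node (nat_lit 8828) (.node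 (nat_lit 8636) (.node (nat_lit 8540) T_39 T_38) (.node (nat_lit 8732) T_37 T_36)) (.node (nat_lit 9020) (.node (nat_lit 8924) T_35 T_34) (.node (nat_lit 9116) T_33 T_32))))) (.node (nat_lit 10748) (.node (nat_lit 9980) (.node (nat_lit 9596) (.node (nat_lit 9404) (.node (nat_lit 9308) T_31 T_30) (.node (nat_lit 9500) T_29 T_28)) (.node (nat_lit 9788) (.node (nat_lit 9692) T_27 T_26) (.node (nat_lit 9884) T_25 T_24))) (.node (nat_lit 10364) (.node (nat_lit 10172) (.node (nat_lit 10076) T_23 T_22) (.node (nat_lit 10268) T_21 T_20)) (.node (nat_lit 10556) (.node (nat_lit 10460) T_19 T_18) (.node (nat_lit 10652) T_17 T_16)))) (.node (nat_lit 11516) (.node (nat_lit 11132) (.node (nat_lit 10940) (.node (nat_lit 10844) T_15 T_14) (.node (nat_lit 11036) T_13 T_12)) (.node (nat_lit 11324) (.node (nat_lit 11228) T_11 T_10) (.node (nat_lit 11420) T_9 T_8))) (.node (nat_lit 11900) (.node (nat_lit 11708) (.node (nat_lit 11612)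 T_7 T_6) (.node (nat_lit 11804) T_5 T_4)) (.node (nat_lit 12092) (.node (nat_lit 11996) T_3 T_2) (.node (nat_lit 12188) T_1 T_0)))))))
noncomputable def J : Tr := (.node (nat_lit 6141) (.node (nat_lit 3070) (.node (nat_lit 1534) (.node (nat_lit 766) (.node (nat_lit 382) (.node (nat_lit 190) (.node (nat_lit 94) J_127 J_126) (.node (nat_lit 286) J_125 J_124)) (.node (nat_lit 574) (.node (nat_lit 478) J_123 J_122) (.node (nat_lit 670) J_121 J_120))) (.node (nat_lit 1150) (.node (nat_lit 958) (.node (nat_lit 862) J_119 J_118) (.node (nat_lit 1054) J_117 J_116)) (.node (nat_lit 1342) (.node (nat_lit 1246) J_115 J_114) (.node (nat_lit 1438) J_113 J_112)))) (.node (nat_lit 2302) (.node (nat_lit 1918) (.node (nat_lit 1726) (.node (nat_lit 1630) J_111 J_110) (.node (nat_lit 1822) J_109 J_108)) (.node (nat_lit 2110) (.node (nat_lit 2014) J_107 J_106) (.node (nat_lit 2206) J_105 J_104))) (.node (nat_lit 2686) (.node (nat_lit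 2494) (.node (nat_lit 2398) J_103 J_102) (.node (nat_lit 2590) J_101 J_100)) (.node (nat_lit 2878) (.node (nat_lit 2782) J_99 J_98) (.node (nat_lit 2974) J_97 J_96))))) (.node (nat_lit 4605) (.node (nat_lit 3837) (.node (nat_lit 3453) (.node (nat_lit 3261) (.node (nat_lit 3165) J_95 J_94) (.node (nat_lit 3357) J_93 J_92)) (.node (nat_lit 3645) (.node (nat_lit 3549) J_91 J_90) (.node (nat_lit 3741) J_89 J_88))) (.node (nat_lit 4221) (.node (nat_lit 4029) (.node (nat_lit 3933) J_87 J_86) (.node (nat_lit 4125) J_85 J_84)) (.node (nat_lit 4413) (.node (nat_lit 4317) J_83 J_82) (.node (nat_lit 4509) J_81 J_80)))) (.node (nat_lit 5373) (.node (nat_lit 4989) (.node (nat_lit 4797) (.node (nat_lit 4701) J_79 J_78) (.node (nat_lit 4893) J_77 J_76)) (.node (nat_lit 5181) (.node (nat_lit 5085) J_75 J_74) (.node (nat_lit 5277) J_73 J_72))) (.node (nat_lit 5757) (.node (nat_lit 5565) (.node (nat_lit 5469) J_71 J_70) (.node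 (nat_lit 5661) J_69 J_68)) (.node (nat_lit 5949) (.node (nat_lit 5853) J_67 J_66) (.node (nat_lit 6045) J_65 J_64)))))) (.node (nat_lit 9212) (.node (nat_lit 7676) (.node (nat_lit 6908) (.node (nat_lit 6524) (.node (nat_lit 6332) (.node (nat_lit 6236) J_63 J_62) (.node (nat_lit 6428) J_61 J_60)) (.node (nat_lit 6716) (.node (nat_lit 6620) J_59 J_58) (.node (nat_lit 6812) J_57 J_56))) (.node (nat_lit 7292) (.node (nat_lit 7100) (.node (nat_lit 7004) J_55 J_54) (.node (nat_lit 7196) J_53 J_52)) (.node (nat_lit 7484) (.node (nat_lit 7388) J_51 J_50) (.node (nat_lit 7580) J_49 J_48)))) (.node (nat_lit 8444) (.node (nat_lit 8060) (.node (nat_lit 7868) (.node (nat_lit 7772) J_47 J_46) (.node (nat_lit 7964) J_45 J_44)) (.node (nat_lit 8252) (.node (nat_lit 8156) J_43 J_42) (.node (nat_lit 8348) J_41 J_40))) (.node (nat_lit 8828) (.node (nat_lit 8636) (.node (nat_lit 8540) J_39 J_38) (.node (nat_lit 8732) J_37 J_36))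 (.node (nat_lit 9020) (.node (nat_lit 8924) J_35 J_34) (.node (nat_lit 9116) J_33 J_32))))) (.node (nat_lit 10748) (.node (nat_lit 9980) (.node (nat_lit 9596) (.node (nat_lit 9404) (.node (nat_lit 9308) J_31 J_30) (.node (nat_lit 9500) J_29 J_28)) (.node (nat_lit 9788) (.node (nat_lit 9692) J_27 J_26) (.node (nat_lit 9884) J_25 J_24))) (.node (nat_lit 10364) (.node (nat_lit 10172) (.node (nat_lit 10076) J_23 J_22) (.node (nat_lit 10268) J_21 J_20)) (.node (nat_lit 10556) (.node (nat_lit 10460) J_19 J_18) (.node (nat_lit 10652) J_17 J_16)))) (.node (nat_lit 11516) (.node (nat_lit 11132) (.node (nat_lit 10940) (.node (nat_lit 10844) J_15 J_14) (.node (nat_lit 11036) J_13 J_12)) (.node (nat_lit 11324) (.node (nat_lit 11228) J_11 J_10) (.node (nat_lit 11420) J_9 J_8))) (.node (nat_lit 11900) (.node (nat_lit 11708) (.node (nat_lit 11612) J_7 J_6) (.node (nat_lit 11804) J_5 J_4)) (.node (nat_lit 12092) (.node (nat_lit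 11996) J_3 J_2) (.node (nat_lit 12188) J_1 J_0)))))))
noncomputable def F : Tr := (.node (nat_lit 6911) (.node (nat_lit 3455) (.node (nat_lit 1727) (.node (nat_lit 863) (.node (nat_lit 431) (.node (nat_lit 215) (.node (nat_lit 107) F_127 F_126) (.node (nat_lit 323) F_125 F_124)) (.node (nat_lit 647) (.node (nat_lit 539) F_123 F_122) (.node (nat_lit 755) F_121 F_120))) (.node (nat_lit 1295) (.node (nat_lit 1079) (.node (nat_lit 971) F_119 F_118) (.node (nat_lit 1187) F_117 F_116)) (.node (nat_lit 1511) (.node (nat_lit 1403) F_115 F_114) (.node (nat_lit 1619) F_113 F_112)))) (.node (nat_lit 2591) (.node (nat_lit 2159) (.node (nat_lit 1943) (.node (nat_lit 1835) F_111 F_110) (.node (nat_lit 2051) F_109 F_108)) (.node (nat_lit 2375) (.node (nat_lit 2267) F_107 F_106) (.node (nat_lit 2483) F_105 F_104))) (.node (nat_lit 3023) (.node (nat_lit 2807) (.node (nat_lit 2699) F_103 F_102) (.node (nat_lit 2915) F_101 F_100))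 (.node (nat_lit 3239) (.node (nat_lit 3131) F_99 F_98) (.node (nat_lit 3347) F_97 F_96))))) (.node (nat_lit 5183) (.node (nat_lit 4319) (.node (nat_lit 3887) (.node (nat_lit 3671) (.node (nat_lit 3563) F_95 F_94) (.node (nat_lit 3779) F_93 F_92)) (.node (nat_lit 4103) (.node (nat_lit 3995) F_91 F_90) (.node (nat_lit 4211) F_89 F_88))) (.node (nat_lit 4751) (.node (nat_lit 4535) (.node (nat_lit 4427) F_87 F_86) (.node (nat_lit 4643) F_85 F_84)) (.node (nat_lit 4967) (.node (nat_lit 4859) F_83 F_82) (.node (nat_lit 5075) F_81 F_80)))) (.node (nat_lit 6047) (.node (nat_lit 5615) (.node (nat_lit 5399) (.node (nat_lit 5291) F_79 F_78) (.node (nat_lit 5507) F_77 F_76)) (.node (nat_lit 5831) (.node (nat_lit 5723) F_75 F_74) (.node (nat_lit 5939) F_73 F_72))) (.node (nat_lit 6479) (.node (nat_lit 6263) (.node (nat_lit 6155) F_71 F_70) (.node (nat_lit 6371) F_69 F_68)) (.node (nat_lit 6695) (.node (nat_lit 6587) F_67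 F_66) (.node (nat_lit 6803) F_65 F_64)))))) (.node (nat_lit 10367) (.node (nat_lit 8639) (.node (nat_lit 7775) (.node (nat_lit 7343) (.node (nat_lit 7127) (.node (nat_lit 7019) F_63 F_62) (.node (nat_lit 7235) F_61 F_60)) (.node (nat_lit 7559) (.node (nat_lit 7451) F_59 F_58) (.node (nat_lit 7667) F_57 F_56))) (.node (nat_lit 8207) (.node (nat_lit 7991) (.node (nat_lit 7883) F_55 F_54) (.node (nat_lit 8099) F_53 F_52)) (.node (nat_lit 8423) (.node (nat_lit 8315) F_51 F_50) (.node (nat_lit 8531) F_49 F_48)))) (.node (nat_lit 9503) (.node (nat_lit 9071) (.node (nat_lit 8855) (.node (nat_lit 8747) F_47 F_46) (.node (nat_lit 8963) F_45 F_44)) (.node (nat_lit 9287) (.node (nat_lit 9179) F_43 F_42) (.node (nat_lit 9395) F_41 F_40))) (.node (nat_lit 9935) (.node (nat_lit 9719) (.node (nat_lit 9611) F_39 F_38) (.node (nat_lit 9827) F_37 F_36)) (.node (nat_lit 10151) (.node (nat_lit 10043) F_35 F_34) (.node (nat_lit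 10259) F_33 F_32))))) (.node (nat_lit 12095) (.node (nat_lit 11231) (.node (nat_lit 10799) (.node (nat_lit 10583) (.node (nat_lit 10475) F_31 F_30) (.node (nat_lit 10691) F_29 F_28)) (.node (nat_lit 11015) (.node (nat_lit 10907) F_27 F_26) (.node (nat_lit 11123) F_25 F_24))) (.node (nat_lit 11663) (.node (nat_lit 11447) (.node (nat_lit 11339) F_23 F_22) (.node (nat_lit 11555) F_21 F_20)) (.node (nat_lit 11879) (.node (nat_lit 11771) F_19 F_18) (.node (nat_lit 11987) F_17 F_16)))) (.node (nat_lit 12959) (.node (nat_lit 12527) (.node (nat_lit 12311) (.node (nat_lit 12203) F_15 F_14) (.node (nat_lit 12419) F_13 F_12)) (.node (nat_lit 12743) (.node (nat_lit 12635) F_11 F_10) (.node (nat_lit 12851) F_9 F_8))) (.node (nat_lit 13391) (.node (nat_lit 13175) (.node (nat_lit 13067) F_7 F_6) (.node (nat_lit 13283) F_5 F_4)) (.node (nat_lit 13607) (.node (nat_lit 13499) F_3 F_2) (.node (nat_lit 13715) F_1 F_0)))))))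
noncomputable def row (u : ℕ) : ℕ := Nat.land (Nat.shiftRight (force (Nat.shiftRight u (nat_lit 3)) T.get) (Nat.mul (Nat.land u (nat_lit 7)) (nat_lit 407))) (nat_lit 0x7fffffffffffffffffffffffffffffffffffffffffffffffffffffffffffffffffffffffffffffffffffffffffffffffffffff)
noncomputable def jrow (u : ℕ) : ℕ := Nat.land (Nat.shiftRight (force (Nat.shiftRight u (nat_lit 3)) J.get) (Nat.mul (Nat.land u (nat_lit 7)) (nat_lit 130))) (nat_lit 0x3ffffffffffffffffffffffffffffffff)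
noncomputable def fget (k fx : ℕ) : ℕ := F.get (Nat.add k fx)
noncomputable def wt0 : LT := (.node (nat_lit 12) (.node (nat_lit 3) (.node (nat_lit 1) (.node (nat_lit 0) (.leaf 1 0 [nat_lit 259, nat_lit 0, nat_lit 259])
(.leaf 15 0 [nat_lit 296, nat_lit 259, nat_lit 0, nat_lit 296, nat_lit 259]))
(.node (nat_lit 2) (.leaf 35 6 [nat_lit 148, nat_lit 0, nat_lit 296, nat_lit 148, nat_lit 259, nat_lit 148, nat_lit 296])
(.leaf 41 0 [nat_lit 222, nat_lit 0, nat_lit 222, nat_lit 0, nat_lit 222, nat_lit 0, nat_lit 222])))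
(.node (nat_lit 6) (.node (nat_lit 4) (.leaf 37 0 [nat_lit 185, nat_lit 0, nat_lit 185, nat_lit 0, nat_lit 185, nat_lit 0, nat_lit 185])
(.node (nat_lit 5) (.leaf 31 0 [nat_lit 111, nat_lit 0, nat_lit 111, nat_lit 0, nat_lit 111, nat_lit 0, nat_lit 111])
(.leaf 123 0 [nat_lit 74, nat_lit 259, nat_lit 185, nat_lit 37, nat_lit 0, nat_lit 74, nat_lit 259, nat_lit 185, nat_lit 37])))
(.node (nat_lit 8) (.node (nat_lit 7) (.leaf 25 6 [nat_lit 37, nat_lit 0, nat_lit 259, nat_lit 0, nat_lit 37, nat_lit 0, nat_lit 259])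
(.leaf 33 0 [nat_lit 111, nat_lit 222, nat_lit 111, nat_lit 0, nat_lit 111, nat_lit 222, nat_lit 111]))
(.node (nat_lit 10) (.node (nat_lit 9) (.leaf 119 7 [nat_lit 148, nat_lit 0, nat_lit 148, nat_lit 259, nat_lit 185, nat_lit 259, nat_lit 185, nat_lit 148])
(.leaf 43 6 [nat_lit 222, nat_lit 0, nat_lit 259, nat_lit 0, nat_lit 222, nat_lit 0, nat_lit 259]))
(.node (nat_lit 11) (.leaf 129 0 [nat_lit 74, nat_lit 296, nat_lit 259, nat_lit 74, nat_lit 0, nat_lit 74, nat_lit 296, nat_lit 259, nat_lit 74])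
(.leaf 35 0 [nat_lit 296, nat_lit 148, nat_lit 259, nat_lit 148, nat_lit 296, nat_lit 0, nat_lit 148]))))))
(.node (nat_lit 208) (.node (nat_lit 42) (.node (nat_lit 22) (.node (nat_lit 16) (.node (nat_lit 14) (.node (nat_lit 13) (.leaf 369 5 [nat_lit 37, nat_lit 185, nat_lit 37, nat_lit 74, nat_lit 0, nat_lit 37, nat_lit 0, nat_lit 74, nat_lit 37, nat_lit 185, nat_lit 37])
(.leaf 281 5 [nat_lit 37, nat_lit 185, nat_lit 222, nat_lit 185, nat_lit 37, nat_lit 0, nat_lit 296, nat_lit 259, nat_lit 296, nat_lit 222]))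
(.node (nat_lit 15) (.leaf 39 0 [nat_lit 185, nat_lit 259, nat_lit 185, nat_lit 0, nat_lit 185, nat_lit 259, nat_lit 185])
(.leaf 369 10 [nat_lit 37, nat_lit 0, nat_lit 74, nat_lit 37, nat_lit 185, nat_lit 37, nat_lit 0, nat_lit 37, nat_lit 185, nat_lit 37, nat_lit 74])))
(.node (nat_lit 18) (.node (nat_lit 17) (.leaf 141 0 [nat_lit 185, nat_lit 37, nat_lit 185, nat_lit 111, nat_lit 0, nat_lit 185, nat_lit 37, nat_lit 185, nat_lit 111])
(.leaf 119 0 [nat_lit 148, nat_lit 259, nat_lit 185, nat_lit 259, nat_lit 185, nat_lit 148, nat_lit 0, nat_lit 148]))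
(.node (nat_lit 20) (.node (nat_lit 19) (.leaf 49 0 [nat_lit 296, nat_lit 0, nat_lit 296, nat_lit 0, nat_lit 296, nat_lit 0, nat_lit 296])
(.leaf 139 0 [nat_lit 222, nat_lit 111, nat_lit 0, nat_lit 111, nat_lit 222, nat_lit 0, nat_lit 111, nat_lit 0, nat_lit 111]))
(.node (nat_lit 21) (.leaf 135 0 [nat_lit 148, nat_lit 111, nat_lit 148, nat_lit 0, nat_lit 111, nat_lit 0, nat_lit 111, nat_lit 0, nat_lit 111])
(.leaf 371 7 [nat_lit 37, nat_lit 111, nat_lit 0, nat_lit 37, nat_lit 0, nat_lit 222, nat_lit 185, nat_lit 222, nat_lit 185, nat_lit 111, nat_lit 37])))))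
(.node (nat_lit 31) (.node (nat_lit 26) (.node (nat_lit 24) (.node (nat_lit 23) (.leaf 51 6 [nat_lit 296, nat_lit 0, nat_lit 296, nat_lit 259, nat_lit 296, nat_lit 259, nat_lit 296])
(.leaf 295 9 [nat_lit 74, nat_lit 0, nat_lit 296, nat_lit 74, nat_lit 296, nat_lit 148, nat_lit 0, nat_lit 74, nat_lit 0, nat_lit 148]))
(.node (nat_lit 25) (.leaf 143 0 [nat_lit 148, nat_lit 111, nat_lit 148, nat_lit 222, nat_lit 111, nat_lit 0, nat_lit 111, nat_lit 222, nat_lit 111])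
(.leaf 427 5 [nat_lit 222, nat_lit 296, nat_lit 74, nat_lit 148, nat_lit 111, nat_lit 222, nat_lit 74, nat_lit 0, nat_lit 222, nat_lit 148, nat_lit 296, nat_lit 222])))
(.node (nat_lit 28) (.node (nat_lit 27) (.leaf 175 4 [nat_lit 222, nat_lit 148, nat_lit 74, nat_lit 148, nat_lit 222, nat_lit 0, nat_lit 296, nat_lit 74, nat_lit 296])
(.leaf 27 0 [nat_lit 37, nat_lit 259, nat_lit 37, nat_lit 0, nat_lit 37, nat_lit 259, nat_lit 37]))
(.node (nat_lit 29) (.leaf 279 0 [nat_lit 74, nat_lit 185, nat_lit 296, nat_lit 259, nat_lit 296, nat_lit 37, nat_lit 0, nat_lit 74, nat_lit 185, nat_lit 37])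
(.node (nat_lit 30) (.leaf 283 0 [nat_lit 222, nat_lit 296, nat_lit 0, nat_lit 296, nat_lit 259, nat_lit 37, nat_lit 185, nat_lit 222, nat_lit 185, nat_lit 37])
(.leaf 421 7 [nat_lit 222, nat_lit 111, nat_lit 37, nat_lit 0, nat_lit 37, nat_lit 0, nat_lit 37, nat_lit 296, nat_lit 259, nat_lit 296, nat_lit 111, nat_lit 222])))))
(.node (nat_lit 36) (.node (nat_lit 33) (.node (nat_lit 32) (.leaf 375 10 [nat_lit 37, nat_lit 0, nat_lit 185, nat_lit 37, nat_lit 74, nat_lit 37, nat_lit 0, nat_lit 37, nat_lit 74, nat_lit 37, nat_lit 185])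
(.leaf 165 0 [nat_lit 222, nat_lit 185, nat_lit 259, nat_lit 185, nat_lit 222, nat_lit 0, nat_lit 185, nat_lit 259, nat_lit 185]))
(.node (nat_lit 34) (.leaf 279 7 [nat_lit 74, nat_lit 185, nat_lit 37, nat_lit 0, nat_lit 74, nat_lit 185, nat_lit 296, nat_lit 259, nat_lit 296, nat_lit 37])
(.node (nat_lit 35) (.leaf 375 0 [nat_lit 185, nat_lit 37, nat_lit 74, nat_lit 37, nat_lit 0, nat_lit 37, nat_lit 74, nat_lit 37, nat_lit 185, nat_lit 0, nat_lit 37])
(.leaf 295 5 [nat_lit 74, nat_lit 0, nat_lit 148, nat_lit 0, nat_lit 74, nat_lit 0, nat_lit 296, nat_lit 74, nat_lit 296, nat_lit 148]))))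
(.node (nat_lit 39) (.node (nat_lit 37) (.leaf 373 10 [nat_lit 37, nat_lit 0, nat_lit 148, nat_lit 259, nat_lit 148, nat_lit 0, nat_lit 37, nat_lit 0, nat_lit 148, nat_lit 259, nat_lit 148])
(.node (nat_lit 38) (.leaf 295 7 [nat_lit 148, nat_lit 0, nat_lit 74, nat_lit 0, nat_lit 296, nat_lit 74, nat_lit 296, nat_lit 148, nat_lit 0, nat_lit 74])
(.leaf 371 10 [nat_lit 37, nat_lit 0, nat_lit 222, nat_lit 185, nat_lit 222, nat_lit 185, nat_lit 111, nat_lit 37, nat_lit 0, nat_lit 37, nat_lit 111])))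
(.node (nat_lit 40) (.leaf 503 7 [nat_lit 222, nat_lit 148, nat_lit 37, nat_lit 222, nat_lit 259, nat_lit 74, nat_lit 37, nat_lit 0, nat_lit 259, nat_lit 222, nat_lit 111, nat_lit 74, nat_lit 148, nat_lit 222])
(.node (nat_lit 41) (.leaf 131 6 [nat_lit 74, nat_lit 296, nat_lit 74, nat_lit 0, nat_lit 259, nat_lit 74, nat_lit 296, nat_lit 74, nat_lit 259])
(.leaf 173 8 [nat_lit 222, nat_lit 0, nat_lit 296, nat_lit 0, nat_lit 296, nat_lit 222, nat_lit 296, nat_lit 0, nat_lit 296])))))))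
(.node (nat_lit 90) (.node (nat_lit 60) (.node (nat_lit 50) (.node (nat_lit 46) (.node (nat_lit 44) (.node (nat_lit 43) (.leaf 381 8 [nat_lit 37, nat_lit 296, nat_lit 37, nat_lit 0, nat_lit 74, nat_lit 0, nat_lit 37, nat_lit 296, nat_lit 37, nat_lit 0, nat_lit 74])
(.leaf 385 0 [nat_lit 185, nat_lit 74, nat_lit 148, nat_lit 74, nat_lit 111, nat_lit 74, nat_lit 148, nat_lit 74, nat_lit 185, nat_lit 0, nat_lit 111]))
(.node (nat_lit 45) (.leaf 311 2 [nat_lit 185, nat_lit 259, nat_lit 185, nat_lit 111, nat_lit 74, nat_lit 296, nat_lit 74, nat_lit 111, nat_lit 0, nat_lit 296])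
(.leaf 297 5 [nat_lit 74, nat_lit 185, nat_lit 222, nat_lit 185, nat_lit 74, nat_lit 0, nat_lit 296, nat_lit 259, nat_lit 296, nat_lit 222])))
(.node (nat_lit 48) (.node (nat_lit 47) (.leaf 127 2 [nat_lit 111, nat_lit 37, nat_lit 74, nat_lit 37, nat_lit 111, nat_lit 259, nat_lit 74, nat_lit 0, nat_lit 259])
(.leaf 385 10 [nat_lit 111, nat_lit 0, nat_lit 185, nat_lit 74, nat_lit 148, nat_lit 74, nat_lit 111, nat_lit 74, nat_lit 148, nat_lit 74, nat_lit 185]))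
(.node (nat_lit 49) (.leaf 373 0 [nat_lit 148, nat_lit 259, nat_lit 148, nat_lit 0, nat_lit 37, nat_lit 0, nat_lit 148, nat_lit 259, nat_lit 148, nat_lit 0, nat_lit 37])
(.leaf 159 6 [nat_lit 148, nat_lit 296, nat_lit 148, nat_lit 0, nat_lit 259, nat_lit 148, nat_lit 296, nat_lit 148, nat_lit 259]))))
(.node (nat_lit 55) (.node (nat_lit 52) (.node (nat_lit 51) (.leaf 51 0 [nat_lit 296, nat_lit 259, nat_lit 296, nat_lit 259, nat_lit 296, nat_lit 0, nat_lit 296])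
(.leaf 423 6 [nat_lit 37, nat_lit 185, nat_lit 74, nat_lit 259, nat_lit 0, nat_lit 37, nat_lit 0, nat_lit 296, nat_lit 0, nat_lit 296, nat_lit 185, nat_lit 74]))
(.node (nat_lit 53) (.leaf 173 6 [nat_lit 296, nat_lit 0, nat_lit 222, nat_lit 0, nat_lit 296, nat_lit 0, nat_lit 296, nat_lit 222, nat_lit 296])
(.node (nat_lit 54) (.leaf 163 6 [nat_lit 185, nat_lit 0, nat_lit 185, nat_lit 0, nat_lit 259, nat_lit 185, nat_lit 0, nat_lit 185, nat_lit 259])
(.leaf 165 6 [nat_lit 185, nat_lit 259, nat_lit 185, nat_lit 0, nat_lit 222, nat_lit 185, nat_lit 259, nat_lit 185, nat_lit 222]))))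
(.node (nat_lit 57) (.node (nat_lit 56) (.leaf 427 0 [nat_lit 222, nat_lit 148, nat_lit 296, nat_lit 222, nat_lit 0, nat_lit 222, nat_lit 296, nat_lit 74, nat_lit 148, nat_lit 111, nat_lit 222, nat_lit 74])
(.leaf 561 11 [nat_lit 185, nat_lit 296, nat_lit 37, nat_lit 74, nat_lit 0, nat_lit 222, nat_lit 0, nat_lit 185, nat_lit 37, nat_lit 74, nat_lit 185, nat_lit 296, nat_lit 185, nat_lit 0, nat_lit 222]))
(.node (nat_lit 58) (.leaf 299 0 [nat_lit 222, nat_lit 296, nat_lit 0, nat_lit 296, nat_lit 259, nat_lit 74, nat_lit 185, nat_lit 222, nat_lit 185, nat_lit 74])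
(.node (nat_lit 59) (.leaf 379 0 [nat_lit 111, nat_lit 185, nat_lit 37, nat_lit 185, nat_lit 148, nat_lit 74, nat_lit 148, nat_lit 0, nat_lit 111, nat_lit 185, nat_lit 37])
(.leaf 149 3 [nat_lit 111, nat_lit 259, nat_lit 296, nat_lit 111, nat_lit 259, nat_lit 111, nat_lit 0, nat_lit 296, nat_lit 111]))))))
(.node (nat_lit 73) (.node (nat_lit 66) (.node (nat_lit 63) (.node (nat_lit 61) (.leaf 17 2 [nat_lit 259, nat_lit 296, nat_lit 259, nat_lit 0, nat_lit 296])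
(.node (nat_lit 62) (.leaf 399 0 [nat_lit 222, nat_lit 111, nat_lit 185, nat_lit 222, nat_lit 185, nat_lit 0, nat_lit 222, nat_lit 111, nat_lit 185, nat_lit 222, nat_lit 185])
(.leaf 453 8 [nat_lit 74, nat_lit 148, nat_lit 0, nat_lit 148, nat_lit 74, nat_lit 0, nat_lit 185, nat_lit 148, nat_lit 185, nat_lit 37, nat_lit 185, nat_lit 148, nat_lit 185])))
(.node (nat_lit 64) (.leaf 509 5 [nat_lit 148, nat_lit 185, nat_lit 37, nat_lit 148, nat_lit 185, nat_lit 74, nat_lit 111, nat_lit 148, nat_lit 37, nat_lit 0, nat_lit 259, nat_lit 185, nat_lit 259, nat_lit 111])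
(.node (nat_lit 65) (.leaf 379 8 [nat_lit 111, nat_lit 185, nat_lit 37, nat_lit 0, nat_lit 111, nat_lit 185, nat_lit 37, nat_lit 185, nat_lit 148, nat_lit 74, nat_lit 148])
(.leaf 395 10 [nat_lit 148, nat_lit 0, nat_lit 259, nat_lit 185, nat_lit 259, nat_lit 185, nat_lit 148, nat_lit 259, nat_lit 185, nat_lit 259, nat_lit 185]))))
(.node (nat_lit 69) (.node (nat_lit 67) (.leaf 561 9 [nat_lit 222, nat_lit 0, nat_lit 185, nat_lit 296, nat_lit 37, nat_lit 74, nat_lit 0, nat_lit 222, nat_lit 0, nat_lit 185, nat_lit 37, nat_lit 74, nat_lit 185, nat_lit 296, nat_lit 185])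
(.node (nat_lit 68) (.leaf 433 5 [nat_lit 148, nat_lit 222, nat_lit 111, nat_lit 222, nat_lit 111, nat_lit 222, nat_lit 148, nat_lit 0, nat_lit 222, nat_lit 185, nat_lit 222, nat_lit 185])
(.leaf 169 6 [nat_lit 185, nat_lit 259, nat_lit 185, nat_lit 0, nat_lit 296, nat_lit 185, nat_lit 259, nat_lit 185, nat_lit 296])))
(.node (nat_lit 71) (.node (nat_lit 70) (.leaf 323 6 [nat_lit 185, nat_lit 148, nat_lit 0, nat_lit 148, nat_lit 0, nat_lit 148, nat_lit 259, nat_lit 185, nat_lit 0, nat_lit 259])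
(.leaf 631 6 [nat_lit 74, nat_lit 148, nat_lit 37, nat_lit 222, nat_lit 185, nat_lit 0, nat_lit 222, nat_lit 148, nat_lit 0, nat_lit 222, nat_lit 37, nat_lit 0, nat_lit 185, nat_lit 222, nat_lit 148, nat_lit 185, nat_lit 148]))
(.node (nat_lit 72) (.leaf 555 10 [nat_lit 222, nat_lit 148, nat_lit 74, nat_lit 111, nat_lit 37, nat_lit 0, nat_lit 74, nat_lit 0, nat_lit 185, nat_lit 37, nat_lit 74, nat_lit 185, nat_lit 0, nat_lit 148, nat_lit 222])
(.leaf 455 0 [nat_lit 74, nat_lit 185, nat_lit 0, nat_lit 148, nat_lit 0, nat_lit 111, nat_lit 37, nat_lit 111, nat_lit 0, nat_lit 148, nat_lit 0, nat_lit 185, nat_lit 74])))))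
(.node (nat_lit 81) (.node (nat_lit 77) (.node (nat_lit 75) (.node (nat_lit 74) (.leaf 337 4 [nat_lit 148, nat_lit 259, nat_lit 74, nat_lit 259, nat_lit 74, nat_lit 148, nat_lit 0, nat_lit 296, nat_lit 74, nat_lit 296])
(.leaf 523 3 [nat_lit 185, nat_lit 148, nat_lit 296, nat_lit 0, nat_lit 296, nat_lit 259, nat_lit 148, nat_lit 74, nat_lit 185, nat_lit 37, nat_lit 74, nat_lit 0, nat_lit 74, nat_lit 185]))
(.node (nat_lit 76) (.leaf 421 11 [nat_lit 37, nat_lit 0, nat_lit 37, nat_lit 296, nat_lit 259, nat_lit 296, nat_lit 111, nat_lit 222, nat_lit 0, nat_lit 222, nat_lit 111, nat_lit 37])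
(.leaf 445 9 [nat_lit 111, nat_lit 37, nat_lit 111, nat_lit 37, nat_lit 0, nat_lit 37, nat_lit 296, nat_lit 259, nat_lit 111, nat_lit 259, nat_lit 111, nat_lit 296, nat_lit 37])))
(.node (nat_lit 79) (.node (nat_lit 78) (.leaf 381 0 [nat_lit 74, nat_lit 0, nat_lit 37, nat_lit 296, nat_lit 37, nat_lit 0, nat_lit 74, nat_lit 0, nat_lit 37, nat_lit 296, nat_lit 37])
(.leaf 149 0 [nat_lit 296, nat_lit 111, nat_lit 0, nat_lit 111, nat_lit 259, nat_lit 296, nat_lit 111, nat_lit 259, nat_lit 111]))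
(.node (nat_lit 80) (.leaf 451 7 [nat_lit 74, nat_lit 185, nat_lit 0, nat_lit 74, nat_lit 37, nat_lit 74, nat_lit 0, nat_lit 222, nat_lit 259, nat_lit 185, nat_lit 222, nat_lit 74, nat_lit 259])
(.leaf 631 0 [nat_lit 185, nat_lit 222, nat_lit 148, nat_lit 185, nat_lit 148, nat_lit 0, nat_lit 74, nat_lit 148, nat_lit 37, nat_lit 222, nat_lit 185, nat_lit 0, nat_lit 222, nat_lit 148, nat_lit 0, nat_lit 222, nat_lit 37]))))
(.node (nat_lit 85) (.node (nat_lit 83) (.node (nat_lit 82) (.leaf 435 11 [nat_lit 222, nat_lit 0, nat_lit 296, nat_lit 185, nat_lit 259, nat_lit 74, nat_lit 37, nat_lit 185, nat_lit 37, nat_lit 74, nat_lit 296, nat_lit 222])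
(.leaf 307 4 [nat_lit 74, nat_lit 296, nat_lit 185, nat_lit 259, nat_lit 185, nat_lit 74, nat_lit 0, nat_lit 74, nat_lit 296, nat_lit 74]))
(.node (nat_lit 84) (.leaf 289 0 [nat_lit 222, nat_lit 0, nat_lit 296, nat_lit 259, nat_lit 296, nat_lit 37, nat_lit 185, nat_lit 222, nat_lit 185, nat_lit 37])
(.leaf 495 4 [nat_lit 185, nat_lit 296, nat_lit 259, nat_lit 185, nat_lit 296, nat_lit 185, nat_lit 296, nat_lit 74, nat_lit 0, nat_lit 37, nat_lit 0, nat_lit 296, nat_lit 37, nat_lit 296])))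
(.node (nat_lit 87) (.node (nat_lit 86) (.leaf 601 0 [nat_lit 37, nat_lit 148, nat_lit 222, nat_lit 111, nat_lit 296, nat_lit 37, nat_lit 222, nat_lit 111, nat_lit 222, nat_lit 74, nat_lit 37, nat_lit 74, nat_lit 296, nat_lit 37, nat_lit 148, nat_lit 37])
(.leaf 375 5 [nat_lit 37, nat_lit 74, nat_lit 37, nat_lit 185, nat_lit 0, nat_lit 37, nat_lit 0, nat_lit 185, nat_lit 37, nat_lit 74, nat_lit 37]))
(.node (nat_lit 88) (.leaf 313 7 [nat_lit 111, nat_lit 148, nat_lit 111, nat_lit 0, nat_lit 148, nat_lit 259, nat_lit 185, nat_lit 259, nat_lit 185, nat_lit 148])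
(.node (nat_lit 89) (.leaf 283 3 [nat_lit 296, nat_lit 259, nat_lit 37, nat_lit 185, nat_lit 222, nat_lit 185, nat_lit 37, nat_lit 0, nat_lit 222, nat_lit 296])
(.leaf 453 0 [nat_lit 185, nat_lit 148, nat_lit 185, nat_lit 37, nat_lit 185, nat_lit 148, nat_lit 185, nat_lit 0, nat_lit 74, nat_lit 148, nat_lit 0, nat_lit 148, nat_lit 74]))))))))
(.node (nat_lit 135) (.node (nat_lit 110) (.node (nat_lit 99) (.node (nat_lit 94) (.node (nat_lit 92) (.node (nat_lit 91) (.leaf 467 5 [nat_lit 148, nat_lit 222, nat_lit 0, nat_lit 148, nat_lit 111, nat_lit 222, nat_lit 148, nat_lit 111, nat_lit 0, nat_lit 222, nat_lit 148, nat_lit 0, nat_lit 222])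
(.leaf 597 6 [nat_lit 222, nat_lit 148, nat_lit 185, nat_lit 259, nat_lit 111, nat_lit 185, nat_lit 74, nat_lit 37, nat_lit 111, nat_lit 37, nat_lit 0, nat_lit 259, nat_lit 74, nat_lit 111, nat_lit 148, nat_lit 222]))
(.node (nat_lit 93) (.leaf 139 6 [nat_lit 111, nat_lit 0, nat_lit 111, nat_lit 0, nat_lit 222, nat_lit 111, nat_lit 0, nat_lit 111, nat_lit 222])
(.leaf 151 3 [nat_lit 111, nat_lit 259, nat_lit 296, nat_lit 111, nat_lit 259, nat_lit 111, nat_lit 0, nat_lit 111, nat_lit 296])))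
(.node (nat_lit 96) (.node (nat_lit 95) (.leaf 369 0 [nat_lit 74, nat_lit 37, nat_lit 185, nat_lit 37, nat_lit 0, nat_lit 37, nat_lit 185, nat_lit 37, nat_lit 74, nat_lit 0, nat_lit 37])
(.leaf 573 2 [nat_lit 148, nat_lit 37, nat_lit 185, nat_lit 0, nat_lit 185, nat_lit 37, nat_lit 148, nat_lit 185, nat_lit 148, nat_lit 0, nat_lit 185, nat_lit 148, nat_lit 111, nat_lit 0, nat_lit 185]))
(.node (nat_lit 97) (.leaf 389 0 [nat_lit 222, nat_lit 0, nat_lit 111, nat_lit 37, nat_lit 111, nat_lit 0, nat_lit 222, nat_lit 0, nat_lit 111, nat_lit 37, nat_lit 111])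
(.node (nat_lit 98) (.leaf 473 0 [nat_lit 185, nat_lit 222, nat_lit 259, nat_lit 111, nat_lit 259, nat_lit 111, nat_lit 222, nat_lit 185, nat_lit 148, nat_lit 259, nat_lit 148, nat_lit 259, nat_lit 148])
(.leaf 627 0 [nat_lit 74, nat_lit 37, nat_lit 111, nat_lit 148, nat_lit 37, nat_lit 74, nat_lit 185, nat_lit 111, nat_lit 222, nat_lit 111, nat_lit 185, nat_lit 74, nat_lit 111, nat_lit 222, nat_lit 148, nat_lit 111, nat_lit 37])))))
(.node (nat_lit 104) (.node (nat_lit 101) (.node (nat_lit 100) (.leaf 445 0 [nat_lit 37, nat_lit 296, nat_lit 259, nat_lit 111, nat_lit 259, nat_lit 111, nat_lit 296, nat_lit 37, nat_lit 0, nat_lit 111, nat_lit 37, nat_lit 111, nat_lit 37])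
(.leaf 127 0 [nat_lit 259, nat_lit 0, nat_lit 111, nat_lit 37, nat_lit 74, nat_lit 37, nat_lit 111, nat_lit 259, nat_lit 74]))
(.node (nat_lit 102) (.leaf 377 6 [nat_lit 37, nat_lit 74, nat_lit 111, nat_lit 74, nat_lit 37, nat_lit 0, nat_lit 222, nat_lit 185, nat_lit 222, nat_lit 111, nat_lit 185])
(.node (nat_lit 103) (.leaf 559 4 [nat_lit 148, nat_lit 185, nat_lit 37, nat_lit 148, nat_lit 111, nat_lit 185, nat_lit 148, nat_lit 74, nat_lit 111, nat_lit 222, nat_lit 37, nat_lit 0, nat_lit 74, nat_lit 185, nat_lit 222])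
(.leaf 145 0 [nat_lit 296, nat_lit 111, nat_lit 296, nat_lit 222, nat_lit 111, nat_lit 0, nat_lit 111, nat_lit 222, nat_lit 111]))))
(.node (nat_lit 107) (.node (nat_lit 105) (.leaf 631 12 [nat_lit 222, nat_lit 148, nat_lit 0, nat_lit 222, nat_lit 37, nat_lit 0, nat_lit 185, nat_lit 222, nat_lit 148, nat_lit 185, nat_lit 148, nat_lit 0, nat_lit 74, nat_lit 148, nat_lit 37, nat_lit 222, nat_lit 185])
(.node (nat_lit 106) (.leaf 591 3 [nat_lit 148, nat_lit 185, nat_lit 148, nat_lit 0, nat_lit 37, nat_lit 0, nat_lit 185, nat_lit 74, nat_lit 0, nat_lit 185, nat_lit 148, nat_lit 0, nat_lit 37, nat_lit 0, nat_lit 185, nat_lit 74])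
(.leaf 45 0 [nat_lit 222, nat_lit 259, nat_lit 222, nat_lit 0, nat_lit 222, nat_lit 259, nat_lit 222])))
(.node (nat_lit 108) (.leaf 383 0 [nat_lit 222, nat_lit 0, nat_lit 74, nat_lit 296, nat_lit 37, nat_lit 296, nat_lit 222, nat_lit 296, nat_lit 37, nat_lit 296, nat_lit 74])
(.node (nat_lit 109) (.leaf 523 7 [nat_lit 296, nat_lit 259, nat_lit 148, nat_lit 74, nat_lit 185, nat_lit 37, nat_lit 74, nat_lit 0, nat_lit 74, nat_lit 185, nat_lit 0, nat_lit 185, nat_lit 148, nat_lit 296])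
(.leaf 455 11 [nat_lit 185, nat_lit 74, nat_lit 0, nat_lit 74, nat_lit 185, nat_lit 0, nat_lit 148, nat_lit 0, nat_lit 111, nat_lit 37, nat_lit 111, nat_lit 0, nat_lit 148]))))))
(.node (nat_lit 122) (.node (nat_lit 116) (.node (nat_lit 113) (.node (nat_lit 111) (.leaf 511 4 [nat_lit 74, nat_lit 111, nat_lit 74, nat_lit 148, nat_lit 0, nat_lit 74, nat_lit 0, nat_lit 148, nat_lit 185, nat_lit 37, nat_lit 0, nat_lit 111, nat_lit 37, nat_lit 185])
(.node (nat_lit 112) (.leaf 137 0 [nat_lit 296, nat_lit 111, nat_lit 296, nat_lit 0, nat_lit 111, nat_lit 0, nat_lit 111, nat_lit 0, nat_lit 111])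
(.leaf 315 2 [nat_lit 148, nat_lit 185, nat_lit 259, nat_lit 185, nat_lit 259, nat_lit 111, nat_lit 148, nat_lit 111, nat_lit 0, nat_lit 148])))
(.node (nat_lit 114) (.leaf 163 8 [nat_lit 185, nat_lit 0, nat_lit 259, nat_lit 185, nat_lit 0, nat_lit 185, nat_lit 259, nat_lit 0, nat_lit 185])
(.node (nat_lit 115) (.leaf 179 4 [nat_lit 222, nat_lit 296, nat_lit 259, nat_lit 296, nat_lit 222, nat_lit 0, nat_lit 296, nat_lit 259, nat_lit 296])
(.leaf 287 0 [nat_lit 222, nat_lit 259, nat_lit 296, nat_lit 0, nat_lit 296, nat_lit 37, nat_lit 185, nat_lit 222, nat_lit 185, nat_lit 37]))))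
(.node (nat_lit 119) (.node (nat_lit 117) (.leaf 317 5 [nat_lit 148, nat_lit 0, nat_lit 148, nat_lit 0, nat_lit 148, nat_lit 0, nat_lit 259, nat_lit 185, nat_lit 259, nat_lit 185])
(.node (nat_lit 118) (.leaf 451 10 [nat_lit 74, nat_lit 37, nat_lit 74, nat_lit 0, nat_lit 222, nat_lit 259, nat_lit 185, nat_lit 222, nat_lit 74, nat_lit 259, nat_lit 0, nat_lit 74, nat_lit 185])
(.leaf 343 0 [nat_lit 185, nat_lit 259, nat_lit 185, nat_lit 148, nat_lit 296, nat_lit 148, nat_lit 0, nat_lit 148, nat_lit 296, nat_lit 148])))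
(.node (nat_lit 120) (.leaf 439 12 [nat_lit 37, nat_lit 0, nat_lit 148, nat_lit 37, nat_lit 148, nat_lit 0, nat_lit 37, nat_lit 0, nat_lit 37, nat_lit 148, nat_lit 37, nat_lit 148, nat_lit 37])
(.node (nat_lit 121) (.leaf 511 11 [nat_lit 148, nat_lit 185, nat_lit 37, nat_lit 0, nat_lit 111, nat_lit 37, nat_lit 185, nat_lit 0, nat_lit 74, nat_lit 111, nat_lit 74, nat_lit 148, nat_lit 0, nat_lit 74])
(.leaf 501 3 [nat_lit 185, nat_lit 74, nat_lit 259, nat_lit 185, nat_lit 74, nat_lit 0, nat_lit 74, nat_lit 0, nat_lit 259, nat_lit 74, nat_lit 37, nat_lit 0, nat_lit 185, nat_lit 37])))))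
(.node (nat_lit 128) (.node (nat_lit 125) (.node (nat_lit 123) (.leaf 491 8 [nat_lit 37, nat_lit 74, nat_lit 111, nat_lit 74, nat_lit 0, nat_lit 37, nat_lit 0, nat_lit 148, nat_lit 222, nat_lit 185, nat_lit 222, nat_lit 185, nat_lit 148, nat_lit 37])
(.node (nat_lit 124) (.leaf 515 0 [nat_lit 37, nat_lit 296, nat_lit 222, nat_lit 37, nat_lit 0, nat_lit 74, nat_lit 185, nat_lit 296, nat_lit 185, nat_lit 296, nat_lit 259, nat_lit 185, nat_lit 222, nat_lit 37])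
(.leaf 17 0 [nat_lit 296, nat_lit 0, nat_lit 259, nat_lit 296, nat_lit 259])))
(.node (nat_lit 126) (.leaf 293 0 [nat_lit 222, nat_lit 296, nat_lit 0, nat_lit 296, nat_lit 37, nat_lit 185, nat_lit 222, nat_lit 185, nat_lit 259, nat_lit 37])
(.node (nat_lit 127) (.leaf 465 11 [nat_lit 148, nat_lit 111, nat_lit 0, nat_lit 222, nat_lit 148, nat_lit 222, nat_lit 0, nat_lit 148, nat_lit 111, nat_lit 0, nat_lit 222, nat_lit 148, nat_lit 222])
(.leaf 609 0 [nat_lit 148, nat_lit 111, nat_lit 37, nat_lit 74, nat_lit 259, nat_lit 185, nat_lit 259, nat_lit 37, nat_lit 148, nat_lit 185, nat_lit 74, nat_lit 185, nat_lit 37, nat_lit 148, nat_lit 185, nat_lit 74]))))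
(.node (nat_lit 131) (.node (nat_lit 129) (.leaf 577 0 [nat_lit 185, nat_lit 37, nat_lit 74, nat_lit 37, nat_lit 148, nat_lit 222, nat_lit 185, nat_lit 222, nat_lit 148, nat_lit 37, nat_lit 74, nat_lit 37, nat_lit 185, nat_lit 0, nat_lit 148])
(.node (nat_lit 130) (.leaf 547 14 [nat_lit 37, nat_lit 0, nat_lit 148, nat_lit 222, nat_lit 111, nat_lit 37, nat_lit 148, nat_lit 74, nat_lit 148, nat_lit 111, nat_lit 222, nat_lit 0, nat_lit 74, nat_lit 0, nat_lit 148])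
(.leaf 465 0 [nat_lit 222, nat_lit 148, nat_lit 222, nat_lit 0, nat_lit 148, nat_lit 111, nat_lit 0, nat_lit 222, nat_lit 148, nat_lit 222, nat_lit 0, nat_lit 148, nat_lit 111])))
(.node (nat_lit 133) (.node (nat_lit 132) (.leaf 387 0 [nat_lit 185, nat_lit 111, nat_lit 185, nat_lit 0, nat_lit 111, nat_lit 0, nat_lit 185, nat_lit 111, nat_lit 185, nat_lit 0, nat_lit 111])
(.leaf 547 0 [nat_lit 148, nat_lit 222, nat_lit 111, nat_lit 37, nat_lit 148, nat_lit 74, nat_lit 148, nat_lit 111, nat_lit 222, nat_lit 0, nat_lit 74, nat_lit 0, nat_lit 148, nat_lit 0, nat_lit 37]))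
(.node (nat_lit 134) (.leaf 517 12 [nat_lit 296, nat_lit 37, nat_lit 0, nat_lit 185, nat_lit 259, nat_lit 296, nat_lit 185, nat_lit 296, nat_lit 37, nat_lit 0, nat_lit 259, nat_lit 74, nat_lit 259, nat_lit 185])
(.leaf 53 0 [nat_lit 296, nat_lit 259, nat_lit 296, nat_lit 0, nat_lit 296, nat_lit 259, nat_lit 296])))))))
(.node (nat_lit 167) (.node (nat_lit 150) (.node (nat_lit 142) (.node (nat_lit 138) (.node (nat_lit 136) (.leaf 585 12 [nat_lit 222, nat_lit 74, nat_lit 0, nat_lit 37, nat_lit 0, nat_lit 148, nat_lit 222, nat_lit 111, nat_lit 74, nat_lit 37, nat_lit 111, nat_lit 0, nat_lit 222, nat_lit 148, nat_lit 111, nat_lit 222])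
(.node (nat_lit 137) (.leaf 511 9 [nat_lit 74, nat_lit 0, nat_lit 148, nat_lit 185, nat_lit 37, nat_lit 0, nat_lit 111, nat_lit 37, nat_lit 185, nat_lit 0, nat_lit 74, nat_lit 111, nat_lit 74, nat_lit 148])
(.leaf 505 6 [nat_lit 148, nat_lit 37, nat_lit 148, nat_lit 111, nat_lit 37, nat_lit 0, nat_lit 111, nat_lit 37, nat_lit 0, nat_lit 111, nat_lit 37, nat_lit 148, nat_lit 37, nat_lit 148])))
(.node (nat_lit 140) (.node (nat_lit 139) (.leaf 393 0 [nat_lit 185, nat_lit 111, nat_lit 185, nat_lit 259, nat_lit 185, nat_lit 111, nat_lit 185, nat_lit 0, nat_lit 111, nat_lit 259, nat_lit 111])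
(.leaf 493 3 [nat_lit 185, nat_lit 259, nat_lit 296, nat_lit 185, nat_lit 296, nat_lit 259, nat_lit 185, nat_lit 259, nat_lit 74, nat_lit 0, nat_lit 37, nat_lit 0, nat_lit 296, nat_lit 37]))
(.node (nat_lit 141) (.leaf 429 7 [nat_lit 148, nat_lit 111, nat_lit 74, nat_lit 296, nat_lit 74, nat_lit 0, nat_lit 111, nat_lit 0, nat_lit 148, nat_lit 259, nat_lit 296, nat_lit 111])
(.leaf 441 4 [nat_lit 37, nat_lit 296, nat_lit 74, nat_lit 148, nat_lit 259, nat_lit 296, nat_lit 148, nat_lit 74, nat_lit 37, nat_lit 0, nat_lit 296, nat_lit 148, nat_lit 296]))))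
(.node (nat_lit 146) (.node (nat_lit 144) (.node (nat_lit 143) (.leaf 607 11 [nat_lit 222, nat_lit 37, nat_lit 148, nat_lit 222, nat_lit 37, nat_lit 0, nat_lit 222, nat_lit 74, nat_lit 148, nat_lit 37, nat_lit 111, nat_lit 148, nat_lit 37, nat_lit 111, nat_lit 74, nat_lit 222])
(.leaf 169 0 [nat_lit 296, nat_lit 185, nat_lit 259, nat_lit 185, nat_lit 296, nat_lit 0, nat_lit 185, nat_lit 259, nat_lit 185]))
(.node (nat_lit 145) (.leaf 139 8 [nat_lit 111, nat_lit 0, nat_lit 222, nat_lit 111, nat_lit 0, nat_lit 111, nat_lit 222, nat_lit 0, nat_lit 111])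
(.leaf 449 2 [nat_lit 37, nat_lit 296, nat_lit 0, nat_lit 74, nat_lit 37, nat_lit 296, nat_lit 37, nat_lit 74, nat_lit 0, nat_lit 296, nat_lit 37, nat_lit 0, nat_lit 296])))
(.node (nat_lit 148) (.node (nat_lit 147) (.leaf 487 0 [nat_lit 74, nat_lit 111, nat_lit 74, nat_lit 37, nat_lit 148, nat_lit 37, nat_lit 111, nat_lit 37, nat_lit 148, nat_lit 0, nat_lit 111, nat_lit 37, nat_lit 0, nat_lit 37])
(.leaf 317 9 [nat_lit 148, nat_lit 0, nat_lit 259, nat_lit 185, nat_lit 259, nat_lit 185, nat_lit 0, nat_lit 148, nat_lit 0, nat_lit 148]))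
(.node (nat_lit 149) (.leaf 607 0 [nat_lit 222, nat_lit 74, nat_lit 148, nat_lit 37, nat_lit 111, nat_lit 148, nat_lit 37, nat_lit 111, nat_lit 74, nat_lit 222, nat_lit 0, nat_lit 222, nat_lit 37, nat_lit 148, nat_lit 222, nat_lit 37])
(.leaf 511 0 [nat_lit 111, nat_lit 37, nat_lit 185, nat_lit 0, nat_lit 74, nat_lit 111, nat_lit 74, nat_lit 148, nat_lit 0, nat_lit 74, nat_lit 0, nat_lit 148, nat_lit 185, nat_lit 37])))))
(.node (nat_lit 158) (.node (nat_lit 154) (.node (nat_lit 152) (.node (nat_lit 151) (.leaf 391 0 [nat_lit 148, nat_lit 296, nat_lit 259, nat_lit 296, nat_lit 148, nat_lit 0, nat_lit 111, nat_lit 74, nat_lit 148, nat_lit 74, nat_lit 111])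
(.leaf 489 2 [nat_lit 111, nat_lit 0, nat_lit 148, nat_lit 37, nat_lit 185, nat_lit 111, nat_lit 185, nat_lit 0, nat_lit 111, nat_lit 37, nat_lit 0, nat_lit 37, nat_lit 0, nat_lit 148]))
(.node (nat_lit 153) (.leaf 489 4 [nat_lit 148, nat_lit 37, nat_lit 185, nat_lit 111, nat_lit 185, nat_lit 0, nat_lit 111, nat_lit 37, nat_lit 0, nat_lit 37, nat_lit 0, nat_lit 148, nat_lit 0, nat_lit 111])
(.leaf 439 6 [nat_lit 37, nat_lit 148, nat_lit 37, nat_lit 148, nat_lit 37, nat_lit 0, nat_lit 37, nat_lit 0, nat_lit 148, nat_lit 37, nat_lit 148, nat_lit 0, nat_lit 37])))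
(.node (nat_lit 156) (.node (nat_lit 155) (.leaf 455 3 [nat_lit 148, nat_lit 0, nat_lit 111, nat_lit 37, nat_lit 111, nat_lit 0, nat_lit 148, nat_lit 0, nat_lit 185, nat_lit 74, nat_lit 0, nat_lit 74, nat_lit 185])
(.leaf 501 9 [nat_lit 74, nat_lit 0, nat_lit 259, nat_lit 74, nat_lit 37, nat_lit 0, nat_lit 185, nat_lit 37, nat_lit 0, nat_lit 185, nat_lit 74, nat_lit 259, nat_lit 185, nat_lit 74]))
(.node (nat_lit 157) (.leaf 421 0 [nat_lit 37, nat_lit 296, nat_lit 259, nat_lit 296, nat_lit 111, nat_lit 222, nat_lit 0, nat_lit 222, nat_lit 111, nat_lit 37, nat_lit 0, nat_lit 37])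
(.leaf 155 5 [nat_lit 296, nat_lit 148, nat_lit 259, nat_lit 148, nat_lit 0, nat_lit 259, nat_lit 296, nat_lit 259, nat_lit 148]))))
(.node (nat_lit 162) (.node (nat_lit 160) (.node (nat_lit 159) (.leaf 309 0 [nat_lit 296, nat_lit 185, nat_lit 259, nat_lit 185, nat_lit 0, nat_lit 111, nat_lit 74, nat_lit 296, nat_lit 74, nat_lit 111])
(.leaf 439 0 [nat_lit 148, nat_lit 37, nat_lit 148, nat_lit 0, nat_lit 37, nat_lit 0, nat_lit 37, nat_lit 148, nat_lit 37, nat_lit 148, nat_lit 37, nat_lit 0, nat_lit 37]))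
(.node (nat_lit 161) (.leaf 305 0 [nat_lit 222, nat_lit 0, nat_lit 296, nat_lit 259, nat_lit 296, nat_lit 74, nat_lit 185, nat_lit 222, nat_lit 185, nat_lit 74])
(.leaf 175 0 [nat_lit 296, nat_lit 74, nat_lit 296, nat_lit 0, nat_lit 222, nat_lit 148, nat_lit 74, nat_lit 148, nat_lit 222])))
(.node (nat_lit 164) (.node (nat_lit 163) (.leaf 173 0 [nat_lit 296, nat_lit 0, nat_lit 296, nat_lit 222, nat_lit 296, nat_lit 0, nat_lit 296, nat_lit 0, nat_lit 222])
(.leaf 455 9 [nat_lit 148, nat_lit 0, nat_lit 185, nat_lit 74, nat_lit 0, nat_lit 74, nat_lit 185, nat_lit 0, nat_lit 148, nat_lit 0, nat_lit 111, nat_lit 37, nat_lit 111]))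
(.node (nat_lit 165) (.leaf 121 2 [nat_lit 259, nat_lit 296, nat_lit 37, nat_lit 0, nat_lit 259, nat_lit 0, nat_lit 37, nat_lit 0, nat_lit 296])
(.node (nat_lit 166) (.leaf 521 6 [nat_lit 111, nat_lit 222, nat_lit 148, nat_lit 296, nat_lit 148, nat_lit 259, nat_lit 0, nat_lit 74, nat_lit 0, nat_lit 296, nat_lit 222, nat_lit 111, nat_lit 259, nat_lit 74])
(.leaf 563 11 [nat_lit 148, nat_lit 74, nat_lit 111, nat_lit 74, nat_lit 0, nat_lit 185, nat_lit 74, nat_lit 111, nat_lit 74, nat_lit 148, nat_lit 259, nat_lit 185, nat_lit 259, nat_lit 148, nat_lit 185])))))))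
(.node (nat_lit 186) (.node (nat_lit 176) (.node (nat_lit 171) (.node (nat_lit 169) (.node (nat_lit 168) (.leaf 467 3 [nat_lit 222, nat_lit 0, nat_lit 148, nat_lit 222, nat_lit 0, nat_lit 148, nat_lit 111, nat_lit 222, nat_lit 148, nat_lit 111, nat_lit 0, nat_lit 222, nat_lit 148])
(.leaf 467 8 [nat_lit 148, nat_lit 111, nat_lit 222, nat_lit 148, nat_lit 111, nat_lit 0, nat_lit 222, nat_lit 148, nat_lit 0, nat_lit 222, nat_lit 0, nat_lit 148, nat_lit 222]))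
(.node (nat_lit 170) (.leaf 345 0 [nat_lit 259, nat_lit 37, nat_lit 185, nat_lit 222, nat_lit 185, nat_lit 37, nat_lit 296, nat_lit 0, nat_lit 296, nat_lit 222])
(.leaf 25 0 [nat_lit 259, nat_lit 0, nat_lit 37, nat_lit 0, nat_lit 259, nat_lit 0, nat_lit 37])))
(.node (nat_lit 173) (.node (nat_lit 172) (.leaf 523 0 [nat_lit 74, nat_lit 185, nat_lit 0, nat_lit 185, nat_lit 148, nat_lit 296, nat_lit 0, nat_lit 296, nat_lit 259, nat_lit 148, nat_lit 74, nat_lit 185, nat_lit 37, nat_lit 74])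
(.leaf 371 0 [nat_lit 222, nat_lit 185, nat_lit 222, nat_lit 185, nat_lit 111, nat_lit 37, nat_lit 0, nat_lit 37, nat_lit 111, nat_lit 0, nat_lit 37]))
(.node (nat_lit 174) (.leaf 443 0 [nat_lit 185, nat_lit 74, nat_lit 259, nat_lit 148, nat_lit 74, nat_lit 148, nat_lit 259, nat_lit 0, nat_lit 111, nat_lit 185, nat_lit 0, nat_lit 111, nat_lit 37])
(.node (nat_lit 175) (.leaf 155 0 [nat_lit 259, nat_lit 296, nat_lit 259, nat_lit 148, nat_lit 0, nat_lit 296, nat_lit 148, nat_lit 259, nat_lit 148])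
(.leaf 167 6 [nat_lit 185, nat_lit 259, nat_lit 185, nat_lit 0, nat_lit 259, nat_lit 185, nat_lit 259, nat_lit 185, nat_lit 259])))))
(.node (nat_lit 181) (.node (nat_lit 178) (.node (nat_lit 177) (.leaf 153 0 [nat_lit 148, nat_lit 0, nat_lit 296, nat_lit 148, nat_lit 259, nat_lit 111, nat_lit 148, nat_lit 296, nat_lit 111])
(.leaf 383 2 [nat_lit 74, nat_lit 296, nat_lit 37, nat_lit 296, nat_lit 222, nat_lit 296, nat_lit 37, nat_lit 296, nat_lit 74, nat_lit 0, nat_lit 222]))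
(.node (nat_lit 179) (.leaf 377 0 [nat_lit 222, nat_lit 185, nat_lit 222, nat_lit 111, nat_lit 185, nat_lit 0, nat_lit 37, nat_lit 74, nat_lit 111, nat_lit 74, nat_lit 37])
(.node (nat_lit 180) (.leaf 391 6 [nat_lit 111, nat_lit 74, nat_lit 148, nat_lit 74, nat_lit 111, nat_lit 0, nat_lit 148, nat_lit 296, nat_lit 259, nat_lit 296, nat_lit 148])
(.leaf 121 8 [nat_lit 37, nat_lit 0, nat_lit 296, nat_lit 0, nat_lit 259, nat_lit 296, nat_lit 37, nat_lit 0, nat_lit 259]))))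
(.node (nat_lit 183) (.node (nat_lit 182) (.leaf 429 2 [nat_lit 148, nat_lit 259, nat_lit 296, nat_lit 111, nat_lit 0, nat_lit 148, nat_lit 111, nat_lit 74, nat_lit 296, nat_lit 74, nat_lit 0, nat_lit 111])
(.leaf 339 3 [nat_lit 259, nat_lit 148, nat_lit 259, nat_lit 185, nat_lit 259, nat_lit 185, nat_lit 148, nat_lit 0, nat_lit 148, nat_lit 259]))
(.node (nat_lit 184) (.leaf 599 2 [nat_lit 185, nat_lit 148, nat_lit 0, nat_lit 148, nat_lit 222, nat_lit 74, nat_lit 185, nat_lit 222, nat_lit 148, nat_lit 222, nat_lit 185, nat_lit 222, nat_lit 111, nat_lit 37, nat_lit 0, nat_lit 148])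
(.node (nat_lit 185) (.leaf 629 0 [nat_lit 111, nat_lit 185, nat_lit 111, nat_lit 148, nat_lit 37, nat_lit 148, nat_lit 185, nat_lit 37, nat_lit 148, nat_lit 259, nat_lit 37, nat_lit 185, nat_lit 259, nat_lit 37, nat_lit 74, nat_lit 148, nat_lit 37])
(.leaf 501 11 [nat_lit 259, nat_lit 74, nat_lit 37, nat_lit 0, nat_lit 185, nat_lit 37, nat_lit 0, nat_lit 185, nat_lit 74, nat_lit 259, nat_lit 185, nat_lit 74, nat_lit 0, nat_lit 74]))))))
(.node (nat_lit 197) (.node (nat_lit 191) (.node (nat_lit 188) (.node (nat_lit 187) (.leaf 423 2 [nat_lit 296, nat_lit 185, nat_lit 74, nat_lit 0, nat_lit 37, nat_lit 185, nat_lit 74, nat_lit 259, nat_lit 0, nat_lit 37, nat_lit 0, nat_lit 296])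
(.leaf 395 0 [nat_lit 259, nat_lit 185, nat_lit 259, nat_lit 185, nat_lit 148, nat_lit 259, nat_lit 185, nat_lit 259, nat_lit 185, nat_lit 0, nat_lit 148]))
(.node (nat_lit 189) (.leaf 557 10 [nat_lit 74, nat_lit 259, nat_lit 74, nat_lit 111, nat_lit 37, nat_lit 0, nat_lit 185, nat_lit 74, nat_lit 0, nat_lit 74, nat_lit 111, nat_lit 74, nat_lit 259, nat_lit 74, nat_lit 185])
(.node (nat_lit 190) (.leaf 527 0 [nat_lit 148, nat_lit 37, nat_lit 148, nat_lit 185, nat_lit 74, nat_lit 148, nat_lit 185, nat_lit 148, nat_lit 111, nat_lit 74, nat_lit 111, nat_lit 185, nat_lit 74, nat_lit 111])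
(.leaf 151 0 [nat_lit 111, nat_lit 296, nat_lit 0, nat_lit 111, nat_lit 259, nat_lit 296, nat_lit 111, nat_lit 259, nat_lit 111]))))
(.node (nat_lit 194) (.node (nat_lit 192) (.leaf 573 6 [nat_lit 185, nat_lit 37, nat_lit 148, nat_lit 185, nat_lit 148, nat_lit 0, nat_lit 185, nat_lit 148, nat_lit 111, nat_lit 0, nat_lit 185, nat_lit 0, nat_lit 148, nat_lit 37, nat_lit 185])
(.node (nat_lit 193) (.leaf 447 2 [nat_lit 148, nat_lit 259, nat_lit 185, nat_lit 111, nat_lit 185, nat_lit 111, nat_lit 259, nat_lit 148, nat_lit 37, nat_lit 111, nat_lit 37, nat_lit 0, nat_lit 111])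
(.leaf 439 4 [nat_lit 37, nat_lit 0, nat_lit 37, nat_lit 148, nat_lit 37, nat_lit 148, nat_lit 37, nat_lit 0, nat_lit 37, nat_lit 0, nat_lit 148, nat_lit 37, nat_lit 148])))
(.node (nat_lit 195) (.leaf 295 0 [nat_lit 296, nat_lit 74, nat_lit 296, nat_lit 148, nat_lit 0, nat_lit 74, nat_lit 0, nat_lit 148, nat_lit 0, nat_lit 74])
(.node (nat_lit 196) (.leaf 337 0 [nat_lit 296, nat_lit 74, nat_lit 296, nat_lit 0, nat_lit 148, nat_lit 259, nat_lit 74, nat_lit 259, nat_lit 74, nat_lit 148])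
(.leaf 315 0 [nat_lit 148, nat_lit 0, nat_lit 148, nat_lit 185, nat_lit 259, nat_lit 185, nat_lit 259, nat_lit 111, nat_lit 148, nat_lit 111])))))
(.node (nat_lit 202) (.node (nat_lit 199) (.node (nat_lit 198) (.leaf 181 3 [nat_lit 296, nat_lit 222, nat_lit 296, nat_lit 259, nat_lit 296, nat_lit 222, nat_lit 0, nat_lit 259, nat_lit 296])
(.leaf 519 13 [nat_lit 74, nat_lit 0, nat_lit 222, nat_lit 296, nat_lit 37, nat_lit 148, nat_lit 74, nat_lit 148, nat_lit 111, nat_lit 74, nat_lit 111, nat_lit 37, nat_lit 296, nat_lit 222]))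
(.node (nat_lit 200) (.leaf 139 3 [nat_lit 111, nat_lit 222, nat_lit 0, nat_lit 111, nat_lit 0, nat_lit 111, nat_lit 0, nat_lit 222, nat_lit 111])
(.node (nat_lit 201) (.leaf 515 5 [nat_lit 74, nat_lit 185, nat_lit 296, nat_lit 185, nat_lit 296, nat_lit 259, nat_lit 185, nat_lit 222, nat_lit 37, nat_lit 0, nat_lit 37, nat_lit 296, nat_lit 222, nat_lit 37])
(.leaf 431 0 [nat_lit 148, nat_lit 259, nat_lit 111, nat_lit 259, nat_lit 74, nat_lit 296, nat_lit 74, nat_lit 148, nat_lit 111, nat_lit 259, nat_lit 296, nat_lit 111]))))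
(.node (nat_lit 205) (.node (nat_lit 203) (.leaf 387 10 [nat_lit 111, nat_lit 0, nat_lit 185, nat_lit 111, nat_lit 185, nat_lit 0, nat_lit 111, nat_lit 0, nat_lit 185, nat_lit 111, nat_lit 185])
(.node (nat_lit 204) (.leaf 319 4 [nat_lit 259, nat_lit 148, nat_lit 0, nat_lit 148, nat_lit 0, nat_lit 148, nat_lit 0, nat_lit 185, nat_lit 259, nat_lit 185])
(.leaf 309 5 [nat_lit 111, nat_lit 74, nat_lit 296, nat_lit 74, nat_lit 111, nat_lit 0, nat_lit 296, nat_lit 185, nat_lit 259, nat_lit 185])))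
(.node (nat_lit 206) (.leaf 281 0 [nat_lit 296, nat_lit 259, nat_lit 296, nat_lit 222, nat_lit 0, nat_lit 37, nat_lit 185, nat_lit 222, nat_lit 185, nat_lit 37])
(.node (nat_lit 207) (.leaf 285 4 [nat_lit 296, nat_lit 37, nat_lit 185, nat_lit 222, nat_lit 185, nat_lit 37, nat_lit 0, nat_lit 259, nat_lit 222, nat_lit 296])
(.leaf 545 14 [nat_lit 37, nat_lit 0, nat_lit 296, nat_lit 37, nat_lit 74, nat_lit 185, nat_lit 111, nat_lit 185, nat_lit 37, nat_lit 296, nat_lit 37, nat_lit 74, nat_lit 0, nat_lit 37, nat_lit 111])))))))))))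
(.node (nat_lit 449) (.node (nat_lit 281) (.node (nat_lit 241) (.node (nat_lit 224) (.node (nat_lit 216) (.node (nat_lit 212) (.node (nat_lit 210) (.node (nat_lit 209) (.leaf 347 0 [nat_lit 259, nat_lit 74, nat_lit 185, nat_lit 222, nat_lit 185, nat_lit 74, nat_lit 296, nat_lit 0, nat_lit 296, nat_lit 222])
(.leaf 591 12 [nat_lit 185, nat_lit 148, nat_lit 0, nat_lit 37, nat_lit 0, nat_lit 185, nat_lit 74, nat_lit 0, nat_lit 148, nat_lit 185, nat_lit 148, nat_lit 0, nat_lit 37, nat_lit 0, nat_lit 185, nat_lit 74]))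
(.node (nat_lit 211) (.leaf 487 10 [nat_lit 111, nat_lit 37, nat_lit 0, nat_lit 37, nat_lit 0, nat_lit 74, nat_lit 111, nat_lit 74, nat_lit 37, nat_lit 148, nat_lit 37, nat_lit 111, nat_lit 37, nat_lit 148])
(.leaf 311 0 [nat_lit 296, nat_lit 0, nat_lit 185, nat_lit 259, nat_lit 185, nat_lit 111, nat_lit 74, nat_lit 296, nat_lit 74, nat_lit 111])))
(.node (nat_lit 214) (.node (nat_lit 213) (.leaf 317 7 [nat_lit 148, nat_lit 0, nat_lit 148, nat_lit 0, nat_lit 259, nat_lit 185, nat_lit 259, nat_lit 185, nat_lit 0, nat_lit 148])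
(.leaf 595 12 [nat_lit 185, nat_lit 111, nat_lit 74, nat_lit 37, nat_lit 0, nat_lit 185, nat_lit 148, nat_lit 74, nat_lit 185, nat_lit 37, nat_lit 148, nat_lit 185, nat_lit 148, nat_lit 185, nat_lit 111, nat_lit 74]))
(.node (nat_lit 215) (.leaf 299 3 [nat_lit 296, nat_lit 259, nat_lit 74, nat_lit 185, nat_lit 222, nat_lit 185, nat_lit 74, nat_lit 0, nat_lit 222, nat_lit 296])
(.leaf 573 12 [nat_lit 185, nat_lit 148, nat_lit 111, nat_lit 0, nat_lit 185, nat_lit 0, nat_lit 148, nat_lit 37, nat_lit 185, nat_lit 0, nat_lit 185, nat_lit 37, nat_lit 148, nat_lit 185, nat_lit 148]))))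
(.node (nat_lit 220) (.node (nat_lit 218) (.node (nat_lit 217) (.leaf 567 0 [nat_lit 148, nat_lit 259, nat_lit 111, nat_lit 74, nat_lit 37, nat_lit 111, nat_lit 259, nat_lit 0, nat_lit 148, nat_lit 296, nat_lit 259, nat_lit 296, nat_lit 37, nat_lit 148, nat_lit 74])
(.leaf 307 0 [nat_lit 74, nat_lit 296, nat_lit 74, nat_lit 0, nat_lit 74, nat_lit 296, nat_lit 185, nat_lit 259, nat_lit 185, nat_lit 74]))
(.node (nat_lit 219) (.leaf 563 0 [nat_lit 185, nat_lit 74, nat_lit 111, nat_lit 74, nat_lit 148, nat_lit 259, nat_lit 185, nat_lit 259, nat_lit 148, nat_lit 185, nat_lit 0, nat_lit 148, nat_lit 74, nat_lit 111, nat_lit 74])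
(.leaf 171 0 [nat_lit 296, nat_lit 0, nat_lit 259, nat_lit 296, nat_lit 222, nat_lit 0, nat_lit 259, nat_lit 0, nat_lit 222])))
(.node (nat_lit 222) (.node (nat_lit 221) (.leaf 163 3 [nat_lit 185, nat_lit 259, nat_lit 0, nat_lit 185, nat_lit 0, nat_lit 185, nat_lit 0, nat_lit 259, nat_lit 185])
(.leaf 577 14 [nat_lit 148, nat_lit 0, nat_lit 185, nat_lit 37, nat_lit 74, nat_lit 37, nat_lit 148, nat_lit 222, nat_lit 185, nat_lit 222, nat_lit 148, nat_lit 37, nat_lit 74, nat_lit 37, nat_lit 185]))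
(.node (nat_lit 223) (.leaf 565 0 [nat_lit 185, nat_lit 37, nat_lit 185, nat_lit 0, nat_lit 111, nat_lit 37, nat_lit 111, nat_lit 185, nat_lit 148, nat_lit 37, nat_lit 74, nat_lit 111, nat_lit 37, nat_lit 148, nat_lit 74])
(.leaf 591 15 [nat_lit 37, nat_lit 0, nat_lit 185, nat_lit 74, nat_lit 0, nat_lit 148, nat_lit 185, nat_lit 148, nat_lit 0, nat_lit 37, nat_lit 0, nat_lit 185, nat_lit 74, nat_lit 0, nat_lit 185, nat_lit 148])))))
(.node (nat_lit 232) (.node (nat_lit 228) (.node (nat_lit 226) (.node (nat_lit 225) (.leaf 525 11 [nat_lit 148, nat_lit 37, nat_lit 111, nat_lit 0, nat_lit 148, nat_lit 74, nat_lit 296, nat_lit 111, nat_lit 259, nat_lit 296, nat_lit 37, nat_lit 74, nat_lit 148, nat_lit 111])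
(.leaf 173 2 [nat_lit 296, nat_lit 222, nat_lit 296, nat_lit 0, nat_lit 296, nat_lit 0, nat_lit 222, nat_lit 0, nat_lit 296]))
(.node (nat_lit 227) (.leaf 447 0 [nat_lit 111, nat_lit 0, nat_lit 148, nat_lit 259, nat_lit 185, nat_lit 111, nat_lit 185, nat_lit 111, nat_lit 259, nat_lit 148, nat_lit 37, nat_lit 111, nat_lit 37])
(.leaf 491 13 [nat_lit 37, nat_lit 0, nat_lit 148, nat_lit 222, nat_lit 185, nat_lit 222, nat_lit 185, nat_lit 148, nat_lit 37, nat_lit 0, nat_lit 37, nat_lit 74, nat_lit 111, nat_lit 74])))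
(.node (nat_lit 230) (.node (nat_lit 229) (.leaf 573 0 [nat_lit 185, nat_lit 0, nat_lit 148, nat_lit 37, nat_lit 185, nat_lit 0, nat_lit 185, nat_lit 37, nat_lit 148, nat_lit 185, nat_lit 148, nat_lit 0, nat_lit 185, nat_lit 148, nat_lit 111])
(.leaf 323 4 [nat_lit 259, nat_lit 0, nat_lit 185, nat_lit 148, nat_lit 0, nat_lit 148, nat_lit 0, nat_lit 148, nat_lit 259, nat_lit 185]))
(.node (nat_lit 231) (.leaf 131 0 [nat_lit 259, nat_lit 74, nat_lit 296, nat_lit 74, nat_lit 259, nat_lit 0, nat_lit 74, nat_lit 296, nat_lit 74])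
(.leaf 441 0 [nat_lit 296, nat_lit 148, nat_lit 296, nat_lit 0, nat_lit 37, nat_lit 296, nat_lit 74, nat_lit 148, nat_lit 259, nat_lit 296, nat_lit 148, nat_lit 74, nat_lit 37]))))
(.node (nat_lit 236) (.node (nat_lit 234) (.node (nat_lit 233) (.leaf 487 13 [nat_lit 37, nat_lit 0, nat_lit 74, nat_lit 111, nat_lit 74, nat_lit 37, nat_lit 148, nat_lit 37, nat_lit 111, nat_lit 37, nat_lit 148, nat_lit 0, nat_lit 111, nat_lit 37])
(.leaf 303 0 [nat_lit 222, nat_lit 259, nat_lit 296, nat_lit 0, nat_lit 296, nat_lit 74, nat_lit 185, nat_lit 222, nat_lit 185, nat_lit 74]))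
(.node (nat_lit 235) (.leaf 501 0 [nat_lit 185, nat_lit 37, nat_lit 0, nat_lit 185, nat_lit 74, nat_lit 259, nat_lit 185, nat_lit 74, nat_lit 0, nat_lit 74, nat_lit 0, nat_lit 259, nat_lit 74, nat_lit 37])
(.leaf 499 11 [nat_lit 37, nat_lit 74, nat_lit 37, nat_lit 0, nat_lit 37, nat_lit 259, nat_lit 296, nat_lit 74, nat_lit 296, nat_lit 148, nat_lit 74, nat_lit 148, nat_lit 259, nat_lit 37])))
(.node (nat_lit 238) (.node (nat_lit 237) (.leaf 453 11 [nat_lit 148, nat_lit 74, nat_lit 0, nat_lit 185, nat_lit 148, nat_lit 185, nat_lit 37, nat_lit 185, nat_lit 148, nat_lit 185, nat_lit 0, nat_lit 74, nat_lit 148])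
(.leaf 585 7 [nat_lit 222, nat_lit 148, nat_lit 111, nat_lit 222, nat_lit 0, nat_lit 222, nat_lit 74, nat_lit 0, nat_lit 37, nat_lit 0, nat_lit 148, nat_lit 222, nat_lit 111, nat_lit 74, nat_lit 37, nat_lit 111]))
(.node (nat_lit 239) (.leaf 605 0 [nat_lit 37, nat_lit 296, nat_lit 74, nat_lit 37, nat_lit 222, nat_lit 296, nat_lit 259, nat_lit 296, nat_lit 37, nat_lit 74, nat_lit 0, nat_lit 296, nat_lit 37, nat_lit 0, nat_lit 222, nat_lit 37])
(.node (nat_lit 240) (.leaf 47 0 [nat_lit 296, nat_lit 0, nat_lit 259, nat_lit 296, nat_lit 222, nat_lit 259, nat_lit 222])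
(.leaf 433 0 [nat_lit 222, nat_lit 185, nat_lit 222, nat_lit 185, nat_lit 0, nat_lit 148, nat_lit 222, nat_lit 111, nat_lit 222, nat_lit 111, nat_lit 222, nat_lit 148])))))))
(.node (nat_lit 260) (.node (nat_lit 250) (.node (nat_lit 245) (.node (nat_lit 243) (.node (nat_lit 242) (.leaf 493 13 [nat_lit 37, nat_lit 0, nat_lit 296, nat_lit 37, nat_lit 0, nat_lit 185, nat_lit 259, nat_lit 296, nat_lit 185, nat_lit 296, nat_lit 259, nat_lit 185, nat_lit 259, nat_lit 74])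
(.leaf 301 4 [nat_lit 296, nat_lit 74, nat_lit 185, nat_lit 222, nat_lit 185, nat_lit 74, nat_lit 0, nat_lit 259, nat_lit 222, nat_lit 296]))
(.node (nat_lit 244) (.leaf 335 9 [nat_lit 148, nat_lit 0, nat_lit 148, nat_lit 296, nat_lit 185, nat_lit 259, nat_lit 185, nat_lit 296, nat_lit 259, nat_lit 148])
(.leaf 553 0 [nat_lit 296, nat_lit 222, nat_lit 296, nat_lit 259, nat_lit 74, nat_lit 259, nat_lit 74, nat_lit 0, nat_lit 74, nat_lit 37, nat_lit 296, nat_lit 222, nat_lit 296, nat_lit 74, nat_lit 37])))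
(.node (nat_lit 247) (.node (nat_lit 246) (.leaf 463 8 [nat_lit 185, nat_lit 296, nat_lit 259, nat_lit 0, nat_lit 111, nat_lit 0, nat_lit 259, nat_lit 296, nat_lit 185, nat_lit 0, nat_lit 259, nat_lit 111, nat_lit 259])
(.leaf 491 0 [nat_lit 148, nat_lit 222, nat_lit 185, nat_lit 222, nat_lit 185, nat_lit 148, nat_lit 37, nat_lit 0, nat_lit 37, nat_lit 74, nat_lit 111, nat_lit 74, nat_lit 0, nat_lit 37]))
(.node (nat_lit 248) (.leaf 557 3 [nat_lit 74, nat_lit 111, nat_lit 74, nat_lit 259, nat_lit 74, nat_lit 185, nat_lit 0, nat_lit 74, nat_lit 259, nat_lit 74, nat_lit 111, nat_lit 37, nat_lit 0, nat_lit 185, nat_lit 74])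
(.node (nat_lit 249) (.leaf 567 8 [nat_lit 148, nat_lit 296, nat_lit 259, nat_lit 296, nat_lit 37, nat_lit 148, nat_lit 74, nat_lit 0, nat_lit 148, nat_lit 259, nat_lit 111, nat_lit 74, nat_lit 37, nat_lit 111, nat_lit 259])
(.leaf 443 11 [nat_lit 111, nat_lit 37, nat_lit 0, nat_lit 185, nat_lit 74, nat_lit 259, nat_lit 148, nat_lit 74, nat_lit 148, nat_lit 259, nat_lit 0, nat_lit 111, nat_lit 185])))))
(.node (nat_lit 255) (.node (nat_lit 252) (.node (nat_lit 251) (.leaf 393 8 [nat_lit 111, nat_lit 259, nat_lit 111, nat_lit 0, nat_lit 185, nat_lit 111, nat_lit 185, nat_lit 259, nat_lit 185, nat_lit 111, nat_lit 185])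
(.leaf 287 4 [nat_lit 296, nat_lit 37, nat_lit 185, nat_lit 222, nat_lit 185, nat_lit 37, nat_lit 0, nat_lit 222, nat_lit 259, nat_lit 296]))
(.node (nat_lit 253) (.leaf 333 9 [nat_lit 148, nat_lit 0, nat_lit 148, nat_lit 222, nat_lit 259, nat_lit 185, nat_lit 259, nat_lit 185, nat_lit 222, nat_lit 148])
(.node (nat_lit 254) (.leaf 305 2 [nat_lit 296, nat_lit 259, nat_lit 296, nat_lit 74, nat_lit 185, nat_lit 222, nat_lit 185, nat_lit 74, nat_lit 0, nat_lit 222])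
(.leaf 449 0 [nat_lit 296, nat_lit 0, nat_lit 37, nat_lit 296, nat_lit 0, nat_lit 74, nat_lit 37, nat_lit 296, nat_lit 37, nat_lit 74, nat_lit 0, nat_lit 296, nat_lit 37]))))
(.node (nat_lit 257) (.node (nat_lit 256) (.leaf 543 4 [nat_lit 222, nat_lit 111, nat_lit 222, nat_lit 0, nat_lit 296, nat_lit 37, nat_lit 0, nat_lit 37, nat_lit 111, nat_lit 0, nat_lit 37, nat_lit 0, nat_lit 296, nat_lit 222, nat_lit 111])
(.leaf 587 5 [nat_lit 37, nat_lit 296, nat_lit 222, nat_lit 148, nat_lit 296, nat_lit 74, nat_lit 148, nat_lit 0, nat_lit 148, nat_lit 0, nat_lit 37, nat_lit 0, nat_lit 296, nat_lit 148, nat_lit 222, nat_lit 296]))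
(.node (nat_lit 258) (.leaf 469 11 [nat_lit 222, nat_lit 111, nat_lit 0, nat_lit 296, nat_lit 222, nat_lit 111, nat_lit 259, nat_lit 222, nat_lit 111, nat_lit 259, nat_lit 222, nat_lit 296, nat_lit 222])
(.node (nat_lit 259) (.leaf 605 14 [nat_lit 222, nat_lit 37, nat_lit 0, nat_lit 37, nat_lit 296, nat_lit 74, nat_lit 37, nat_lit 222, nat_lit 296, nat_lit 259, nat_lit 296, nat_lit 37, nat_lit 74, nat_lit 0, nat_lit 296, nat_lit 37])
(.leaf 319 0 [nat_lit 185, nat_lit 259, nat_lit 185, nat_lit 0, nat_lit 259, nat_lit 148, nat_lit 0, nat_lit 148, nat_lit 0, nat_lit 148]))))))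
(.node (nat_lit 270) (.node (nat_lit 265) (.node (nat_lit 262) (.node (nat_lit 261) (.leaf 429 0 [nat_lit 111, nat_lit 0, nat_lit 148, nat_lit 259, nat_lit 296, nat_lit 111, nat_lit 0, nat_lit 148, nat_lit 111, nat_lit 74, nat_lit 296, nat_lit 74])
(.leaf 529 2 [nat_lit 296, nat_lit 111, nat_lit 185, nat_lit 37, nat_lit 185, nat_lit 111, nat_lit 259, nat_lit 111, nat_lit 185, nat_lit 37, nat_lit 185, nat_lit 111, nat_lit 0, nat_lit 296]))
(.node (nat_lit 263) (.leaf 449 5 [nat_lit 74, nat_lit 37, nat_lit 296, nat_lit 37, nat_lit 74, nat_lit 0, nat_lit 296, nat_lit 37, nat_lit 0, nat_lit 296, nat_lit 0, nat_lit 37, nat_lit 296])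
(.node (nat_lit 264) (.leaf 343 7 [nat_lit 148, nat_lit 296, nat_lit 148, nat_lit 0, nat_lit 185, nat_lit 259, nat_lit 185, nat_lit 148, nat_lit 296, nat_lit 148])
(.leaf 159 0 [nat_lit 259, nat_lit 148, nat_lit 296, nat_lit 148, nat_lit 259, nat_lit 0, nat_lit 148, nat_lit 296, nat_lit 148]))))
(.node (nat_lit 267) (.node (nat_lit 266) (.leaf 555 0 [nat_lit 74, nat_lit 0, nat_lit 185, nat_lit 37, nat_lit 74, nat_lit 185, nat_lit 0, nat_lit 148, nat_lit 222, nat_lit 0, nat_lit 222, nat_lit 148, nat_lit 74, nat_lit 111, nat_lit 37])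
(.leaf 423 11 [nat_lit 37, nat_lit 0, nat_lit 296, nat_lit 0, nat_lit 296, nat_lit 185, nat_lit 74, nat_lit 0, nat_lit 37, nat_lit 185, nat_lit 74, nat_lit 259]))
(.node (nat_lit 268) (.leaf 585 0 [nat_lit 148, nat_lit 222, nat_lit 111, nat_lit 74, nat_lit 37, nat_lit 111, nat_lit 0, nat_lit 222, nat_lit 148, nat_lit 111, nat_lit 222, nat_lit 0, nat_lit 222, nat_lit 74, nat_lit 0, nat_lit 37])
(.node (nat_lit 269) (.leaf 589 8 [nat_lit 37, nat_lit 148, nat_lit 37, nat_lit 111, nat_lit 37, nat_lit 148, nat_lit 0, nat_lit 37, nat_lit 0, nat_lit 185, nat_lit 111, nat_lit 37, nat_lit 111, nat_lit 37, nat_lit 185, nat_lit 37])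
(.leaf 153 2 [nat_lit 296, nat_lit 148, nat_lit 259, nat_lit 111, nat_lit 148, nat_lit 296, nat_lit 111, nat_lit 0, nat_lit 148])))))
(.node (nat_lit 275) (.node (nat_lit 272) (.node (nat_lit 271) (.leaf 547 12 [nat_lit 148, nat_lit 0, nat_lit 37, nat_lit 0, nat_lit 148, nat_lit 222, nat_lit 111, nat_lit 37, nat_lit 148, nat_lit 74, nat_lit 148, nat_lit 111, nat_lit 222, nat_lit 0, nat_lit 74])
(.leaf 505 0 [nat_lit 111, nat_lit 37, nat_lit 148, nat_lit 37, nat_lit 148, nat_lit 0, nat_lit 148, nat_lit 37, nat_lit 148, nat_lit 111, nat_lit 37, nat_lit 0, nat_lit 111, nat_lit 37]))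
(.node (nat_lit 273) (.leaf 301 0 [nat_lit 259, nat_lit 222, nat_lit 296, nat_lit 0, nat_lit 296, nat_lit 74, nat_lit 185, nat_lit 222, nat_lit 185, nat_lit 74])
(.node (nat_lit 274) (.leaf 519 0 [nat_lit 222, nat_lit 296, nat_lit 37, nat_lit 148, nat_lit 74, nat_lit 148, nat_lit 111, nat_lit 74, nat_lit 111, nat_lit 37, nat_lit 296, nat_lit 222, nat_lit 0, nat_lit 74])
(.leaf 389 8 [nat_lit 111, nat_lit 37, nat_lit 111, nat_lit 0, nat_lit 222, nat_lit 0, nat_lit 111, nat_lit 37, nat_lit 111, nat_lit 0, nat_lit 222]))))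
(.node (nat_lit 278) (.node (nat_lit 276) (.leaf 317 0 [nat_lit 259, nat_lit 185, nat_lit 259, nat_lit 185, nat_lit 0, nat_lit 148, nat_lit 0, nat_lit 148, nat_lit 0, nat_lit 148])
(.node (nat_lit 277) (.leaf 319 7 [nat_lit 148, nat_lit 0, nat_lit 148, nat_lit 0, nat_lit 185, nat_lit 259, nat_lit 185, nat_lit 0, nat_lit 259, nat_lit 148])
(.leaf 633 16 [nat_lit 74, nat_lit 0, nat_lit 259, nat_lit 111, nat_lit 222, nat_lit 148, nat_lit 222, nat_lit 259, nat_lit 148, nat_lit 222, nat_lit 74, nat_lit 111, nat_lit 259, nat_lit 148, nat_lit 222, nat_lit 148, nat_lit 74])))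
(.node (nat_lit 279) (.leaf 595 0 [nat_lit 185, nat_lit 148, nat_lit 74, nat_lit 185, nat_lit 37, nat_lit 148, nat_lit 185, nat_lit 148, nat_lit 185, nat_lit 111, nat_lit 74, nat_lit 0, nat_lit 185, nat_lit 111, nat_lit 74, nat_lit 37])
(.node (nat_lit 280) (.leaf 425 6 [nat_lit 37, nat_lit 148, nat_lit 74, nat_lit 148, nat_lit 74, nat_lit 37, nat_lit 0, nat_lit 259, nat_lit 111, nat_lit 74, nat_lit 111, nat_lit 259])
(.leaf 497 13 [nat_lit 37, nat_lit 0, nat_lit 296, nat_lit 222, nat_lit 111, nat_lit 259, nat_lit 111, nat_lit 222, nat_lit 296, nat_lit 0, nat_lit 111, nat_lit 37, nat_lit 0, nat_lit 111]))))))))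
(.node (nat_lit 336) (.node (nat_lit 306) (.node (nat_lit 293) (.node (nat_lit 287) (.node (nat_lit 284) (.node (nat_lit 282) (.leaf 623 16 [nat_lit 37, nat_lit 0, nat_lit 111, nat_lit 185, nat_lit 148, nat_lit 74, nat_lit 148, nat_lit 185, nat_lit 37, nat_lit 111, nat_lit 74, nat_lit 111, nat_lit 74, nat_lit 0, nat_lit 111, nat_lit 185, nat_lit 37])
(.node (nat_lit 283) (.leaf 133 0 [nat_lit 259, nat_lit 74, nat_lit 296, nat_lit 74, nat_lit 0, nat_lit 259, nat_lit 74, nat_lit 296, nat_lit 74])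
(.leaf 157 6 [nat_lit 296, nat_lit 259, nat_lit 148, nat_lit 0, nat_lit 296, nat_lit 148, nat_lit 259, nat_lit 148, nat_lit 259])))
(.node (nat_lit 285) (.leaf 29 0 [nat_lit 296, nat_lit 0, nat_lit 259, nat_lit 296, nat_lit 37, nat_lit 259, nat_lit 37])
(.node (nat_lit 286) (.leaf 435 0 [nat_lit 296, nat_lit 185, nat_lit 259, nat_lit 74, nat_lit 37, nat_lit 185, nat_lit 37, nat_lit 74, nat_lit 296, nat_lit 222, nat_lit 0, nat_lit 222])
(.leaf 461 12 [nat_lit 111, nat_lit 0, nat_lit 259, nat_lit 185, nat_lit 296, nat_lit 74, nat_lit 296, nat_lit 185, nat_lit 259, nat_lit 185, nat_lit 74, nat_lit 111, nat_lit 185]))))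
(.node (nat_lit 290) (.node (nat_lit 288) (.leaf 455 5 [nat_lit 111, nat_lit 37, nat_lit 111, nat_lit 0, nat_lit 148, nat_lit 0, nat_lit 185, nat_lit 74, nat_lit 0, nat_lit 74, nat_lit 185, nat_lit 0, nat_lit 148])
(.node (nat_lit 289) (.leaf 505 12 [nat_lit 111, nat_lit 37, nat_lit 0, nat_lit 111, nat_lit 37, nat_lit 148, nat_lit 37, nat_lit 148, nat_lit 0, nat_lit 148, nat_lit 37, nat_lit 148, nat_lit 111, nat_lit 37])
(.leaf 571 0 [nat_lit 148, nat_lit 185, nat_lit 37, nat_lit 74, nat_lit 185, nat_lit 37, nat_lit 185, nat_lit 74, nat_lit 37, nat_lit 185, nat_lit 148, nat_lit 0, nat_lit 111, nat_lit 37, nat_lit 111])))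
(.node (nat_lit 291) (.leaf 335 0 [nat_lit 148, nat_lit 296, nat_lit 185, nat_lit 259, nat_lit 185, nat_lit 296, nat_lit 259, nat_lit 148, nat_lit 0, nat_lit 148])
(.node (nat_lit 292) (.leaf 545 11 [nat_lit 37, nat_lit 111, nat_lit 0, nat_lit 37, nat_lit 0, nat_lit 296, nat_lit 37, nat_lit 74, nat_lit 185, nat_lit 111, nat_lit 185, nat_lit 37, nat_lit 296, nat_lit 37, nat_lit 74])
(.leaf 135 4 [nat_lit 111, nat_lit 0, nat_lit 111, nat_lit 0, nat_lit 111, nat_lit 0, nat_lit 148, nat_lit 111, nat_lit 148])))))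
(.node (nat_lit 299) (.node (nat_lit 296) (.node (nat_lit 294) (.leaf 177 7 [nat_lit 296, nat_lit 222, nat_lit 0, nat_lit 296, nat_lit 0, nat_lit 296, nat_lit 222, nat_lit 0, nat_lit 296])
(.node (nat_lit 295) (.leaf 321 9 [nat_lit 148, nat_lit 0, nat_lit 148, nat_lit 185, nat_lit 259, nat_lit 185, nat_lit 37, nat_lit 259, nat_lit 37, nat_lit 148])
(.leaf 633 0 [nat_lit 259, nat_lit 111, nat_lit 222, nat_lit 148, nat_lit 222, nat_lit 259, nat_lit 148, nat_lit 222, nat_lit 74, nat_lit 111, nat_lit 259, nat_lit 148, nat_lit 222, nat_lit 148, nat_lit 74, nat_lit 0, nat_lit 74])))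
(.node (nat_lit 297) (.leaf 555 7 [nat_lit 148, nat_lit 222, nat_lit 0, nat_lit 222, nat_lit 148, nat_lit 74, nat_lit 111, nat_lit 37, nat_lit 0, nat_lit 74, nat_lit 0, nat_lit 185, nat_lit 37, nat_lit 74, nat_lit 185])
(.node (nat_lit 298) (.leaf 583 8 [nat_lit 185, nat_lit 222, nat_lit 148, nat_lit 37, nat_lit 74, nat_lit 37, nat_lit 0, nat_lit 37, nat_lit 0, nat_lit 148, nat_lit 222, nat_lit 111, nat_lit 37, nat_lit 185, nat_lit 0, nat_lit 111])
(.leaf 625 12 [nat_lit 148, nat_lit 74, nat_lit 111, nat_lit 74, nat_lit 37, nat_lit 0, nat_lit 148, nat_lit 37, nat_lit 111, nat_lit 37, nat_lit 259, nat_lit 185, nat_lit 259, nat_lit 111, nat_lit 185, nat_lit 37, nat_lit 148]))))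
(.node (nat_lit 302) (.node (nat_lit 300) (.leaf 341 8 [nat_lit 259, nat_lit 148, nat_lit 0, nat_lit 148, nat_lit 259, nat_lit 185, nat_lit 259, nat_lit 185, nat_lit 148, nat_lit 259])
(.node (nat_lit 301) (.leaf 459 12 [nat_lit 111, nat_lit 0, nat_lit 259, nat_lit 111, nat_lit 259, nat_lit 148, nat_lit 259, nat_lit 111, nat_lit 259, nat_lit 0, nat_lit 111, nat_lit 0, nat_lit 148])
(.leaf 623 12 [nat_lit 111, nat_lit 185, nat_lit 37, nat_lit 0, nat_lit 37, nat_lit 0, nat_lit 111, nat_lit 185, nat_lit 148, nat_lit 74, nat_lit 148, nat_lit 185, nat_lit 37, nat_lit 111, nat_lit 74, nat_lit 111, nat_lit 74])))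
(.node (nat_lit 304) (.node (nat_lit 303) (.leaf 585 15 [nat_lit 37, nat_lit 0, nat_lit 148, nat_lit 222, nat_lit 111, nat_lit 74, nat_lit 37, nat_lit 111, nat_lit 0, nat_lit 222, nat_lit 148, nat_lit 111, nat_lit 222, nat_lit 0, nat_lit 222, nat_lit 74])
(.leaf 543 11 [nat_lit 37, nat_lit 111, nat_lit 0, nat_lit 37, nat_lit 0, nat_lit 296, nat_lit 222, nat_lit 111, nat_lit 0, nat_lit 222, nat_lit 111, nat_lit 222, nat_lit 0, nat_lit 296, nat_lit 37]))
(.node (nat_lit 305) (.leaf 507 0 [nat_lit 185, nat_lit 148, nat_lit 74, nat_lit 296, nat_lit 148, nat_lit 296, nat_lit 259, nat_lit 74, nat_lit 185, nat_lit 0, nat_lit 111, nat_lit 259, nat_lit 111, nat_lit 37])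
(.leaf 599 5 [nat_lit 148, nat_lit 222, nat_lit 74, nat_lit 185, nat_lit 222, nat_lit 148, nat_lit 222, nat_lit 185, nat_lit 222, nat_lit 111, nat_lit 37, nat_lit 0, nat_lit 148, nat_lit 0, nat_lit 185, nat_lit 148]))))))
(.node (nat_lit 320) (.node (nat_lit 313) (.node (nat_lit 309) (.node (nat_lit 307) (.leaf 467 0 [nat_lit 222, nat_lit 148, nat_lit 0, nat_lit 222, nat_lit 0, nat_lit 148, nat_lit 222, nat_lit 0, nat_lit 148, nat_lit 111, nat_lit 222, nat_lit 148, nat_lit 111])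
(.node (nat_lit 308) (.leaf 163 0 [nat_lit 259, nat_lit 185, nat_lit 0, nat_lit 185, nat_lit 259, nat_lit 0, nat_lit 185, nat_lit 0, nat_lit 185])
(.leaf 547 10 [nat_lit 74, nat_lit 0, nat_lit 148, nat_lit 0, nat_lit 37, nat_lit 0, nat_lit 148, nat_lit 222, nat_lit 111, nat_lit 37, nat_lit 148, nat_lit 74, nat_lit 148, nat_lit 111, nat_lit 222])))
(.node (nat_lit 311) (.node (nat_lit 310) (.leaf 489 13 [nat_lit 37, nat_lit 0, nat_lit 148, nat_lit 0, nat_lit 111, nat_lit 0, nat_lit 148, nat_lit 37, nat_lit 185, nat_lit 111, nat_lit 185, nat_lit 0, nat_lit 111, nat_lit 37])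
(.leaf 285 0 [nat_lit 259, nat_lit 222, nat_lit 296, nat_lit 0, nat_lit 296, nat_lit 37, nat_lit 185, nat_lit 222, nat_lit 185, nat_lit 37]))
(.node (nat_lit 312) (.leaf 331 9 [nat_lit 148, nat_lit 0, nat_lit 148, nat_lit 259, nat_lit 222, nat_lit 185, nat_lit 259, nat_lit 185, nat_lit 222, nat_lit 148])
(.leaf 181 0 [nat_lit 259, nat_lit 296, nat_lit 0, nat_lit 296, nat_lit 222, nat_lit 296, nat_lit 259, nat_lit 296, nat_lit 222]))))
(.node (nat_lit 316) (.node (nat_lit 314) (.leaf 591 9 [nat_lit 185, nat_lit 74, nat_lit 0, nat_lit 185, nat_lit 148, nat_lit 0, nat_lit 37, nat_lit 0, nat_lit 185, nat_lit 74, nat_lit 0, nat_lit 148, nat_lit 185, nat_lit 148, nat_lit 0, nat_lit 37])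
(.node (nat_lit 315) (.leaf 543 14 [nat_lit 37, nat_lit 0, nat_lit 296, nat_lit 222, nat_lit 111, nat_lit 0, nat_lit 222, nat_lit 111, nat_lit 222, nat_lit 0, nat_lit 296, nat_lit 37, nat_lit 0, nat_lit 37, nat_lit 111])
(.leaf 603 0 [nat_lit 37, nat_lit 259, nat_lit 148, nat_lit 185, nat_lit 37, nat_lit 259, nat_lit 0, nat_lit 148, nat_lit 185, nat_lit 148, nat_lit 259, nat_lit 0, nat_lit 37, nat_lit 185, nat_lit 148, nat_lit 37])))
(.node (nat_lit 318) (.node (nat_lit 317) (.leaf 503 0 [nat_lit 259, nat_lit 222, nat_lit 111, nat_lit 74, nat_lit 148, nat_lit 222, nat_lit 0, nat_lit 222, nat_lit 148, nat_lit 37, nat_lit 222, nat_lit 259, nat_lit 74, nat_lit 37])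
(.leaf 29 2 [nat_lit 259, nat_lit 296, nat_lit 37, nat_lit 259, nat_lit 37, nat_lit 0, nat_lit 296]))
(.node (nat_lit 319) (.leaf 589 0 [nat_lit 185, nat_lit 111, nat_lit 37, nat_lit 111, nat_lit 37, nat_lit 185, nat_lit 37, nat_lit 0, nat_lit 37, nat_lit 148, nat_lit 37, nat_lit 111, nat_lit 37, nat_lit 148, nat_lit 0, nat_lit 37])
(.leaf 521 0 [nat_lit 296, nat_lit 222, nat_lit 111, nat_lit 259, nat_lit 74, nat_lit 0, nat_lit 111, nat_lit 222, nat_lit 148, nat_lit 296, nat_lit 148, nat_lit 259, nat_lit 0, nat_lit 74])))))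
(.node (nat_lit 328) (.node (nat_lit 324) (.node (nat_lit 322) (.node (nat_lit 321) (.leaf 461 0 [nat_lit 259, nat_lit 185, nat_lit 296, nat_lit 74, nat_lit 296, nat_lit 185, nat_lit 259, nat_lit 185, nat_lit 74, nat_lit 111, nat_lit 185, nat_lit 0, nat_lit 111])
(.leaf 171 8 [nat_lit 222, nat_lit 0, nat_lit 296, nat_lit 0, nat_lit 259, nat_lit 296, nat_lit 222, nat_lit 0, nat_lit 259]))
(.node (nat_lit 323) (.leaf 551 3 [nat_lit 111, nat_lit 37, nat_lit 259, nat_lit 74, nat_lit 148, nat_lit 185, nat_lit 111, nat_lit 185, nat_lit 148, nat_lit 111, nat_lit 74, nat_lit 37, nat_lit 0, nat_lit 259, nat_lit 111])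
(.leaf 459 10 [nat_lit 148, nat_lit 0, nat_lit 111, nat_lit 0, nat_lit 259, nat_lit 111, nat_lit 259, nat_lit 148, nat_lit 259, nat_lit 111, nat_lit 259, nat_lit 0, nat_lit 111])))
(.node (nat_lit 326) (.node (nat_lit 325) (.leaf 559 0 [nat_lit 74, nat_lit 185, nat_lit 222, nat_lit 0, nat_lit 148, nat_lit 185, nat_lit 37, nat_lit 148, nat_lit 111, nat_lit 185, nat_lit 148, nat_lit 74, nat_lit 111, nat_lit 222, nat_lit 37])
(.leaf 499 0 [nat_lit 37, nat_lit 259, nat_lit 296, nat_lit 74, nat_lit 296, nat_lit 148, nat_lit 74, nat_lit 148, nat_lit 259, nat_lit 37, nat_lit 0, nat_lit 37, nat_lit 74, nat_lit 37]))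
(.node (nat_lit 327) (.leaf 549 14 [nat_lit 37, nat_lit 0, nat_lit 185, nat_lit 296, nat_lit 74, nat_lit 296, nat_lit 259, nat_lit 185, nat_lit 259, nat_lit 148, nat_lit 185, nat_lit 148, nat_lit 37, nat_lit 185, nat_lit 148])
(.leaf 557 0 [nat_lit 185, nat_lit 74, nat_lit 0, nat_lit 74, nat_lit 111, nat_lit 74, nat_lit 259, nat_lit 74, nat_lit 185, nat_lit 0, nat_lit 74, nat_lit 259, nat_lit 74, nat_lit 111, nat_lit 37]))))
(.node (nat_lit 332) (.node (nat_lit 330) (.node (nat_lit 329) (.leaf 603 12 [nat_lit 37, nat_lit 185, nat_lit 148, nat_lit 37, nat_lit 0, nat_lit 37, nat_lit 259, nat_lit 148, nat_lit 185, nat_lit 37, nat_lit 259, nat_lit 0, nat_lit 148, nat_lit 185, nat_lit 148, nat_lit 259])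
(.leaf 555 2 [nat_lit 185, nat_lit 37, nat_lit 74, nat_lit 185, nat_lit 0, nat_lit 148, nat_lit 222, nat_lit 0, nat_lit 222, nat_lit 148, nat_lit 74, nat_lit 111, nat_lit 37, nat_lit 0, nat_lit 74]))
(.node (nat_lit 331) (.leaf 583 15 [nat_lit 37, nat_lit 0, nat_lit 148, nat_lit 222, nat_lit 111, nat_lit 37, nat_lit 185, nat_lit 0, nat_lit 111, nat_lit 0, nat_lit 185, nat_lit 222, nat_lit 148, nat_lit 37, nat_lit 74, nat_lit 37])
(.leaf 525 0 [nat_lit 148, nat_lit 74, nat_lit 296, nat_lit 111, nat_lit 259, nat_lit 296, nat_lit 37, nat_lit 74, nat_lit 148, nat_lit 111, nat_lit 0, nat_lit 148, nat_lit 37, nat_lit 111])))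
(.node (nat_lit 334) (.node (nat_lit 333) (.leaf 289 2 [nat_lit 296, nat_lit 259, nat_lit 296, nat_lit 37, nat_lit 185, nat_lit 222, nat_lit 185, nat_lit 37, nat_lit 0, nat_lit 222])
(.leaf 583 0 [nat_lit 148, nat_lit 222, nat_lit 111, nat_lit 37, nat_lit 185, nat_lit 0, nat_lit 111, nat_lit 0, nat_lit 185, nat_lit 222, nat_lit 148, nat_lit 37, nat_lit 74, nat_lit 37, nat_lit 0, nat_lit 37]))
(.node (nat_lit 335) (.leaf 517 7 [nat_lit 259, nat_lit 74, nat_lit 259, nat_lit 185, nat_lit 0, nat_lit 296, nat_lit 37, nat_lit 0, nat_lit 185, nat_lit 259, nat_lit 296, nat_lit 185, nat_lit 296, nat_lit 37])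
(.leaf 291 0 [nat_lit 222, nat_lit 296, nat_lit 0, nat_lit 296, nat_lit 37, nat_lit 259, nat_lit 185, nat_lit 222, nat_lit 185, nat_lit 37])))))))
(.node (nat_lit 373) (.node (nat_lit 353) (.node (nat_lit 344) (.node (nat_lit 340) (.node (nat_lit 338) (.node (nat_lit 337) (.leaf 459 0 [nat_lit 259, nat_lit 111, nat_lit 259, nat_lit 148, nat_lit 259, nat_lit 111, nat_lit 259, nat_lit 0, nat_lit 111, nat_lit 0, nat_lit 148, nat_lit 0, nat_lit 111])
(.leaf 471 12 [nat_lit 148, nat_lit 0, nat_lit 296, nat_lit 222, nat_lit 148, nat_lit 222, nat_lit 148, nat_lit 222, nat_lit 148, nat_lit 259, nat_lit 222, nat_lit 148, nat_lit 296]))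
(.node (nat_lit 339) (.leaf 549 0 [nat_lit 185, nat_lit 296, nat_lit 74, nat_lit 296, nat_lit 259, nat_lit 185, nat_lit 259, nat_lit 148, nat_lit 185, nat_lit 148, nat_lit 37, nat_lit 185, nat_lit 148, nat_lit 0, nat_lit 37])
(.leaf 425 0 [nat_lit 259, nat_lit 111, nat_lit 74, nat_lit 111, nat_lit 259, nat_lit 0, nat_lit 37, nat_lit 148, nat_lit 74, nat_lit 148, nat_lit 74, nat_lit 37])))
(.node (nat_lit 342) (.node (nat_lit 341) (.leaf 297 0 [nat_lit 296, nat_lit 259, nat_lit 296, nat_lit 222, nat_lit 0, nat_lit 74, nat_lit 185, nat_lit 222, nat_lit 185, nat_lit 74])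
(.leaf 135 6 [nat_lit 111, nat_lit 0, nat_lit 111, nat_lit 0, nat_lit 148, nat_lit 111, nat_lit 148, nat_lit 0, nat_lit 111]))
(.node (nat_lit 343) (.leaf 451 0 [nat_lit 222, nat_lit 259, nat_lit 185, nat_lit 222, nat_lit 74, nat_lit 259, nat_lit 0, nat_lit 74, nat_lit 185, nat_lit 0, nat_lit 74, nat_lit 37, nat_lit 74])
(.leaf 489 10 [nat_lit 111, nat_lit 37, nat_lit 0, nat_lit 37, nat_lit 0, nat_lit 148, nat_lit 0, nat_lit 111, nat_lit 0, nat_lit 148, nat_lit 37, nat_lit 185, nat_lit 111, nat_lit 185]))))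
(.node (nat_lit 348) (.node (nat_lit 346) (.node (nat_lit 345) (.leaf 345 8 [nat_lit 296, nat_lit 222, nat_lit 0, nat_lit 259, nat_lit 37, nat_lit 185, nat_lit 222, nat_lit 185, nat_lit 37, nat_lit 296])
(.leaf 495 13 [nat_lit 37, nat_lit 0, nat_lit 296, nat_lit 37, nat_lit 296, nat_lit 0, nat_lit 185, nat_lit 296, nat_lit 259, nat_lit 185, nat_lit 296, nat_lit 185, nat_lit 296, nat_lit 74]))
(.node (nat_lit 347) (.leaf 591 7 [nat_lit 37, nat_lit 0, nat_lit 185, nat_lit 74, nat_lit 0, nat_lit 185, nat_lit 148, nat_lit 0, nat_lit 37, nat_lit 0, nat_lit 185, nat_lit 74, nat_lit 0, nat_lit 148, nat_lit 185, nat_lit 148])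
(.leaf 459 8 [nat_lit 111, nat_lit 0, nat_lit 148, nat_lit 0, nat_lit 111, nat_lit 0, nat_lit 259, nat_lit 111, nat_lit 259, nat_lit 148, nat_lit 259, nat_lit 111, nat_lit 259])))
(.node (nat_lit 350) (.node (nat_lit 349) (.leaf 497 11 [nat_lit 111, nat_lit 0, nat_lit 37, nat_lit 0, nat_lit 296, nat_lit 222, nat_lit 111, nat_lit 259, nat_lit 111, nat_lit 222, nat_lit 296, nat_lit 0, nat_lit 111, nat_lit 37])
(.leaf 593 5 [nat_lit 259, nat_lit 185, nat_lit 296, nat_lit 222, nat_lit 185, nat_lit 296, nat_lit 37, nat_lit 74, nat_lit 185, nat_lit 0, nat_lit 37, nat_lit 0, nat_lit 222, nat_lit 0, nat_lit 296, nat_lit 37]))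
(.node (nat_lit 351) (.leaf 331 0 [nat_lit 148, nat_lit 259, nat_lit 222, nat_lit 185, nat_lit 259, nat_lit 185, nat_lit 222, nat_lit 148, nat_lit 0, nat_lit 148])
(.node (nat_lit 352) (.leaf 43 0 [nat_lit 259, nat_lit 0, nat_lit 222, nat_lit 0, nat_lit 259, nat_lit 0, nat_lit 222])
(.leaf 571 12 [nat_lit 111, nat_lit 37, nat_lit 111, nat_lit 0, nat_lit 148, nat_lit 185, nat_lit 37, nat_lit 74, nat_lit 185, nat_lit 37, nat_lit 185, nat_lit 74, nat_lit 37, nat_lit 185, nat_lit 148]))))))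
(.node (nat_lit 362) (.node (nat_lit 357) (.node (nat_lit 355) (.node (nat_lit 354) (.leaf 497 8 [nat_lit 111, nat_lit 37, nat_lit 0, nat_lit 111, nat_lit 0, nat_lit 37, nat_lit 0, nat_lit 296, nat_lit 222, nat_lit 111, nat_lit 259, nat_lit 111, nat_lit 222, nat_lit 296])
(.leaf 589 15 [nat_lit 37, nat_lit 0, nat_lit 185, nat_lit 111, nat_lit 37, nat_lit 111, nat_lit 37, nat_lit 185, nat_lit 37, nat_lit 0, nat_lit 37, nat_lit 148, nat_lit 37, nat_lit 111, nat_lit 37, nat_lit 148]))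
(.node (nat_lit 356) (.leaf 167 0 [nat_lit 259, nat_lit 185, nat_lit 259, nat_lit 185, nat_lit 259, nat_lit 0, nat_lit 185, nat_lit 259, nat_lit 185])
(.leaf 489 0 [nat_lit 148, nat_lit 0, nat_lit 111, nat_lit 0, nat_lit 148, nat_lit 37, nat_lit 185, nat_lit 111, nat_lit 185, nat_lit 0, nat_lit 111, nat_lit 37, nat_lit 0, nat_lit 37])))
(.node (nat_lit 359) (.node (nat_lit 358) (.leaf 625 0 [nat_lit 148, nat_lit 37, nat_lit 111, nat_lit 37, nat_lit 259, nat_lit 185, nat_lit 259, nat_lit 111, nat_lit 185, nat_lit 37, nat_lit 148, nat_lit 0, nat_lit 148, nat_lit 74, nat_lit 111, nat_lit 74, nat_lit 37])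
(.leaf 185 0 [nat_lit 296, nat_lit 259, nat_lit 296, nat_lit 37, nat_lit 259, nat_lit 37, nat_lit 296, nat_lit 0, nat_lit 296]))
(.node (nat_lit 360) (.leaf 583 6 [nat_lit 111, nat_lit 0, nat_lit 185, nat_lit 222, nat_lit 148, nat_lit 37, nat_lit 74, nat_lit 37, nat_lit 0, nat_lit 37, nat_lit 0, nat_lit 148, nat_lit 222, nat_lit 111, nat_lit 37, nat_lit 185])
(.node (nat_lit 361) (.leaf 333 0 [nat_lit 148, nat_lit 222, nat_lit 259, nat_lit 185, nat_lit 259, nat_lit 185, nat_lit 222, nat_lit 148, nat_lit 0, nat_lit 148])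
(.leaf 443 8 [nat_lit 111, nat_lit 185, nat_lit 0, nat_lit 111, nat_lit 37, nat_lit 0, nat_lit 185, nat_lit 74, nat_lit 259, nat_lit 148, nat_lit 74, nat_lit 148, nat_lit 259])))))
(.node (nat_lit 367) (.node (nat_lit 364) (.node (nat_lit 363) (.leaf 569 6 [nat_lit 111, nat_lit 0, nat_lit 259, nat_lit 111, nat_lit 259, nat_lit 296, nat_lit 148, nat_lit 0, nat_lit 111, nat_lit 0, nat_lit 259, nat_lit 111, nat_lit 259, nat_lit 148, nat_lit 296])
(.leaf 597 0 [nat_lit 259, nat_lit 74, nat_lit 111, nat_lit 148, nat_lit 222, nat_lit 0, nat_lit 222, nat_lit 148, nat_lit 185, nat_lit 259, nat_lit 111, nat_lit 185, nat_lit 74, nat_lit 37, nat_lit 111, nat_lit 37]))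
(.node (nat_lit 365) (.leaf 541 8 [nat_lit 37, nat_lit 0, nat_lit 74, nat_lit 296, nat_lit 74, nat_lit 0, nat_lit 37, nat_lit 0, nat_lit 296, nat_lit 222, nat_lit 37, nat_lit 296, nat_lit 222, nat_lit 37, nat_lit 296])
(.node (nat_lit 366) (.leaf 179 0 [nat_lit 296, nat_lit 259, nat_lit 296, nat_lit 0, nat_lit 222, nat_lit 296, nat_lit 259, nat_lit 296, nat_lit 222])
(.leaf 561 2 [nat_lit 185, nat_lit 37, nat_lit 74, nat_lit 185, nat_lit 296, nat_lit 185, nat_lit 0, nat_lit 222, nat_lit 0, nat_lit 185, nat_lit 296, nat_lit 37, nat_lit 74, nat_lit 0, nat_lit 222]))))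
(.node (nat_lit 370) (.node (nat_lit 368) (.leaf 591 0 [nat_lit 185, nat_lit 74, nat_lit 0, nat_lit 148, nat_lit 185, nat_lit 148, nat_lit 0, nat_lit 37, nat_lit 0, nat_lit 185, nat_lit 74, nat_lit 0, nat_lit 185, nat_lit 148, nat_lit 0, nat_lit 37])
(.node (nat_lit 369) (.leaf 185 8 [nat_lit 296, nat_lit 0, nat_lit 296, nat_lit 259, nat_lit 296, nat_lit 37, nat_lit 259, nat_lit 37, nat_lit 296])
(.leaf 125 2 [nat_lit 259, nat_lit 296, nat_lit 37, nat_lit 222, nat_lit 259, nat_lit 222, nat_lit 37, nat_lit 0, nat_lit 296])))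
(.node (nat_lit 371) (.leaf 541 0 [nat_lit 296, nat_lit 222, nat_lit 37, nat_lit 296, nat_lit 222, nat_lit 37, nat_lit 296, nat_lit 0, nat_lit 37, nat_lit 0, nat_lit 74, nat_lit 296, nat_lit 74, nat_lit 0, nat_lit 37])
(.node (nat_lit 372) (.leaf 603 7 [nat_lit 148, nat_lit 185, nat_lit 148, nat_lit 259, nat_lit 0, nat_lit 37, nat_lit 185, nat_lit 148, nat_lit 37, nat_lit 0, nat_lit 37, nat_lit 259, nat_lit 148, nat_lit 185, nat_lit 37, nat_lit 259])
(.leaf 347 8 [nat_lit 296, nat_lit 222, nat_lit 0, nat_lit 259, nat_lit 74, nat_lit 185, nat_lit 222, nat_lit 185, nat_lit 74, nat_lit 296])))))))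
(.node (nat_lit 400) (.node (nat_lit 385) (.node (nat_lit 379) (.node (nat_lit 376) (.node (nat_lit 374) (.leaf 565 4 [nat_lit 111, nat_lit 37, nat_lit 111, nat_lit 185, nat_lit 148, nat_lit 37, nat_lit 74, nat_lit 111, nat_lit 37, nat_lit 148, nat_lit 74, nat_lit 0, nat_lit 185, nat_lit 37, nat_lit 185])
(.node (nat_lit 375) (.leaf 183 2 [nat_lit 296, nat_lit 222, nat_lit 259, nat_lit 296, nat_lit 259, nat_lit 296, nat_lit 222, nat_lit 0, nat_lit 296])
(.leaf 463 12 [nat_lit 111, nat_lit 0, nat_lit 259, nat_lit 296, nat_lit 185, nat_lit 0, nat_lit 259, nat_lit 111, nat_lit 259, nat_lit 0, nat_lit 185, nat_lit 296, nat_lit 259])))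
(.node (nat_lit 377) (.leaf 517 0 [nat_lit 185, nat_lit 259, nat_lit 296, nat_lit 185, nat_lit 296, nat_lit 37, nat_lit 0, nat_lit 259, nat_lit 74, nat_lit 259, nat_lit 185, nat_lit 0, nat_lit 296, nat_lit 37])
(.node (nat_lit 378) (.leaf 587 13 [nat_lit 148, nat_lit 0, nat_lit 37, nat_lit 0, nat_lit 296, nat_lit 148, nat_lit 222, nat_lit 296, nat_lit 0, nat_lit 37, nat_lit 296, nat_lit 222, nat_lit 148, nat_lit 296, nat_lit 74, nat_lit 148])
(.leaf 553 8 [nat_lit 74, nat_lit 37, nat_lit 296, nat_lit 222, nat_lit 296, nat_lit 74, nat_lit 37, nat_lit 0, nat_lit 296, nat_lit 222, nat_lit 296, nat_lit 259, nat_lit 74, nat_lit 259, nat_lit 74]))))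
(.node (nat_lit 382) (.node (nat_lit 380) (.leaf 125 0 [nat_lit 296, nat_lit 0, nat_lit 259, nat_lit 296, nat_lit 37, nat_lit 222, nat_lit 259, nat_lit 222, nat_lit 37])
(.node (nat_lit 381) (.leaf 449 11 [nat_lit 296, nat_lit 37, nat_lit 0, nat_lit 296, nat_lit 0, nat_lit 37, nat_lit 296, nat_lit 0, nat_lit 74, nat_lit 37, nat_lit 296, nat_lit 37, nat_lit 74])
(.leaf 521 13 [nat_lit 74, nat_lit 0, nat_lit 296, nat_lit 222, nat_lit 111, nat_lit 259, nat_lit 74, nat_lit 0, nat_lit 111, nat_lit 222, nat_lit 148, nat_lit 296, nat_lit 148, nat_lit 259])))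
(.node (nat_lit 383) (.leaf 457 2 [nat_lit 74, nat_lit 296, nat_lit 222, nat_lit 37, nat_lit 296, nat_lit 222, nat_lit 296, nat_lit 222, nat_lit 37, nat_lit 296, nat_lit 74, nat_lit 0, nat_lit 222])
(.node (nat_lit 384) (.leaf 569 14 [nat_lit 111, nat_lit 0, nat_lit 259, nat_lit 111, nat_lit 259, nat_lit 148, nat_lit 296, nat_lit 0, nat_lit 111, nat_lit 0, nat_lit 259, nat_lit 111, nat_lit 259, nat_lit 296, nat_lit 148])
(.leaf 623 0 [nat_lit 111, nat_lit 185, nat_lit 148, nat_lit 74, nat_lit 148, nat_lit 185, nat_lit 37, nat_lit 111, nat_lit 74, nat_lit 111, nat_lit 74, nat_lit 0, nat_lit 111, nat_lit 185, nat_lit 37, nat_lit 0, nat_lit 37])))))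
(.node (nat_lit 392) (.node (nat_lit 388) (.node (nat_lit 386) (.leaf 325 9 [nat_lit 148, nat_lit 0, nat_lit 148, nat_lit 259, nat_lit 185, nat_lit 37, nat_lit 259, nat_lit 37, nat_lit 185, nat_lit 148])
(.node (nat_lit 387) (.leaf 545 0 [nat_lit 296, nat_lit 37, nat_lit 74, nat_lit 185, nat_lit 111, nat_lit 185, nat_lit 37, nat_lit 296, nat_lit 37, nat_lit 74, nat_lit 0, nat_lit 37, nat_lit 111, nat_lit 0, nat_lit 37])
(.leaf 121 6 [nat_lit 259, nat_lit 0, nat_lit 37, nat_lit 0, nat_lit 296, nat_lit 0, nat_lit 259, nat_lit 296, nat_lit 37])))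
(.node (nat_lit 390) (.node (nat_lit 389) (.leaf 325 0 [nat_lit 148, nat_lit 259, nat_lit 185, nat_lit 37, nat_lit 259, nat_lit 37, nat_lit 185, nat_lit 148, nat_lit 0, nat_lit 148])
(.leaf 543 8 [nat_lit 296, nat_lit 37, nat_lit 0, nat_lit 37, nat_lit 111, nat_lit 0, nat_lit 37, nat_lit 0, nat_lit 296, nat_lit 222, nat_lit 111, nat_lit 0, nat_lit 222, nat_lit 111, nat_lit 222]))
(.node (nat_lit 391) (.leaf 291 3 [nat_lit 296, nat_lit 37, nat_lit 259, nat_lit 185, nat_lit 222, nat_lit 185, nat_lit 37, nat_lit 0, nat_lit 222, nat_lit 296])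
(.leaf 177 0 [nat_lit 296, nat_lit 0, nat_lit 296, nat_lit 222, nat_lit 0, nat_lit 296, nat_lit 0, nat_lit 296, nat_lit 222]))))
(.node (nat_lit 396) (.node (nat_lit 394) (.node (nat_lit 393) (.leaf 605 11 [nat_lit 296, nat_lit 37, nat_lit 0, nat_lit 222, nat_lit 37, nat_lit 0, nat_lit 37, nat_lit 296, nat_lit 74, nat_lit 37, nat_lit 222, nat_lit 296, nat_lit 259, nat_lit 296, nat_lit 37, nat_lit 74])
(.leaf 313 0 [nat_lit 148, nat_lit 259, nat_lit 185, nat_lit 259, nat_lit 185, nat_lit 148, nat_lit 0, nat_lit 111, nat_lit 148, nat_lit 111]))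
(.node (nat_lit 395) (.leaf 319 9 [nat_lit 148, nat_lit 0, nat_lit 185, nat_lit 259, nat_lit 185, nat_lit 0, nat_lit 259, nat_lit 148, nat_lit 0, nat_lit 148])
(.leaf 587 0 [nat_lit 296, nat_lit 148, nat_lit 222, nat_lit 296, nat_lit 0, nat_lit 37, nat_lit 296, nat_lit 222, nat_lit 148, nat_lit 296, nat_lit 74, nat_lit 148, nat_lit 0, nat_lit 148, nat_lit 0, nat_lit 37])))
(.node (nat_lit 398) (.node (nat_lit 397) (.leaf 543 0 [nat_lit 296, nat_lit 222, nat_lit 111, nat_lit 0, nat_lit 222, nat_lit 111, nat_lit 222, nat_lit 0, nat_lit 296, nat_lit 37, nat_lit 0, nat_lit 37, nat_lit 111, nat_lit 0, nat_lit 37])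
(.leaf 493 0 [nat_lit 296, nat_lit 37, nat_lit 0, nat_lit 185, nat_lit 259, nat_lit 296, nat_lit 185, nat_lit 296, nat_lit 259, nat_lit 185, nat_lit 259, nat_lit 74, nat_lit 0, nat_lit 37]))
(.node (nat_lit 399) (.leaf 423 0 [nat_lit 296, nat_lit 0, nat_lit 296, nat_lit 185, nat_lit 74, nat_lit 0, nat_lit 37, nat_lit 185, nat_lit 74, nat_lit 259, nat_lit 0, nat_lit 37])
(.leaf 397 0 [nat_lit 148, nat_lit 259, nat_lit 148, nat_lit 259, nat_lit 148, nat_lit 0, nat_lit 148, nat_lit 259, nat_lit 148, nat_lit 259, nat_lit 148]))))))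
(.node (nat_lit 418) (.node (nat_lit 408) (.node (nat_lit 404) (.node (nat_lit 402) (.node (nat_lit 401) (.leaf 509 0 [nat_lit 259, nat_lit 185, nat_lit 259, nat_lit 111, nat_lit 0, nat_lit 148, nat_lit 185, nat_lit 37, nat_lit 148, nat_lit 185, nat_lit 74, nat_lit 111, nat_lit 148, nat_lit 37])
(.leaf 599 0 [nat_lit 148, nat_lit 0, nat_lit 185, nat_lit 148, nat_lit 0, nat_lit 148, nat_lit 222, nat_lit 74, nat_lit 185, nat_lit 222, nat_lit 148, nat_lit 222, nat_lit 185, nat_lit 222, nat_lit 111, nat_lit 37]))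
(.node (nat_lit 403) (.leaf 593 0 [nat_lit 222, nat_lit 0, nat_lit 296, nat_lit 37, nat_lit 0, nat_lit 259, nat_lit 185, nat_lit 296, nat_lit 222, nat_lit 185, nat_lit 296, nat_lit 37, nat_lit 74, nat_lit 185, nat_lit 0, nat_lit 37])
(.leaf 569 8 [nat_lit 259, nat_lit 111, nat_lit 259, nat_lit 296, nat_lit 148, nat_lit 0, nat_lit 111, nat_lit 0, nat_lit 259, nat_lit 111, nat_lit 259, nat_lit 148, nat_lit 296, nat_lit 0, nat_lit 111])))
(.node (nat_lit 406) (.node (nat_lit 405) (.leaf 135 8 [nat_lit 111, nat_lit 0, nat_lit 148, nat_lit 111, nat_lit 148, nat_lit 0, nat_lit 111, nat_lit 0, nat_lit 111])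
(.leaf 507 10 [nat_lit 111, nat_lit 259, nat_lit 111, nat_lit 37, nat_lit 0, nat_lit 185, nat_lit 148, nat_lit 74, nat_lit 296, nat_lit 148, nat_lit 296, nat_lit 259, nat_lit 74, nat_lit 185]))
(.node (nat_lit 407) (.leaf 529 0 [nat_lit 296, nat_lit 0, nat_lit 296, nat_lit 111, nat_lit 185, nat_lit 37, nat_lit 185, nat_lit 111, nat_lit 259, nat_lit 111, nat_lit 185, nat_lit 37, nat_lit 185, nat_lit 111])
(.leaf 471 0 [nat_lit 296, nat_lit 222, nat_lit 148, nat_lit 222, nat_lit 148, nat_lit 222, nat_lit 148, nat_lit 259, nat_lit 222, nat_lit 148, nat_lit 296, nat_lit 0, nat_lit 148]))))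
(.node (nat_lit 413) (.node (nat_lit 410) (.node (nat_lit 409) (.leaf 593 15 [nat_lit 37, nat_lit 0, nat_lit 222, nat_lit 0, nat_lit 296, nat_lit 37, nat_lit 0, nat_lit 259, nat_lit 185, nat_lit 296, nat_lit 222, nat_lit 185, nat_lit 296, nat_lit 37, nat_lit 74, nat_lit 185])
(.leaf 183 0 [nat_lit 296, nat_lit 0, nat_lit 296, nat_lit 222, nat_lit 259, nat_lit 296, nat_lit 259, nat_lit 296, nat_lit 222]))
(.node (nat_lit 411) (.leaf 293 3 [nat_lit 296, nat_lit 37, nat_lit 185, nat_lit 222, nat_lit 185, nat_lit 259, nat_lit 37, nat_lit 0, nat_lit 222, nat_lit 296])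
(.node (nat_lit 412) (.leaf 137 6 [nat_lit 111, nat_lit 0, nat_lit 111, nat_lit 0, nat_lit 296, nat_lit 111, nat_lit 296, nat_lit 0, nat_lit 111])
(.leaf 457 0 [nat_lit 222, nat_lit 0, nat_lit 74, nat_lit 296, nat_lit 222, nat_lit 37, nat_lit 296, nat_lit 222, nat_lit 296, nat_lit 222, nat_lit 37, nat_lit 296, nat_lit 74]))))
(.node (nat_lit 415) (.node (nat_lit 414) (.leaf 541 14 [nat_lit 37, nat_lit 0, nat_lit 296, nat_lit 222, nat_lit 37, nat_lit 296, nat_lit 222, nat_lit 37, nat_lit 296, nat_lit 0, nat_lit 37, nat_lit 0, nat_lit 74, nat_lit 296, nat_lit 74])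
(.leaf 587 15 [nat_lit 37, nat_lit 0, nat_lit 296, nat_lit 148, nat_lit 222, nat_lit 296, nat_lit 0, nat_lit 37, nat_lit 296, nat_lit 222, nat_lit 148, nat_lit 296, nat_lit 74, nat_lit 148, nat_lit 0, nat_lit 148]))
(.node (nat_lit 416) (.leaf 161 0 [nat_lit 259, nat_lit 148, nat_lit 296, nat_lit 148, nat_lit 0, nat_lit 259, nat_lit 148, nat_lit 296, nat_lit 148])
(.node (nat_lit 417) (.leaf 611 0 [nat_lit 148, nat_lit 259, nat_lit 148, nat_lit 259, nat_lit 148, nat_lit 185, nat_lit 111, nat_lit 259, nat_lit 111, nat_lit 185, nat_lit 222, nat_lit 74, nat_lit 185, nat_lit 222, nat_lit 185, nat_lit 74])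
(.leaf 613 9 [nat_lit 222, nat_lit 111, nat_lit 222, nat_lit 111, nat_lit 222, nat_lit 111, nat_lit 222, nat_lit 0, nat_lit 296, nat_lit 74, nat_lit 259, nat_lit 37, nat_lit 74, nat_lit 37, nat_lit 296, nat_lit 222]))))))
(.node (nat_lit 429) (.node (nat_lit 423) (.node (nat_lit 420) (.node (nat_lit 419) (.leaf 593 2 [nat_lit 296, nat_lit 37, nat_lit 0, nat_lit 259, nat_lit 185, nat_lit 296, nat_lit 222, nat_lit 185, nat_lit 296, nat_lit 37, nat_lit 74, nat_lit 185, nat_lit 0, nat_lit 37, nat_lit 0, nat_lit 222])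
(.leaf 327 0 [nat_lit 148, nat_lit 259, nat_lit 185, nat_lit 222, nat_lit 259, nat_lit 222, nat_lit 185, nat_lit 148, nat_lit 0, nat_lit 148]))
(.node (nat_lit 421) (.leaf 495 0 [nat_lit 296, nat_lit 37, nat_lit 296, nat_lit 0, nat_lit 185, nat_lit 296, nat_lit 259, nat_lit 185, nat_lit 296, nat_lit 185, nat_lit 296, nat_lit 74, nat_lit 0, nat_lit 37])
(.node (nat_lit 422) (.leaf 143 6 [nat_lit 111, nat_lit 222, nat_lit 111, nat_lit 0, nat_lit 148, nat_lit 111, nat_lit 148, nat_lit 222, nat_lit 111])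
(.leaf 561 0 [nat_lit 222, nat_lit 0, nat_lit 185, nat_lit 37, nat_lit 74, nat_lit 185, nat_lit 296, nat_lit 185, nat_lit 0, nat_lit 222, nat_lit 0, nat_lit 185, nat_lit 296, nat_lit 37, nat_lit 74]))))
(.node (nat_lit 425) (.node (nat_lit 424) (.leaf 321 0 [nat_lit 148, nat_lit 185, nat_lit 259, nat_lit 185, nat_lit 37, nat_lit 259, nat_lit 37, nat_lit 148, nat_lit 0, nat_lit 148])
(.leaf 137 8 [nat_lit 111, nat_lit 0, nat_lit 296, nat_lit 111, nat_lit 296, nat_lit 0, nat_lit 111, nat_lit 0, nat_lit 111]))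
(.node (nat_lit 427) (.node (nat_lit 426) (.leaf 463 4 [nat_lit 259, nat_lit 111, nat_lit 259, nat_lit 0, nat_lit 185, nat_lit 296, nat_lit 259, nat_lit 0, nat_lit 111, nat_lit 0, nat_lit 259, nat_lit 296, nat_lit 185])
(.leaf 121 0 [nat_lit 296, nat_lit 0, nat_lit 259, nat_lit 296, nat_lit 37, nat_lit 0, nat_lit 259, nat_lit 0, nat_lit 37]))
(.node (nat_lit 428) (.leaf 469 0 [nat_lit 296, nat_lit 222, nat_lit 111, nat_lit 259, nat_lit 222, nat_lit 111, nat_lit 259, nat_lit 222, nat_lit 296, nat_lit 222, nat_lit 0, nat_lit 222, nat_lit 111])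
(.leaf 157 0 [nat_lit 296, nat_lit 148, nat_lit 259, nat_lit 148, nat_lit 259, nat_lit 0, nat_lit 296, nat_lit 259, nat_lit 148])))))
(.node (nat_lit 437) (.node (nat_lit 433) (.node (nat_lit 431) (.node (nat_lit 430) (.leaf 47 2 [nat_lit 259, nat_lit 296, nat_lit 222, nat_lit 259, nat_lit 222, nat_lit 0, nat_lit 296])
(.leaf 323 9 [nat_lit 148, nat_lit 0, nat_lit 148, nat_lit 259, nat_lit 185, nat_lit 0, nat_lit 259, nat_lit 0, nat_lit 185, nat_lit 148]))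
(.node (nat_lit 432) (.leaf 613 0 [nat_lit 296, nat_lit 74, nat_lit 259, nat_lit 37, nat_lit 74, nat_lit 37, nat_lit 296, nat_lit 222, nat_lit 0, nat_lit 222, nat_lit 111, nat_lit 222, nat_lit 111, nat_lit 222, nat_lit 111, nat_lit 222])
(.leaf 303 4 [nat_lit 296, nat_lit 74, nat_lit 185, nat_lit 222, nat_lit 185, nat_lit 74, nat_lit 0, nat_lit 222, nat_lit 259, nat_lit 296])))
(.node (nat_lit 435) (.node (nat_lit 434) (.leaf 147 0 [nat_lit 111, nat_lit 259, nat_lit 222, nat_lit 259, nat_lit 111, nat_lit 0, nat_lit 111, nat_lit 222, nat_lit 111])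
(.leaf 171 2 [nat_lit 259, nat_lit 296, nat_lit 222, nat_lit 0, nat_lit 259, nat_lit 0, nat_lit 222, nat_lit 0, nat_lit 296]))
(.node (nat_lit 436) (.leaf 339 0 [nat_lit 148, nat_lit 259, nat_lit 0, nat_lit 259, nat_lit 148, nat_lit 259, nat_lit 185, nat_lit 259, nat_lit 185, nat_lit 148])
(.leaf 513 0 [nat_lit 259, nat_lit 111, nat_lit 74, nat_lit 259, nat_lit 111, nat_lit 185, nat_lit 74, nat_lit 37, nat_lit 296, nat_lit 148, nat_lit 296, nat_lit 148, nat_lit 185, nat_lit 37]))))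
(.node (nat_lit 441) (.node (nat_lit 439) (.node (nat_lit 438) (.leaf 171 6 [nat_lit 259, nat_lit 0, nat_lit 222, nat_lit 0, nat_lit 296, nat_lit 0, nat_lit 259, nat_lit 296, nat_lit 222])
(.leaf 541 10 [nat_lit 74, nat_lit 296, nat_lit 74, nat_lit 0, nat_lit 37, nat_lit 0, nat_lit 296, nat_lit 222, nat_lit 37, nat_lit 296, nat_lit 222, nat_lit 37, nat_lit 296, nat_lit 0, nat_lit 37]))
(.node (nat_lit 440) (.leaf 329 0 [nat_lit 148, nat_lit 222, nat_lit 259, nat_lit 222, nat_lit 185, nat_lit 259, nat_lit 185, nat_lit 148, nat_lit 0, nat_lit 148])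
(.leaf 329 9 [nat_lit 148, nat_lit 0, nat_lit 148, nat_lit 222, nat_lit 259, nat_lit 222, nat_lit 185, nat_lit 259, nat_lit 185, nat_lit 148])))
(.node (nat_lit 445) (.node (nat_lit 443) (.node (nat_lit 442) (.leaf 137 4 [nat_lit 111, nat_lit 0, nat_lit 111, nat_lit 0, nat_lit 111, nat_lit 0, nat_lit 296, nat_lit 111, nat_lit 296])
(.leaf 575 4 [nat_lit 111, nat_lit 259, nat_lit 296, nat_lit 222, nat_lit 296, nat_lit 74, nat_lit 296, nat_lit 222, nat_lit 296, nat_lit 259, nat_lit 111, nat_lit 0, nat_lit 148, nat_lit 74, nat_lit 148]))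
(.node (nat_lit 444) (.leaf 323 0 [nat_lit 148, nat_lit 259, nat_lit 185, nat_lit 0, nat_lit 259, nat_lit 0, nat_lit 185, nat_lit 148, nat_lit 0, nat_lit 148])
(.leaf 147 6 [nat_lit 111, nat_lit 222, nat_lit 111, nat_lit 0, nat_lit 111, nat_lit 259, nat_lit 222, nat_lit 259, nat_lit 111])))
(.node (nat_lit 447) (.node (nat_lit 446) (.leaf 327 9 [nat_lit 148, nat_lit 0, nat_lit 148, nat_lit 259, nat_lit 185, nat_lit 222, nat_lit 259, nat_lit 222, nat_lit 185, nat_lit 148])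
(.leaf 569 0 [nat_lit 259, nat_lit 111, nat_lit 259, nat_lit 148, nat_lit 296, nat_lit 0, nat_lit 111, nat_lit 0, nat_lit 259, nat_lit 111, nat_lit 259, nat_lit 296, nat_lit 148, nat_lit 0, nat_lit 111]))
(.node (nat_lit 448) (.leaf 145 6 [nat_lit 111, nat_lit 222, nat_lit 111, nat_lit 0, nat_lit 296, nat_lit 111, nat_lit 296, nat_lit 222, nat_lit 111])
(.leaf 631 15 [nat_lit 222, nat_lit 37, nat_lit 0, nat_lit 185, nat_lit 222, nat_lit 148, nat_lit 185, nat_lit 148, nat_lit 0, nat_lit 74, nat_lit 148, nat_lit 37, nat_lit 222, nat_lit 185, nat_lit 0, nat_lit 222, nat_lit 148]))))))))))))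
(.leaf 0 0 []))))
noncomputable def wt1 : LT := (.node (nat_lit 12) (.node (nat_lit 2) (.node (nat_lit 0) (.leaf 3 0 [nat_lit 222, nat_lit 37, nat_lit 222])
(.node (nat_lit 1) (.leaf 5 0 [nat_lit 259, nat_lit 37, nat_lit 259])
(.leaf 69 0 [nat_lit 148, nat_lit 37, nat_lit 148, nat_lit 37, nat_lit 148, nat_lit 37, nat_lit 148])))
(.node (nat_lit 5) (.node (nat_lit 3) (.leaf 141 7 [nat_lit 185, nat_lit 111, nat_lit 0, nat_lit 185, nat_lit 37, nat_lit 185, nat_lit 111, nat_lit 0, nat_lit 185])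
(.node (nat_lit 4) (.leaf 55 0 [nat_lit 74, nat_lit 37, nat_lit 74, nat_lit 37, nat_lit 74, nat_lit 37, nat_lit 74])
(.leaf 25 7 [nat_lit 0, nat_lit 259, nat_lit 0, nat_lit 37, nat_lit 0, nat_lit 259, nat_lit 0])))
(.node (nat_lit 7) (.node (nat_lit 6) (.leaf 185 6 [nat_lit 296, nat_lit 0, nat_lit 296, nat_lit 0, nat_lit 296, nat_lit 259, nat_lit 296, nat_lit 37, nat_lit 259])
(.leaf 57 0 [nat_lit 111, nat_lit 259, nat_lit 74, nat_lit 259, nat_lit 111, nat_lit 37, nat_lit 74]))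
(.node (nat_lit 9) (.node (nat_lit 8) (.leaf 67 0 [nat_lit 111, nat_lit 37, nat_lit 111, nat_lit 37, nat_lit 111, nat_lit 37, nat_lit 111])
(.leaf 57 6 [nat_lit 74, nat_lit 37, nat_lit 111, nat_lit 259, nat_lit 74, nat_lit 259, nat_lit 111]))
(.node (nat_lit 10) (.leaf 199 0 [nat_lit 296, nat_lit 111, nat_lit 296, nat_lit 259, nat_lit 74, nat_lit 259, nat_lit 111, nat_lit 37, nat_lit 74])
(.node (nat_lit 11) (.leaf 203 0 [nat_lit 185, nat_lit 222, nat_lit 185, nat_lit 37, nat_lit 74, nat_lit 185, nat_lit 222, nat_lit 185, nat_lit 74])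
(.leaf 207 5 [nat_lit 185, nat_lit 259, nat_lit 222, nat_lit 74, nat_lit 37, nat_lit 185, nat_lit 222, nat_lit 259, nat_lit 74])))))))
(.node (nat_lit 119) (.node (nat_lit 34) (.node (nat_lit 20) (.node (nat_lit 15) (.node (nat_lit 13) (.leaf 59 6 [nat_lit 74, nat_lit 37, nat_lit 222, nat_lit 37, nat_lit 74, nat_lit 37, nat_lit 222])
(.node (nat_lit 14) (.leaf 123 9 [nat_lit 0, nat_lit 74, nat_lit 259, nat_lit 185, nat_lit 37, nat_lit 0, nat_lit 74, nat_lit 259, nat_lit 185])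
(.leaf 227 0 [nat_lit 296, nat_lit 222, nat_lit 296, nat_lit 222, nat_lit 296, nat_lit 222, nat_lit 296, nat_lit 37, nat_lit 222])))
(.node (nat_lit 17) (.node (nat_lit 16) (.leaf 197 0 [nat_lit 148, nat_lit 111, nat_lit 148, nat_lit 259, nat_lit 74, nat_lit 259, nat_lit 111, nat_lit 37, nat_lit 74])
(.leaf 369 11 [nat_lit 0, nat_lit 74, nat_lit 37, nat_lit 185, nat_lit 37, nat_lit 0, nat_lit 37, nat_lit 185, nat_lit 37, nat_lit 74, nat_lit 0]))
(.node (nat_lit 18) (.leaf 225 0 [nat_lit 296, nat_lit 111, nat_lit 296, nat_lit 37, nat_lit 111, nat_lit 37, nat_lit 111, nat_lit 37, nat_lit 111])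
(.node (nat_lit 19) (.leaf 223 0 [nat_lit 148, nat_lit 111, nat_lit 148, nat_lit 37, nat_lit 111, nat_lit 37, nat_lit 111, nat_lit 37, nat_lit 111])
(.leaf 375 11 [nat_lit 0, nat_lit 185, nat_lit 37, nat_lit 74, nat_lit 37, nat_lit 0, nat_lit 37, nat_lit 74, nat_lit 37, nat_lit 185, nat_lit 0])))))
(.node (nat_lit 26) (.node (nat_lit 23) (.node (nat_lit 21) (.leaf 371 11 [nat_lit 0, nat_lit 222, nat_lit 185, nat_lit 222, nat_lit 185, nat_lit 111, nat_lit 37, nat_lit 0, nat_lit 37, nat_lit 111, nat_lit 0])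
(.node (nat_lit 22) (.leaf 383 9 [nat_lit 296, nat_lit 74, nat_lit 0, nat_lit 222, nat_lit 0, nat_lit 74, nat_lit 296, nat_lit 37, nat_lit 296, nat_lit 222, nat_lit 296])
(.leaf 381 9 [nat_lit 296, nat_lit 37, nat_lit 0, nat_lit 74, nat_lit 0, nat_lit 37, nat_lit 296, nat_lit 37, nat_lit 0, nat_lit 74, nat_lit 0])))
(.node (nat_lit 24) (.leaf 389 10 [nat_lit 111, nat_lit 0, nat_lit 222, nat_lit 0, nat_lit 111, nat_lit 37, nat_lit 111, nat_lit 0, nat_lit 222, nat_lit 0, nat_lit 111])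
(.node (nat_lit 25) (.leaf 509 8 [nat_lit 148, nat_lit 185, nat_lit 74, nat_lit 111, nat_lit 148, nat_lit 37, nat_lit 0, nat_lit 259, nat_lit 185, nat_lit 259, nat_lit 111, nat_lit 0, nat_lit 148, nat_lit 185])
(.leaf 231 0 [nat_lit 296, nat_lit 222, nat_lit 296, nat_lit 259, nat_lit 296, nat_lit 222, nat_lit 296, nat_lit 37, nat_lit 259]))))
(.node (nat_lit 30) (.node (nat_lit 28) (.node (nat_lit 27) (.leaf 27 7 [nat_lit 0, nat_lit 37, nat_lit 259, nat_lit 37, nat_lit 0, nat_lit 37, nat_lit 259])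
(.leaf 349 0 [nat_lit 148, nat_lit 37, nat_lit 296, nat_lit 74, nat_lit 296, nat_lit 74, nat_lit 37, nat_lit 148, nat_lit 37, nat_lit 74]))
(.node (nat_lit 29) (.leaf 279 10 [nat_lit 0, nat_lit 74, nat_lit 185, nat_lit 296, nat_lit 259, nat_lit 296, nat_lit 37, nat_lit 0, nat_lit 74, nat_lit 185])
(.leaf 373 11 [nat_lit 0, nat_lit 148, nat_lit 259, nat_lit 148, nat_lit 0, nat_lit 37, nat_lit 0, nat_lit 148, nat_lit 259, nat_lit 148, nat_lit 0])))
(.node (nat_lit 32) (.node (nat_lit 31) (.leaf 349 7 [nat_lit 148, nat_lit 37, nat_lit 74, nat_lit 37, nat_lit 148, nat_lit 37, nat_lit 296, nat_lit 74, nat_lit 296, nat_lit 74])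
(.leaf 191 6 [nat_lit 111, nat_lit 37, nat_lit 74, nat_lit 37, nat_lit 111, nat_lit 259, nat_lit 74, nat_lit 37, nat_lit 259]))
(.node (nat_lit 33) (.leaf 371 8 [nat_lit 111, nat_lit 0, nat_lit 37, nat_lit 0, nat_lit 222, nat_lit 185, nat_lit 222, nat_lit 185, nat_lit 111, nat_lit 37, nat_lit 0])
(.leaf 351 7 [nat_lit 111, nat_lit 259, nat_lit 111, nat_lit 37, nat_lit 259, nat_lit 222, nat_lit 111, nat_lit 259, nat_lit 111, nat_lit 222]))))))
(.node (nat_lit 61) (.node (nat_lit 45) (.node (nat_lit 39) (.node (nat_lit 36) (.node (nat_lit 35) (.leaf 279 6 [nat_lit 0, nat_lit 74, nat_lit 185, nat_lit 37, nat_lit 0, nat_lit 74, nat_lit 185, nat_lit 296, nat_lit 259, nat_lit 296])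
(.leaf 411 0 [nat_lit 296, nat_lit 259, nat_lit 148, nat_lit 259, nat_lit 296, nat_lit 37, nat_lit 296, nat_lit 259, nat_lit 148, nat_lit 259, nat_lit 296]))
(.node (nat_lit 37) (.leaf 349 2 [nat_lit 296, nat_lit 74, nat_lit 296, nat_lit 74, nat_lit 37, nat_lit 148, nat_lit 37, nat_lit 74, nat_lit 37, nat_lit 148])
(.node (nat_lit 38) (.leaf 369 6 [nat_lit 185, nat_lit 37, nat_lit 74, nat_lit 0, nat_lit 37, nat_lit 0, nat_lit 74, nat_lit 37, nat_lit 185, nat_lit 37, nat_lit 0])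
(.leaf 29 7 [nat_lit 0, nat_lit 296, nat_lit 0, nat_lit 259, nat_lit 296, nat_lit 37, nat_lit 259]))))
(.node (nat_lit 42) (.node (nat_lit 40) (.leaf 379 3 [nat_lit 185, nat_lit 148, nat_lit 74, nat_lit 148, nat_lit 0, nat_lit 111, nat_lit 185, nat_lit 37, nat_lit 0, nat_lit 111, nat_lit 185])
(.node (nat_lit 41) (.leaf 321 7 [nat_lit 148, nat_lit 0, nat_lit 148, nat_lit 0, nat_lit 148, nat_lit 185, nat_lit 259, nat_lit 185, nat_lit 37, nat_lit 259])
(.leaf 425 7 [nat_lit 148, nat_lit 74, nat_lit 148, nat_lit 74, nat_lit 37, nat_lit 0, nat_lit 259, nat_lit 111, nat_lit 74, nat_lit 111, nat_lit 259, nat_lit 0])))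
(.node (nat_lit 43) (.leaf 371 6 [nat_lit 0, nat_lit 37, nat_lit 111, nat_lit 0, nat_lit 37, nat_lit 0, nat_lit 222, nat_lit 185, nat_lit 222, nat_lit 185, nat_lit 111])
(.node (nat_lit 44) (.leaf 63 0 [nat_lit 74, nat_lit 259, nat_lit 74, nat_lit 37, nat_lit 74, nat_lit 259, nat_lit 74])
(.leaf 349 9 [nat_lit 74, nat_lit 37, nat_lit 148, nat_lit 37, nat_lit 296, nat_lit 74, nat_lit 296, nat_lit 74, nat_lit 37, nat_lit 148])))))
(.node (nat_lit 53) (.node (nat_lit 49) (.node (nat_lit 47) (.node (nat_lit 46) (.leaf 453 4 [nat_lit 185, nat_lit 148, nat_lit 185, nat_lit 0, nat_lit 74, nat_lit 148, nat_lit 0, nat_lit 148, nat_lit 74, nat_lit 0, nat_lit 185, nat_lit 148, nat_lit 185])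
(.leaf 325 6 [nat_lit 185, nat_lit 148, nat_lit 0, nat_lit 148, nat_lit 0, nat_lit 148, nat_lit 259, nat_lit 185, nat_lit 37, nat_lit 259]))
(.node (nat_lit 48) (.leaf 209 5 [nat_lit 185, nat_lit 259, nat_lit 222, nat_lit 74, nat_lit 37, nat_lit 185, nat_lit 259, nat_lit 74, nat_lit 222])
(.leaf 409 0 [nat_lit 296, nat_lit 185, nat_lit 296, nat_lit 37, nat_lit 185, nat_lit 37, nat_lit 296, nat_lit 185, nat_lit 296, nat_lit 37, nat_lit 185])))
(.node (nat_lit 51) (.node (nat_lit 50) (.leaf 203 4 [nat_lit 74, nat_lit 185, nat_lit 222, nat_lit 185, nat_lit 74, nat_lit 37, nat_lit 185, nat_lit 222, nat_lit 185])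
(.leaf 383 5 [nat_lit 296, nat_lit 222, nat_lit 296, nat_lit 37, nat_lit 296, nat_lit 74, nat_lit 0, nat_lit 222, nat_lit 0, nat_lit 74, nat_lit 296]))
(.node (nat_lit 52) (.leaf 479 0 [nat_lit 296, nat_lit 185, nat_lit 259, nat_lit 296, nat_lit 74, nat_lit 222, nat_lit 37, nat_lit 296, nat_lit 259, nat_lit 222, nat_lit 185, nat_lit 296, nat_lit 74])
(.leaf 229 0 [nat_lit 296, nat_lit 259, nat_lit 296, nat_lit 222, nat_lit 296, nat_lit 259, nat_lit 296, nat_lit 37, nat_lit 222]))))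
(.node (nat_lit 57) (.node (nat_lit 55) (.node (nat_lit 54) (.leaf 481 8 [nat_lit 296, nat_lit 111, nat_lit 185, nat_lit 296, nat_lit 111, nat_lit 37, nat_lit 296, nat_lit 37, nat_lit 222, nat_lit 185, nat_lit 222, nat_lit 37, nat_lit 296])
(.leaf 437 11 [nat_lit 148, nat_lit 37, nat_lit 296, nat_lit 148, nat_lit 296, nat_lit 37, nat_lit 148, nat_lit 37, nat_lit 296, nat_lit 148, nat_lit 296, nat_lit 148]))
(.node (nat_lit 56) (.leaf 207 0 [nat_lit 185, nat_lit 222, nat_lit 259, nat_lit 74, nat_lit 37, nat_lit 185, nat_lit 259, nat_lit 222, nat_lit 74])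
(.leaf 549 11 [nat_lit 185, nat_lit 148, nat_lit 0, nat_lit 37, nat_lit 0, nat_lit 185, nat_lit 296, nat_lit 74, nat_lit 296, nat_lit 259, nat_lit 185, nat_lit 259, nat_lit 148, nat_lit 185, nat_lit 148])))
(.node (nat_lit 59) (.node (nat_lit 58) (.leaf 409 10 [nat_lit 185, nat_lit 37, nat_lit 296, nat_lit 185, nat_lit 296, nat_lit 37, nat_lit 185, nat_lit 37, nat_lit 296, nat_lit 185, nat_lit 296])
(.leaf 447 11 [nat_lit 111, nat_lit 37, nat_lit 0, nat_lit 111, nat_lit 0, nat_lit 148, nat_lit 259, nat_lit 185, nat_lit 111, nat_lit 185, nat_lit 111, nat_lit 259, nat_lit 148]))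
(.node (nat_lit 60) (.leaf 439 2 [nat_lit 148, nat_lit 0, nat_lit 37, nat_lit 0, nat_lit 37, nat_lit 148, nat_lit 37, nat_lit 148, nat_lit 37, nat_lit 0, nat_lit 37, nat_lit 0, nat_lit 148])
(.leaf 281 10 [nat_lit 0, nat_lit 296, nat_lit 259, nat_lit 296, nat_lit 222, nat_lit 0, nat_lit 37, nat_lit 185, nat_lit 222, nat_lit 185]))))))
(.node (nat_lit 83) (.node (nat_lit 71) (.node (nat_lit 66) (.node (nat_lit 63) (.node (nat_lit 62) (.leaf 381 11 [nat_lit 0, nat_lit 74, nat_lit 0, nat_lit 37, nat_lit 296, nat_lit 37, nat_lit 0, nat_lit 74, nat_lit 0, nat_lit 37, nat_lit 296])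
(.leaf 345 6 [nat_lit 296, nat_lit 0, nat_lit 296, nat_lit 222, nat_lit 0, nat_lit 259, nat_lit 37, nat_lit 185, nat_lit 222, nat_lit 185]))
(.node (nat_lit 64) (.leaf 629 5 [nat_lit 148, nat_lit 185, nat_lit 37, nat_lit 148, nat_lit 259, nat_lit 37, nat_lit 185, nat_lit 259, nat_lit 37, nat_lit 74, nat_lit 148, nat_lit 37, nat_lit 0, nat_lit 111, nat_lit 185, nat_lit 111, nat_lit 148])
(.node (nat_lit 65) (.leaf 511 2 [nat_lit 185, nat_lit 0, nat_lit 74, nat_lit 111, nat_lit 74, nat_lit 148, nat_lit 0, nat_lit 74, nat_lit 0, nat_lit 148, nat_lit 185, nat_lit 37, nat_lit 0, nat_lit 111])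
(.leaf 555 4 [nat_lit 74, nat_lit 185, nat_lit 0, nat_lit 148, nat_lit 222, nat_lit 0, nat_lit 222, nat_lit 148, nat_lit 74, nat_lit 111, nat_lit 37, nat_lit 0, nat_lit 74, nat_lit 0, nat_lit 185]))))
(.node (nat_lit 68) (.node (nat_lit 67) (.leaf 481 0 [nat_lit 296, nat_lit 37, nat_lit 222, nat_lit 185, nat_lit 222, nat_lit 37, nat_lit 296, nat_lit 37, nat_lit 296, nat_lit 111, nat_lit 185, nat_lit 296, nat_lit 111])
(.leaf 281 6 [nat_lit 185, nat_lit 222, nat_lit 185, nat_lit 37, nat_lit 0, nat_lit 296, nat_lit 259, nat_lit 296, nat_lit 222, nat_lit 0]))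
(.node (nat_lit 69) (.leaf 487 8 [nat_lit 148, nat_lit 0, nat_lit 111, nat_lit 37, nat_lit 0, nat_lit 37, nat_lit 0, nat_lit 74, nat_lit 111, nat_lit 74, nat_lit 37, nat_lit 148, nat_lit 37, nat_lit 111])
(.node (nat_lit 70) (.leaf 369 8 [nat_lit 74, nat_lit 0, nat_lit 37, nat_lit 0, nat_lit 74, nat_lit 37, nat_lit 185, nat_lit 37, nat_lit 0, nat_lit 37, nat_lit 185])
(.leaf 547 4 [nat_lit 148, nat_lit 74, nat_lit 148, nat_lit 111, nat_lit 222, nat_lit 0, nat_lit 74, nat_lit 0, nat_lit 148, nat_lit 0, nat_lit 37, nat_lit 0, nat_lit 148, nat_lit 222, nat_lit 111])))))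
(.node (nat_lit 77) (.node (nat_lit 74) (.node (nat_lit 72) (.leaf 527 2 [nat_lit 148, nat_lit 185, nat_lit 74, nat_lit 148, nat_lit 185, nat_lit 148, nat_lit 111, nat_lit 74, nat_lit 111, nat_lit 185, nat_lit 74, nat_lit 111, nat_lit 0, nat_lit 148])
(.node (nat_lit 73) (.leaf 379 11 [nat_lit 0, nat_lit 111, nat_lit 185, nat_lit 37, nat_lit 185, nat_lit 148, nat_lit 74, nat_lit 148, nat_lit 0, nat_lit 111, nat_lit 185])
(.leaf 405 7 [nat_lit 296, nat_lit 185, nat_lit 296, nat_lit 74, nat_lit 37, nat_lit 259, nat_lit 296, nat_lit 185, nat_lit 296, nat_lit 74, nat_lit 259])))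
(.node (nat_lit 75) (.leaf 369 4 [nat_lit 0, nat_lit 37, nat_lit 185, nat_lit 37, nat_lit 74, nat_lit 0, nat_lit 37, nat_lit 0, nat_lit 74, nat_lit 37, nat_lit 185])
(.node (nat_lit 76) (.leaf 561 4 [nat_lit 74, nat_lit 185, nat_lit 296, nat_lit 185, nat_lit 0, nat_lit 222, nat_lit 0, nat_lit 185, nat_lit 296, nat_lit 37, nat_lit 74, nat_lit 0, nat_lit 222, nat_lit 0, nat_lit 185])
(.leaf 65 2 [nat_lit 74, nat_lit 259, nat_lit 222, nat_lit 259, nat_lit 74, nat_lit 37, nat_lit 222]))))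
(.node (nat_lit 80) (.node (nat_lit 78) (.leaf 369 2 [nat_lit 185, nat_lit 37, nat_lit 0, nat_lit 37, nat_lit 185, nat_lit 37, nat_lit 74, nat_lit 0, nat_lit 37, nat_lit 0, nat_lit 74])
(.node (nat_lit 79) (.leaf 435 5 [nat_lit 185, nat_lit 37, nat_lit 74, nat_lit 296, nat_lit 222, nat_lit 0, nat_lit 222, nat_lit 0, nat_lit 296, nat_lit 185, nat_lit 259, nat_lit 74])
(.leaf 457 11 [nat_lit 296, nat_lit 74, nat_lit 0, nat_lit 222, nat_lit 0, nat_lit 74, nat_lit 296, nat_lit 222, nat_lit 37, nat_lit 296, nat_lit 222, nat_lit 296, nat_lit 222])))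
(.node (nat_lit 81) (.leaf 193 0 [nat_lit 111, nat_lit 74, nat_lit 259, nat_lit 74, nat_lit 259, nat_lit 74, nat_lit 111, nat_lit 37, nat_lit 74])
(.node (nat_lit 82) (.leaf 441 13 [nat_lit 0, nat_lit 296, nat_lit 148, nat_lit 296, nat_lit 0, nat_lit 37, nat_lit 296, nat_lit 74, nat_lit 148, nat_lit 259, nat_lit 296, nat_lit 148, nat_lit 74])
(.leaf 437 4 [nat_lit 148, nat_lit 37, nat_lit 296, nat_lit 148, nat_lit 296, nat_lit 148, nat_lit 37, nat_lit 148, nat_lit 37, nat_lit 296, nat_lit 148, nat_lit 296]))))))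
(.node (nat_lit 99) (.node (nat_lit 91) (.node (nat_lit 87) (.node (nat_lit 85) (.node (nat_lit 84) (.leaf 547 15 [nat_lit 0, nat_lit 148, nat_lit 222, nat_lit 111, nat_lit 37, nat_lit 148, nat_lit 74, nat_lit 148, nat_lit 111, nat_lit 222, nat_lit 0, nat_lit 74, nat_lit 0, nat_lit 148, nat_lit 0])
(.leaf 505 8 [nat_lit 148, nat_lit 111, nat_lit 37, nat_lit 0, nat_lit 111, nat_lit 37, nat_lit 0, nat_lit 111, nat_lit 37, nat_lit 148, nat_lit 37, nat_lit 148, nat_lit 0, nat_lit 148]))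
(.node (nat_lit 86) (.leaf 195 8 [nat_lit 74, nat_lit 37, nat_lit 111, nat_lit 222, nat_lit 259, nat_lit 74, nat_lit 259, nat_lit 222, nat_lit 111])
(.leaf 195 0 [nat_lit 111, nat_lit 222, nat_lit 259, nat_lit 74, nat_lit 259, nat_lit 222, nat_lit 111, nat_lit 37, nat_lit 74])))
(.node (nat_lit 89) (.node (nat_lit 88) (.leaf 487 6 [nat_lit 111, nat_lit 37, nat_lit 148, nat_lit 0, nat_lit 111, nat_lit 37, nat_lit 0, nat_lit 37, nat_lit 0, nat_lit 74, nat_lit 111, nat_lit 74, nat_lit 37, nat_lit 148])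
(.leaf 439 9 [nat_lit 148, nat_lit 37, nat_lit 0, nat_lit 37, nat_lit 0, nat_lit 148, nat_lit 37, nat_lit 148, nat_lit 0, nat_lit 37, nat_lit 0, nat_lit 37, nat_lit 148]))
(.node (nat_lit 90) (.leaf 449 9 [nat_lit 74, nat_lit 0, nat_lit 296, nat_lit 37, nat_lit 0, nat_lit 296, nat_lit 0, nat_lit 37, nat_lit 296, nat_lit 0, nat_lit 74, nat_lit 37, nat_lit 296])
(.leaf 121 5 [nat_lit 0, nat_lit 259, nat_lit 0, nat_lit 37, nat_lit 0, nat_lit 296, nat_lit 0, nat_lit 259, nat_lit 296]))))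
(.node (nat_lit 95) (.node (nat_lit 93) (.node (nat_lit 92) (.leaf 601 1 [nat_lit 148, nat_lit 222, nat_lit 111, nat_lit 296, nat_lit 37, nat_lit 222, nat_lit 111, nat_lit 222, nat_lit 74, nat_lit 37, nat_lit 74, nat_lit 296, nat_lit 37, nat_lit 148, nat_lit 37, nat_lit 0])
(.leaf 537 10 [nat_lit 148, nat_lit 74, nat_lit 148, nat_lit 74, nat_lit 37, nat_lit 222, nat_lit 148, nat_lit 222, nat_lit 296, nat_lit 74, nat_lit 296, nat_lit 222, nat_lit 148, nat_lit 222]))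
(.node (nat_lit 94) (.leaf 457 6 [nat_lit 296, nat_lit 222, nat_lit 296, nat_lit 222, nat_lit 37, nat_lit 296, nat_lit 74, nat_lit 0, nat_lit 222, nat_lit 0, nat_lit 74, nat_lit 296, nat_lit 222])
(.leaf 505 4 [nat_lit 148, nat_lit 0, nat_lit 148, nat_lit 37, nat_lit 148, nat_lit 111, nat_lit 37, nat_lit 0, nat_lit 111, nat_lit 37, nat_lit 0, nat_lit 111, nat_lit 37, nat_lit 148])))
(.node (nat_lit 97) (.node (nat_lit 96) (.leaf 493 2 [nat_lit 0, nat_lit 185, nat_lit 259, nat_lit 296, nat_lit 185, nat_lit 296, nat_lit 259, nat_lit 185, nat_lit 259, nat_lit 74, nat_lit 0, nat_lit 37, nat_lit 0, nat_lit 296])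
(.leaf 445 8 [nat_lit 0, nat_lit 111, nat_lit 37, nat_lit 111, nat_lit 37, nat_lit 0, nat_lit 37, nat_lit 296, nat_lit 259, nat_lit 111, nat_lit 259, nat_lit 111, nat_lit 296]))
(.node (nat_lit 98) (.leaf 559 7 [nat_lit 148, nat_lit 111, nat_lit 185, nat_lit 148, nat_lit 74, nat_lit 111, nat_lit 222, nat_lit 37, nat_lit 0, nat_lit 74, nat_lit 185, nat_lit 222, nat_lit 0, nat_lit 148, nat_lit 185])
(.leaf 479 7 [nat_lit 296, nat_lit 259, nat_lit 222, nat_lit 185, nat_lit 296, nat_lit 74, nat_lit 37, nat_lit 296, nat_lit 185, nat_lit 259, nat_lit 296, nat_lit 74, nat_lit 222])))))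
(.node (nat_lit 108) (.node (nat_lit 103) (.node (nat_lit 101) (.node (nat_lit 100) (.leaf 443 13 [nat_lit 0, nat_lit 185, nat_lit 74, nat_lit 259, nat_lit 148, nat_lit 74, nat_lit 148, nat_lit 259, nat_lit 0, nat_lit 111, nat_lit 185, nat_lit 0, nat_lit 111])
(.leaf 187 6 [nat_lit 74, nat_lit 37, nat_lit 74, nat_lit 37, nat_lit 259, nat_lit 74, nat_lit 37, nat_lit 74, nat_lit 259]))
(.node (nat_lit 102) (.leaf 495 2 [nat_lit 296, nat_lit 0, nat_lit 185, nat_lit 296, nat_lit 259, nat_lit 185, nat_lit 296, nat_lit 185, nat_lit 296, nat_lit 74, nat_lit 0, nat_lit 37, nat_lit 0, nat_lit 296])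
(.leaf 589 3 [nat_lit 111, nat_lit 37, nat_lit 185, nat_lit 37, nat_lit 0, nat_lit 37, nat_lit 148, nat_lit 37, nat_lit 111, nat_lit 37, nat_lit 148, nat_lit 0, nat_lit 37, nat_lit 0, nat_lit 185, nat_lit 111])))
(.node (nat_lit 105) (.node (nat_lit 104) (.leaf 403 7 [nat_lit 111, nat_lit 74, nat_lit 111, nat_lit 74, nat_lit 37, nat_lit 259, nat_lit 111, nat_lit 74, nat_lit 111, nat_lit 74, nat_lit 259])
(.leaf 193 8 [nat_lit 74, nat_lit 37, nat_lit 111, nat_lit 74, nat_lit 259, nat_lit 74, nat_lit 259, nat_lit 74, nat_lit 111]))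
(.node (nat_lit 106) (.leaf 423 7 [nat_lit 185, nat_lit 74, nat_lit 259, nat_lit 0, nat_lit 37, nat_lit 0, nat_lit 296, nat_lit 0, nat_lit 296, nat_lit 185, nat_lit 74, nat_lit 0])
(.node (nat_lit 107) (.leaf 553 15 [nat_lit 0, nat_lit 296, nat_lit 222, nat_lit 296, nat_lit 259, nat_lit 74, nat_lit 259, nat_lit 74, nat_lit 0, nat_lit 74, nat_lit 37, nat_lit 296, nat_lit 222, nat_lit 296, nat_lit 74])
(.leaf 581 14 [nat_lit 185, nat_lit 37, nat_lit 185, nat_lit 111, nat_lit 296, nat_lit 185, nat_lit 222, nat_lit 37, nat_lit 185, nat_lit 222, nat_lit 37, nat_lit 185, nat_lit 296, nat_lit 111, nat_lit 185])))))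
(.node (nat_lit 113) (.node (nat_lit 110) (.node (nat_lit 109) (.leaf 19 0 [nat_lit 259, nat_lit 222, nat_lit 37, nat_lit 259, nat_lit 222])
(.leaf 375 8 [nat_lit 185, nat_lit 0, nat_lit 37, nat_lit 0, nat_lit 185, nat_lit 37, nat_lit 74, nat_lit 37, nat_lit 0, nat_lit 37, nat_lit 74]))
(.node (nat_lit 111) (.leaf 201 8 [nat_lit 74, nat_lit 37, nat_lit 222, nat_lit 111, nat_lit 259, nat_lit 74, nat_lit 259, nat_lit 111, nat_lit 222])
(.node (nat_lit 112) (.leaf 565 13 [nat_lit 148, nat_lit 74, nat_lit 0, nat_lit 185, nat_lit 37, nat_lit 185, nat_lit 0, nat_lit 111, nat_lit 37, nat_lit 111, nat_lit 185, nat_lit 148, nat_lit 37, nat_lit 74, nat_lit 111])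
(.leaf 283 10 [nat_lit 0, nat_lit 222, nat_lit 296, nat_lit 0, nat_lit 296, nat_lit 259, nat_lit 37, nat_lit 185, nat_lit 222, nat_lit 185]))))
(.node (nat_lit 116) (.node (nat_lit 114) (.leaf 449 7 [nat_lit 296, nat_lit 37, nat_lit 74, nat_lit 0, nat_lit 296, nat_lit 37, nat_lit 0, nat_lit 296, nat_lit 0, nat_lit 37, nat_lit 296, nat_lit 0, nat_lit 74])
(.node (nat_lit 115) (.leaf 227 8 [nat_lit 222, nat_lit 37, nat_lit 296, nat_lit 222, nat_lit 296, nat_lit 222, nat_lit 296, nat_lit 222, nat_lit 296])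
(.leaf 439 11 [nat_lit 0, nat_lit 37, nat_lit 0, nat_lit 148, nat_lit 37, nat_lit 148, nat_lit 0, nat_lit 37, nat_lit 0, nat_lit 37, nat_lit 148, nat_lit 37, nat_lit 148])))
(.node (nat_lit 117) (.leaf 509 14 [nat_lit 0, nat_lit 259, nat_lit 185, nat_lit 259, nat_lit 111, nat_lit 0, nat_lit 148, nat_lit 185, nat_lit 37, nat_lit 148, nat_lit 185, nat_lit 74, nat_lit 111, nat_lit 148])
(.node (nat_lit 118) (.leaf 583 4 [nat_lit 185, nat_lit 0, nat_lit 111, nat_lit 0, nat_lit 185, nat_lit 222, nat_lit 148, nat_lit 37, nat_lit 74, nat_lit 37, nat_lit 0, nat_lit 37, nat_lit 0, nat_lit 148, nat_lit 222, nat_lit 111])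
(.leaf 595 5 [nat_lit 148, nat_lit 185, nat_lit 148, nat_lit 185, nat_lit 111, nat_lit 74, nat_lit 0, nat_lit 185, nat_lit 111, nat_lit 74, nat_lit 37, nat_lit 0, nat_lit 185, nat_lit 148, nat_lit 74, nat_lit 185]))))))))))
(.node (nat_lit 384) (.node (nat_lit 196) (.node (nat_lit 152) (.node (nat_lit 134) (.node (nat_lit 126) (.node (nat_lit 122) (.node (nat_lit 120) (.leaf 565 10 [nat_lit 74, nat_lit 111, nat_lit 37, nat_lit 148, nat_lit 74, nat_lit 0, nat_lit 185, nat_lit 37, nat_lit 185, nat_lit 0, nat_lit 111, nat_lit 37, nat_lit 111, nat_lit 185, nat_lit 148])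
(.node (nat_lit 121) (.leaf 375 2 [nat_lit 74, nat_lit 37, nat_lit 0, nat_lit 37, nat_lit 74, nat_lit 37, nat_lit 185, nat_lit 0, nat_lit 37, nat_lit 0, nat_lit 185])
(.leaf 283 6 [nat_lit 185, nat_lit 222, nat_lit 185, nat_lit 37, nat_lit 0, nat_lit 222, nat_lit 296, nat_lit 0, nat_lit 296, nat_lit 259])))
(.node (nat_lit 124) (.node (nat_lit 123) (.leaf 531 9 [nat_lit 296, nat_lit 148, nat_lit 74, nat_lit 37, nat_lit 74, nat_lit 37, nat_lit 111, nat_lit 74, nat_lit 111, nat_lit 148, nat_lit 296, nat_lit 74, nat_lit 37, nat_lit 74])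
(.leaf 533 11 [nat_lit 296, nat_lit 37, nat_lit 74, nat_lit 37, nat_lit 296, nat_lit 185, nat_lit 37, nat_lit 111, nat_lit 296, nat_lit 74, nat_lit 259, nat_lit 296, nat_lit 111, nat_lit 185]))
(.node (nat_lit 125) (.leaf 437 6 [nat_lit 296, nat_lit 148, nat_lit 296, nat_lit 148, nat_lit 37, nat_lit 148, nat_lit 37, nat_lit 296, nat_lit 148, nat_lit 296, nat_lit 37, nat_lit 148])
(.leaf 211 4 [nat_lit 222, nat_lit 185, nat_lit 259, nat_lit 222, nat_lit 74, nat_lit 37, nat_lit 185, nat_lit 259, nat_lit 74]))))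
(.node (nat_lit 130) (.node (nat_lit 128) (.node (nat_lit 127) (.leaf 589 13 [nat_lit 148, nat_lit 0, nat_lit 37, nat_lit 0, nat_lit 185, nat_lit 111, nat_lit 37, nat_lit 111, nat_lit 37, nat_lit 185, nat_lit 37, nat_lit 0, nat_lit 37, nat_lit 148, nat_lit 37, nat_lit 111])
(.leaf 437 0 [nat_lit 296, nat_lit 148, nat_lit 296, nat_lit 37, nat_lit 148, nat_lit 37, nat_lit 296, nat_lit 148, nat_lit 296, nat_lit 148, nat_lit 37, nat_lit 148]))
(.node (nat_lit 129) (.leaf 455 7 [nat_lit 111, nat_lit 0, nat_lit 148, nat_lit 0, nat_lit 185, nat_lit 74, nat_lit 0, nat_lit 74, nat_lit 185, nat_lit 0, nat_lit 148, nat_lit 0, nat_lit 111])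
(.leaf 449 3 [nat_lit 296, nat_lit 0, nat_lit 74, nat_lit 37, nat_lit 296, nat_lit 37, nat_lit 74, nat_lit 0, nat_lit 296, nat_lit 37, nat_lit 0, nat_lit 296, nat_lit 0])))
(.node (nat_lit 132) (.node (nat_lit 131) (.leaf 421 10 [nat_lit 0, nat_lit 37, nat_lit 0, nat_lit 37, nat_lit 296, nat_lit 259, nat_lit 296, nat_lit 111, nat_lit 222, nat_lit 0, nat_lit 222, nat_lit 111])
(.leaf 29 5 [nat_lit 259, nat_lit 37, nat_lit 0, nat_lit 296, nat_lit 0, nat_lit 259, nat_lit 296]))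
(.node (nat_lit 133) (.leaf 607 16 [nat_lit 0, nat_lit 222, nat_lit 74, nat_lit 148, nat_lit 37, nat_lit 111, nat_lit 148, nat_lit 37, nat_lit 111, nat_lit 74, nat_lit 222, nat_lit 0, nat_lit 222, nat_lit 37, nat_lit 148, nat_lit 222])
(.leaf 531 7 [nat_lit 74, nat_lit 37, nat_lit 296, nat_lit 148, nat_lit 74, nat_lit 37, nat_lit 74, nat_lit 37, nat_lit 111, nat_lit 74, nat_lit 111, nat_lit 148, nat_lit 296, nat_lit 74])))))
(.node (nat_lit 143) (.node (nat_lit 138) (.node (nat_lit 136) (.node (nat_lit 135) (.leaf 441 5 [nat_lit 296, nat_lit 74, nat_lit 148, nat_lit 259, nat_lit 296, nat_lit 148, nat_lit 74, nat_lit 37, nat_lit 0, nat_lit 296, nat_lit 148, nat_lit 296, nat_lit 0])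
(.leaf 435 7 [nat_lit 74, nat_lit 296, nat_lit 222, nat_lit 0, nat_lit 222, nat_lit 0, nat_lit 296, nat_lit 185, nat_lit 259, nat_lit 74, nat_lit 37, nat_lit 185]))
(.node (nat_lit 137) (.leaf 529 12 [nat_lit 185, nat_lit 111, nat_lit 0, nat_lit 296, nat_lit 0, nat_lit 296, nat_lit 111, nat_lit 185, nat_lit 37, nat_lit 185, nat_lit 111, nat_lit 259, nat_lit 111, nat_lit 185])
(.leaf 585 5 [nat_lit 111, nat_lit 0, nat_lit 222, nat_lit 148, nat_lit 111, nat_lit 222, nat_lit 0, nat_lit 222, nat_lit 74, nat_lit 0, nat_lit 37, nat_lit 0, nat_lit 148, nat_lit 222, nat_lit 111, nat_lit 74])))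
(.node (nat_lit 140) (.node (nat_lit 139) (.leaf 541 15 [nat_lit 0, nat_lit 296, nat_lit 222, nat_lit 37, nat_lit 296, nat_lit 222, nat_lit 37, nat_lit 296, nat_lit 0, nat_lit 37, nat_lit 0, nat_lit 74, nat_lit 296, nat_lit 74, nat_lit 0])
(.leaf 519 3 [nat_lit 148, nat_lit 74, nat_lit 148, nat_lit 111, nat_lit 74, nat_lit 111, nat_lit 37, nat_lit 296, nat_lit 222, nat_lit 0, nat_lit 74, nat_lit 0, nat_lit 222, nat_lit 296]))
(.node (nat_lit 141) (.leaf 321 5 [nat_lit 259, nat_lit 37, nat_lit 148, nat_lit 0, nat_lit 148, nat_lit 0, nat_lit 148, nat_lit 185, nat_lit 259, nat_lit 185])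
(.node (nat_lit 142) (.leaf 405 0 [nat_lit 259, nat_lit 296, nat_lit 185, nat_lit 296, nat_lit 74, nat_lit 259, nat_lit 37, nat_lit 296, nat_lit 185, nat_lit 296, nat_lit 74])
(.leaf 601 16 [nat_lit 0, nat_lit 37, nat_lit 148, nat_lit 222, nat_lit 111, nat_lit 296, nat_lit 37, nat_lit 222, nat_lit 111, nat_lit 222, nat_lit 74, nat_lit 37, nat_lit 74, nat_lit 296, nat_lit 37, nat_lit 148])))))
(.node (nat_lit 147) (.node (nat_lit 145) (.node (nat_lit 144) (.leaf 61 0 [nat_lit 74, nat_lit 222, nat_lit 74, nat_lit 37, nat_lit 74, nat_lit 222, nat_lit 74])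
(.leaf 449 13 [nat_lit 0, nat_lit 296, nat_lit 0, nat_lit 37, nat_lit 296, nat_lit 0, nat_lit 74, nat_lit 37, nat_lit 296, nat_lit 37, nat_lit 74, nat_lit 0, nat_lit 296]))
(.node (nat_lit 146) (.leaf 407 8 [nat_lit 111, nat_lit 74, nat_lit 111, nat_lit 37, nat_lit 111, nat_lit 222, nat_lit 111, nat_lit 74, nat_lit 111, nat_lit 222, nat_lit 111])
(.leaf 601 6 [nat_lit 222, nat_lit 111, nat_lit 222, nat_lit 74, nat_lit 37, nat_lit 74, nat_lit 296, nat_lit 37, nat_lit 148, nat_lit 37, nat_lit 0, nat_lit 37, nat_lit 148, nat_lit 222, nat_lit 111, nat_lit 296])))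
(.node (nat_lit 149) (.node (nat_lit 148) (.leaf 533 3 [nat_lit 111, nat_lit 296, nat_lit 74, nat_lit 259, nat_lit 296, nat_lit 111, nat_lit 185, nat_lit 37, nat_lit 296, nat_lit 37, nat_lit 74, nat_lit 37, nat_lit 296, nat_lit 185])
(.leaf 213 6 [nat_lit 74, nat_lit 259, nat_lit 74, nat_lit 37, nat_lit 259, nat_lit 74, nat_lit 259, nat_lit 74, nat_lit 259]))
(.node (nat_lit 150) (.leaf 541 6 [nat_lit 296, nat_lit 0, nat_lit 37, nat_lit 0, nat_lit 74, nat_lit 296, nat_lit 74, nat_lit 0, nat_lit 37, nat_lit 0, nat_lit 296, nat_lit 222, nat_lit 37, nat_lit 296, nat_lit 222])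
(.node (nat_lit 151) (.leaf 421 12 [nat_lit 0, nat_lit 37, nat_lit 296, nat_lit 259, nat_lit 296, nat_lit 111, nat_lit 222, nat_lit 0, nat_lit 222, nat_lit 111, nat_lit 37, nat_lit 0])
(.leaf 581 6 [nat_lit 185, nat_lit 222, nat_lit 37, nat_lit 185, nat_lit 296, nat_lit 111, nat_lit 185, nat_lit 37, nat_lit 185, nat_lit 37, nat_lit 185, nat_lit 111, nat_lit 296, nat_lit 185, nat_lit 222])))))))
(.node (nat_lit 172) (.node (nat_lit 162) (.node (nat_lit 157) (.node (nat_lit 154) (.node (nat_lit 153) (.leaf 445 1 [nat_lit 296, nat_lit 259, nat_lit 111, nat_lit 259, nat_lit 111, nat_lit 296, nat_lit 37, nat_lit 0, nat_lit 111, nat_lit 37, nat_lit 111, nat_lit 37, nat_lit 0])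
(.leaf 497 10 [nat_lit 0, nat_lit 111, nat_lit 0, nat_lit 37, nat_lit 0, nat_lit 296, nat_lit 222, nat_lit 111, nat_lit 259, nat_lit 111, nat_lit 222, nat_lit 296, nat_lit 0, nat_lit 111]))
(.node (nat_lit 155) (.leaf 209 0 [nat_lit 185, nat_lit 259, nat_lit 74, nat_lit 222, nat_lit 37, nat_lit 185, nat_lit 259, nat_lit 222, nat_lit 74])
(.node (nat_lit 156) (.leaf 407 0 [nat_lit 111, nat_lit 222, nat_lit 111, nat_lit 74, nat_lit 111, nat_lit 222, nat_lit 111, nat_lit 37, nat_lit 111, nat_lit 74, nat_lit 111])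
(.leaf 629 17 [nat_lit 0, nat_lit 111, nat_lit 185, nat_lit 111, nat_lit 148, nat_lit 37, nat_lit 148, nat_lit 185, nat_lit 37, nat_lit 148, nat_lit 259, nat_lit 37, nat_lit 185, nat_lit 259, nat_lit 37, nat_lit 74, nat_lit 148]))))
(.node (nat_lit 159) (.node (nat_lit 158) (.leaf 511 14 [nat_lit 0, nat_lit 111, nat_lit 37, nat_lit 185, nat_lit 0, nat_lit 74, nat_lit 111, nat_lit 74, nat_lit 148, nat_lit 0, nat_lit 74, nat_lit 0, nat_lit 148, nat_lit 185])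
(.leaf 489 6 [nat_lit 185, nat_lit 111, nat_lit 185, nat_lit 0, nat_lit 111, nat_lit 37, nat_lit 0, nat_lit 37, nat_lit 0, nat_lit 148, nat_lit 0, nat_lit 111, nat_lit 0, nat_lit 148]))
(.node (nat_lit 160) (.leaf 583 16 [nat_lit 0, nat_lit 148, nat_lit 222, nat_lit 111, nat_lit 37, nat_lit 185, nat_lit 0, nat_lit 111, nat_lit 0, nat_lit 185, nat_lit 222, nat_lit 148, nat_lit 37, nat_lit 74, nat_lit 37, nat_lit 0])
(.node (nat_lit 161) (.leaf 187 8 [nat_lit 74, nat_lit 37, nat_lit 259, nat_lit 74, nat_lit 37, nat_lit 74, nat_lit 259, nat_lit 37, nat_lit 74])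
(.leaf 325 4 [nat_lit 259, nat_lit 37, nat_lit 185, nat_lit 148, nat_lit 0, nat_lit 148, nat_lit 0, nat_lit 148, nat_lit 259, nat_lit 185])))))
(.node (nat_lit 167) (.node (nat_lit 164) (.node (nat_lit 163) (.leaf 293 10 [nat_lit 0, nat_lit 222, nat_lit 296, nat_lit 0, nat_lit 296, nat_lit 37, nat_lit 185, nat_lit 222, nat_lit 185, nat_lit 259])
(.leaf 487 4 [nat_lit 148, nat_lit 37, nat_lit 111, nat_lit 37, nat_lit 148, nat_lit 0, nat_lit 111, nat_lit 37, nat_lit 0, nat_lit 37, nat_lit 0, nat_lit 74, nat_lit 111, nat_lit 74]))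
(.node (nat_lit 165) (.leaf 589 11 [nat_lit 111, nat_lit 37, nat_lit 148, nat_lit 0, nat_lit 37, nat_lit 0, nat_lit 185, nat_lit 111, nat_lit 37, nat_lit 111, nat_lit 37, nat_lit 185, nat_lit 37, nat_lit 0, nat_lit 37, nat_lit 148])
(.node (nat_lit 166) (.leaf 439 13 [nat_lit 0, nat_lit 148, nat_lit 37, nat_lit 148, nat_lit 0, nat_lit 37, nat_lit 0, nat_lit 37, nat_lit 148, nat_lit 37, nat_lit 148, nat_lit 37, nat_lit 0])
(.leaf 589 9 [nat_lit 148, nat_lit 37, nat_lit 111, nat_lit 37, nat_lit 148, nat_lit 0, nat_lit 37, nat_lit 0, nat_lit 185, nat_lit 111, nat_lit 37, nat_lit 111, nat_lit 37, nat_lit 185, nat_lit 37, nat_lit 0]))))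
(.node (nat_lit 169) (.node (nat_lit 168) (.leaf 541 3 [nat_lit 296, nat_lit 222, nat_lit 37, nat_lit 296, nat_lit 0, nat_lit 37, nat_lit 0, nat_lit 74, nat_lit 296, nat_lit 74, nat_lit 0, nat_lit 37, nat_lit 0, nat_lit 296, nat_lit 222])
(.leaf 609 13 [nat_lit 148, nat_lit 185, nat_lit 74, nat_lit 0, nat_lit 148, nat_lit 111, nat_lit 37, nat_lit 74, nat_lit 259, nat_lit 185, nat_lit 259, nat_lit 37, nat_lit 148, nat_lit 185, nat_lit 74, nat_lit 185]))
(.node (nat_lit 170) (.leaf 491 7 [nat_lit 0, nat_lit 37, nat_lit 74, nat_lit 111, nat_lit 74, nat_lit 0, nat_lit 37, nat_lit 0, nat_lit 148, nat_lit 222, nat_lit 185, nat_lit 222, nat_lit 185, nat_lit 148])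
(.node (nat_lit 171) (.leaf 191 4 [nat_lit 259, nat_lit 37, nat_lit 111, nat_lit 37, nat_lit 74, nat_lit 37, nat_lit 111, nat_lit 259, nat_lit 74])
(.leaf 377 7 [nat_lit 74, nat_lit 111, nat_lit 74, nat_lit 37, nat_lit 0, nat_lit 222, nat_lit 185, nat_lit 222, nat_lit 111, nat_lit 185, nat_lit 0]))))))
(.node (nat_lit 184) (.node (nat_lit 178) (.node (nat_lit 175) (.node (nat_lit 173) (.leaf 421 1 [nat_lit 296, nat_lit 259, nat_lit 296, nat_lit 111, nat_lit 222, nat_lit 0, nat_lit 222, nat_lit 111, nat_lit 37, nat_lit 0, nat_lit 37, nat_lit 0])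
(.node (nat_lit 174) (.leaf 573 8 [nat_lit 148, nat_lit 185, nat_lit 148, nat_lit 0, nat_lit 185, nat_lit 148, nat_lit 111, nat_lit 0, nat_lit 185, nat_lit 0, nat_lit 148, nat_lit 37, nat_lit 185, nat_lit 0, nat_lit 185])
(.leaf 525 13 [nat_lit 111, nat_lit 0, nat_lit 148, nat_lit 74, nat_lit 296, nat_lit 111, nat_lit 259, nat_lit 296, nat_lit 37, nat_lit 74, nat_lit 148, nat_lit 111, nat_lit 0, nat_lit 148])))
(.node (nat_lit 176) (.leaf 189 8 [nat_lit 74, nat_lit 37, nat_lit 74, nat_lit 111, nat_lit 259, nat_lit 74, nat_lit 259, nat_lit 111, nat_lit 74])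
(.node (nat_lit 177) (.leaf 515 1 [nat_lit 296, nat_lit 222, nat_lit 37, nat_lit 0, nat_lit 74, nat_lit 185, nat_lit 296, nat_lit 185, nat_lit 296, nat_lit 259, nat_lit 185, nat_lit 222, nat_lit 37, nat_lit 0])
(.leaf 535 0 [nat_lit 111, nat_lit 37, nat_lit 148, nat_lit 222, nat_lit 185, nat_lit 222, nat_lit 185, nat_lit 148, nat_lit 185, nat_lit 111, nat_lit 185, nat_lit 74, nat_lit 111, nat_lit 74]))))
(.node (nat_lit 181) (.node (nat_lit 179) (.leaf 517 14 [nat_lit 0, nat_lit 185, nat_lit 259, nat_lit 296, nat_lit 185, nat_lit 296, nat_lit 37, nat_lit 0, nat_lit 259, nat_lit 74, nat_lit 259, nat_lit 185, nat_lit 0, nat_lit 296])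
(.node (nat_lit 180) (.leaf 631 17 [nat_lit 0, nat_lit 185, nat_lit 222, nat_lit 148, nat_lit 185, nat_lit 148, nat_lit 0, nat_lit 74, nat_lit 148, nat_lit 37, nat_lit 222, nat_lit 185, nat_lit 0, nat_lit 222, nat_lit 148, nat_lit 0, nat_lit 222])
(.leaf 211 0 [nat_lit 185, nat_lit 259, nat_lit 74, nat_lit 37, nat_lit 222, nat_lit 185, nat_lit 259, nat_lit 222, nat_lit 74])))
(.node (nat_lit 182) (.leaf 445 11 [nat_lit 111, nat_lit 37, nat_lit 0, nat_lit 37, nat_lit 296, nat_lit 259, nat_lit 111, nat_lit 259, nat_lit 111, nat_lit 296, nat_lit 37, nat_lit 0, nat_lit 111])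
(.node (nat_lit 183) (.leaf 505 2 [nat_lit 148, nat_lit 37, nat_lit 148, nat_lit 0, nat_lit 148, nat_lit 37, nat_lit 148, nat_lit 111, nat_lit 37, nat_lit 0, nat_lit 111, nat_lit 37, nat_lit 0, nat_lit 111])
(.leaf 189 0 [nat_lit 74, nat_lit 111, nat_lit 259, nat_lit 74, nat_lit 259, nat_lit 111, nat_lit 74, nat_lit 37, nat_lit 74])))))
(.node (nat_lit 190) (.node (nat_lit 187) (.node (nat_lit 185) (.leaf 201 0 [nat_lit 222, nat_lit 111, nat_lit 259, nat_lit 74, nat_lit 259, nat_lit 111, nat_lit 222, nat_lit 37, nat_lit 74])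
(.node (nat_lit 186) (.leaf 289 10 [nat_lit 0, nat_lit 222, nat_lit 0, nat_lit 296, nat_lit 259, nat_lit 296, nat_lit 37, nat_lit 185, nat_lit 222, nat_lit 185])
(.leaf 59 0 [nat_lit 222, nat_lit 37, nat_lit 74, nat_lit 37, nat_lit 222, nat_lit 37, nat_lit 74])))
(.node (nat_lit 188) (.leaf 573 4 [nat_lit 185, nat_lit 0, nat_lit 185, nat_lit 37, nat_lit 148, nat_lit 185, nat_lit 148, nat_lit 0, nat_lit 185, nat_lit 148, nat_lit 111, nat_lit 0, nat_lit 185, nat_lit 0, nat_lit 148])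
(.node (nat_lit 189) (.leaf 439 7 [nat_lit 148, nat_lit 37, nat_lit 148, nat_lit 37, nat_lit 0, nat_lit 37, nat_lit 0, nat_lit 148, nat_lit 37, nat_lit 148, nat_lit 0, nat_lit 37, nat_lit 0])
(.leaf 351 0 [nat_lit 259, nat_lit 222, nat_lit 111, nat_lit 259, nat_lit 111, nat_lit 222, nat_lit 37, nat_lit 111, nat_lit 259, nat_lit 111]))))
(.node (nat_lit 193) (.node (nat_lit 191) (.leaf 629 8 [nat_lit 148, nat_lit 259, nat_lit 37, nat_lit 185, nat_lit 259, nat_lit 37, nat_lit 74, nat_lit 148, nat_lit 37, nat_lit 0, nat_lit 111, nat_lit 185, nat_lit 111, nat_lit 148, nat_lit 37, nat_lit 148, nat_lit 185])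
(.node (nat_lit 192) (.leaf 291 5 [nat_lit 259, nat_lit 185, nat_lit 222, nat_lit 185, nat_lit 37, nat_lit 0, nat_lit 222, nat_lit 296, nat_lit 0, nat_lit 296])
(.leaf 585 16 [nat_lit 0, nat_lit 148, nat_lit 222, nat_lit 111, nat_lit 74, nat_lit 37, nat_lit 111, nat_lit 0, nat_lit 222, nat_lit 148, nat_lit 111, nat_lit 222, nat_lit 0, nat_lit 222, nat_lit 74, nat_lit 0])))
(.node (nat_lit 194) (.leaf 447 13 [nat_lit 0, nat_lit 111, nat_lit 0, nat_lit 148, nat_lit 259, nat_lit 185, nat_lit 111, nat_lit 185, nat_lit 111, nat_lit 259, nat_lit 148, nat_lit 37, nat_lit 111])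
(.node (nat_lit 195) (.leaf 579 14 [nat_lit 185, nat_lit 37, nat_lit 222, nat_lit 185, nat_lit 222, nat_lit 148, nat_lit 222, nat_lit 111, nat_lit 222, nat_lit 74, nat_lit 111, nat_lit 222, nat_lit 148, nat_lit 74, nat_lit 185])
(.leaf 525 7 [nat_lit 74, nat_lit 148, nat_lit 111, nat_lit 0, nat_lit 148, nat_lit 37, nat_lit 111, nat_lit 0, nat_lit 148, nat_lit 74, nat_lit 296, nat_lit 111, nat_lit 259, nat_lit 296]))))))))
(.node (nat_lit 256) (.node (nat_lit 223) (.node (nat_lit 209) (.node (nat_lit 202) (.node (nat_lit 199) (.node (nat_lit 197) (.leaf 215 6 [nat_lit 185, nat_lit 259, nat_lit 74, nat_lit 37, nat_lit 222, nat_lit 185, nat_lit 222, nat_lit 259, nat_lit 74])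
(.node (nat_lit 198) (.leaf 583 12 [nat_lit 74, nat_lit 37, nat_lit 0, nat_lit 37, nat_lit 0, nat_lit 148, nat_lit 222, nat_lit 111, nat_lit 37, nat_lit 185, nat_lit 0, nat_lit 111, nat_lit 0, nat_lit 185, nat_lit 222, nat_lit 148])
(.leaf 451 12 [nat_lit 74, nat_lit 0, nat_lit 222, nat_lit 259, nat_lit 185, nat_lit 222, nat_lit 74, nat_lit 259, nat_lit 0, nat_lit 74, nat_lit 185, nat_lit 0, nat_lit 74])))
(.node (nat_lit 200) (.leaf 375 6 [nat_lit 74, nat_lit 37, nat_lit 185, nat_lit 0, nat_lit 37, nat_lit 0, nat_lit 185, nat_lit 37, nat_lit 74, nat_lit 37, nat_lit 0])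
(.node (nat_lit 201) (.leaf 27 5 [nat_lit 259, nat_lit 37, nat_lit 0, nat_lit 37, nat_lit 259, nat_lit 37, nat_lit 0])
(.leaf 497 14 [nat_lit 0, nat_lit 296, nat_lit 222, nat_lit 111, nat_lit 259, nat_lit 111, nat_lit 222, nat_lit 296, nat_lit 0, nat_lit 111, nat_lit 37, nat_lit 0, nat_lit 111, nat_lit 0]))))
(.node (nat_lit 205) (.node (nat_lit 203) (.leaf 567 13 [nat_lit 148, nat_lit 74, nat_lit 0, nat_lit 148, nat_lit 259, nat_lit 111, nat_lit 74, nat_lit 37, nat_lit 111, nat_lit 259, nat_lit 0, nat_lit 148, nat_lit 296, nat_lit 259, nat_lit 296])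
(.node (nat_lit 204) (.leaf 629 11 [nat_lit 185, nat_lit 259, nat_lit 37, nat_lit 74, nat_lit 148, nat_lit 37, nat_lit 0, nat_lit 111, nat_lit 185, nat_lit 111, nat_lit 148, nat_lit 37, nat_lit 148, nat_lit 185, nat_lit 37, nat_lit 148, nat_lit 259])
(.leaf 185 4 [nat_lit 259, nat_lit 37, nat_lit 296, nat_lit 0, nat_lit 296, nat_lit 0, nat_lit 296, nat_lit 259, nat_lit 296])))
(.node (nat_lit 207) (.node (nat_lit 206) (.leaf 403 0 [nat_lit 259, nat_lit 111, nat_lit 74, nat_lit 111, nat_lit 74, nat_lit 259, nat_lit 37, nat_lit 111, nat_lit 74, nat_lit 111, nat_lit 74])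
(.leaf 607 4 [nat_lit 111, nat_lit 148, nat_lit 37, nat_lit 111, nat_lit 74, nat_lit 222, nat_lit 0, nat_lit 222, nat_lit 37, nat_lit 148, nat_lit 222, nat_lit 37, nat_lit 0, nat_lit 222, nat_lit 74, nat_lit 148]))
(.node (nat_lit 208) (.leaf 425 12 [nat_lit 0, nat_lit 259, nat_lit 111, nat_lit 74, nat_lit 111, nat_lit 259, nat_lit 0, nat_lit 37, nat_lit 148, nat_lit 74, nat_lit 148, nat_lit 74])
(.leaf 543 15 [nat_lit 0, nat_lit 296, nat_lit 222, nat_lit 111, nat_lit 0, nat_lit 222, nat_lit 111, nat_lit 222, nat_lit 0, nat_lit 296, nat_lit 37, nat_lit 0, nat_lit 37, nat_lit 111, nat_lit 0])))))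
(.node (nat_lit 216) (.node (nat_lit 212) (.node (nat_lit 210) (.leaf 353 7 [nat_lit 111, nat_lit 259, nat_lit 111, nat_lit 37, nat_lit 222, nat_lit 259, nat_lit 111, nat_lit 259, nat_lit 111, nat_lit 222])
(.node (nat_lit 211) (.leaf 285 6 [nat_lit 185, nat_lit 222, nat_lit 185, nat_lit 37, nat_lit 0, nat_lit 259, nat_lit 222, nat_lit 296, nat_lit 0, nat_lit 296])
(.leaf 529 6 [nat_lit 185, nat_lit 111, nat_lit 259, nat_lit 111, nat_lit 185, nat_lit 37, nat_lit 185, nat_lit 111, nat_lit 0, nat_lit 296, nat_lit 0, nat_lit 296, nat_lit 111, nat_lit 185])))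
(.node (nat_lit 214) (.node (nat_lit 213) (.leaf 293 5 [nat_lit 185, nat_lit 222, nat_lit 185, nat_lit 259, nat_lit 37, nat_lit 0, nat_lit 222, nat_lit 296, nat_lit 0, nat_lit 296])
(.leaf 187 3 [nat_lit 74, nat_lit 259, nat_lit 37, nat_lit 74, nat_lit 37, nat_lit 74, nat_lit 37, nat_lit 259, nat_lit 74]))
(.node (nat_lit 215) (.leaf 125 5 [nat_lit 222, nat_lit 259, nat_lit 222, nat_lit 37, nat_lit 0, nat_lit 296, nat_lit 0, nat_lit 259, nat_lit 296])
(.leaf 571 6 [nat_lit 185, nat_lit 74, nat_lit 37, nat_lit 185, nat_lit 148, nat_lit 0, nat_lit 111, nat_lit 37, nat_lit 111, nat_lit 0, nat_lit 148, nat_lit 185, nat_lit 37, nat_lit 74, nat_lit 185]))))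
(.node (nat_lit 219) (.node (nat_lit 217) (.leaf 571 3 [nat_lit 74, nat_lit 185, nat_lit 37, nat_lit 185, nat_lit 74, nat_lit 37, nat_lit 185, nat_lit 148, nat_lit 0, nat_lit 111, nat_lit 37, nat_lit 111, nat_lit 0, nat_lit 148, nat_lit 185])
(.node (nat_lit 218) (.leaf 487 12 [nat_lit 0, nat_lit 37, nat_lit 0, nat_lit 74, nat_lit 111, nat_lit 74, nat_lit 37, nat_lit 148, nat_lit 37, nat_lit 111, nat_lit 37, nat_lit 148, nat_lit 0, nat_lit 111])
(.leaf 559 15 [nat_lit 0, nat_lit 74, nat_lit 185, nat_lit 222, nat_lit 0, nat_lit 148, nat_lit 185, nat_lit 37, nat_lit 148, nat_lit 111, nat_lit 185, nat_lit 148, nat_lit 74, nat_lit 111, nat_lit 222])))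
(.node (nat_lit 221) (.node (nat_lit 220) (.leaf 491 14 [nat_lit 0, nat_lit 148, nat_lit 222, nat_lit 185, nat_lit 222, nat_lit 185, nat_lit 148, nat_lit 37, nat_lit 0, nat_lit 37, nat_lit 74, nat_lit 111, nat_lit 74, nat_lit 0])
(.leaf 535 2 [nat_lit 148, nat_lit 222, nat_lit 185, nat_lit 222, nat_lit 185, nat_lit 148, nat_lit 185, nat_lit 111, nat_lit 185, nat_lit 74, nat_lit 111, nat_lit 74, nat_lit 37, nat_lit 111]))
(.node (nat_lit 222) (.leaf 567 5 [nat_lit 111, nat_lit 259, nat_lit 0, nat_lit 148, nat_lit 296, nat_lit 259, nat_lit 296, nat_lit 37, nat_lit 148, nat_lit 74, nat_lit 0, nat_lit 148, nat_lit 259, nat_lit 111, nat_lit 74])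
(.leaf 565 2 [nat_lit 185, nat_lit 0, nat_lit 111, nat_lit 37, nat_lit 111, nat_lit 185, nat_lit 148, nat_lit 37, nat_lit 74, nat_lit 111, nat_lit 37, nat_lit 148, nat_lit 74, nat_lit 0, nat_lit 185]))))))
(.node (nat_lit 238) (.node (nat_lit 230) (.node (nat_lit 226) (.node (nat_lit 224) (.leaf 605 9 [nat_lit 74, nat_lit 0, nat_lit 296, nat_lit 37, nat_lit 0, nat_lit 222, nat_lit 37, nat_lit 0, nat_lit 37, nat_lit 296, nat_lit 74, nat_lit 37, nat_lit 222, nat_lit 296, nat_lit 259, nat_lit 296])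
(.node (nat_lit 225) (.leaf 545 7 [nat_lit 296, nat_lit 37, nat_lit 74, nat_lit 0, nat_lit 37, nat_lit 111, nat_lit 0, nat_lit 37, nat_lit 0, nat_lit 296, nat_lit 37, nat_lit 74, nat_lit 185, nat_lit 111, nat_lit 185])
(.leaf 623 7 [nat_lit 111, nat_lit 74, nat_lit 111, nat_lit 74, nat_lit 0, nat_lit 111, nat_lit 185, nat_lit 37, nat_lit 0, nat_lit 37, nat_lit 0, nat_lit 111, nat_lit 185, nat_lit 148, nat_lit 74, nat_lit 148, nat_lit 185])))
(.node (nat_lit 228) (.node (nat_lit 227) (.leaf 523 13 [nat_lit 74, nat_lit 0, nat_lit 74, nat_lit 185, nat_lit 0, nat_lit 185, nat_lit 148, nat_lit 296, nat_lit 0, nat_lit 296, nat_lit 259, nat_lit 148, nat_lit 74, nat_lit 185])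
(.leaf 375 4 [nat_lit 0, nat_lit 37, nat_lit 74, nat_lit 37, nat_lit 185, nat_lit 0, nat_lit 37, nat_lit 0, nat_lit 185, nat_lit 37, nat_lit 74]))
(.node (nat_lit 229) (.leaf 625 17 [nat_lit 0, nat_lit 148, nat_lit 37, nat_lit 111, nat_lit 37, nat_lit 259, nat_lit 185, nat_lit 259, nat_lit 111, nat_lit 185, nat_lit 37, nat_lit 148, nat_lit 0, nat_lit 148, nat_lit 74, nat_lit 111, nat_lit 74])
(.leaf 587 6 [nat_lit 296, nat_lit 222, nat_lit 148, nat_lit 296, nat_lit 74, nat_lit 148, nat_lit 0, nat_lit 148, nat_lit 0, nat_lit 37, nat_lit 0, nat_lit 296, nat_lit 148, nat_lit 222, nat_lit 296, nat_lit 0]))))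
(.node (nat_lit 234) (.node (nat_lit 232) (.node (nat_lit 231) (.leaf 605 1 [nat_lit 296, nat_lit 74, nat_lit 37, nat_lit 222, nat_lit 296, nat_lit 259, nat_lit 296, nat_lit 37, nat_lit 74, nat_lit 0, nat_lit 296, nat_lit 37, nat_lit 0, nat_lit 222, nat_lit 37, nat_lit 0])
(.leaf 439 5 [nat_lit 0, nat_lit 37, nat_lit 148, nat_lit 37, nat_lit 148, nat_lit 37, nat_lit 0, nat_lit 37, nat_lit 0, nat_lit 148, nat_lit 37, nat_lit 148, nat_lit 0]))
(.node (nat_lit 233) (.leaf 517 6 [nat_lit 0, nat_lit 259, nat_lit 74, nat_lit 259, nat_lit 185, nat_lit 0, nat_lit 296, nat_lit 37, nat_lit 0, nat_lit 185, nat_lit 259, nat_lit 296, nat_lit 185, nat_lit 296])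
(.leaf 477 2 [nat_lit 296, nat_lit 222, nat_lit 185, nat_lit 222, nat_lit 185, nat_lit 296, nat_lit 74, nat_lit 259, nat_lit 185, nat_lit 259, nat_lit 74, nat_lit 37, nat_lit 185])))
(.node (nat_lit 236) (.node (nat_lit 235) (.leaf 541 9 [nat_lit 0, nat_lit 74, nat_lit 296, nat_lit 74, nat_lit 0, nat_lit 37, nat_lit 0, nat_lit 296, nat_lit 222, nat_lit 37, nat_lit 296, nat_lit 222, nat_lit 37, nat_lit 296, nat_lit 0])
(.leaf 607 13 [nat_lit 148, nat_lit 222, nat_lit 37, nat_lit 0, nat_lit 222, nat_lit 74, nat_lit 148, nat_lit 37, nat_lit 111, nat_lit 148, nat_lit 37, nat_lit 111, nat_lit 74, nat_lit 222, nat_lit 0, nat_lit 222]))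
(.node (nat_lit 237) (.leaf 533 13 [nat_lit 74, nat_lit 37, nat_lit 296, nat_lit 185, nat_lit 37, nat_lit 111, nat_lit 296, nat_lit 74, nat_lit 259, nat_lit 296, nat_lit 111, nat_lit 185, nat_lit 37, nat_lit 296])
(.leaf 571 14 [nat_lit 111, nat_lit 0, nat_lit 148, nat_lit 185, nat_lit 37, nat_lit 74, nat_lit 185, nat_lit 37, nat_lit 185, nat_lit 74, nat_lit 37, nat_lit 185, nat_lit 148, nat_lit 0, nat_lit 111])))))
(.node (nat_lit 247) (.node (nat_lit 242) (.node (nat_lit 240) (.node (nat_lit 239) (.leaf 487 14 [nat_lit 0, nat_lit 74, nat_lit 111, nat_lit 74, nat_lit 37, nat_lit 148, nat_lit 37, nat_lit 111, nat_lit 37, nat_lit 148, nat_lit 0, nat_lit 111, nat_lit 37, nat_lit 0])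
(.leaf 505 11 [nat_lit 0, nat_lit 111, nat_lit 37, nat_lit 0, nat_lit 111, nat_lit 37, nat_lit 148, nat_lit 37, nat_lit 148, nat_lit 0, nat_lit 148, nat_lit 37, nat_lit 148, nat_lit 111]))
(.node (nat_lit 241) (.leaf 491 9 [nat_lit 74, nat_lit 111, nat_lit 74, nat_lit 0, nat_lit 37, nat_lit 0, nat_lit 148, nat_lit 222, nat_lit 185, nat_lit 222, nat_lit 185, nat_lit 148, nat_lit 37, nat_lit 0])
(.leaf 571 9 [nat_lit 185, nat_lit 148, nat_lit 0, nat_lit 111, nat_lit 37, nat_lit 111, nat_lit 0, nat_lit 148, nat_lit 185, nat_lit 37, nat_lit 74, nat_lit 185, nat_lit 37, nat_lit 185, nat_lit 74])))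
(.node (nat_lit 244) (.node (nat_lit 243) (.leaf 481 6 [nat_lit 296, nat_lit 37, nat_lit 296, nat_lit 111, nat_lit 185, nat_lit 296, nat_lit 111, nat_lit 37, nat_lit 296, nat_lit 37, nat_lit 222, nat_lit 185, nat_lit 222])
(.leaf 377 11 [nat_lit 0, nat_lit 222, nat_lit 185, nat_lit 222, nat_lit 111, nat_lit 185, nat_lit 0, nat_lit 37, nat_lit 74, nat_lit 111, nat_lit 74]))
(.node (nat_lit 245) (.leaf 291 10 [nat_lit 0, nat_lit 222, nat_lit 296, nat_lit 0, nat_lit 296, nat_lit 37, nat_lit 259, nat_lit 185, nat_lit 222, nat_lit 185])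
(.node (nat_lit 246) (.leaf 187 0 [nat_lit 259, nat_lit 74, nat_lit 37, nat_lit 74, nat_lit 259, nat_lit 37, nat_lit 74, nat_lit 37, nat_lit 74])
(.leaf 627 17 [nat_lit 0, nat_lit 74, nat_lit 37, nat_lit 111, nat_lit 148, nat_lit 37, nat_lit 74, nat_lit 185, nat_lit 111, nat_lit 222, nat_lit 111, nat_lit 185, nat_lit 74, nat_lit 111, nat_lit 222, nat_lit 148, nat_lit 111])))))
(.node (nat_lit 251) (.node (nat_lit 249) (.node (nat_lit 248) (.leaf 551 5 [nat_lit 259, nat_lit 74, nat_lit 148, nat_lit 185, nat_lit 111, nat_lit 185, nat_lit 148, nat_lit 111, nat_lit 74, nat_lit 37, nat_lit 0, nat_lit 259, nat_lit 111, nat_lit 0, nat_lit 111])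
(.leaf 531 13 [nat_lit 74, nat_lit 37, nat_lit 111, nat_lit 74, nat_lit 111, nat_lit 148, nat_lit 296, nat_lit 74, nat_lit 37, nat_lit 74, nat_lit 37, nat_lit 296, nat_lit 148, nat_lit 74]))
(.node (nat_lit 250) (.leaf 581 0 [nat_lit 185, nat_lit 111, nat_lit 296, nat_lit 185, nat_lit 222, nat_lit 37, nat_lit 185, nat_lit 222, nat_lit 37, nat_lit 185, nat_lit 296, nat_lit 111, nat_lit 185, nat_lit 37, nat_lit 185])
(.leaf 581 9 [nat_lit 185, nat_lit 296, nat_lit 111, nat_lit 185, nat_lit 37, nat_lit 185, nat_lit 37, nat_lit 185, nat_lit 111, nat_lit 296, nat_lit 185, nat_lit 222, nat_lit 37, nat_lit 185, nat_lit 222])))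
(.node (nat_lit 253) (.node (nat_lit 252) (.leaf 223 4 [nat_lit 111, nat_lit 37, nat_lit 111, nat_lit 37, nat_lit 111, nat_lit 37, nat_lit 148, nat_lit 111, nat_lit 148])
(.leaf 565 6 [nat_lit 111, nat_lit 185, nat_lit 148, nat_lit 37, nat_lit 74, nat_lit 111, nat_lit 37, nat_lit 148, nat_lit 74, nat_lit 0, nat_lit 185, nat_lit 37, nat_lit 185, nat_lit 0, nat_lit 111]))
(.node (nat_lit 254) (.leaf 605 4 [nat_lit 222, nat_lit 296, nat_lit 259, nat_lit 296, nat_lit 37, nat_lit 74, nat_lit 0, nat_lit 296, nat_lit 37, nat_lit 0, nat_lit 222, nat_lit 37, nat_lit 0, nat_lit 37, nat_lit 296, nat_lit 74])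
(.node (nat_lit 255) (.leaf 591 16 [nat_lit 0, nat_lit 185, nat_lit 74, nat_lit 0, nat_lit 148, nat_lit 185, nat_lit 148, nat_lit 0, nat_lit 37, nat_lit 0, nat_lit 185, nat_lit 74, nat_lit 0, nat_lit 185, nat_lit 148, nat_lit 0])
(.leaf 231 8 [nat_lit 259, nat_lit 37, nat_lit 296, nat_lit 222, nat_lit 296, nat_lit 259, nat_lit 296, nat_lit 222, nat_lit 296]))))))))
(.node (nat_lit 300) (.node (nat_lit 277) (.node (nat_lit 266) (.node (nat_lit 261) (.node (nat_lit 258) (.node (nat_lit 257) (.leaf 197 8 [nat_lit 74, nat_lit 37, nat_lit 148, nat_lit 111, nat_lit 148, nat_lit 259, nat_lit 74, nat_lit 259, nat_lit 111])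
(.leaf 625 10 [nat_lit 148, nat_lit 0, nat_lit 148, nat_lit 74, nat_lit 111, nat_lit 74, nat_lit 37, nat_lit 0, nat_lit 148, nat_lit 37, nat_lit 111, nat_lit 37, nat_lit 259, nat_lit 185, nat_lit 259, nat_lit 111, nat_lit 185]))
(.node (nat_lit 259) (.leaf 481 2 [nat_lit 222, nat_lit 185, nat_lit 222, nat_lit 37, nat_lit 296, nat_lit 37, nat_lit 296, nat_lit 111, nat_lit 185, nat_lit 296, nat_lit 111, nat_lit 37, nat_lit 296])
(.node (nat_lit 260) (.leaf 423 12 [nat_lit 0, nat_lit 296, nat_lit 0, nat_lit 296, nat_lit 185, nat_lit 74, nat_lit 0, nat_lit 37, nat_lit 185, nat_lit 74, nat_lit 259, nat_lit 0])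
(.leaf 593 4 [nat_lit 0, nat_lit 259, nat_lit 185, nat_lit 296, nat_lit 222, nat_lit 185, nat_lit 296, nat_lit 37, nat_lit 74, nat_lit 185, nat_lit 0, nat_lit 37, nat_lit 0, nat_lit 222, nat_lit 0, nat_lit 296]))))
(.node (nat_lit 263) (.node (nat_lit 262) (.leaf 445 13 [nat_lit 0, nat_lit 37, nat_lit 296, nat_lit 259, nat_lit 111, nat_lit 259, nat_lit 111, nat_lit 296, nat_lit 37, nat_lit 0, nat_lit 111, nat_lit 37, nat_lit 111])
(.leaf 577 12 [nat_lit 185, nat_lit 0, nat_lit 148, nat_lit 0, nat_lit 185, nat_lit 37, nat_lit 74, nat_lit 37, nat_lit 148, nat_lit 222, nat_lit 185, nat_lit 222, nat_lit 148, nat_lit 37, nat_lit 74]))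
(.node (nat_lit 264) (.leaf 229 8 [nat_lit 222, nat_lit 37, nat_lit 296, nat_lit 259, nat_lit 296, nat_lit 222, nat_lit 296, nat_lit 259, nat_lit 296])
(.node (nat_lit 265) (.leaf 577 4 [nat_lit 148, nat_lit 222, nat_lit 185, nat_lit 222, nat_lit 148, nat_lit 37, nat_lit 74, nat_lit 37, nat_lit 185, nat_lit 0, nat_lit 148, nat_lit 0, nat_lit 185, nat_lit 37, nat_lit 74])
(.leaf 475 2 [nat_lit 111, nat_lit 222, nat_lit 296, nat_lit 74, nat_lit 296, nat_lit 185, nat_lit 222, nat_lit 111, nat_lit 185, nat_lit 111, nat_lit 74, nat_lit 37, nat_lit 111])))))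
(.node (nat_lit 271) (.node (nat_lit 268) (.node (nat_lit 267) (.leaf 219 0 [nat_lit 222, nat_lit 185, nat_lit 259, nat_lit 74, nat_lit 37, nat_lit 222, nat_lit 185, nat_lit 259, nat_lit 74])
(.leaf 561 14 [nat_lit 74, nat_lit 0, nat_lit 222, nat_lit 0, nat_lit 185, nat_lit 37, nat_lit 74, nat_lit 185, nat_lit 296, nat_lit 185, nat_lit 0, nat_lit 222, nat_lit 0, nat_lit 185, nat_lit 296]))
(.node (nat_lit 269) (.leaf 477 0 [nat_lit 185, nat_lit 37, nat_lit 296, nat_lit 222, nat_lit 185, nat_lit 222, nat_lit 185, nat_lit 296, nat_lit 74, nat_lit 259, nat_lit 185, nat_lit 259, nat_lit 74])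
(.node (nat_lit 270) (.leaf 289 6 [nat_lit 185, nat_lit 222, nat_lit 185, nat_lit 37, nat_lit 0, nat_lit 222, nat_lit 0, nat_lit 296, nat_lit 259, nat_lit 296])
(.leaf 545 9 [nat_lit 74, nat_lit 0, nat_lit 37, nat_lit 111, nat_lit 0, nat_lit 37, nat_lit 0, nat_lit 296, nat_lit 37, nat_lit 74, nat_lit 185, nat_lit 111, nat_lit 185, nat_lit 37, nat_lit 296]))))
(.node (nat_lit 274) (.node (nat_lit 272) (.leaf 609 3 [nat_lit 74, nat_lit 259, nat_lit 185, nat_lit 259, nat_lit 37, nat_lit 148, nat_lit 185, nat_lit 74, nat_lit 185, nat_lit 37, nat_lit 148, nat_lit 185, nat_lit 74, nat_lit 0, nat_lit 148, nat_lit 111])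
(.node (nat_lit 273) (.leaf 605 16 [nat_lit 0, nat_lit 37, nat_lit 296, nat_lit 74, nat_lit 37, nat_lit 222, nat_lit 296, nat_lit 259, nat_lit 296, nat_lit 37, nat_lit 74, nat_lit 0, nat_lit 296, nat_lit 37, nat_lit 0, nat_lit 222])
(.leaf 501 14 [nat_lit 0, nat_lit 185, nat_lit 37, nat_lit 0, nat_lit 185, nat_lit 74, nat_lit 259, nat_lit 185, nat_lit 74, nat_lit 0, nat_lit 74, nat_lit 0, nat_lit 259, nat_lit 74])))
(.node (nat_lit 275) (.leaf 603 16 [nat_lit 0, nat_lit 37, nat_lit 259, nat_lit 148, nat_lit 185, nat_lit 37, nat_lit 259, nat_lit 0, nat_lit 148, nat_lit 185, nat_lit 148, nat_lit 259, nat_lit 0, nat_lit 37, nat_lit 185, nat_lit 148])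
(.node (nat_lit 276) (.leaf 285 10 [nat_lit 0, nat_lit 259, nat_lit 222, nat_lit 296, nat_lit 0, nat_lit 296, nat_lit 37, nat_lit 185, nat_lit 222, nat_lit 185])
(.leaf 533 0 [nat_lit 296, nat_lit 185, nat_lit 37, nat_lit 111, nat_lit 296, nat_lit 74, nat_lit 259, nat_lit 296, nat_lit 111, nat_lit 185, nat_lit 37, nat_lit 296, nat_lit 37, nat_lit 74]))))))
(.node (nat_lit 288) (.node (nat_lit 282) (.node (nat_lit 279) (.node (nat_lit 278) (.leaf 545 2 [nat_lit 74, nat_lit 185, nat_lit 111, nat_lit 185, nat_lit 37, nat_lit 296, nat_lit 37, nat_lit 74, nat_lit 0, nat_lit 37, nat_lit 111, nat_lit 0, nat_lit 37, nat_lit 0, nat_lit 296])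
(.leaf 355 6 [nat_lit 222, nat_lit 111, nat_lit 259, nat_lit 111, nat_lit 37, nat_lit 259, nat_lit 222, nat_lit 111, nat_lit 259, nat_lit 111]))
(.node (nat_lit 280) (.leaf 401 10 [nat_lit 74, nat_lit 37, nat_lit 111, nat_lit 74, nat_lit 111, nat_lit 37, nat_lit 74, nat_lit 37, nat_lit 111, nat_lit 74, nat_lit 111])
(.node (nat_lit 281) (.leaf 619 2 [nat_lit 185, nat_lit 148, nat_lit 259, nat_lit 74, nat_lit 259, nat_lit 148, nat_lit 111, nat_lit 222, nat_lit 74, nat_lit 185, nat_lit 222, nat_lit 74, nat_lit 111, nat_lit 74, nat_lit 37, nat_lit 185])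
(.leaf 627 2 [nat_lit 111, nat_lit 148, nat_lit 37, nat_lit 74, nat_lit 185, nat_lit 111, nat_lit 222, nat_lit 111, nat_lit 185, nat_lit 74, nat_lit 111, nat_lit 222, nat_lit 148, nat_lit 111, nat_lit 37, nat_lit 0, nat_lit 74]))))
(.node (nat_lit 285) (.node (nat_lit 283) (.leaf 553 10 [nat_lit 296, nat_lit 222, nat_lit 296, nat_lit 74, nat_lit 37, nat_lit 0, nat_lit 296, nat_lit 222, nat_lit 296, nat_lit 259, nat_lit 74, nat_lit 259, nat_lit 74, nat_lit 0, nat_lit 74])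
(.node (nat_lit 284) (.leaf 607 7 [nat_lit 111, nat_lit 74, nat_lit 222, nat_lit 0, nat_lit 222, nat_lit 37, nat_lit 148, nat_lit 222, nat_lit 37, nat_lit 0, nat_lit 222, nat_lit 74, nat_lit 148, nat_lit 37, nat_lit 111, nat_lit 148])
(.leaf 621 8 [nat_lit 74, nat_lit 259, nat_lit 148, nat_lit 259, nat_lit 74, nat_lit 259, nat_lit 148, nat_lit 74, nat_lit 37, nat_lit 74, nat_lit 185, nat_lit 37, nat_lit 185, nat_lit 37, nat_lit 185, nat_lit 259])))
(.node (nat_lit 286) (.leaf 549 15 [nat_lit 0, nat_lit 185, nat_lit 296, nat_lit 74, nat_lit 296, nat_lit 259, nat_lit 185, nat_lit 259, nat_lit 148, nat_lit 185, nat_lit 148, nat_lit 37, nat_lit 185, nat_lit 148, nat_lit 0])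
(.node (nat_lit 287) (.leaf 589 16 [nat_lit 0, nat_lit 185, nat_lit 111, nat_lit 37, nat_lit 111, nat_lit 37, nat_lit 185, nat_lit 37, nat_lit 0, nat_lit 37, nat_lit 148, nat_lit 37, nat_lit 111, nat_lit 37, nat_lit 148, nat_lit 0])
(.leaf 601 14 [nat_lit 148, nat_lit 37, nat_lit 0, nat_lit 37, nat_lit 148, nat_lit 222, nat_lit 111, nat_lit 296, nat_lit 37, nat_lit 222, nat_lit 111, nat_lit 222, nat_lit 74, nat_lit 37, nat_lit 74, nat_lit 296])))))
(.node (nat_lit 294) (.node (nat_lit 291) (.node (nat_lit 289) (.leaf 493 14 [nat_lit 0, nat_lit 296, nat_lit 37, nat_lit 0, nat_lit 185, nat_lit 259, nat_lit 296, nat_lit 185, nat_lit 296, nat_lit 259, nat_lit 185, nat_lit 259, nat_lit 74, nat_lit 0])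
(.node (nat_lit 290) (.leaf 609 8 [nat_lit 148, nat_lit 185, nat_lit 74, nat_lit 185, nat_lit 37, nat_lit 148, nat_lit 185, nat_lit 74, nat_lit 0, nat_lit 148, nat_lit 111, nat_lit 37, nat_lit 74, nat_lit 259, nat_lit 185, nat_lit 259])
(.leaf 513 8 [nat_lit 296, nat_lit 148, nat_lit 296, nat_lit 148, nat_lit 185, nat_lit 37, nat_lit 0, nat_lit 259, nat_lit 111, nat_lit 74, nat_lit 259, nat_lit 111, nat_lit 185, nat_lit 74])))
(.node (nat_lit 292) (.leaf 65 0 [nat_lit 222, nat_lit 37, nat_lit 74, nat_lit 259, nat_lit 222, nat_lit 259, nat_lit 74])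
(.node (nat_lit 293) (.leaf 401 0 [nat_lit 111, nat_lit 74, nat_lit 111, nat_lit 37, nat_lit 74, nat_lit 37, nat_lit 111, nat_lit 74, nat_lit 111, nat_lit 37, nat_lit 74])
(.leaf 505 14 [nat_lit 0, nat_lit 111, nat_lit 37, nat_lit 148, nat_lit 37, nat_lit 148, nat_lit 0, nat_lit 148, nat_lit 37, nat_lit 148, nat_lit 111, nat_lit 37, nat_lit 0, nat_lit 111]))))
(.node (nat_lit 297) (.node (nat_lit 295) (.leaf 503 10 [nat_lit 222, nat_lit 259, nat_lit 74, nat_lit 37, nat_lit 0, nat_lit 259, nat_lit 222, nat_lit 111, nat_lit 74, nat_lit 148, nat_lit 222, nat_lit 0, nat_lit 222, nat_lit 148])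
(.node (nat_lit 296) (.leaf 515 4 [nat_lit 0, nat_lit 74, nat_lit 185, nat_lit 296, nat_lit 185, nat_lit 296, nat_lit 259, nat_lit 185, nat_lit 222, nat_lit 37, nat_lit 0, nat_lit 37, nat_lit 296, nat_lit 222])
(.leaf 499 10 [nat_lit 0, nat_lit 37, nat_lit 74, nat_lit 37, nat_lit 0, nat_lit 37, nat_lit 259, nat_lit 296, nat_lit 74, nat_lit 296, nat_lit 148, nat_lit 74, nat_lit 148, nat_lit 259])))
(.node (nat_lit 298) (.leaf 603 13 [nat_lit 185, nat_lit 148, nat_lit 37, nat_lit 0, nat_lit 37, nat_lit 259, nat_lit 148, nat_lit 185, nat_lit 37, nat_lit 259, nat_lit 0, nat_lit 148, nat_lit 185, nat_lit 148, nat_lit 259, nat_lit 0])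
(.node (nat_lit 299) (.leaf 579 0 [nat_lit 222, nat_lit 185, nat_lit 222, nat_lit 148, nat_lit 222, nat_lit 111, nat_lit 222, nat_lit 74, nat_lit 111, nat_lit 222, nat_lit 148, nat_lit 74, nat_lit 185, nat_lit 37, nat_lit 185])
(.leaf 213 0 [nat_lit 259, nat_lit 74, nat_lit 259, nat_lit 74, nat_lit 259, nat_lit 37, nat_lit 74, nat_lit 259, nat_lit 74])))))))
(.node (nat_lit 330) (.node (nat_lit 313) (.node (nat_lit 306) (.node (nat_lit 303) (.node (nat_lit 301) (.leaf 287 10 [nat_lit 0, nat_lit 222, nat_lit 259, nat_lit 296, nat_lit 0, nat_lit 296, nat_lit 37, nat_lit 185, nat_lit 222, nat_lit 185])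
(.node (nat_lit 302) (.leaf 589 5 [nat_lit 185, nat_lit 37, nat_lit 0, nat_lit 37, nat_lit 148, nat_lit 37, nat_lit 111, nat_lit 37, nat_lit 148, nat_lit 0, nat_lit 37, nat_lit 0, nat_lit 185, nat_lit 111, nat_lit 37, nat_lit 111])
(.leaf 501 2 [nat_lit 0, nat_lit 185, nat_lit 74, nat_lit 259, nat_lit 185, nat_lit 74, nat_lit 0, nat_lit 74, nat_lit 0, nat_lit 259, nat_lit 74, nat_lit 37, nat_lit 0, nat_lit 185])))
(.node (nat_lit 304) (.leaf 593 12 [nat_lit 74, nat_lit 185, nat_lit 0, nat_lit 37, nat_lit 0, nat_lit 222, nat_lit 0, nat_lit 296, nat_lit 37, nat_lit 0, nat_lit 259, nat_lit 185, nat_lit 296, nat_lit 222, nat_lit 185, nat_lit 296])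
(.node (nat_lit 305) (.leaf 613 6 [nat_lit 296, nat_lit 222, nat_lit 0, nat_lit 222, nat_lit 111, nat_lit 222, nat_lit 111, nat_lit 222, nat_lit 111, nat_lit 222, nat_lit 0, nat_lit 296, nat_lit 74, nat_lit 259, nat_lit 37, nat_lit 74])
(.leaf 613 4 [nat_lit 74, nat_lit 37, nat_lit 296, nat_lit 222, nat_lit 0, nat_lit 222, nat_lit 111, nat_lit 222, nat_lit 111, nat_lit 222, nat_lit 111, nat_lit 222, nat_lit 0, nat_lit 296, nat_lit 74, nat_lit 259]))))
(.node (nat_lit 309) (.node (nat_lit 307) (.leaf 605 13 [nat_lit 0, nat_lit 222, nat_lit 37, nat_lit 0, nat_lit 37, nat_lit 296, nat_lit 74, nat_lit 37, nat_lit 222, nat_lit 296, nat_lit 259, nat_lit 296, nat_lit 37, nat_lit 74, nat_lit 0, nat_lit 296])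
(.node (nat_lit 308) (.leaf 515 14 [nat_lit 0, nat_lit 37, nat_lit 296, nat_lit 222, nat_lit 37, nat_lit 0, nat_lit 74, nat_lit 185, nat_lit 296, nat_lit 185, nat_lit 296, nat_lit 259, nat_lit 185, nat_lit 222])
(.leaf 595 16 [nat_lit 0, nat_lit 185, nat_lit 148, nat_lit 74, nat_lit 185, nat_lit 37, nat_lit 148, nat_lit 185, nat_lit 148, nat_lit 185, nat_lit 111, nat_lit 74, nat_lit 0, nat_lit 185, nat_lit 111, nat_lit 74])))
(.node (nat_lit 311) (.node (nat_lit 310) (.leaf 205 5 [nat_lit 74, nat_lit 259, nat_lit 222, nat_lit 74, nat_lit 37, nat_lit 74, nat_lit 222, nat_lit 259, nat_lit 74])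
(.leaf 489 14 [nat_lit 0, nat_lit 148, nat_lit 0, nat_lit 111, nat_lit 0, nat_lit 148, nat_lit 37, nat_lit 185, nat_lit 111, nat_lit 185, nat_lit 0, nat_lit 111, nat_lit 37, nat_lit 0]))
(.node (nat_lit 312) (.leaf 507 14 [nat_lit 0, nat_lit 185, nat_lit 148, nat_lit 74, nat_lit 296, nat_lit 148, nat_lit 296, nat_lit 259, nat_lit 74, nat_lit 185, nat_lit 0, nat_lit 111, nat_lit 259, nat_lit 111])
(.leaf 495 14 [nat_lit 0, nat_lit 296, nat_lit 37, nat_lit 296, nat_lit 0, nat_lit 185, nat_lit 296, nat_lit 259, nat_lit 185, nat_lit 296, nat_lit 185, nat_lit 296, nat_lit 74, nat_lit 0])))))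
(.node (nat_lit 321) (.node (nat_lit 317) (.node (nat_lit 315) (.node (nat_lit 314) (.leaf 345 2 [nat_lit 185, nat_lit 222, nat_lit 185, nat_lit 37, nat_lit 296, nat_lit 0, nat_lit 296, nat_lit 222, nat_lit 0, nat_lit 259])
(.leaf 121 9 [nat_lit 0, nat_lit 296, nat_lit 0, nat_lit 259, nat_lit 296, nat_lit 37, nat_lit 0, nat_lit 259, nat_lit 0]))
(.node (nat_lit 316) (.leaf 545 15 [nat_lit 0, nat_lit 296, nat_lit 37, nat_lit 74, nat_lit 185, nat_lit 111, nat_lit 185, nat_lit 37, nat_lit 296, nat_lit 37, nat_lit 74, nat_lit 0, nat_lit 37, nat_lit 111, nat_lit 0])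
(.leaf 499 14 [nat_lit 0, nat_lit 37, nat_lit 259, nat_lit 296, nat_lit 74, nat_lit 296, nat_lit 148, nat_lit 74, nat_lit 148, nat_lit 259, nat_lit 37, nat_lit 0, nat_lit 37, nat_lit 74])))
(.node (nat_lit 319) (.node (nat_lit 318) (.leaf 597 14 [nat_lit 111, nat_lit 37, nat_lit 0, nat_lit 259, nat_lit 74, nat_lit 111, nat_lit 148, nat_lit 222, nat_lit 0, nat_lit 222, nat_lit 148, nat_lit 185, nat_lit 259, nat_lit 111, nat_lit 185, nat_lit 74])
(.leaf 621 5 [nat_lit 185, nat_lit 259, nat_lit 37, nat_lit 74, nat_lit 259, nat_lit 148, nat_lit 259, nat_lit 74, nat_lit 259, nat_lit 148, nat_lit 74, nat_lit 37, nat_lit 74, nat_lit 185, nat_lit 37, nat_lit 185]))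
(.node (nat_lit 320) (.leaf 71 6 [nat_lit 222, nat_lit 37, nat_lit 259, nat_lit 37, nat_lit 222, nat_lit 37, nat_lit 259])
(.leaf 603 5 [nat_lit 259, nat_lit 0, nat_lit 148, nat_lit 185, nat_lit 148, nat_lit 259, nat_lit 0, nat_lit 37, nat_lit 185, nat_lit 148, nat_lit 37, nat_lit 0, nat_lit 37, nat_lit 259, nat_lit 148, nat_lit 185]))))
(.node (nat_lit 325) (.node (nat_lit 323) (.node (nat_lit 322) (.leaf 591 8 [nat_lit 0, nat_lit 185, nat_lit 74, nat_lit 0, nat_lit 185, nat_lit 148, nat_lit 0, nat_lit 37, nat_lit 0, nat_lit 185, nat_lit 74, nat_lit 0, nat_lit 148, nat_lit 185, nat_lit 148, nat_lit 0])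
(.leaf 519 10 [nat_lit 296, nat_lit 222, nat_lit 0, nat_lit 74, nat_lit 0, nat_lit 222, nat_lit 296, nat_lit 37, nat_lit 148, nat_lit 74, nat_lit 148, nat_lit 111, nat_lit 74, nat_lit 111]))
(.node (nat_lit 324) (.leaf 545 12 [nat_lit 111, nat_lit 0, nat_lit 37, nat_lit 0, nat_lit 296, nat_lit 37, nat_lit 74, nat_lit 185, nat_lit 111, nat_lit 185, nat_lit 37, nat_lit 296, nat_lit 37, nat_lit 74, nat_lit 0])
(.leaf 577 10 [nat_lit 74, nat_lit 37, nat_lit 185, nat_lit 0, nat_lit 148, nat_lit 0, nat_lit 185, nat_lit 37, nat_lit 74, nat_lit 37, nat_lit 148, nat_lit 222, nat_lit 185, nat_lit 222, nat_lit 148])))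
(.node (nat_lit 327) (.node (nat_lit 326) (.leaf 631 9 [nat_lit 222, nat_lit 185, nat_lit 0, nat_lit 222, nat_lit 148, nat_lit 0, nat_lit 222, nat_lit 37, nat_lit 0, nat_lit 185, nat_lit 222, nat_lit 148, nat_lit 185, nat_lit 148, nat_lit 0, nat_lit 74, nat_lit 148])
(.leaf 217 6 [nat_lit 185, nat_lit 259, nat_lit 74, nat_lit 37, nat_lit 222, nat_lit 185, nat_lit 259, nat_lit 74, nat_lit 222]))
(.node (nat_lit 328) (.leaf 551 15 [nat_lit 0, nat_lit 259, nat_lit 111, nat_lit 0, nat_lit 111, nat_lit 37, nat_lit 259, nat_lit 74, nat_lit 148, nat_lit 185, nat_lit 111, nat_lit 185, nat_lit 148, nat_lit 111, nat_lit 74])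
(.node (nat_lit 329) (.leaf 287 6 [nat_lit 185, nat_lit 222, nat_lit 185, nat_lit 37, nat_lit 0, nat_lit 222, nat_lit 259, nat_lit 296, nat_lit 0, nat_lit 296])
(.leaf 223 6 [nat_lit 111, nat_lit 37, nat_lit 111, nat_lit 37, nat_lit 148, nat_lit 111, nat_lit 148, nat_lit 37, nat_lit 111])))))))
(.node (nat_lit 350) (.node (nat_lit 339) (.node (nat_lit 334) (.node (nat_lit 332) (.node (nat_lit 331) (.leaf 621 3 [nat_lit 185, nat_lit 37, nat_lit 185, nat_lit 259, nat_lit 37, nat_lit 74, nat_lit 259, nat_lit 148, nat_lit 259, nat_lit 74, nat_lit 259, nat_lit 148, nat_lit 74, nat_lit 37, nat_lit 74, nat_lit 185])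
(.leaf 625 2 [nat_lit 111, nat_lit 37, nat_lit 259, nat_lit 185, nat_lit 259, nat_lit 111, nat_lit 185, nat_lit 37, nat_lit 148, nat_lit 0, nat_lit 148, nat_lit 74, nat_lit 111, nat_lit 74, nat_lit 37, nat_lit 0, nat_lit 148]))
(.node (nat_lit 333) (.leaf 503 14 [nat_lit 0, nat_lit 259, nat_lit 222, nat_lit 111, nat_lit 74, nat_lit 148, nat_lit 222, nat_lit 0, nat_lit 222, nat_lit 148, nat_lit 37, nat_lit 222, nat_lit 259, nat_lit 74])
(.leaf 589 7 [nat_lit 0, nat_lit 37, nat_lit 148, nat_lit 37, nat_lit 111, nat_lit 37, nat_lit 148, nat_lit 0, nat_lit 37, nat_lit 0, nat_lit 185, nat_lit 111, nat_lit 37, nat_lit 111, nat_lit 37, nat_lit 185])))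
(.node (nat_lit 336) (.node (nat_lit 335) (.leaf 71 0 [nat_lit 259, nat_lit 37, nat_lit 222, nat_lit 37, nat_lit 259, nat_lit 37, nat_lit 222])
(.leaf 489 12 [nat_lit 0, nat_lit 37, nat_lit 0, nat_lit 148, nat_lit 0, nat_lit 111, nat_lit 0, nat_lit 148, nat_lit 37, nat_lit 185, nat_lit 111, nat_lit 185, nat_lit 0, nat_lit 111]))
(.node (nat_lit 337) (.leaf 623 17 [nat_lit 0, nat_lit 111, nat_lit 185, nat_lit 148, nat_lit 74, nat_lit 148, nat_lit 185, nat_lit 37, nat_lit 111, nat_lit 74, nat_lit 111, nat_lit 74, nat_lit 0, nat_lit 111, nat_lit 185, nat_lit 37, nat_lit 0])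
(.node (nat_lit 338) (.leaf 593 16 [nat_lit 0, nat_lit 222, nat_lit 0, nat_lit 296, nat_lit 37, nat_lit 0, nat_lit 259, nat_lit 185, nat_lit 296, nat_lit 222, nat_lit 185, nat_lit 296, nat_lit 37, nat_lit 74, nat_lit 185, nat_lit 0])
(.leaf 543 12 [nat_lit 111, nat_lit 0, nat_lit 37, nat_lit 0, nat_lit 296, nat_lit 222, nat_lit 111, nat_lit 0, nat_lit 222, nat_lit 111, nat_lit 222, nat_lit 0, nat_lit 296, nat_lit 37, nat_lit 0])))))
(.node (nat_lit 344) (.node (nat_lit 341) (.node (nat_lit 340) (.leaf 599 16 [nat_lit 0, nat_lit 148, nat_lit 0, nat_lit 185, nat_lit 148, nat_lit 0, nat_lit 148, nat_lit 222, nat_lit 74, nat_lit 185, nat_lit 222, nat_lit 148, nat_lit 222, nat_lit 185, nat_lit 222, nat_lit 111])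
(.leaf 205 0 [nat_lit 74, nat_lit 222, nat_lit 259, nat_lit 74, nat_lit 37, nat_lit 74, nat_lit 259, nat_lit 222, nat_lit 74]))
(.node (nat_lit 342) (.leaf 513 14 [nat_lit 0, nat_lit 259, nat_lit 111, nat_lit 74, nat_lit 259, nat_lit 111, nat_lit 185, nat_lit 74, nat_lit 37, nat_lit 296, nat_lit 148, nat_lit 296, nat_lit 148, nat_lit 185])
(.node (nat_lit 343) (.leaf 537 0 [nat_lit 222, nat_lit 148, nat_lit 222, nat_lit 296, nat_lit 74, nat_lit 296, nat_lit 222, nat_lit 148, nat_lit 222, nat_lit 37, nat_lit 148, nat_lit 74, nat_lit 148, nat_lit 74])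
(.leaf 531 0 [nat_lit 111, nat_lit 74, nat_lit 111, nat_lit 148, nat_lit 296, nat_lit 74, nat_lit 37, nat_lit 74, nat_lit 37, nat_lit 296, nat_lit 148, nat_lit 74, nat_lit 37, nat_lit 74]))))
(.node (nat_lit 347) (.node (nat_lit 345) (.leaf 191 8 [nat_lit 74, nat_lit 37, nat_lit 111, nat_lit 259, nat_lit 74, nat_lit 37, nat_lit 259, nat_lit 37, nat_lit 111])
(.node (nat_lit 346) (.leaf 355 0 [nat_lit 259, nat_lit 222, nat_lit 111, nat_lit 259, nat_lit 111, nat_lit 37, nat_lit 222, nat_lit 111, nat_lit 259, nat_lit 111])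
(.leaf 617 0 [nat_lit 111, nat_lit 148, nat_lit 296, nat_lit 259, nat_lit 148, nat_lit 296, nat_lit 74, nat_lit 296, nat_lit 148, nat_lit 259, nat_lit 296, nat_lit 74, nat_lit 148, nat_lit 111, nat_lit 37, nat_lit 74])))
(.node (nat_lit 348) (.leaf 597 16 [nat_lit 0, nat_lit 259, nat_lit 74, nat_lit 111, nat_lit 148, nat_lit 222, nat_lit 0, nat_lit 222, nat_lit 148, nat_lit 185, nat_lit 259, nat_lit 111, nat_lit 185, nat_lit 74, nat_lit 37, nat_lit 111])
(.node (nat_lit 349) (.leaf 603 1 [nat_lit 259, nat_lit 148, nat_lit 185, nat_lit 37, nat_lit 259, nat_lit 0, nat_lit 148, nat_lit 185, nat_lit 148, nat_lit 259, nat_lit 0, nat_lit 37, nat_lit 185, nat_lit 148, nat_lit 37, nat_lit 0])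
(.leaf 577 2 [nat_lit 74, nat_lit 37, nat_lit 148, nat_lit 222, nat_lit 185, nat_lit 222, nat_lit 148, nat_lit 37, nat_lit 74, nat_lit 37, nat_lit 185, nat_lit 0, nat_lit 148, nat_lit 0, nat_lit 185]))))))
(.node (nat_lit 363) (.node (nat_lit 356) (.node (nat_lit 353) (.node (nat_lit 351) (.leaf 583 14 [nat_lit 0, nat_lit 37, nat_lit 0, nat_lit 148, nat_lit 222, nat_lit 111, nat_lit 37, nat_lit 185, nat_lit 0, nat_lit 111, nat_lit 0, nat_lit 185, nat_lit 222, nat_lit 148, nat_lit 37, nat_lit 74])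
(.node (nat_lit 352) (.leaf 543 10 [nat_lit 0, nat_lit 37, nat_lit 111, nat_lit 0, nat_lit 37, nat_lit 0, nat_lit 296, nat_lit 222, nat_lit 111, nat_lit 0, nat_lit 222, nat_lit 111, nat_lit 222, nat_lit 0, nat_lit 296])
(.leaf 353 0 [nat_lit 222, nat_lit 259, nat_lit 111, nat_lit 259, nat_lit 111, nat_lit 222, nat_lit 37, nat_lit 111, nat_lit 259, nat_lit 111])))
(.node (nat_lit 354) (.leaf 127 4 [nat_lit 74, nat_lit 37, nat_lit 111, nat_lit 259, nat_lit 74, nat_lit 0, nat_lit 259, nat_lit 0, nat_lit 111])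
(.node (nat_lit 355) (.leaf 223 8 [nat_lit 111, nat_lit 37, nat_lit 148, nat_lit 111, nat_lit 148, nat_lit 37, nat_lit 111, nat_lit 37, nat_lit 111])
(.leaf 217 0 [nat_lit 222, nat_lit 185, nat_lit 259, nat_lit 74, nat_lit 222, nat_lit 37, nat_lit 185, nat_lit 259, nat_lit 74]))))
(.node (nat_lit 359) (.node (nat_lit 357) (.leaf 191 0 [nat_lit 111, nat_lit 259, nat_lit 74, nat_lit 37, nat_lit 259, nat_lit 37, nat_lit 111, nat_lit 37, nat_lit 74])
(.node (nat_lit 358) (.leaf 555 15 [nat_lit 0, nat_lit 74, nat_lit 0, nat_lit 185, nat_lit 37, nat_lit 74, nat_lit 185, nat_lit 0, nat_lit 148, nat_lit 222, nat_lit 0, nat_lit 222, nat_lit 148, nat_lit 74, nat_lit 111])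
(.leaf 617 15 [nat_lit 74, nat_lit 37, nat_lit 111, nat_lit 148, nat_lit 296, nat_lit 259, nat_lit 148, nat_lit 296, nat_lit 74, nat_lit 296, nat_lit 148, nat_lit 259, nat_lit 296, nat_lit 74, nat_lit 148, nat_lit 111])))
(.node (nat_lit 361) (.node (nat_lit 360) (.leaf 587 16 [nat_lit 0, nat_lit 296, nat_lit 148, nat_lit 222, nat_lit 296, nat_lit 0, nat_lit 37, nat_lit 296, nat_lit 222, nat_lit 148, nat_lit 296, nat_lit 74, nat_lit 148, nat_lit 0, nat_lit 148, nat_lit 0])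
(.leaf 225 4 [nat_lit 111, nat_lit 37, nat_lit 111, nat_lit 37, nat_lit 111, nat_lit 37, nat_lit 296, nat_lit 111, nat_lit 296]))
(.node (nat_lit 362) (.leaf 635 27 [nat_lit 0, nat_lit 148, nat_lit 296, nat_lit 37, nat_lit 0, nat_lit 148, nat_lit 296, nat_lit 37, nat_lit 0, nat_lit 148, nat_lit 296, nat_lit 37, nat_lit 0, nat_lit 148, nat_lit 296, nat_lit 37, nat_lit 0, nat_lit 148, nat_lit 296, nat_lit 37, nat_lit 0, nat_lit 148, nat_lit 296, nat_lit 37, nat_lit 0, nat_lit 148, nat_lit 296])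
(.leaf 215 0 [nat_lit 222, nat_lit 185, nat_lit 222, nat_lit 259, nat_lit 74, nat_lit 37, nat_lit 185, nat_lit 259, nat_lit 74])))))
(.node (nat_lit 371) (.node (nat_lit 367) (.node (nat_lit 365) (.node (nat_lit 364) (.leaf 357 0 [nat_lit 222, nat_lit 259, nat_lit 111, nat_lit 259, nat_lit 111, nat_lit 37, nat_lit 222, nat_lit 111, nat_lit 259, nat_lit 111])
(.leaf 499 1 [nat_lit 259, nat_lit 296, nat_lit 74, nat_lit 296, nat_lit 148, nat_lit 74, nat_lit 148, nat_lit 259, nat_lit 37, nat_lit 0, nat_lit 37, nat_lit 74, nat_lit 37, nat_lit 0]))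
(.node (nat_lit 366) (.leaf 475 0 [nat_lit 111, nat_lit 37, nat_lit 111, nat_lit 222, nat_lit 296, nat_lit 74, nat_lit 296, nat_lit 185, nat_lit 222, nat_lit 111, nat_lit 185, nat_lit 111, nat_lit 74])
(.leaf 615 0 [nat_lit 74, nat_lit 296, nat_lit 259, nat_lit 111, nat_lit 148, nat_lit 259, nat_lit 111, nat_lit 259, nat_lit 148, nat_lit 74, nat_lit 259, nat_lit 296, nat_lit 111, nat_lit 74, nat_lit 37, nat_lit 74])))
(.node (nat_lit 369) (.node (nat_lit 368) (.leaf 225 6 [nat_lit 111, nat_lit 37, nat_lit 111, nat_lit 37, nat_lit 296, nat_lit 111, nat_lit 296, nat_lit 37, nat_lit 111])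
(.leaf 621 0 [nat_lit 74, nat_lit 185, nat_lit 37, nat_lit 185, nat_lit 37, nat_lit 185, nat_lit 259, nat_lit 37, nat_lit 74, nat_lit 259, nat_lit 148, nat_lit 259, nat_lit 74, nat_lit 259, nat_lit 148, nat_lit 74]))
(.node (nat_lit 370) (.leaf 629 14 [nat_lit 74, nat_lit 148, nat_lit 37, nat_lit 0, nat_lit 111, nat_lit 185, nat_lit 111, nat_lit 148, nat_lit 37, nat_lit 148, nat_lit 185, nat_lit 37, nat_lit 148, nat_lit 259, nat_lit 37, nat_lit 185, nat_lit 259])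
(.leaf 601 11 [nat_lit 74, nat_lit 296, nat_lit 37, nat_lit 148, nat_lit 37, nat_lit 0, nat_lit 37, nat_lit 148, nat_lit 222, nat_lit 111, nat_lit 296, nat_lit 37, nat_lit 222, nat_lit 111, nat_lit 222, nat_lit 74]))))
(.node (nat_lit 376) (.node (nat_lit 373) (.node (nat_lit 372) (.leaf 499 12 [nat_lit 74, nat_lit 37, nat_lit 0, nat_lit 37, nat_lit 259, nat_lit 296, nat_lit 74, nat_lit 296, nat_lit 148, nat_lit 74, nat_lit 148, nat_lit 259, nat_lit 37, nat_lit 0])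
(.leaf 627 5 [nat_lit 74, nat_lit 185, nat_lit 111, nat_lit 222, nat_lit 111, nat_lit 185, nat_lit 74, nat_lit 111, nat_lit 222, nat_lit 148, nat_lit 111, nat_lit 37, nat_lit 0, nat_lit 74, nat_lit 37, nat_lit 111, nat_lit 148]))
(.node (nat_lit 374) (.leaf 221 0 [nat_lit 185, nat_lit 222, nat_lit 259, nat_lit 74, nat_lit 37, nat_lit 185, nat_lit 222, nat_lit 259, nat_lit 74])
(.node (nat_lit 375) (.leaf 625 4 [nat_lit 259, nat_lit 185, nat_lit 259, nat_lit 111, nat_lit 185, nat_lit 37, nat_lit 148, nat_lit 0, nat_lit 148, nat_lit 74, nat_lit 111, nat_lit 74, nat_lit 37, nat_lit 0, nat_lit 148, nat_lit 37, nat_lit 111])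
(.leaf 623 15 [nat_lit 0, nat_lit 37, nat_lit 0, nat_lit 111, nat_lit 185, nat_lit 148, nat_lit 74, nat_lit 148, nat_lit 185, nat_lit 37, nat_lit 111, nat_lit 74, nat_lit 111, nat_lit 74, nat_lit 0, nat_lit 111, nat_lit 185]))))
(.node (nat_lit 379) (.node (nat_lit 377) (.leaf 619 0 [nat_lit 185, nat_lit 37, nat_lit 185, nat_lit 148, nat_lit 259, nat_lit 74, nat_lit 259, nat_lit 148, nat_lit 111, nat_lit 222, nat_lit 74, nat_lit 185, nat_lit 222, nat_lit 74, nat_lit 111, nat_lit 74])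
(.node (nat_lit 378) (.leaf 125 9 [nat_lit 0, nat_lit 296, nat_lit 0, nat_lit 259, nat_lit 296, nat_lit 37, nat_lit 222, nat_lit 259, nat_lit 222])
(.leaf 357 6 [nat_lit 222, nat_lit 111, nat_lit 259, nat_lit 111, nat_lit 37, nat_lit 222, nat_lit 259, nat_lit 111, nat_lit 259, nat_lit 111])))
(.node (nat_lit 381) (.node (nat_lit 380) (.leaf 225 8 [nat_lit 111, nat_lit 37, nat_lit 296, nat_lit 111, nat_lit 296, nat_lit 37, nat_lit 111, nat_lit 37, nat_lit 111])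
(.leaf 557 15 [nat_lit 0, nat_lit 185, nat_lit 74, nat_lit 0, nat_lit 74, nat_lit 111, nat_lit 74, nat_lit 259, nat_lit 74, nat_lit 185, nat_lit 0, nat_lit 74, nat_lit 259, nat_lit 74, nat_lit 111]))
(.node (nat_lit 382) (.leaf 199 8 [nat_lit 74, nat_lit 37, nat_lit 296, nat_lit 111, nat_lit 296, nat_lit 259, nat_lit 74, nat_lit 259, nat_lit 111])
(.node (nat_lit 383) (.leaf 127 6 [nat_lit 111, nat_lit 259, nat_lit 74, nat_lit 0, nat_lit 259, nat_lit 0, nat_lit 111, nat_lit 37, nat_lit 74])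
(.leaf 73 0 [nat_lit 222, nat_lit 259, nat_lit 222, nat_lit 37, nat_lit 222, nat_lit 259, nat_lit 222])))))))))))))
(.leaf 0 0 []))))
noncomputable def wt2 : LT := (.node (nat_lit 11) (.node (nat_lit 2) (.node (nat_lit 0) (.leaf 7 0 [nat_lit 222, nat_lit 74, nat_lit 222])
(.node (nat_lit 1) (.leaf 21 0 [nat_lit 185, nat_lit 74, nat_lit 185, nat_lit 74, nat_lit 185])
(.leaf 87 0 [nat_lit 296, nat_lit 74, nat_lit 296, nat_lit 74, nat_lit 296, nat_lit 74, nat_lit 296])))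
(.node (nat_lit 5) (.node (nat_lit 3) (.leaf 79 0 [nat_lit 148, nat_lit 74, nat_lit 148, nat_lit 74, nat_lit 148, nat_lit 74, nat_lit 148])
(.node (nat_lit 4) (.leaf 23 0 [nat_lit 259, nat_lit 222, nat_lit 259, nat_lit 74, nat_lit 222])
(.leaf 55 7 [nat_lit 37, nat_lit 74, nat_lit 37, nat_lit 74, nat_lit 37, nat_lit 74, nat_lit 37])))
(.node (nat_lit 8) (.node (nat_lit 6) (.leaf 77 0 [nat_lit 111, nat_lit 74, nat_lit 111, nat_lit 74, nat_lit 111, nat_lit 74, nat_lit 111])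
(.node (nat_lit 7) (.leaf 89 0 [nat_lit 296, nat_lit 148, nat_lit 296, nat_lit 74, nat_lit 296, nat_lit 148, nat_lit 296])
(.leaf 175 7 [nat_lit 148, nat_lit 222, nat_lit 0, nat_lit 296, nat_lit 74, nat_lit 296, nat_lit 0, nat_lit 222, nat_lit 148])))
(.node (nat_lit 9) (.leaf 57 7 [nat_lit 37, nat_lit 111, nat_lit 259, nat_lit 74, nat_lit 259, nat_lit 111, nat_lit 37])
(.node (nat_lit 10) (.leaf 127 9 [nat_lit 0, nat_lit 259, nat_lit 0, nat_lit 111, nat_lit 37, nat_lit 74, nat_lit 37, nat_lit 111, nat_lit 259])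
(.leaf 57 3 [nat_lit 259, nat_lit 111, nat_lit 37, nat_lit 74, nat_lit 37, nat_lit 111, nat_lit 259]))))))
(.node (nat_lit 99) (.node (nat_lit 27) (.node (nat_lit 16) (.node (nat_lit 13) (.node (nat_lit 12) (.leaf 237 0 [nat_lit 111, nat_lit 259, nat_lit 222, nat_lit 111, nat_lit 74, nat_lit 111, nat_lit 259, nat_lit 222, nat_lit 111])
(.leaf 129 9 [nat_lit 0, nat_lit 74, nat_lit 296, nat_lit 259, nat_lit 74, nat_lit 0, nat_lit 74, nat_lit 296, nat_lit 259]))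
(.node (nat_lit 14) (.leaf 129 6 [nat_lit 296, nat_lit 259, nat_lit 74, nat_lit 0, nat_lit 74, nat_lit 296, nat_lit 259, nat_lit 74, nat_lit 0])
(.node (nat_lit 15) (.leaf 175 2 [nat_lit 296, nat_lit 0, nat_lit 222, nat_lit 148, nat_lit 74, nat_lit 148, nat_lit 222, nat_lit 0, nat_lit 296])
(.leaf 203 5 [nat_lit 185, nat_lit 222, nat_lit 185, nat_lit 74, nat_lit 37, nat_lit 185, nat_lit 222, nat_lit 185, nat_lit 37]))))
(.node (nat_lit 21) (.node (nat_lit 18) (.node (nat_lit 17) (.leaf 279 8 [nat_lit 185, nat_lit 37, nat_lit 0, nat_lit 74, nat_lit 185, nat_lit 296, nat_lit 259, nat_lit 296, nat_lit 37, nat_lit 0])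
(.leaf 131 9 [nat_lit 0, nat_lit 259, nat_lit 74, nat_lit 296, nat_lit 74, nat_lit 259, nat_lit 0, nat_lit 74, nat_lit 296]))
(.node (nat_lit 19) (.leaf 295 10 [nat_lit 0, nat_lit 296, nat_lit 74, nat_lit 296, nat_lit 148, nat_lit 0, nat_lit 74, nat_lit 0, nat_lit 148, nat_lit 0])
(.node (nat_lit 20) (.leaf 233 0 [nat_lit 148, nat_lit 111, nat_lit 148, nat_lit 74, nat_lit 111, nat_lit 74, nat_lit 111, nat_lit 74, nat_lit 111])
(.leaf 189 1 [nat_lit 111, nat_lit 259, nat_lit 74, nat_lit 259, nat_lit 111, nat_lit 74, nat_lit 37, nat_lit 74, nat_lit 37]))))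
(.node (nat_lit 24) (.node (nat_lit 22) (.leaf 295 6 [nat_lit 0, nat_lit 148, nat_lit 0, nat_lit 74, nat_lit 0, nat_lit 296, nat_lit 74, nat_lit 296, nat_lit 148, nat_lit 0])
(.node (nat_lit 23) (.leaf 243 8 [nat_lit 148, nat_lit 74, nat_lit 296, nat_lit 148, nat_lit 74, nat_lit 148, nat_lit 74, nat_lit 296, nat_lit 148])
(.leaf 193 6 [nat_lit 111, nat_lit 37, nat_lit 74, nat_lit 37, nat_lit 111, nat_lit 74, nat_lit 259, nat_lit 74, nat_lit 259])))
(.node (nat_lit 25) (.leaf 59 7 [nat_lit 37, nat_lit 222, nat_lit 37, nat_lit 74, nat_lit 37, nat_lit 222, nat_lit 37])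
(.node (nat_lit 26) (.leaf 63 5 [nat_lit 259, nat_lit 74, nat_lit 37, nat_lit 74, nat_lit 259, nat_lit 74, nat_lit 37])
(.leaf 239 0 [nat_lit 111, nat_lit 222, nat_lit 259, nat_lit 111, nat_lit 74, nat_lit 111, nat_lit 259, nat_lit 222, nat_lit 111]))))))
(.node (nat_lit 50) (.node (nat_lit 37) (.node (nat_lit 31) (.node (nat_lit 29) (.node (nat_lit 28) (.leaf 349 10 [nat_lit 37, nat_lit 148, nat_lit 37, nat_lit 296, nat_lit 74, nat_lit 296, nat_lit 74, nat_lit 37, nat_lit 148, nat_lit 37])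
(.leaf 279 1 [nat_lit 185, nat_lit 296, nat_lit 259, nat_lit 296, nat_lit 37, nat_lit 0, nat_lit 74, nat_lit 185, nat_lit 37, nat_lit 0]))
(.node (nat_lit 30) (.leaf 245 2 [nat_lit 148, nat_lit 74, nat_lit 148, nat_lit 296, nat_lit 148, nat_lit 74, nat_lit 148, nat_lit 74, nat_lit 296])
(.leaf 131 7 [nat_lit 296, nat_lit 74, nat_lit 0, nat_lit 259, nat_lit 74, nat_lit 296, nat_lit 74, nat_lit 259, nat_lit 0])))
(.node (nat_lit 34) (.node (nat_lit 32) (.leaf 379 6 [nat_lit 148, nat_lit 0, nat_lit 111, nat_lit 185, nat_lit 37, nat_lit 0, nat_lit 111, nat_lit 185, nat_lit 37, nat_lit 185, nat_lit 148])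
(.node (nat_lit 33) (.leaf 83 0 [nat_lit 259, nat_lit 74, nat_lit 259, nat_lit 74, nat_lit 259, nat_lit 74, nat_lit 259])
(.leaf 349 4 [nat_lit 296, nat_lit 74, nat_lit 37, nat_lit 148, nat_lit 37, nat_lit 74, nat_lit 37, nat_lit 148, nat_lit 37, nat_lit 296])))
(.node (nat_lit 35) (.leaf 207 9 [nat_lit 37, nat_lit 185, nat_lit 222, nat_lit 259, nat_lit 74, nat_lit 37, nat_lit 185, nat_lit 259, nat_lit 222])
(.node (nat_lit 36) (.leaf 65 7 [nat_lit 37, nat_lit 222, nat_lit 37, nat_lit 74, nat_lit 259, nat_lit 222, nat_lit 259])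
(.leaf 385 6 [nat_lit 148, nat_lit 74, nat_lit 185, nat_lit 0, nat_lit 111, nat_lit 0, nat_lit 185, nat_lit 74, nat_lit 148, nat_lit 74, nat_lit 111])))))
(.node (nat_lit 43) (.node (nat_lit 40) (.node (nat_lit 38) (.leaf 123 6 [nat_lit 259, nat_lit 185, nat_lit 37, nat_lit 0, nat_lit 74, nat_lit 259, nat_lit 185, nat_lit 37, nat_lit 0])
(.node (nat_lit 39) (.leaf 385 8 [nat_lit 185, nat_lit 0, nat_lit 111, nat_lit 0, nat_lit 185, nat_lit 74, nat_lit 148, nat_lit 74, nat_lit 111, nat_lit 74, nat_lit 148])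
(.leaf 61 7 [nat_lit 37, nat_lit 74, nat_lit 222, nat_lit 74, nat_lit 37, nat_lit 74, nat_lit 222])))
(.node (nat_lit 41) (.leaf 527 5 [nat_lit 148, nat_lit 185, nat_lit 148, nat_lit 111, nat_lit 74, nat_lit 111, nat_lit 185, nat_lit 74, nat_lit 111, nat_lit 0, nat_lit 148, nat_lit 37, nat_lit 148, nat_lit 185])
(.node (nat_lit 42) (.leaf 427 12 [nat_lit 0, nat_lit 222, nat_lit 148, nat_lit 296, nat_lit 222, nat_lit 0, nat_lit 222, nat_lit 296, nat_lit 74, nat_lit 148, nat_lit 111, nat_lit 222])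
(.leaf 63 7 [nat_lit 37, nat_lit 74, nat_lit 259, nat_lit 74, nat_lit 37, nat_lit 74, nat_lit 259]))))
(.node (nat_lit 46) (.node (nat_lit 44) (.leaf 423 5 [nat_lit 0, nat_lit 37, nat_lit 185, nat_lit 74, nat_lit 259, nat_lit 0, nat_lit 37, nat_lit 0, nat_lit 296, nat_lit 0, nat_lit 296, nat_lit 185])
(.node (nat_lit 45) (.leaf 363 7 [nat_lit 148, nat_lit 222, nat_lit 148, nat_lit 74, nat_lit 259, nat_lit 74, nat_lit 259, nat_lit 148, nat_lit 222, nat_lit 148])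
(.leaf 299 10 [nat_lit 0, nat_lit 222, nat_lit 296, nat_lit 0, nat_lit 296, nat_lit 259, nat_lit 74, nat_lit 185, nat_lit 222, nat_lit 185])))
(.node (nat_lit 48) (.node (nat_lit 47) (.leaf 337 7 [nat_lit 259, nat_lit 74, nat_lit 148, nat_lit 0, nat_lit 296, nat_lit 74, nat_lit 296, nat_lit 0, nat_lit 148, nat_lit 259])
(.leaf 297 10 [nat_lit 0, nat_lit 296, nat_lit 259, nat_lit 296, nat_lit 222, nat_lit 0, nat_lit 74, nat_lit 185, nat_lit 222, nat_lit 185]))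
(.node (nat_lit 49) (.leaf 295 2 [nat_lit 296, nat_lit 148, nat_lit 0, nat_lit 74, nat_lit 0, nat_lit 148, nat_lit 0, nat_lit 74, nat_lit 0, nat_lit 296])
(.leaf 555 5 [nat_lit 185, nat_lit 0, nat_lit 148, nat_lit 222, nat_lit 0, nat_lit 222, nat_lit 148, nat_lit 74, nat_lit 111, nat_lit 37, nat_lit 0, nat_lit 74, nat_lit 0, nat_lit 185, nat_lit 37]))))))
(.node (nat_lit 69) (.node (nat_lit 58) (.node (nat_lit 54) (.node (nat_lit 52) (.node (nat_lit 51) (.leaf 369 9 [nat_lit 0, nat_lit 37, nat_lit 0, nat_lit 74, nat_lit 37, nat_lit 185, nat_lit 37, nat_lit 0, nat_lit 37, nat_lit 185, nat_lit 37])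
(.leaf 203 9 [nat_lit 37, nat_lit 185, nat_lit 222, nat_lit 185, nat_lit 37, nat_lit 74, nat_lit 185, nat_lit 222, nat_lit 185]))
(.node (nat_lit 53) (.leaf 297 6 [nat_lit 185, nat_lit 222, nat_lit 185, nat_lit 74, nat_lit 0, nat_lit 296, nat_lit 259, nat_lit 296, nat_lit 222, nat_lit 0])
(.leaf 451 8 [nat_lit 185, nat_lit 0, nat_lit 74, nat_lit 37, nat_lit 74, nat_lit 0, nat_lit 222, nat_lit 259, nat_lit 185, nat_lit 222, nat_lit 74, nat_lit 259, nat_lit 0])))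
(.node (nat_lit 56) (.node (nat_lit 55) (.leaf 425 9 [nat_lit 148, nat_lit 74, nat_lit 37, nat_lit 0, nat_lit 259, nat_lit 111, nat_lit 74, nat_lit 111, nat_lit 259, nat_lit 0, nat_lit 37, nat_lit 148])
(.leaf 249 4 [nat_lit 148, nat_lit 296, nat_lit 148, nat_lit 296, nat_lit 148, nat_lit 74, nat_lit 296, nat_lit 148, nat_lit 296]))
(.node (nat_lit 57) (.leaf 243 0 [nat_lit 296, nat_lit 148, nat_lit 74, nat_lit 148, nat_lit 74, nat_lit 296, nat_lit 148, nat_lit 74, nat_lit 148])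
(.leaf 131 4 [nat_lit 259, nat_lit 0, nat_lit 74, nat_lit 296, nat_lit 74, nat_lit 0, nat_lit 259, nat_lit 74, nat_lit 296]))))
(.node (nat_lit 63) (.node (nat_lit 60) (.node (nat_lit 59) (.leaf 405 11 [nat_lit 37, nat_lit 259, nat_lit 296, nat_lit 185, nat_lit 296, nat_lit 74, nat_lit 259, nat_lit 37, nat_lit 296, nat_lit 185, nat_lit 296])
(.leaf 251 0 [nat_lit 296, nat_lit 222, nat_lit 296, nat_lit 222, nat_lit 296, nat_lit 222, nat_lit 296, nat_lit 74, nat_lit 222]))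
(.node (nat_lit 61) (.leaf 131 2 [nat_lit 296, nat_lit 74, nat_lit 259, nat_lit 0, nat_lit 74, nat_lit 296, nat_lit 74, nat_lit 0, nat_lit 259])
(.node (nat_lit 62) (.leaf 235 0 [nat_lit 296, nat_lit 111, nat_lit 296, nat_lit 74, nat_lit 111, nat_lit 74, nat_lit 111, nat_lit 74, nat_lit 111])
(.leaf 309 9 [nat_lit 111, nat_lit 0, nat_lit 296, nat_lit 185, nat_lit 259, nat_lit 185, nat_lit 0, nat_lit 111, nat_lit 74, nat_lit 296]))))
(.node (nat_lit 66) (.node (nat_lit 64) (.leaf 381 7 [nat_lit 0, nat_lit 37, nat_lit 296, nat_lit 37, nat_lit 0, nat_lit 74, nat_lit 0, nat_lit 37, nat_lit 296, nat_lit 37, nat_lit 0])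
(.node (nat_lit 65) (.leaf 385 2 [nat_lit 148, nat_lit 74, nat_lit 111, nat_lit 74, nat_lit 148, nat_lit 74, nat_lit 185, nat_lit 0, nat_lit 111, nat_lit 0, nat_lit 185])
(.leaf 377 8 [nat_lit 111, nat_lit 74, nat_lit 37, nat_lit 0, nat_lit 222, nat_lit 185, nat_lit 222, nat_lit 111, nat_lit 185, nat_lit 0, nat_lit 37])))
(.node (nat_lit 67) (.leaf 523 1 [nat_lit 185, nat_lit 0, nat_lit 185, nat_lit 148, nat_lit 296, nat_lit 0, nat_lit 296, nat_lit 259, nat_lit 148, nat_lit 74, nat_lit 185, nat_lit 37, nat_lit 74, nat_lit 0])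
(.node (nat_lit 68) (.leaf 415 0 [nat_lit 259, nat_lit 148, nat_lit 259, nat_lit 296, nat_lit 148, nat_lit 74, nat_lit 296, nat_lit 74, nat_lit 259, nat_lit 74, nat_lit 148])
(.leaf 207 4 [nat_lit 37, nat_lit 185, nat_lit 259, nat_lit 222, nat_lit 74, nat_lit 37, nat_lit 185, nat_lit 222, nat_lit 259]))))))
(.node (nat_lit 82) (.node (nat_lit 75) (.node (nat_lit 72) (.node (nat_lit 70) (.leaf 455 1 [nat_lit 185, nat_lit 0, nat_lit 148, nat_lit 0, nat_lit 111, nat_lit 37, nat_lit 111, nat_lit 0, nat_lit 148, nat_lit 0, nat_lit 185, nat_lit 74, nat_lit 0])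
(.node (nat_lit 71) (.leaf 337 9 [nat_lit 148, nat_lit 0, nat_lit 296, nat_lit 74, nat_lit 296, nat_lit 0, nat_lit 148, nat_lit 259, nat_lit 74, nat_lit 259])
(.leaf 191 3 [nat_lit 37, nat_lit 259, nat_lit 37, nat_lit 111, nat_lit 37, nat_lit 74, nat_lit 37, nat_lit 111, nat_lit 259])))
(.node (nat_lit 73) (.leaf 619 6 [nat_lit 259, nat_lit 148, nat_lit 111, nat_lit 222, nat_lit 74, nat_lit 185, nat_lit 222, nat_lit 74, nat_lit 111, nat_lit 74, nat_lit 37, nat_lit 185, nat_lit 37, nat_lit 185, nat_lit 148, nat_lit 259])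
(.node (nat_lit 74) (.leaf 475 6 [nat_lit 296, nat_lit 185, nat_lit 222, nat_lit 111, nat_lit 185, nat_lit 111, nat_lit 74, nat_lit 37, nat_lit 111, nat_lit 37, nat_lit 111, nat_lit 222, nat_lit 296])
(.leaf 245 8 [nat_lit 148, nat_lit 74, nat_lit 296, nat_lit 74, nat_lit 148, nat_lit 74, nat_lit 148, nat_lit 296, nat_lit 148]))))
(.node (nat_lit 78) (.node (nat_lit 76) (.leaf 337 2 [nat_lit 296, nat_lit 0, nat_lit 148, nat_lit 259, nat_lit 74, nat_lit 259, nat_lit 74, nat_lit 148, nat_lit 0, nat_lit 296])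
(.node (nat_lit 77) (.leaf 609 16 [nat_lit 0, nat_lit 148, nat_lit 111, nat_lit 37, nat_lit 74, nat_lit 259, nat_lit 185, nat_lit 259, nat_lit 37, nat_lit 148, nat_lit 185, nat_lit 74, nat_lit 185, nat_lit 37, nat_lit 148, nat_lit 185])
(.leaf 511 10 [nat_lit 0, nat_lit 148, nat_lit 185, nat_lit 37, nat_lit 0, nat_lit 111, nat_lit 37, nat_lit 185, nat_lit 0, nat_lit 74, nat_lit 111, nat_lit 74, nat_lit 148, nat_lit 0])))
(.node (nat_lit 80) (.node (nat_lit 79) (.leaf 307 5 [nat_lit 296, nat_lit 185, nat_lit 259, nat_lit 185, nat_lit 74, nat_lit 0, nat_lit 74, nat_lit 296, nat_lit 74, nat_lit 0])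
(.leaf 461 4 [nat_lit 296, nat_lit 185, nat_lit 259, nat_lit 185, nat_lit 74, nat_lit 111, nat_lit 185, nat_lit 0, nat_lit 111, nat_lit 0, nat_lit 259, nat_lit 185, nat_lit 296]))
(.node (nat_lit 81) (.leaf 599 8 [nat_lit 185, nat_lit 222, nat_lit 148, nat_lit 222, nat_lit 185, nat_lit 222, nat_lit 111, nat_lit 37, nat_lit 0, nat_lit 148, nat_lit 0, nat_lit 185, nat_lit 148, nat_lit 0, nat_lit 148, nat_lit 222])
(.leaf 509 11 [nat_lit 111, nat_lit 148, nat_lit 37, nat_lit 0, nat_lit 259, nat_lit 185, nat_lit 259, nat_lit 111, nat_lit 0, nat_lit 148, nat_lit 185, nat_lit 37, nat_lit 148, nat_lit 185])))))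
(.node (nat_lit 90) (.node (nat_lit 86) (.node (nat_lit 84) (.node (nat_lit 83) (.leaf 247 4 [nat_lit 148, nat_lit 296, nat_lit 74, nat_lit 296, nat_lit 148, nat_lit 74, nat_lit 296, nat_lit 74, nat_lit 296])
(.leaf 307 10 [nat_lit 0, nat_lit 74, nat_lit 296, nat_lit 74, nat_lit 0, nat_lit 74, nat_lit 296, nat_lit 185, nat_lit 259, nat_lit 185]))
(.node (nat_lit 85) (.leaf 363 2 [nat_lit 259, nat_lit 148, nat_lit 222, nat_lit 148, nat_lit 74, nat_lit 148, nat_lit 222, nat_lit 148, nat_lit 74, nat_lit 259])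
(.leaf 503 4 [nat_lit 148, nat_lit 222, nat_lit 0, nat_lit 222, nat_lit 148, nat_lit 37, nat_lit 222, nat_lit 259, nat_lit 74, nat_lit 37, nat_lit 0, nat_lit 259, nat_lit 222, nat_lit 111])))
(.node (nat_lit 88) (.node (nat_lit 87) (.leaf 189 4 [nat_lit 259, nat_lit 111, nat_lit 74, nat_lit 37, nat_lit 74, nat_lit 37, nat_lit 74, nat_lit 111, nat_lit 259])
(.leaf 311 7 [nat_lit 296, nat_lit 74, nat_lit 111, nat_lit 0, nat_lit 296, nat_lit 0, nat_lit 185, nat_lit 259, nat_lit 185, nat_lit 111]))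
(.node (nat_lit 89) (.leaf 403 9 [nat_lit 111, nat_lit 74, nat_lit 37, nat_lit 259, nat_lit 111, nat_lit 74, nat_lit 111, nat_lit 74, nat_lit 259, nat_lit 37, nat_lit 111])
(.leaf 241 4 [nat_lit 111, nat_lit 296, nat_lit 148, nat_lit 296, nat_lit 111, nat_lit 74, nat_lit 296, nat_lit 148, nat_lit 296]))))
(.node (nat_lit 94) (.node (nat_lit 92) (.node (nat_lit 91) (.leaf 531 8 [nat_lit 37, nat_lit 296, nat_lit 148, nat_lit 74, nat_lit 37, nat_lit 74, nat_lit 37, nat_lit 111, nat_lit 74, nat_lit 111, nat_lit 148, nat_lit 296, nat_lit 74, nat_lit 37])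
(.leaf 455 13 [nat_lit 0, nat_lit 74, nat_lit 185, nat_lit 0, nat_lit 148, nat_lit 0, nat_lit 111, nat_lit 37, nat_lit 111, nat_lit 0, nat_lit 148, nat_lit 0, nat_lit 185]))
(.node (nat_lit 93) (.leaf 479 13 [nat_lit 37, nat_lit 296, nat_lit 185, nat_lit 259, nat_lit 296, nat_lit 74, nat_lit 222, nat_lit 37, nat_lit 296, nat_lit 259, nat_lit 222, nat_lit 185, nat_lit 296])
(.leaf 415 10 [nat_lit 148, nat_lit 74, nat_lit 259, nat_lit 148, nat_lit 259, nat_lit 296, nat_lit 148, nat_lit 74, nat_lit 296, nat_lit 74, nat_lit 259])))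
(.node (nat_lit 96) (.node (nat_lit 95) (.leaf 307 3 [nat_lit 0, nat_lit 74, nat_lit 296, nat_lit 185, nat_lit 259, nat_lit 185, nat_lit 74, nat_lit 0, nat_lit 74, nat_lit 296])
(.leaf 189 7 [nat_lit 37, nat_lit 74, nat_lit 37, nat_lit 74, nat_lit 111, nat_lit 259, nat_lit 74, nat_lit 259, nat_lit 111]))
(.node (nat_lit 97) (.leaf 565 11 [nat_lit 111, nat_lit 37, nat_lit 148, nat_lit 74, nat_lit 0, nat_lit 185, nat_lit 37, nat_lit 185, nat_lit 0, nat_lit 111, nat_lit 37, nat_lit 111, nat_lit 185, nat_lit 148, nat_lit 37])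
(.node (nat_lit 98) (.leaf 453 13 [nat_lit 0, nat_lit 185, nat_lit 148, nat_lit 185, nat_lit 37, nat_lit 185, nat_lit 148, nat_lit 185, nat_lit 0, nat_lit 74, nat_lit 148, nat_lit 0, nat_lit 148])
(.leaf 385 4 [nat_lit 111, nat_lit 74, nat_lit 148, nat_lit 74, nat_lit 185, nat_lit 0, nat_lit 111, nat_lit 0, nat_lit 185, nat_lit 74, nat_lit 148]))))))))))
(.node (nat_lit 365) (.node (nat_lit 177) (.node (nat_lit 132) (.node (nat_lit 114) (.node (nat_lit 106) (.node (nat_lit 102) (.node (nat_lit 100) (.leaf 561 5 [nat_lit 185, nat_lit 296, nat_lit 185, nat_lit 0, nat_lit 222, nat_lit 0, nat_lit 185, nat_lit 296, nat_lit 37, nat_lit 74, nat_lit 0, nat_lit 222, nat_lit 0, nat_lit 185, nat_lit 37])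
(.node (nat_lit 101) (.leaf 407 4 [nat_lit 111, nat_lit 222, nat_lit 111, nat_lit 37, nat_lit 111, nat_lit 74, nat_lit 111, nat_lit 37, nat_lit 111, nat_lit 222, nat_lit 111])
(.leaf 627 1 [nat_lit 37, nat_lit 111, nat_lit 148, nat_lit 37, nat_lit 74, nat_lit 185, nat_lit 111, nat_lit 222, nat_lit 111, nat_lit 185, nat_lit 74, nat_lit 111, nat_lit 222, nat_lit 148, nat_lit 111, nat_lit 37, nat_lit 0])))
(.node (nat_lit 104) (.node (nat_lit 103) (.leaf 365 6 [nat_lit 296, nat_lit 185, nat_lit 259, nat_lit 185, nat_lit 74, nat_lit 259, nat_lit 74, nat_lit 296, nat_lit 74, nat_lit 259])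
(.leaf 507 8 [nat_lit 185, nat_lit 0, nat_lit 111, nat_lit 259, nat_lit 111, nat_lit 37, nat_lit 0, nat_lit 185, nat_lit 148, nat_lit 74, nat_lit 296, nat_lit 148, nat_lit 296, nat_lit 259]))
(.node (nat_lit 105) (.leaf 365 0 [nat_lit 259, nat_lit 74, nat_lit 296, nat_lit 74, nat_lit 259, nat_lit 74, nat_lit 296, nat_lit 185, nat_lit 259, nat_lit 185])
(.leaf 247 2 [nat_lit 296, nat_lit 74, nat_lit 148, nat_lit 296, nat_lit 74, nat_lit 296, nat_lit 148, nat_lit 74, nat_lit 296]))))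
(.node (nat_lit 110) (.node (nat_lit 108) (.node (nat_lit 107) (.leaf 549 3 [nat_lit 296, nat_lit 259, nat_lit 185, nat_lit 259, nat_lit 148, nat_lit 185, nat_lit 148, nat_lit 37, nat_lit 185, nat_lit 148, nat_lit 0, nat_lit 37, nat_lit 0, nat_lit 185, nat_lit 296])
(.leaf 211 3 [nat_lit 37, nat_lit 222, nat_lit 185, nat_lit 259, nat_lit 222, nat_lit 74, nat_lit 37, nat_lit 185, nat_lit 259]))
(.node (nat_lit 109) (.leaf 247 7 [nat_lit 296, nat_lit 148, nat_lit 74, nat_lit 296, nat_lit 74, nat_lit 296, nat_lit 74, nat_lit 148, nat_lit 296])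
(.leaf 193 9 [nat_lit 37, nat_lit 111, nat_lit 74, nat_lit 259, nat_lit 74, nat_lit 259, nat_lit 74, nat_lit 111, nat_lit 37])))
(.node (nat_lit 112) (.node (nat_lit 111) (.leaf 195 9 [nat_lit 37, nat_lit 111, nat_lit 222, nat_lit 259, nat_lit 74, nat_lit 259, nat_lit 222, nat_lit 111, nat_lit 37])
(.leaf 241 0 [nat_lit 296, nat_lit 148, nat_lit 296, nat_lit 74, nat_lit 111, nat_lit 296, nat_lit 148, nat_lit 296, nat_lit 111]))
(.node (nat_lit 113) (.leaf 627 12 [nat_lit 111, nat_lit 222, nat_lit 148, nat_lit 111, nat_lit 37, nat_lit 0, nat_lit 74, nat_lit 37, nat_lit 111, nat_lit 148, nat_lit 37, nat_lit 74, nat_lit 185, nat_lit 111, nat_lit 222, nat_lit 111, nat_lit 185])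
(.leaf 499 4 [nat_lit 296, nat_lit 148, nat_lit 74, nat_lit 148, nat_lit 259, nat_lit 37, nat_lit 0, nat_lit 37, nat_lit 74, nat_lit 37, nat_lit 0, nat_lit 37, nat_lit 259, nat_lit 296])))))
(.node (nat_lit 123) (.node (nat_lit 118) (.node (nat_lit 116) (.node (nat_lit 115) (.leaf 187 9 [nat_lit 37, nat_lit 259, nat_lit 74, nat_lit 37, nat_lit 74, nat_lit 259, nat_lit 37, nat_lit 74, nat_lit 37])
(.leaf 595 3 [nat_lit 185, nat_lit 37, nat_lit 148, nat_lit 185, nat_lit 148, nat_lit 185, nat_lit 111, nat_lit 74, nat_lit 0, nat_lit 185, nat_lit 111, nat_lit 74, nat_lit 37, nat_lit 0, nat_lit 185, nat_lit 148]))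
(.node (nat_lit 117) (.leaf 527 13 [nat_lit 111, nat_lit 0, nat_lit 148, nat_lit 37, nat_lit 148, nat_lit 185, nat_lit 74, nat_lit 148, nat_lit 185, nat_lit 148, nat_lit 111, nat_lit 74, nat_lit 111, nat_lit 185])
(.leaf 349 6 [nat_lit 37, nat_lit 148, nat_lit 37, nat_lit 74, nat_lit 37, nat_lit 148, nat_lit 37, nat_lit 296, nat_lit 74, nat_lit 296])))
(.node (nat_lit 120) (.node (nat_lit 119) (.leaf 427 8 [nat_lit 148, nat_lit 111, nat_lit 222, nat_lit 74, nat_lit 0, nat_lit 222, nat_lit 148, nat_lit 296, nat_lit 222, nat_lit 0, nat_lit 222, nat_lit 296])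
(.leaf 189 9 [nat_lit 37, nat_lit 74, nat_lit 111, nat_lit 259, nat_lit 74, nat_lit 259, nat_lit 111, nat_lit 74, nat_lit 37]))
(.node (nat_lit 121) (.leaf 391 8 [nat_lit 148, nat_lit 74, nat_lit 111, nat_lit 0, nat_lit 148, nat_lit 296, nat_lit 259, nat_lit 296, nat_lit 148, nat_lit 0, nat_lit 111])
(.node (nat_lit 122) (.leaf 195 4 [nat_lit 259, nat_lit 222, nat_lit 111, nat_lit 37, nat_lit 74, nat_lit 37, nat_lit 111, nat_lit 222, nat_lit 259])
(.leaf 545 3 [nat_lit 185, nat_lit 111, nat_lit 185, nat_lit 37, nat_lit 296, nat_lit 37, nat_lit 74, nat_lit 0, nat_lit 37, nat_lit 111, nat_lit 0, nat_lit 37, nat_lit 0, nat_lit 296, nat_lit 37])))))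
(.node (nat_lit 127) (.node (nat_lit 125) (.node (nat_lit 124) (.leaf 591 2 [nat_lit 0, nat_lit 148, nat_lit 185, nat_lit 148, nat_lit 0, nat_lit 37, nat_lit 0, nat_lit 185, nat_lit 74, nat_lit 0, nat_lit 185, nat_lit 148, nat_lit 0, nat_lit 37, nat_lit 0, nat_lit 185])
(.leaf 631 7 [nat_lit 148, nat_lit 37, nat_lit 222, nat_lit 185, nat_lit 0, nat_lit 222, nat_lit 148, nat_lit 0, nat_lit 222, nat_lit 37, nat_lit 0, nat_lit 185, nat_lit 222, nat_lit 148, nat_lit 185, nat_lit 148, nat_lit 0]))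
(.node (nat_lit 126) (.leaf 453 9 [nat_lit 148, nat_lit 0, nat_lit 148, nat_lit 74, nat_lit 0, nat_lit 185, nat_lit 148, nat_lit 185, nat_lit 37, nat_lit 185, nat_lit 148, nat_lit 185, nat_lit 0])
(.leaf 565 15 [nat_lit 0, nat_lit 185, nat_lit 37, nat_lit 185, nat_lit 0, nat_lit 111, nat_lit 37, nat_lit 111, nat_lit 185, nat_lit 148, nat_lit 37, nat_lit 74, nat_lit 111, nat_lit 37, nat_lit 148])))
(.node (nat_lit 129) (.node (nat_lit 128) (.leaf 309 7 [nat_lit 296, nat_lit 74, nat_lit 111, nat_lit 0, nat_lit 296, nat_lit 185, nat_lit 259, nat_lit 185, nat_lit 0, nat_lit 111])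
(.leaf 519 14 [nat_lit 0, nat_lit 222, nat_lit 296, nat_lit 37, nat_lit 148, nat_lit 74, nat_lit 148, nat_lit 111, nat_lit 74, nat_lit 111, nat_lit 37, nat_lit 296, nat_lit 222, nat_lit 0]))
(.node (nat_lit 130) (.leaf 245 4 [nat_lit 148, nat_lit 296, nat_lit 148, nat_lit 74, nat_lit 148, nat_lit 74, nat_lit 296, nat_lit 74, nat_lit 148])
(.node (nat_lit 131) (.leaf 23 4 [nat_lit 222, nat_lit 74, nat_lit 259, nat_lit 222, nat_lit 259])
(.leaf 533 6 [nat_lit 259, nat_lit 296, nat_lit 111, nat_lit 185, nat_lit 37, nat_lit 296, nat_lit 37, nat_lit 74, nat_lit 37, nat_lit 296, nat_lit 185, nat_lit 37, nat_lit 111, nat_lit 296])))))))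
(.node (nat_lit 153) (.node (nat_lit 142) (.node (nat_lit 137) (.node (nat_lit 134) (.node (nat_lit 133) (.leaf 537 12 [nat_lit 148, nat_lit 74, nat_lit 37, nat_lit 222, nat_lit 148, nat_lit 222, nat_lit 296, nat_lit 74, nat_lit 296, nat_lit 222, nat_lit 148, nat_lit 222, nat_lit 37, nat_lit 148])
(.leaf 443 5 [nat_lit 148, nat_lit 259, nat_lit 0, nat_lit 111, nat_lit 185, nat_lit 0, nat_lit 111, nat_lit 37, nat_lit 0, nat_lit 185, nat_lit 74, nat_lit 259, nat_lit 148]))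
(.node (nat_lit 135) (.leaf 369 1 [nat_lit 37, nat_lit 185, nat_lit 37, nat_lit 0, nat_lit 37, nat_lit 185, nat_lit 37, nat_lit 74, nat_lit 0, nat_lit 37, nat_lit 0])
(.node (nat_lit 136) (.leaf 555 1 [nat_lit 0, nat_lit 185, nat_lit 37, nat_lit 74, nat_lit 185, nat_lit 0, nat_lit 148, nat_lit 222, nat_lit 0, nat_lit 222, nat_lit 148, nat_lit 74, nat_lit 111, nat_lit 37, nat_lit 0])
(.leaf 377 10 [nat_lit 37, nat_lit 0, nat_lit 222, nat_lit 185, nat_lit 222, nat_lit 111, nat_lit 185, nat_lit 0, nat_lit 37, nat_lit 74, nat_lit 111]))))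
(.node (nat_lit 139) (.node (nat_lit 138) (.leaf 537 5 [nat_lit 296, nat_lit 222, nat_lit 148, nat_lit 222, nat_lit 37, nat_lit 148, nat_lit 74, nat_lit 148, nat_lit 74, nat_lit 37, nat_lit 222, nat_lit 148, nat_lit 222, nat_lit 296])
(.leaf 415 6 [nat_lit 296, nat_lit 74, nat_lit 259, nat_lit 74, nat_lit 148, nat_lit 74, nat_lit 259, nat_lit 148, nat_lit 259, nat_lit 296, nat_lit 148]))
(.node (nat_lit 140) (.leaf 201 9 [nat_lit 37, nat_lit 222, nat_lit 111, nat_lit 259, nat_lit 74, nat_lit 259, nat_lit 111, nat_lit 222, nat_lit 37])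
(.node (nat_lit 141) (.leaf 193 2 [nat_lit 259, nat_lit 74, nat_lit 259, nat_lit 74, nat_lit 111, nat_lit 37, nat_lit 74, nat_lit 37, nat_lit 111])
(.leaf 621 13 [nat_lit 259, nat_lit 148, nat_lit 74, nat_lit 37, nat_lit 74, nat_lit 185, nat_lit 37, nat_lit 185, nat_lit 37, nat_lit 185, nat_lit 259, nat_lit 37, nat_lit 74, nat_lit 259, nat_lit 148, nat_lit 259])))))
(.node (nat_lit 147) (.node (nat_lit 144) (.node (nat_lit 143) (.leaf 311 9 [nat_lit 111, nat_lit 0, nat_lit 296, nat_lit 0, nat_lit 185, nat_lit 259, nat_lit 185, nat_lit 111, nat_lit 74, nat_lit 296])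
(.leaf 559 12 [nat_lit 111, nat_lit 222, nat_lit 37, nat_lit 0, nat_lit 74, nat_lit 185, nat_lit 222, nat_lit 0, nat_lit 148, nat_lit 185, nat_lit 37, nat_lit 148, nat_lit 111, nat_lit 185, nat_lit 148]))
(.node (nat_lit 145) (.leaf 499 7 [nat_lit 148, nat_lit 259, nat_lit 37, nat_lit 0, nat_lit 37, nat_lit 74, nat_lit 37, nat_lit 0, nat_lit 37, nat_lit 259, nat_lit 296, nat_lit 74, nat_lit 296, nat_lit 148])
(.node (nat_lit 146) (.leaf 359 0 [nat_lit 296, nat_lit 74, nat_lit 111, nat_lit 259, nat_lit 296, nat_lit 259, nat_lit 185, nat_lit 259, nat_lit 185, nat_lit 111])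
(.leaf 133 9 [nat_lit 0, nat_lit 259, nat_lit 74, nat_lit 296, nat_lit 74, nat_lit 0, nat_lit 259, nat_lit 74, nat_lit 296]))))
(.node (nat_lit 150) (.node (nat_lit 148) (.leaf 579 8 [nat_lit 111, nat_lit 222, nat_lit 148, nat_lit 74, nat_lit 185, nat_lit 37, nat_lit 185, nat_lit 37, nat_lit 222, nat_lit 185, nat_lit 222, nat_lit 148, nat_lit 222, nat_lit 111, nat_lit 222])
(.node (nat_lit 149) (.leaf 401 8 [nat_lit 111, nat_lit 37, nat_lit 74, nat_lit 37, nat_lit 111, nat_lit 74, nat_lit 111, nat_lit 37, nat_lit 74, nat_lit 37, nat_lit 111])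
(.leaf 585 4 [nat_lit 37, nat_lit 111, nat_lit 0, nat_lit 222, nat_lit 148, nat_lit 111, nat_lit 222, nat_lit 0, nat_lit 222, nat_lit 74, nat_lit 0, nat_lit 37, nat_lit 0, nat_lit 148, nat_lit 222, nat_lit 111])))
(.node (nat_lit 151) (.leaf 347 2 [nat_lit 185, nat_lit 222, nat_lit 185, nat_lit 74, nat_lit 296, nat_lit 0, nat_lit 296, nat_lit 222, nat_lit 0, nat_lit 259])
(.node (nat_lit 152) (.leaf 575 10 [nat_lit 296, nat_lit 222, nat_lit 296, nat_lit 259, nat_lit 111, nat_lit 0, nat_lit 148, nat_lit 74, nat_lit 148, nat_lit 0, nat_lit 111, nat_lit 259, nat_lit 296, nat_lit 222, nat_lit 296])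
(.leaf 619 11 [nat_lit 185, nat_lit 222, nat_lit 74, nat_lit 111, nat_lit 74, nat_lit 37, nat_lit 185, nat_lit 37, nat_lit 185, nat_lit 148, nat_lit 259, nat_lit 74, nat_lit 259, nat_lit 148, nat_lit 111, nat_lit 222]))))))
(.node (nat_lit 165) (.node (nat_lit 159) (.node (nat_lit 156) (.node (nat_lit 154) (.leaf 391 10 [nat_lit 111, nat_lit 0, nat_lit 148, nat_lit 296, nat_lit 259, nat_lit 296, nat_lit 148, nat_lit 0, nat_lit 111, nat_lit 74, nat_lit 148])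
(.node (nat_lit 155) (.leaf 451 5 [nat_lit 259, nat_lit 0, nat_lit 74, nat_lit 185, nat_lit 0, nat_lit 74, nat_lit 37, nat_lit 74, nat_lit 0, nat_lit 222, nat_lit 259, nat_lit 185, nat_lit 222])
(.leaf 535 12 [nat_lit 111, nat_lit 74, nat_lit 37, nat_lit 111, nat_lit 37, nat_lit 148, nat_lit 222, nat_lit 185, nat_lit 222, nat_lit 185, nat_lit 148, nat_lit 185, nat_lit 111, nat_lit 185])))
(.node (nat_lit 157) (.leaf 413 0 [nat_lit 296, nat_lit 185, nat_lit 148, nat_lit 185, nat_lit 111, nat_lit 185, nat_lit 148, nat_lit 185, nat_lit 296, nat_lit 74, nat_lit 111])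
(.node (nat_lit 158) (.leaf 193 4 [nat_lit 259, nat_lit 74, nat_lit 111, nat_lit 37, nat_lit 74, nat_lit 37, nat_lit 111, nat_lit 74, nat_lit 259])
(.leaf 413 10 [nat_lit 111, nat_lit 74, nat_lit 296, nat_lit 185, nat_lit 148, nat_lit 185, nat_lit 111, nat_lit 185, nat_lit 148, nat_lit 185, nat_lit 296]))))
(.node (nat_lit 162) (.node (nat_lit 160) (.leaf 591 11 [nat_lit 0, nat_lit 185, nat_lit 148, nat_lit 0, nat_lit 37, nat_lit 0, nat_lit 185, nat_lit 74, nat_lit 0, nat_lit 148, nat_lit 185, nat_lit 148, nat_lit 0, nat_lit 37, nat_lit 0, nat_lit 185])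
(.node (nat_lit 161) (.leaf 253 0 [nat_lit 296, nat_lit 259, nat_lit 296, nat_lit 222, nat_lit 296, nat_lit 259, nat_lit 296, nat_lit 74, nat_lit 222])
(.leaf 519 5 [nat_lit 148, nat_lit 111, nat_lit 74, nat_lit 111, nat_lit 37, nat_lit 296, nat_lit 222, nat_lit 0, nat_lit 74, nat_lit 0, nat_lit 222, nat_lit 296, nat_lit 37, nat_lit 148])))
(.node (nat_lit 163) (.leaf 365 4 [nat_lit 259, nat_lit 74, nat_lit 296, nat_lit 185, nat_lit 259, nat_lit 185, nat_lit 74, nat_lit 259, nat_lit 74, nat_lit 296])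
(.node (nat_lit 164) (.leaf 431 7 [nat_lit 148, nat_lit 111, nat_lit 259, nat_lit 296, nat_lit 111, nat_lit 0, nat_lit 148, nat_lit 259, nat_lit 111, nat_lit 259, nat_lit 74, nat_lit 296])
(.leaf 449 10 [nat_lit 0, nat_lit 296, nat_lit 37, nat_lit 0, nat_lit 296, nat_lit 0, nat_lit 37, nat_lit 296, nat_lit 0, nat_lit 74, nat_lit 37, nat_lit 296, nat_lit 37])))))
(.node (nat_lit 171) (.node (nat_lit 168) (.node (nat_lit 166) (.leaf 429 12 [nat_lit 0, nat_lit 111, nat_lit 0, nat_lit 148, nat_lit 259, nat_lit 296, nat_lit 111, nat_lit 0, nat_lit 148, nat_lit 111, nat_lit 74, nat_lit 296])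
(.node (nat_lit 167) (.leaf 583 13 [nat_lit 37, nat_lit 0, nat_lit 37, nat_lit 0, nat_lit 148, nat_lit 222, nat_lit 111, nat_lit 37, nat_lit 185, nat_lit 0, nat_lit 111, nat_lit 0, nat_lit 185, nat_lit 222, nat_lit 148, nat_lit 37])
(.leaf 623 4 [nat_lit 148, nat_lit 185, nat_lit 37, nat_lit 111, nat_lit 74, nat_lit 111, nat_lit 74, nat_lit 0, nat_lit 111, nat_lit 185, nat_lit 37, nat_lit 0, nat_lit 37, nat_lit 0, nat_lit 111, nat_lit 185, nat_lit 148])))
(.node (nat_lit 169) (.leaf 305 10 [nat_lit 0, nat_lit 222, nat_lit 0, nat_lit 296, nat_lit 259, nat_lit 296, nat_lit 74, nat_lit 185, nat_lit 222, nat_lit 185])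
(.node (nat_lit 170) (.leaf 511 5 [nat_lit 111, nat_lit 74, nat_lit 148, nat_lit 0, nat_lit 74, nat_lit 0, nat_lit 148, nat_lit 185, nat_lit 37, nat_lit 0, nat_lit 111, nat_lit 37, nat_lit 185, nat_lit 0])
(.leaf 435 4 [nat_lit 37, nat_lit 185, nat_lit 37, nat_lit 74, nat_lit 296, nat_lit 222, nat_lit 0, nat_lit 222, nat_lit 0, nat_lit 296, nat_lit 185, nat_lit 259]))))
(.node (nat_lit 174) (.node (nat_lit 172) (.leaf 425 11 [nat_lit 37, nat_lit 0, nat_lit 259, nat_lit 111, nat_lit 74, nat_lit 111, nat_lit 259, nat_lit 0, nat_lit 37, nat_lit 148, nat_lit 74, nat_lit 148])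
(.node (nat_lit 173) (.leaf 449 6 [nat_lit 37, nat_lit 296, nat_lit 37, nat_lit 74, nat_lit 0, nat_lit 296, nat_lit 37, nat_lit 0, nat_lit 296, nat_lit 0, nat_lit 37, nat_lit 296, nat_lit 0])
(.leaf 513 7 [nat_lit 37, nat_lit 296, nat_lit 148, nat_lit 296, nat_lit 148, nat_lit 185, nat_lit 37, nat_lit 0, nat_lit 259, nat_lit 111, nat_lit 74, nat_lit 259, nat_lit 111, nat_lit 185])))
(.node (nat_lit 175) (.leaf 361 0 [nat_lit 296, nat_lit 74, nat_lit 111, nat_lit 259, nat_lit 296, nat_lit 185, nat_lit 259, nat_lit 185, nat_lit 259, nat_lit 111])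
(.node (nat_lit 176) (.leaf 521 5 [nat_lit 0, nat_lit 111, nat_lit 222, nat_lit 148, nat_lit 296, nat_lit 148, nat_lit 259, nat_lit 0, nat_lit 74, nat_lit 0, nat_lit 296, nat_lit 222, nat_lit 111, nat_lit 259])
(.leaf 501 5 [nat_lit 259, nat_lit 185, nat_lit 74, nat_lit 0, nat_lit 74, nat_lit 0, nat_lit 259, nat_lit 74, nat_lit 37, nat_lit 0, nat_lit 185, nat_lit 37, nat_lit 0, nat_lit 185]))))))))
(.node (nat_lit 238) (.node (nat_lit 205) (.node (nat_lit 190) (.node (nat_lit 183) (.node (nat_lit 180) (.node (nat_lit 178) (.leaf 523 11 [nat_lit 185, nat_lit 37, nat_lit 74, nat_lit 0, nat_lit 74, nat_lit 185, nat_lit 0, nat_lit 185, nat_lit 148, nat_lit 296, nat_lit 0, nat_lit 296, nat_lit 259, nat_lit 148])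
(.node (nat_lit 179) (.leaf 557 2 [nat_lit 0, nat_lit 74, nat_lit 111, nat_lit 74, nat_lit 259, nat_lit 74, nat_lit 185, nat_lit 0, nat_lit 74, nat_lit 259, nat_lit 74, nat_lit 111, nat_lit 37, nat_lit 0, nat_lit 185])
(.leaf 401 11 [nat_lit 37, nat_lit 111, nat_lit 74, nat_lit 111, nat_lit 37, nat_lit 74, nat_lit 37, nat_lit 111, nat_lit 74, nat_lit 111, nat_lit 37])))
(.node (nat_lit 181) (.leaf 491 12 [nat_lit 0, nat_lit 37, nat_lit 0, nat_lit 148, nat_lit 222, nat_lit 185, nat_lit 222, nat_lit 185, nat_lit 148, nat_lit 37, nat_lit 0, nat_lit 37, nat_lit 74, nat_lit 111])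
(.node (nat_lit 182) (.leaf 359 2 [nat_lit 111, nat_lit 259, nat_lit 296, nat_lit 259, nat_lit 185, nat_lit 259, nat_lit 185, nat_lit 111, nat_lit 74, nat_lit 296])
(.leaf 375 7 [nat_lit 37, nat_lit 185, nat_lit 0, nat_lit 37, nat_lit 0, nat_lit 185, nat_lit 37, nat_lit 74, nat_lit 37, nat_lit 0, nat_lit 37]))))
(.node (nat_lit 186) (.node (nat_lit 184) (.leaf 567 15 [nat_lit 0, nat_lit 148, nat_lit 259, nat_lit 111, nat_lit 74, nat_lit 37, nat_lit 111, nat_lit 259, nat_lit 0, nat_lit 148, nat_lit 296, nat_lit 259, nat_lit 296, nat_lit 37, nat_lit 148])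
(.node (nat_lit 185) (.leaf 443 2 [nat_lit 259, nat_lit 148, nat_lit 74, nat_lit 148, nat_lit 259, nat_lit 0, nat_lit 111, nat_lit 185, nat_lit 0, nat_lit 111, nat_lit 37, nat_lit 0, nat_lit 185])
(.leaf 407 10 [nat_lit 111, nat_lit 37, nat_lit 111, nat_lit 222, nat_lit 111, nat_lit 74, nat_lit 111, nat_lit 222, nat_lit 111, nat_lit 37, nat_lit 111])))
(.node (nat_lit 188) (.node (nat_lit 187) (.leaf 557 8 [nat_lit 185, nat_lit 0, nat_lit 74, nat_lit 259, nat_lit 74, nat_lit 111, nat_lit 37, nat_lit 0, nat_lit 185, nat_lit 74, nat_lit 0, nat_lit 74, nat_lit 111, nat_lit 74, nat_lit 259])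
(.leaf 515 6 [nat_lit 185, nat_lit 296, nat_lit 185, nat_lit 296, nat_lit 259, nat_lit 185, nat_lit 222, nat_lit 37, nat_lit 0, nat_lit 37, nat_lit 296, nat_lit 222, nat_lit 37, nat_lit 0]))
(.node (nat_lit 189) (.leaf 537 14 [nat_lit 37, nat_lit 222, nat_lit 148, nat_lit 222, nat_lit 296, nat_lit 74, nat_lit 296, nat_lit 222, nat_lit 148, nat_lit 222, nat_lit 37, nat_lit 148, nat_lit 74, nat_lit 148])
(.leaf 347 6 [nat_lit 296, nat_lit 0, nat_lit 296, nat_lit 222, nat_lit 0, nat_lit 259, nat_lit 74, nat_lit 185, nat_lit 222, nat_lit 185])))))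
(.node (nat_lit 197) (.node (nat_lit 193) (.node (nat_lit 191) (.leaf 563 2 [nat_lit 111, nat_lit 74, nat_lit 148, nat_lit 259, nat_lit 185, nat_lit 259, nat_lit 148, nat_lit 185, nat_lit 0, nat_lit 148, nat_lit 74, nat_lit 111, nat_lit 74, nat_lit 0, nat_lit 185])
(.node (nat_lit 192) (.leaf 307 1 [nat_lit 296, nat_lit 74, nat_lit 0, nat_lit 74, nat_lit 296, nat_lit 185, nat_lit 259, nat_lit 185, nat_lit 74, nat_lit 0])
(.leaf 609 11 [nat_lit 185, nat_lit 37, nat_lit 148, nat_lit 185, nat_lit 74, nat_lit 0, nat_lit 148, nat_lit 111, nat_lit 37, nat_lit 74, nat_lit 259, nat_lit 185, nat_lit 259, nat_lit 37, nat_lit 148, nat_lit 185])))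
(.node (nat_lit 195) (.node (nat_lit 194) (.leaf 563 4 [nat_lit 148, nat_lit 259, nat_lit 185, nat_lit 259, nat_lit 148, nat_lit 185, nat_lit 0, nat_lit 148, nat_lit 74, nat_lit 111, nat_lit 74, nat_lit 0, nat_lit 185, nat_lit 74, nat_lit 111])
(.leaf 451 13 [nat_lit 0, nat_lit 222, nat_lit 259, nat_lit 185, nat_lit 222, nat_lit 74, nat_lit 259, nat_lit 0, nat_lit 74, nat_lit 185, nat_lit 0, nat_lit 74, nat_lit 37]))
(.node (nat_lit 196) (.leaf 521 14 [nat_lit 0, nat_lit 296, nat_lit 222, nat_lit 111, nat_lit 259, nat_lit 74, nat_lit 0, nat_lit 111, nat_lit 222, nat_lit 148, nat_lit 296, nat_lit 148, nat_lit 259, nat_lit 0])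
(.leaf 247 0 [nat_lit 296, nat_lit 74, nat_lit 296, nat_lit 74, nat_lit 148, nat_lit 296, nat_lit 74, nat_lit 296, nat_lit 148]))))
(.node (nat_lit 201) (.node (nat_lit 199) (.node (nat_lit 198) (.leaf 209 3 [nat_lit 222, nat_lit 37, nat_lit 185, nat_lit 259, nat_lit 222, nat_lit 74, nat_lit 37, nat_lit 185, nat_lit 259])
(.leaf 531 14 [nat_lit 37, nat_lit 111, nat_lit 74, nat_lit 111, nat_lit 148, nat_lit 296, nat_lit 74, nat_lit 37, nat_lit 74, nat_lit 37, nat_lit 296, nat_lit 148, nat_lit 74, nat_lit 37]))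
(.node (nat_lit 200) (.leaf 613 5 [nat_lit 37, nat_lit 296, nat_lit 222, nat_lit 0, nat_lit 222, nat_lit 111, nat_lit 222, nat_lit 111, nat_lit 222, nat_lit 111, nat_lit 222, nat_lit 0, nat_lit 296, nat_lit 74, nat_lit 259, nat_lit 37])
(.leaf 619 14 [nat_lit 111, nat_lit 74, nat_lit 37, nat_lit 185, nat_lit 37, nat_lit 185, nat_lit 148, nat_lit 259, nat_lit 74, nat_lit 259, nat_lit 148, nat_lit 111, nat_lit 222, nat_lit 74, nat_lit 185, nat_lit 222])))
(.node (nat_lit 203) (.node (nat_lit 202) (.leaf 201 4 [nat_lit 259, nat_lit 111, nat_lit 222, nat_lit 37, nat_lit 74, nat_lit 37, nat_lit 222, nat_lit 111, nat_lit 259])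
(.leaf 571 8 [nat_lit 37, nat_lit 185, nat_lit 148, nat_lit 0, nat_lit 111, nat_lit 37, nat_lit 111, nat_lit 0, nat_lit 148, nat_lit 185, nat_lit 37, nat_lit 74, nat_lit 185, nat_lit 37, nat_lit 185]))
(.node (nat_lit 204) (.leaf 403 5 [nat_lit 259, nat_lit 37, nat_lit 111, nat_lit 74, nat_lit 111, nat_lit 74, nat_lit 37, nat_lit 259, nat_lit 111, nat_lit 74, nat_lit 111])
(.leaf 187 4 [nat_lit 259, nat_lit 37, nat_lit 74, nat_lit 37, nat_lit 74, nat_lit 37, nat_lit 259, nat_lit 74, nat_lit 37]))))))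
(.node (nat_lit 220) (.node (nat_lit 212) (.node (nat_lit 208) (.node (nat_lit 206) (.leaf 301 10 [nat_lit 0, nat_lit 259, nat_lit 222, nat_lit 296, nat_lit 0, nat_lit 296, nat_lit 74, nat_lit 185, nat_lit 222, nat_lit 185])
(.node (nat_lit 207) (.leaf 441 7 [nat_lit 148, nat_lit 259, nat_lit 296, nat_lit 148, nat_lit 74, nat_lit 37, nat_lit 0, nat_lit 296, nat_lit 148, nat_lit 296, nat_lit 0, nat_lit 37, nat_lit 296])
(.leaf 405 5 [nat_lit 259, nat_lit 37, nat_lit 296, nat_lit 185, nat_lit 296, nat_lit 74, nat_lit 37, nat_lit 259, nat_lit 296, nat_lit 185, nat_lit 296])))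
(.node (nat_lit 210) (.node (nat_lit 209) (.leaf 187 2 [nat_lit 37, nat_lit 74, nat_lit 259, nat_lit 37, nat_lit 74, nat_lit 37, nat_lit 74, nat_lit 37, nat_lit 259])
(.leaf 547 11 [nat_lit 0, nat_lit 148, nat_lit 0, nat_lit 37, nat_lit 0, nat_lit 148, nat_lit 222, nat_lit 111, nat_lit 37, nat_lit 148, nat_lit 74, nat_lit 148, nat_lit 111, nat_lit 222, nat_lit 0]))
(.node (nat_lit 211) (.leaf 501 8 [nat_lit 0, nat_lit 74, nat_lit 0, nat_lit 259, nat_lit 74, nat_lit 37, nat_lit 0, nat_lit 185, nat_lit 37, nat_lit 0, nat_lit 185, nat_lit 74, nat_lit 259, nat_lit 185])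
(.leaf 607 2 [nat_lit 148, nat_lit 37, nat_lit 111, nat_lit 148, nat_lit 37, nat_lit 111, nat_lit 74, nat_lit 222, nat_lit 0, nat_lit 222, nat_lit 37, nat_lit 148, nat_lit 222, nat_lit 37, nat_lit 0, nat_lit 222]))))
(.node (nat_lit 216) (.node (nat_lit 214) (.node (nat_lit 213) (.leaf 245 0 [nat_lit 296, nat_lit 74, nat_lit 148, nat_lit 74, nat_lit 148, nat_lit 296, nat_lit 148, nat_lit 74, nat_lit 148])
(.leaf 363 0 [nat_lit 259, nat_lit 74, nat_lit 259, nat_lit 148, nat_lit 222, nat_lit 148, nat_lit 74, nat_lit 148, nat_lit 222, nat_lit 148]))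
(.node (nat_lit 215) (.leaf 501 10 [nat_lit 0, nat_lit 259, nat_lit 74, nat_lit 37, nat_lit 0, nat_lit 185, nat_lit 37, nat_lit 0, nat_lit 185, nat_lit 74, nat_lit 259, nat_lit 185, nat_lit 74, nat_lit 0])
(.leaf 531 2 [nat_lit 111, nat_lit 148, nat_lit 296, nat_lit 74, nat_lit 37, nat_lit 74, nat_lit 37, nat_lit 296, nat_lit 148, nat_lit 74, nat_lit 37, nat_lit 74, nat_lit 37, nat_lit 111])))
(.node (nat_lit 218) (.node (nat_lit 217) (.leaf 633 17 [nat_lit 0, nat_lit 259, nat_lit 111, nat_lit 222, nat_lit 148, nat_lit 222, nat_lit 259, nat_lit 148, nat_lit 222, nat_lit 74, nat_lit 111, nat_lit 259, nat_lit 148, nat_lit 222, nat_lit 148, nat_lit 74, nat_lit 0])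
(.leaf 557 13 [nat_lit 111, nat_lit 37, nat_lit 0, nat_lit 185, nat_lit 74, nat_lit 0, nat_lit 74, nat_lit 111, nat_lit 74, nat_lit 259, nat_lit 74, nat_lit 185, nat_lit 0, nat_lit 74, nat_lit 259]))
(.node (nat_lit 219) (.leaf 513 3 [nat_lit 259, nat_lit 111, nat_lit 185, nat_lit 74, nat_lit 37, nat_lit 296, nat_lit 148, nat_lit 296, nat_lit 148, nat_lit 185, nat_lit 37, nat_lit 0, nat_lit 259, nat_lit 111])
(.leaf 365 2 [nat_lit 296, nat_lit 74, nat_lit 259, nat_lit 74, nat_lit 296, nat_lit 185, nat_lit 259, nat_lit 185, nat_lit 74, nat_lit 259])))))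
(.node (nat_lit 229) (.node (nat_lit 224) (.node (nat_lit 222) (.node (nat_lit 221) (.leaf 127 5 [nat_lit 37, nat_lit 111, nat_lit 259, nat_lit 74, nat_lit 0, nat_lit 259, nat_lit 0, nat_lit 111, nat_lit 37])
(.leaf 547 6 [nat_lit 148, nat_lit 111, nat_lit 222, nat_lit 0, nat_lit 74, nat_lit 0, nat_lit 148, nat_lit 0, nat_lit 37, nat_lit 0, nat_lit 148, nat_lit 222, nat_lit 111, nat_lit 37, nat_lit 148]))
(.node (nat_lit 223) (.leaf 571 4 [nat_lit 185, nat_lit 37, nat_lit 185, nat_lit 74, nat_lit 37, nat_lit 185, nat_lit 148, nat_lit 0, nat_lit 111, nat_lit 37, nat_lit 111, nat_lit 0, nat_lit 148, nat_lit 185, nat_lit 37])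
(.leaf 249 0 [nat_lit 296, nat_lit 148, nat_lit 296, nat_lit 74, nat_lit 148, nat_lit 296, nat_lit 148, nat_lit 296, nat_lit 148])))
(.node (nat_lit 226) (.node (nat_lit 225) (.leaf 303 10 [nat_lit 0, nat_lit 222, nat_lit 259, nat_lit 296, nat_lit 0, nat_lit 296, nat_lit 74, nat_lit 185, nat_lit 222, nat_lit 185])
(.leaf 579 12 [nat_lit 185, nat_lit 37, nat_lit 185, nat_lit 37, nat_lit 222, nat_lit 185, nat_lit 222, nat_lit 148, nat_lit 222, nat_lit 111, nat_lit 222, nat_lit 74, nat_lit 111, nat_lit 222, nat_lit 148]))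
(.node (nat_lit 227) (.leaf 441 12 [nat_lit 37, nat_lit 0, nat_lit 296, nat_lit 148, nat_lit 296, nat_lit 0, nat_lit 37, nat_lit 296, nat_lit 74, nat_lit 148, nat_lit 259, nat_lit 296, nat_lit 148])
(.node (nat_lit 228) (.leaf 553 14 [nat_lit 37, nat_lit 0, nat_lit 296, nat_lit 222, nat_lit 296, nat_lit 259, nat_lit 74, nat_lit 259, nat_lit 74, nat_lit 0, nat_lit 74, nat_lit 37, nat_lit 296, nat_lit 222, nat_lit 296])
(.leaf 551 7 [nat_lit 148, nat_lit 185, nat_lit 111, nat_lit 185, nat_lit 148, nat_lit 111, nat_lit 74, nat_lit 37, nat_lit 0, nat_lit 259, nat_lit 111, nat_lit 0, nat_lit 111, nat_lit 37, nat_lit 259])))))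
(.node (nat_lit 233) (.node (nat_lit 231) (.node (nat_lit 230) (.leaf 545 10 [nat_lit 0, nat_lit 37, nat_lit 111, nat_lit 0, nat_lit 37, nat_lit 0, nat_lit 296, nat_lit 37, nat_lit 74, nat_lit 185, nat_lit 111, nat_lit 185, nat_lit 37, nat_lit 296, nat_lit 37])
(.leaf 239 5 [nat_lit 111, nat_lit 259, nat_lit 222, nat_lit 111, nat_lit 74, nat_lit 111, nat_lit 222, nat_lit 259, nat_lit 111]))
(.node (nat_lit 232) (.leaf 425 3 [nat_lit 111, nat_lit 259, nat_lit 0, nat_lit 37, nat_lit 148, nat_lit 74, nat_lit 148, nat_lit 74, nat_lit 37, nat_lit 0, nat_lit 259, nat_lit 111])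
(.leaf 527 10 [nat_lit 111, nat_lit 185, nat_lit 74, nat_lit 111, nat_lit 0, nat_lit 148, nat_lit 37, nat_lit 148, nat_lit 185, nat_lit 74, nat_lit 148, nat_lit 185, nat_lit 148, nat_lit 111])))
(.node (nat_lit 235) (.node (nat_lit 234) (.leaf 525 8 [nat_lit 148, nat_lit 111, nat_lit 0, nat_lit 148, nat_lit 37, nat_lit 111, nat_lit 0, nat_lit 148, nat_lit 74, nat_lit 296, nat_lit 111, nat_lit 259, nat_lit 296, nat_lit 37])
(.leaf 205 9 [nat_lit 37, nat_lit 74, nat_lit 222, nat_lit 259, nat_lit 74, nat_lit 37, nat_lit 74, nat_lit 259, nat_lit 222]))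
(.node (nat_lit 236) (.leaf 403 3 [nat_lit 111, nat_lit 74, nat_lit 259, nat_lit 37, nat_lit 111, nat_lit 74, nat_lit 111, nat_lit 74, nat_lit 37, nat_lit 259, nat_lit 111])
(.node (nat_lit 237) (.leaf 213 7 [nat_lit 259, nat_lit 74, nat_lit 37, nat_lit 259, nat_lit 74, nat_lit 259, nat_lit 74, nat_lit 259, nat_lit 37])
(.leaf 585 14 [nat_lit 0, nat_lit 37, nat_lit 0, nat_lit 148, nat_lit 222, nat_lit 111, nat_lit 74, nat_lit 37, nat_lit 111, nat_lit 0, nat_lit 222, nat_lit 148, nat_lit 111, nat_lit 222, nat_lit 0, nat_lit 222]))))))))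
(.node (nat_lit 283) (.node (nat_lit 258) (.node (nat_lit 248) (.node (nat_lit 243) (.node (nat_lit 240) (.node (nat_lit 239) (.leaf 209 9 [nat_lit 37, nat_lit 185, nat_lit 259, nat_lit 74, nat_lit 222, nat_lit 37, nat_lit 185, nat_lit 259, nat_lit 222])
(.leaf 383 11 [nat_lit 0, nat_lit 222, nat_lit 0, nat_lit 74, nat_lit 296, nat_lit 37, nat_lit 296, nat_lit 222, nat_lit 296, nat_lit 37, nat_lit 296]))
(.node (nat_lit 241) (.leaf 423 9 [nat_lit 259, nat_lit 0, nat_lit 37, nat_lit 0, nat_lit 296, nat_lit 0, nat_lit 296, nat_lit 185, nat_lit 74, nat_lit 0, nat_lit 37, nat_lit 185])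
(.node (nat_lit 242) (.leaf 593 13 [nat_lit 185, nat_lit 0, nat_lit 37, nat_lit 0, nat_lit 222, nat_lit 0, nat_lit 296, nat_lit 37, nat_lit 0, nat_lit 259, nat_lit 185, nat_lit 296, nat_lit 222, nat_lit 185, nat_lit 296, nat_lit 37])
(.leaf 621 9 [nat_lit 259, nat_lit 148, nat_lit 259, nat_lit 74, nat_lit 259, nat_lit 148, nat_lit 74, nat_lit 37, nat_lit 74, nat_lit 185, nat_lit 37, nat_lit 185, nat_lit 37, nat_lit 185, nat_lit 259, nat_lit 37]))))
(.node (nat_lit 245) (.node (nat_lit 244) (.leaf 555 13 [nat_lit 111, nat_lit 37, nat_lit 0, nat_lit 74, nat_lit 0, nat_lit 185, nat_lit 37, nat_lit 74, nat_lit 185, nat_lit 0, nat_lit 148, nat_lit 222, nat_lit 0, nat_lit 222, nat_lit 148])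
(.leaf 217 4 [nat_lit 222, nat_lit 37, nat_lit 185, nat_lit 259, nat_lit 74, nat_lit 37, nat_lit 222, nat_lit 185, nat_lit 259]))
(.node (nat_lit 246) (.leaf 553 5 [nat_lit 259, nat_lit 74, nat_lit 0, nat_lit 74, nat_lit 37, nat_lit 296, nat_lit 222, nat_lit 296, nat_lit 74, nat_lit 37, nat_lit 0, nat_lit 296, nat_lit 222, nat_lit 296, nat_lit 259])
(.node (nat_lit 247) (.leaf 563 15 [nat_lit 0, nat_lit 185, nat_lit 74, nat_lit 111, nat_lit 74, nat_lit 148, nat_lit 259, nat_lit 185, nat_lit 259, nat_lit 148, nat_lit 185, nat_lit 0, nat_lit 148, nat_lit 74, nat_lit 111])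
(.leaf 461 9 [nat_lit 111, nat_lit 185, nat_lit 0, nat_lit 111, nat_lit 0, nat_lit 259, nat_lit 185, nat_lit 296, nat_lit 74, nat_lit 296, nat_lit 185, nat_lit 259, nat_lit 185])))))
(.node (nat_lit 253) (.node (nat_lit 250) (.node (nat_lit 249) (.leaf 533 14 [nat_lit 37, nat_lit 296, nat_lit 185, nat_lit 37, nat_lit 111, nat_lit 296, nat_lit 74, nat_lit 259, nat_lit 296, nat_lit 111, nat_lit 185, nat_lit 37, nat_lit 296, nat_lit 37])
(.leaf 523 14 [nat_lit 0, nat_lit 74, nat_lit 185, nat_lit 0, nat_lit 185, nat_lit 148, nat_lit 296, nat_lit 0, nat_lit 296, nat_lit 259, nat_lit 148, nat_lit 74, nat_lit 185, nat_lit 37]))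
(.node (nat_lit 251) (.leaf 487 1 [nat_lit 111, nat_lit 74, nat_lit 37, nat_lit 148, nat_lit 37, nat_lit 111, nat_lit 37, nat_lit 148, nat_lit 0, nat_lit 111, nat_lit 37, nat_lit 0, nat_lit 37, nat_lit 0])
(.node (nat_lit 252) (.leaf 299 6 [nat_lit 185, nat_lit 222, nat_lit 185, nat_lit 74, nat_lit 0, nat_lit 222, nat_lit 296, nat_lit 0, nat_lit 296, nat_lit 259])
(.leaf 187 7 [nat_lit 37, nat_lit 74, nat_lit 37, nat_lit 259, nat_lit 74, nat_lit 37, nat_lit 74, nat_lit 259, nat_lit 37]))))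
(.node (nat_lit 255) (.node (nat_lit 254) (.leaf 507 3 [nat_lit 296, nat_lit 148, nat_lit 296, nat_lit 259, nat_lit 74, nat_lit 185, nat_lit 0, nat_lit 111, nat_lit 259, nat_lit 111, nat_lit 37, nat_lit 0, nat_lit 185, nat_lit 148])
(.leaf 483 8 [nat_lit 111, nat_lit 222, nat_lit 296, nat_lit 222, nat_lit 111, nat_lit 74, nat_lit 111, nat_lit 296, nat_lit 222, nat_lit 296, nat_lit 222, nat_lit 296, nat_lit 111]))
(.node (nat_lit 256) (.leaf 435 8 [nat_lit 296, nat_lit 222, nat_lit 0, nat_lit 222, nat_lit 0, nat_lit 296, nat_lit 185, nat_lit 259, nat_lit 74, nat_lit 37, nat_lit 185, nat_lit 37])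
(.node (nat_lit 257) (.leaf 613 2 [nat_lit 259, nat_lit 37, nat_lit 74, nat_lit 37, nat_lit 296, nat_lit 222, nat_lit 0, nat_lit 222, nat_lit 111, nat_lit 222, nat_lit 111, nat_lit 222, nat_lit 111, nat_lit 222, nat_lit 0, nat_lit 296])
(.leaf 251 8 [nat_lit 222, nat_lit 74, nat_lit 296, nat_lit 222, nat_lit 296, nat_lit 222, nat_lit 296, nat_lit 222, nat_lit 296]))))))
(.node (nat_lit 270) (.node (nat_lit 264) (.node (nat_lit 261) (.node (nat_lit 259) (.leaf 211 9 [nat_lit 37, nat_lit 185, nat_lit 259, nat_lit 74, nat_lit 37, nat_lit 222, nat_lit 185, nat_lit 259, nat_lit 222])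
(.node (nat_lit 260) (.leaf 559 1 [nat_lit 185, nat_lit 222, nat_lit 0, nat_lit 148, nat_lit 185, nat_lit 37, nat_lit 148, nat_lit 111, nat_lit 185, nat_lit 148, nat_lit 74, nat_lit 111, nat_lit 222, nat_lit 37, nat_lit 0])
(.leaf 429 10 [nat_lit 296, nat_lit 74, nat_lit 0, nat_lit 111, nat_lit 0, nat_lit 148, nat_lit 259, nat_lit 296, nat_lit 111, nat_lit 0, nat_lit 148, nat_lit 111])))
(.node (nat_lit 262) (.leaf 61 5 [nat_lit 222, nat_lit 74, nat_lit 37, nat_lit 74, nat_lit 222, nat_lit 74, nat_lit 37])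
(.node (nat_lit 263) (.leaf 567 4 [nat_lit 37, nat_lit 111, nat_lit 259, nat_lit 0, nat_lit 148, nat_lit 296, nat_lit 259, nat_lit 296, nat_lit 37, nat_lit 148, nat_lit 74, nat_lit 0, nat_lit 148, nat_lit 259, nat_lit 111])
(.leaf 199 5 [nat_lit 259, nat_lit 111, nat_lit 37, nat_lit 74, nat_lit 37, nat_lit 296, nat_lit 111, nat_lit 296, nat_lit 259]))))
(.node (nat_lit 267) (.node (nat_lit 265) (.leaf 575 2 [nat_lit 148, nat_lit 0, nat_lit 111, nat_lit 259, nat_lit 296, nat_lit 222, nat_lit 296, nat_lit 74, nat_lit 296, nat_lit 222, nat_lit 296, nat_lit 259, nat_lit 111, nat_lit 0, nat_lit 148])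
(.node (nat_lit 266) (.leaf 81 0 [nat_lit 259, nat_lit 74, nat_lit 222, nat_lit 74, nat_lit 259, nat_lit 74, nat_lit 222])
(.leaf 499 13 [nat_lit 37, nat_lit 0, nat_lit 37, nat_lit 259, nat_lit 296, nat_lit 74, nat_lit 296, nat_lit 148, nat_lit 74, nat_lit 148, nat_lit 259, nat_lit 37, nat_lit 0, nat_lit 37])))
(.node (nat_lit 268) (.leaf 535 14 [nat_lit 37, nat_lit 111, nat_lit 37, nat_lit 148, nat_lit 222, nat_lit 185, nat_lit 222, nat_lit 185, nat_lit 148, nat_lit 185, nat_lit 111, nat_lit 185, nat_lit 74, nat_lit 111])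
(.node (nat_lit 269) (.leaf 557 11 [nat_lit 259, nat_lit 74, nat_lit 111, nat_lit 37, nat_lit 0, nat_lit 185, nat_lit 74, nat_lit 0, nat_lit 74, nat_lit 111, nat_lit 74, nat_lit 259, nat_lit 74, nat_lit 185, nat_lit 0])
(.leaf 531 6 [nat_lit 37, nat_lit 74, nat_lit 37, nat_lit 296, nat_lit 148, nat_lit 74, nat_lit 37, nat_lit 74, nat_lit 37, nat_lit 111, nat_lit 74, nat_lit 111, nat_lit 148, nat_lit 296])))))
(.node (nat_lit 276) (.node (nat_lit 273) (.node (nat_lit 271) (.leaf 557 6 [nat_lit 259, nat_lit 74, nat_lit 185, nat_lit 0, nat_lit 74, nat_lit 259, nat_lit 74, nat_lit 111, nat_lit 37, nat_lit 0, nat_lit 185, nat_lit 74, nat_lit 0, nat_lit 74, nat_lit 111])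
(.node (nat_lit 272) (.leaf 595 11 [nat_lit 0, nat_lit 185, nat_lit 111, nat_lit 74, nat_lit 37, nat_lit 0, nat_lit 185, nat_lit 148, nat_lit 74, nat_lit 185, nat_lit 37, nat_lit 148, nat_lit 185, nat_lit 148, nat_lit 185, nat_lit 111])
(.leaf 557 4 [nat_lit 111, nat_lit 74, nat_lit 259, nat_lit 74, nat_lit 185, nat_lit 0, nat_lit 74, nat_lit 259, nat_lit 74, nat_lit 111, nat_lit 37, nat_lit 0, nat_lit 185, nat_lit 74, nat_lit 0])))
(.node (nat_lit 274) (.leaf 205 1 [nat_lit 222, nat_lit 259, nat_lit 74, nat_lit 37, nat_lit 74, nat_lit 259, nat_lit 222, nat_lit 74, nat_lit 37])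
(.node (nat_lit 275) (.leaf 431 5 [nat_lit 296, nat_lit 74, nat_lit 148, nat_lit 111, nat_lit 259, nat_lit 296, nat_lit 111, nat_lit 0, nat_lit 148, nat_lit 259, nat_lit 111, nat_lit 259])
(.leaf 625 16 [nat_lit 37, nat_lit 0, nat_lit 148, nat_lit 37, nat_lit 111, nat_lit 37, nat_lit 259, nat_lit 185, nat_lit 259, nat_lit 111, nat_lit 185, nat_lit 37, nat_lit 148, nat_lit 0, nat_lit 148, nat_lit 74, nat_lit 111]))))
(.node (nat_lit 279) (.node (nat_lit 277) (.leaf 233 4 [nat_lit 111, nat_lit 74, nat_lit 111, nat_lit 74, nat_lit 111, nat_lit 74, nat_lit 148, nat_lit 111, nat_lit 148])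
(.node (nat_lit 278) (.leaf 403 11 [nat_lit 37, nat_lit 259, nat_lit 111, nat_lit 74, nat_lit 111, nat_lit 74, nat_lit 259, nat_lit 37, nat_lit 111, nat_lit 74, nat_lit 111])
(.leaf 491 10 [nat_lit 111, nat_lit 74, nat_lit 0, nat_lit 37, nat_lit 0, nat_lit 148, nat_lit 222, nat_lit 185, nat_lit 222, nat_lit 185, nat_lit 148, nat_lit 37, nat_lit 0, nat_lit 37])))
(.node (nat_lit 281) (.node (nat_lit 280) (.leaf 617 16 [nat_lit 37, nat_lit 111, nat_lit 148, nat_lit 296, nat_lit 259, nat_lit 148, nat_lit 296, nat_lit 74, nat_lit 296, nat_lit 148, nat_lit 259, nat_lit 296, nat_lit 74, nat_lit 148, nat_lit 111, nat_lit 37])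
(.leaf 487 3 [nat_lit 37, nat_lit 148, nat_lit 37, nat_lit 111, nat_lit 37, nat_lit 148, nat_lit 0, nat_lit 111, nat_lit 37, nat_lit 0, nat_lit 37, nat_lit 0, nat_lit 74, nat_lit 111]))
(.node (nat_lit 282) (.leaf 451 11 [nat_lit 37, nat_lit 74, nat_lit 0, nat_lit 222, nat_lit 259, nat_lit 185, nat_lit 222, nat_lit 74, nat_lit 259, nat_lit 0, nat_lit 74, nat_lit 185, nat_lit 0])
(.leaf 605 10 [nat_lit 0, nat_lit 296, nat_lit 37, nat_lit 0, nat_lit 222, nat_lit 37, nat_lit 0, nat_lit 37, nat_lit 296, nat_lit 74, nat_lit 37, nat_lit 222, nat_lit 296, nat_lit 259, nat_lit 296, nat_lit 37])))))))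
(.node (nat_lit 313) (.node (nat_lit 297) (.node (nat_lit 290) (.node (nat_lit 286) (.node (nat_lit 284) (.leaf 601 10 [nat_lit 37, nat_lit 74, nat_lit 296, nat_lit 37, nat_lit 148, nat_lit 37, nat_lit 0, nat_lit 37, nat_lit 148, nat_lit 222, nat_lit 111, nat_lit 296, nat_lit 37, nat_lit 222, nat_lit 111, nat_lit 222])
(.node (nat_lit 285) (.leaf 629 15 [nat_lit 148, nat_lit 37, nat_lit 0, nat_lit 111, nat_lit 185, nat_lit 111, nat_lit 148, nat_lit 37, nat_lit 148, nat_lit 185, nat_lit 37, nat_lit 148, nat_lit 259, nat_lit 37, nat_lit 185, nat_lit 259, nat_lit 37])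
(.leaf 477 9 [nat_lit 259, nat_lit 185, nat_lit 259, nat_lit 74, nat_lit 37, nat_lit 185, nat_lit 37, nat_lit 296, nat_lit 222, nat_lit 185, nat_lit 222, nat_lit 185, nat_lit 296])))
(.node (nat_lit 288) (.node (nat_lit 287) (.leaf 597 13 [nat_lit 37, nat_lit 111, nat_lit 37, nat_lit 0, nat_lit 259, nat_lit 74, nat_lit 111, nat_lit 148, nat_lit 222, nat_lit 0, nat_lit 222, nat_lit 148, nat_lit 185, nat_lit 259, nat_lit 111, nat_lit 185])
(.leaf 361 2 [nat_lit 111, nat_lit 259, nat_lit 296, nat_lit 185, nat_lit 259, nat_lit 185, nat_lit 259, nat_lit 111, nat_lit 74, nat_lit 296]))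
(.node (nat_lit 289) (.leaf 607 9 [nat_lit 222, nat_lit 0, nat_lit 222, nat_lit 37, nat_lit 148, nat_lit 222, nat_lit 37, nat_lit 0, nat_lit 222, nat_lit 74, nat_lit 148, nat_lit 37, nat_lit 111, nat_lit 148, nat_lit 37, nat_lit 111])
(.leaf 197 9 [nat_lit 37, nat_lit 148, nat_lit 111, nat_lit 148, nat_lit 259, nat_lit 74, nat_lit 259, nat_lit 111, nat_lit 37]))))
(.node (nat_lit 293) (.node (nat_lit 291) (.leaf 525 2 [nat_lit 296, nat_lit 111, nat_lit 259, nat_lit 296, nat_lit 37, nat_lit 74, nat_lit 148, nat_lit 111, nat_lit 0, nat_lit 148, nat_lit 37, nat_lit 111, nat_lit 0, nat_lit 148])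
(.node (nat_lit 292) (.leaf 625 14 [nat_lit 111, nat_lit 74, nat_lit 37, nat_lit 0, nat_lit 148, nat_lit 37, nat_lit 111, nat_lit 37, nat_lit 259, nat_lit 185, nat_lit 259, nat_lit 111, nat_lit 185, nat_lit 37, nat_lit 148, nat_lit 0, nat_lit 148])
(.leaf 65 3 [nat_lit 259, nat_lit 222, nat_lit 259, nat_lit 74, nat_lit 37, nat_lit 222, nat_lit 37])))
(.node (nat_lit 295) (.node (nat_lit 294) (.leaf 609 4 [nat_lit 259, nat_lit 185, nat_lit 259, nat_lit 37, nat_lit 148, nat_lit 185, nat_lit 74, nat_lit 185, nat_lit 37, nat_lit 148, nat_lit 185, nat_lit 74, nat_lit 0, nat_lit 148, nat_lit 111, nat_lit 37])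
(.leaf 619 16 [nat_lit 37, nat_lit 185, nat_lit 37, nat_lit 185, nat_lit 148, nat_lit 259, nat_lit 74, nat_lit 259, nat_lit 148, nat_lit 111, nat_lit 222, nat_lit 74, nat_lit 185, nat_lit 222, nat_lit 74, nat_lit 111]))
(.node (nat_lit 296) (.leaf 553 9 [nat_lit 37, nat_lit 296, nat_lit 222, nat_lit 296, nat_lit 74, nat_lit 37, nat_lit 0, nat_lit 296, nat_lit 222, nat_lit 296, nat_lit 259, nat_lit 74, nat_lit 259, nat_lit 74, nat_lit 0])
(.leaf 511 7 [nat_lit 148, nat_lit 0, nat_lit 74, nat_lit 0, nat_lit 148, nat_lit 185, nat_lit 37, nat_lit 0, nat_lit 111, nat_lit 37, nat_lit 185, nat_lit 0, nat_lit 74, nat_lit 111])))))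
(.node (nat_lit 305) (.node (nat_lit 301) (.node (nat_lit 299) (.node (nat_lit 298) (.leaf 595 15 [nat_lit 37, nat_lit 0, nat_lit 185, nat_lit 148, nat_lit 74, nat_lit 185, nat_lit 37, nat_lit 148, nat_lit 185, nat_lit 148, nat_lit 185, nat_lit 111, nat_lit 74, nat_lit 0, nat_lit 185, nat_lit 111])
(.leaf 479 5 [nat_lit 222, nat_lit 37, nat_lit 296, nat_lit 259, nat_lit 222, nat_lit 185, nat_lit 296, nat_lit 74, nat_lit 37, nat_lit 296, nat_lit 185, nat_lit 259, nat_lit 296]))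
(.node (nat_lit 300) (.leaf 519 8 [nat_lit 111, nat_lit 37, nat_lit 296, nat_lit 222, nat_lit 0, nat_lit 74, nat_lit 0, nat_lit 222, nat_lit 296, nat_lit 37, nat_lit 148, nat_lit 74, nat_lit 148, nat_lit 111])
(.leaf 415 8 [nat_lit 259, nat_lit 74, nat_lit 148, nat_lit 74, nat_lit 259, nat_lit 148, nat_lit 259, nat_lit 296, nat_lit 148, nat_lit 74, nat_lit 296])))
(.node (nat_lit 303) (.node (nat_lit 302) (.leaf 563 13 [nat_lit 111, nat_lit 74, nat_lit 0, nat_lit 185, nat_lit 74, nat_lit 111, nat_lit 74, nat_lit 148, nat_lit 259, nat_lit 185, nat_lit 259, nat_lit 148, nat_lit 185, nat_lit 0, nat_lit 148])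
(.leaf 633 9 [nat_lit 111, nat_lit 259, nat_lit 148, nat_lit 222, nat_lit 148, nat_lit 74, nat_lit 0, nat_lit 74, nat_lit 0, nat_lit 259, nat_lit 111, nat_lit 222, nat_lit 148, nat_lit 222, nat_lit 259, nat_lit 148, nat_lit 222]))
(.node (nat_lit 304) (.leaf 233 6 [nat_lit 111, nat_lit 74, nat_lit 111, nat_lit 74, nat_lit 148, nat_lit 111, nat_lit 148, nat_lit 74, nat_lit 111])
(.leaf 233 8 [nat_lit 111, nat_lit 74, nat_lit 148, nat_lit 111, nat_lit 148, nat_lit 74, nat_lit 111, nat_lit 74, nat_lit 111]))))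
(.node (nat_lit 309) (.node (nat_lit 307) (.node (nat_lit 306) (.leaf 623 9 [nat_lit 111, nat_lit 74, nat_lit 0, nat_lit 111, nat_lit 185, nat_lit 37, nat_lit 0, nat_lit 37, nat_lit 0, nat_lit 111, nat_lit 185, nat_lit 148, nat_lit 74, nat_lit 148, nat_lit 185, nat_lit 37, nat_lit 111])
(.leaf 551 14 [nat_lit 37, nat_lit 0, nat_lit 259, nat_lit 111, nat_lit 0, nat_lit 111, nat_lit 37, nat_lit 259, nat_lit 74, nat_lit 148, nat_lit 185, nat_lit 111, nat_lit 185, nat_lit 148, nat_lit 111]))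
(.node (nat_lit 308) (.leaf 577 11 [nat_lit 37, nat_lit 185, nat_lit 0, nat_lit 148, nat_lit 0, nat_lit 185, nat_lit 37, nat_lit 74, nat_lit 37, nat_lit 148, nat_lit 222, nat_lit 185, nat_lit 222, nat_lit 148, nat_lit 37])
(.leaf 375 3 [nat_lit 37, nat_lit 0, nat_lit 37, nat_lit 74, nat_lit 37, nat_lit 185, nat_lit 0, nat_lit 37, nat_lit 0, nat_lit 185, nat_lit 37])))
(.node (nat_lit 311) (.node (nat_lit 310) (.leaf 215 9 [nat_lit 37, nat_lit 222, nat_lit 185, nat_lit 222, nat_lit 259, nat_lit 74, nat_lit 37, nat_lit 185, nat_lit 259])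
(.leaf 213 4 [nat_lit 259, nat_lit 37, nat_lit 74, nat_lit 259, nat_lit 74, nat_lit 37, nat_lit 259, nat_lit 74, nat_lit 259]))
(.node (nat_lit 312) (.leaf 621 1 [nat_lit 185, nat_lit 37, nat_lit 185, nat_lit 37, nat_lit 185, nat_lit 259, nat_lit 37, nat_lit 74, nat_lit 259, nat_lit 148, nat_lit 259, nat_lit 74, nat_lit 259, nat_lit 148, nat_lit 74, nat_lit 37])
(.leaf 213 2 [nat_lit 259, nat_lit 74, nat_lit 259, nat_lit 37, nat_lit 74, nat_lit 259, nat_lit 74, nat_lit 37, nat_lit 259]))))))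
(.node (nat_lit 331) (.node (nat_lit 321) (.node (nat_lit 317) (.node (nat_lit 315) (.node (nat_lit 314) (.leaf 503 13 [nat_lit 37, nat_lit 0, nat_lit 259, nat_lit 222, nat_lit 111, nat_lit 74, nat_lit 148, nat_lit 222, nat_lit 0, nat_lit 222, nat_lit 148, nat_lit 37, nat_lit 222, nat_lit 259])
(.leaf 623 11 [nat_lit 0, nat_lit 111, nat_lit 185, nat_lit 37, nat_lit 0, nat_lit 37, nat_lit 0, nat_lit 111, nat_lit 185, nat_lit 148, nat_lit 74, nat_lit 148, nat_lit 185, nat_lit 37, nat_lit 111, nat_lit 74, nat_lit 111]))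
(.node (nat_lit 316) (.leaf 301 6 [nat_lit 185, nat_lit 222, nat_lit 185, nat_lit 74, nat_lit 0, nat_lit 259, nat_lit 222, nat_lit 296, nat_lit 0, nat_lit 296])
(.leaf 197 5 [nat_lit 259, nat_lit 111, nat_lit 37, nat_lit 74, nat_lit 37, nat_lit 148, nat_lit 111, nat_lit 148, nat_lit 259])))
(.node (nat_lit 319) (.node (nat_lit 318) (.leaf 531 12 [nat_lit 37, nat_lit 74, nat_lit 37, nat_lit 111, nat_lit 74, nat_lit 111, nat_lit 148, nat_lit 296, nat_lit 74, nat_lit 37, nat_lit 74, nat_lit 37, nat_lit 296, nat_lit 148])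
(.leaf 617 7 [nat_lit 296, nat_lit 148, nat_lit 259, nat_lit 296, nat_lit 74, nat_lit 148, nat_lit 111, nat_lit 37, nat_lit 74, nat_lit 37, nat_lit 111, nat_lit 148, nat_lit 296, nat_lit 259, nat_lit 148, nat_lit 296]))
(.node (nat_lit 320) (.leaf 611 12 [nat_lit 185, nat_lit 222, nat_lit 185, nat_lit 74, nat_lit 0, nat_lit 148, nat_lit 259, nat_lit 148, nat_lit 259, nat_lit 148, nat_lit 185, nat_lit 111, nat_lit 259, nat_lit 111, nat_lit 185, nat_lit 222])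
(.leaf 235 4 [nat_lit 111, nat_lit 74, nat_lit 111, nat_lit 74, nat_lit 111, nat_lit 74, nat_lit 296, nat_lit 111, nat_lit 296]))))
(.node (nat_lit 326) (.node (nat_lit 323) (.node (nat_lit 322) (.leaf 305 6 [nat_lit 185, nat_lit 222, nat_lit 185, nat_lit 74, nat_lit 0, nat_lit 222, nat_lit 0, nat_lit 296, nat_lit 259, nat_lit 296])
(.leaf 615 16 [nat_lit 37, nat_lit 74, nat_lit 296, nat_lit 259, nat_lit 111, nat_lit 148, nat_lit 259, nat_lit 111, nat_lit 259, nat_lit 148, nat_lit 74, nat_lit 259, nat_lit 296, nat_lit 111, nat_lit 74, nat_lit 37]))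
(.node (nat_lit 324) (.leaf 617 12 [nat_lit 148, nat_lit 111, nat_lit 37, nat_lit 74, nat_lit 37, nat_lit 111, nat_lit 148, nat_lit 296, nat_lit 259, nat_lit 148, nat_lit 296, nat_lit 74, nat_lit 296, nat_lit 148, nat_lit 259, nat_lit 296])
(.node (nat_lit 325) (.leaf 217 9 [nat_lit 37, nat_lit 222, nat_lit 185, nat_lit 259, nat_lit 74, nat_lit 222, nat_lit 37, nat_lit 185, nat_lit 259])
(.leaf 219 9 [nat_lit 37, nat_lit 222, nat_lit 185, nat_lit 259, nat_lit 74, nat_lit 37, nat_lit 222, nat_lit 185, nat_lit 259]))))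
(.node (nat_lit 328) (.node (nat_lit 327) (.leaf 587 11 [nat_lit 148, nat_lit 0, nat_lit 148, nat_lit 0, nat_lit 37, nat_lit 0, nat_lit 296, nat_lit 148, nat_lit 222, nat_lit 296, nat_lit 0, nat_lit 37, nat_lit 296, nat_lit 222, nat_lit 148, nat_lit 296])
(.leaf 517 9 [nat_lit 259, nat_lit 185, nat_lit 0, nat_lit 296, nat_lit 37, nat_lit 0, nat_lit 185, nat_lit 259, nat_lit 296, nat_lit 185, nat_lit 296, nat_lit 37, nat_lit 0, nat_lit 259]))
(.node (nat_lit 329) (.leaf 601 12 [nat_lit 296, nat_lit 37, nat_lit 148, nat_lit 37, nat_lit 0, nat_lit 37, nat_lit 148, nat_lit 222, nat_lit 111, nat_lit 296, nat_lit 37, nat_lit 222, nat_lit 111, nat_lit 222, nat_lit 74, nat_lit 37])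
(.node (nat_lit 330) (.leaf 205 4 [nat_lit 37, nat_lit 74, nat_lit 259, nat_lit 222, nat_lit 74, nat_lit 37, nat_lit 74, nat_lit 222, nat_lit 259])
(.leaf 501 13 [nat_lit 37, nat_lit 0, nat_lit 185, nat_lit 37, nat_lit 0, nat_lit 185, nat_lit 74, nat_lit 259, nat_lit 185, nat_lit 74, nat_lit 0, nat_lit 74, nat_lit 0, nat_lit 259]))))))
(.node (nat_lit 344) (.node (nat_lit 337) (.node (nat_lit 334) (.node (nat_lit 332) (.leaf 597 2 [nat_lit 111, nat_lit 148, nat_lit 222, nat_lit 0, nat_lit 222, nat_lit 148, nat_lit 185, nat_lit 259, nat_lit 111, nat_lit 185, nat_lit 74, nat_lit 37, nat_lit 111, nat_lit 37, nat_lit 0, nat_lit 259])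
(.node (nat_lit 333) (.leaf 495 12 [nat_lit 0, nat_lit 37, nat_lit 0, nat_lit 296, nat_lit 37, nat_lit 296, nat_lit 0, nat_lit 185, nat_lit 296, nat_lit 259, nat_lit 185, nat_lit 296, nat_lit 185, nat_lit 296])
(.leaf 615 10 [nat_lit 259, nat_lit 296, nat_lit 111, nat_lit 74, nat_lit 37, nat_lit 74, nat_lit 37, nat_lit 74, nat_lit 296, nat_lit 259, nat_lit 111, nat_lit 148, nat_lit 259, nat_lit 111, nat_lit 259, nat_lit 148])))
(.node (nat_lit 335) (.leaf 253 8 [nat_lit 222, nat_lit 74, nat_lit 296, nat_lit 259, nat_lit 296, nat_lit 222, nat_lit 296, nat_lit 259, nat_lit 296])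
(.node (nat_lit 336) (.leaf 81 6 [nat_lit 222, nat_lit 74, nat_lit 259, nat_lit 74, nat_lit 222, nat_lit 74, nat_lit 259])
(.leaf 133 7 [nat_lit 296, nat_lit 74, nat_lit 0, nat_lit 259, nat_lit 74, nat_lit 296, nat_lit 74, nat_lit 0, nat_lit 259]))))
(.node (nat_lit 340) (.node (nat_lit 338) (.leaf 605 3 [nat_lit 37, nat_lit 222, nat_lit 296, nat_lit 259, nat_lit 296, nat_lit 37, nat_lit 74, nat_lit 0, nat_lit 296, nat_lit 37, nat_lit 0, nat_lit 222, nat_lit 37, nat_lit 0, nat_lit 37, nat_lit 296])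
(.node (nat_lit 339) (.leaf 483 0 [nat_lit 111, nat_lit 296, nat_lit 222, nat_lit 296, nat_lit 222, nat_lit 296, nat_lit 111, nat_lit 74, nat_lit 111, nat_lit 222, nat_lit 296, nat_lit 222, nat_lit 111])
(.leaf 633 15 [nat_lit 0, nat_lit 74, nat_lit 0, nat_lit 259, nat_lit 111, nat_lit 222, nat_lit 148, nat_lit 222, nat_lit 259, nat_lit 148, nat_lit 222, nat_lit 74, nat_lit 111, nat_lit 259, nat_lit 148, nat_lit 222, nat_lit 148])))
(.node (nat_lit 342) (.node (nat_lit 341) (.leaf 477 13 [nat_lit 37, nat_lit 185, nat_lit 37, nat_lit 296, nat_lit 222, nat_lit 185, nat_lit 222, nat_lit 185, nat_lit 296, nat_lit 74, nat_lit 259, nat_lit 185, nat_lit 259])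
(.leaf 611 16 [nat_lit 0, nat_lit 148, nat_lit 259, nat_lit 148, nat_lit 259, nat_lit 148, nat_lit 185, nat_lit 111, nat_lit 259, nat_lit 111, nat_lit 185, nat_lit 222, nat_lit 74, nat_lit 185, nat_lit 222, nat_lit 185]))
(.node (nat_lit 343) (.leaf 615 14 [nat_lit 37, nat_lit 74, nat_lit 37, nat_lit 74, nat_lit 296, nat_lit 259, nat_lit 111, nat_lit 148, nat_lit 259, nat_lit 111, nat_lit 259, nat_lit 148, nat_lit 74, nat_lit 259, nat_lit 296, nat_lit 111])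
(.leaf 475 13 [nat_lit 37, nat_lit 111, nat_lit 37, nat_lit 111, nat_lit 222, nat_lit 296, nat_lit 74, nat_lit 296, nat_lit 185, nat_lit 222, nat_lit 111, nat_lit 185, nat_lit 111])))))
(.node (nat_lit 352) (.node (nat_lit 348) (.node (nat_lit 346) (.node (nat_lit 345) (.leaf 383 3 [nat_lit 296, nat_lit 37, nat_lit 296, nat_lit 222, nat_lit 296, nat_lit 37, nat_lit 296, nat_lit 74, nat_lit 0, nat_lit 222, nat_lit 0])
(.leaf 553 7 [nat_lit 0, nat_lit 74, nat_lit 37, nat_lit 296, nat_lit 222, nat_lit 296, nat_lit 74, nat_lit 37, nat_lit 0, nat_lit 296, nat_lit 222, nat_lit 296, nat_lit 259, nat_lit 74, nat_lit 259]))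
(.node (nat_lit 347) (.leaf 191 9 [nat_lit 37, nat_lit 111, nat_lit 259, nat_lit 74, nat_lit 37, nat_lit 259, nat_lit 37, nat_lit 111, nat_lit 37])
(.leaf 577 3 [nat_lit 37, nat_lit 148, nat_lit 222, nat_lit 185, nat_lit 222, nat_lit 148, nat_lit 37, nat_lit 74, nat_lit 37, nat_lit 185, nat_lit 0, nat_lit 148, nat_lit 0, nat_lit 185, nat_lit 37])))
(.node (nat_lit 350) (.node (nat_lit 349) (.leaf 235 8 [nat_lit 111, nat_lit 74, nat_lit 296, nat_lit 111, nat_lit 296, nat_lit 74, nat_lit 111, nat_lit 74, nat_lit 111])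
(.leaf 493 12 [nat_lit 0, nat_lit 37, nat_lit 0, nat_lit 296, nat_lit 37, nat_lit 0, nat_lit 185, nat_lit 259, nat_lit 296, nat_lit 185, nat_lit 296, nat_lit 259, nat_lit 185, nat_lit 259]))
(.node (nat_lit 351) (.leaf 199 9 [nat_lit 37, nat_lit 296, nat_lit 111, nat_lit 296, nat_lit 259, nat_lit 74, nat_lit 259, nat_lit 111, nat_lit 37])
(.leaf 627 6 [nat_lit 185, nat_lit 111, nat_lit 222, nat_lit 111, nat_lit 185, nat_lit 74, nat_lit 111, nat_lit 222, nat_lit 148, nat_lit 111, nat_lit 37, nat_lit 0, nat_lit 74, nat_lit 37, nat_lit 111, nat_lit 148, nat_lit 37]))))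
(.node (nat_lit 356) (.node (nat_lit 354) (.node (nat_lit 353) (.leaf 621 16 [nat_lit 37, nat_lit 74, nat_lit 185, nat_lit 37, nat_lit 185, nat_lit 37, nat_lit 185, nat_lit 259, nat_lit 37, nat_lit 74, nat_lit 259, nat_lit 148, nat_lit 259, nat_lit 74, nat_lit 259, nat_lit 148])
(.leaf 541 11 [nat_lit 296, nat_lit 74, nat_lit 0, nat_lit 37, nat_lit 0, nat_lit 296, nat_lit 222, nat_lit 37, nat_lit 296, nat_lit 222, nat_lit 37, nat_lit 296, nat_lit 0, nat_lit 37, nat_lit 0]))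
(.node (nat_lit 355) (.leaf 205 6 [nat_lit 259, nat_lit 222, nat_lit 74, nat_lit 37, nat_lit 74, nat_lit 222, nat_lit 259, nat_lit 74, nat_lit 37])
(.leaf 221 9 [nat_lit 37, nat_lit 185, nat_lit 222, nat_lit 259, nat_lit 74, nat_lit 37, nat_lit 185, nat_lit 222, nat_lit 259])))
(.node (nat_lit 359) (.node (nat_lit 357) (.leaf 215 5 [nat_lit 37, nat_lit 185, nat_lit 259, nat_lit 74, nat_lit 37, nat_lit 222, nat_lit 185, nat_lit 222, nat_lit 259])
(.node (nat_lit 358) (.leaf 213 9 [nat_lit 37, nat_lit 259, nat_lit 74, nat_lit 259, nat_lit 74, nat_lit 259, nat_lit 37, nat_lit 74, nat_lit 259])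
(.leaf 615 1 [nat_lit 296, nat_lit 259, nat_lit 111, nat_lit 148, nat_lit 259, nat_lit 111, nat_lit 259, nat_lit 148, nat_lit 74, nat_lit 259, nat_lit 296, nat_lit 111, nat_lit 74, nat_lit 37, nat_lit 74, nat_lit 37])))
(.node (nat_lit 361) (.node (nat_lit 360) (.leaf 457 3 [nat_lit 296, nat_lit 222, nat_lit 37, nat_lit 296, nat_lit 222, nat_lit 296, nat_lit 222, nat_lit 37, nat_lit 296, nat_lit 74, nat_lit 0, nat_lit 222, nat_lit 0])
(.leaf 235 6 [nat_lit 111, nat_lit 74, nat_lit 111, nat_lit 74, nat_lit 296, nat_lit 111, nat_lit 296, nat_lit 74, nat_lit 111]))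
(.node (nat_lit 363) (.node (nat_lit 362) (.leaf 541 13 [nat_lit 0, nat_lit 37, nat_lit 0, nat_lit 296, nat_lit 222, nat_lit 37, nat_lit 296, nat_lit 222, nat_lit 37, nat_lit 296, nat_lit 0, nat_lit 37, nat_lit 0, nat_lit 74, nat_lit 296])
(.leaf 457 13 [nat_lit 0, nat_lit 222, nat_lit 0, nat_lit 74, nat_lit 296, nat_lit 222, nat_lit 37, nat_lit 296, nat_lit 222, nat_lit 296, nat_lit 222, nat_lit 37, nat_lit 296]))
(.node (nat_lit 364) (.leaf 561 15 [nat_lit 0, nat_lit 222, nat_lit 0, nat_lit 185, nat_lit 37, nat_lit 74, nat_lit 185, nat_lit 296, nat_lit 185, nat_lit 0, nat_lit 222, nat_lit 0, nat_lit 185, nat_lit 296, nat_lit 37])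
(.leaf 303 6 [nat_lit 185, nat_lit 222, nat_lit 185, nat_lit 74, nat_lit 0, nat_lit 222, nat_lit 259, nat_lit 296, nat_lit 0, nat_lit 296])))))))))))))
(.leaf 0 0 []))))
noncomputable def wt3 : LT := (.node (nat_lit 7) (.node (nat_lit 1) (.node (nat_lit 0) (.leaf 9 0 [nat_lit 148, nat_lit 111, nat_lit 148])
(.leaf 11 0 [nat_lit 296, nat_lit 111, nat_lit 296]))
(.node (nat_lit 3) (.node (nat_lit 2) (.leaf 93 0 [nat_lit 185, nat_lit 111, nat_lit 185, nat_lit 111, nat_lit 185, nat_lit 111, nat_lit 185])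
(.leaf 31 7 [nat_lit 0, nat_lit 111, nat_lit 0, nat_lit 111, nat_lit 0, nat_lit 111, nat_lit 0]))
(.node (nat_lit 5) (.node (nat_lit 4) (.leaf 77 7 [nat_lit 74, nat_lit 111, nat_lit 74, nat_lit 111, nat_lit 74, nat_lit 111, nat_lit 74])
(.leaf 33 5 [nat_lit 222, nat_lit 111, nat_lit 0, nat_lit 111, nat_lit 222, nat_lit 111, nat_lit 0]))
(.node (nat_lit 6) (.leaf 57 5 [nat_lit 37, nat_lit 74, nat_lit 37, nat_lit 111, nat_lit 259, nat_lit 74, nat_lit 259])
(.leaf 57 1 [nat_lit 259, nat_lit 74, nat_lit 259, nat_lit 111, nat_lit 37, nat_lit 74, nat_lit 37])))))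
(.node (nat_lit 90) (.node (nat_lit 20) (.node (nat_lit 11) (.node (nat_lit 9) (.node (nat_lit 8) (.leaf 33 7 [nat_lit 0, nat_lit 111, nat_lit 222, nat_lit 111, nat_lit 0, nat_lit 111, nat_lit 222])
(.leaf 67 7 [nat_lit 37, nat_lit 111, nat_lit 37, nat_lit 111, nat_lit 37, nat_lit 111, nat_lit 37]))
(.node (nat_lit 10) (.leaf 95 0 [nat_lit 259, nat_lit 111, nat_lit 259, nat_lit 111, nat_lit 259, nat_lit 111, nat_lit 259])
(.leaf 377 4 [nat_lit 185, nat_lit 0, nat_lit 37, nat_lit 74, nat_lit 111, nat_lit 74, nat_lit 37, nat_lit 0, nat_lit 222, nat_lit 185, nat_lit 222])))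
(.node (nat_lit 14) (.node (nat_lit 12) (.leaf 255 0 [nat_lit 185, nat_lit 148, nat_lit 185, nat_lit 148, nat_lit 185, nat_lit 148, nat_lit 185, nat_lit 111, nat_lit 148])
(.node (nat_lit 13) (.leaf 189 6 [nat_lit 74, nat_lit 37, nat_lit 74, nat_lit 37, nat_lit 74, nat_lit 111, nat_lit 259, nat_lit 74, nat_lit 259])
(.leaf 195 1 [nat_lit 222, nat_lit 259, nat_lit 74, nat_lit 259, nat_lit 222, nat_lit 111, nat_lit 37, nat_lit 74, nat_lit 37])))
(.node (nat_lit 17) (.node (nat_lit 15) (.leaf 261 0 [nat_lit 185, nat_lit 222, nat_lit 185, nat_lit 222, nat_lit 111, nat_lit 222, nat_lit 185, nat_lit 222, nat_lit 185])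
(.node (nat_lit 16) (.leaf 237 9 [nat_lit 74, nat_lit 111, nat_lit 259, nat_lit 222, nat_lit 111, nat_lit 74, nat_lit 111, nat_lit 259, nat_lit 222])
(.leaf 259 0 [nat_lit 222, nat_lit 185, nat_lit 222, nat_lit 185, nat_lit 111, nat_lit 222, nat_lit 185, nat_lit 222, nat_lit 185])))
(.node (nat_lit 18) (.leaf 201 6 [nat_lit 222, nat_lit 37, nat_lit 74, nat_lit 37, nat_lit 222, nat_lit 111, nat_lit 259, nat_lit 74, nat_lit 259])
(.node (nat_lit 19) (.leaf 385 11 [nat_lit 0, nat_lit 185, nat_lit 74, nat_lit 148, nat_lit 74, nat_lit 111, nat_lit 74, nat_lit 148, nat_lit 74, nat_lit 185, nat_lit 0])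
(.leaf 413 5 [nat_lit 185, nat_lit 148, nat_lit 185, nat_lit 296, nat_lit 74, nat_lit 111, nat_lit 74, nat_lit 296, nat_lit 185, nat_lit 148, nat_lit 185]))))))
(.node (nat_lit 40) (.node (nat_lit 29) (.node (nat_lit 24) (.node (nat_lit 22) (.node (nat_lit 21) (.leaf 193 1 [nat_lit 74, nat_lit 259, nat_lit 74, nat_lit 259, nat_lit 74, nat_lit 111, nat_lit 37, nat_lit 74, nat_lit 37])
(.leaf 393 6 [nat_lit 185, nat_lit 0, nat_lit 111, nat_lit 259, nat_lit 111, nat_lit 0, nat_lit 185, nat_lit 111, nat_lit 185, nat_lit 259, nat_lit 185]))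
(.node (nat_lit 23) (.leaf 149 7 [nat_lit 259, nat_lit 111, nat_lit 0, nat_lit 296, nat_lit 111, nat_lit 0, nat_lit 111, nat_lit 259, nat_lit 296])
(.leaf 141 9 [nat_lit 0, nat_lit 185, nat_lit 37, nat_lit 185, nat_lit 111, nat_lit 0, nat_lit 185, nat_lit 37, nat_lit 185])))
(.node (nat_lit 26) (.node (nat_lit 25) (.leaf 239 1 [nat_lit 222, nat_lit 259, nat_lit 111, nat_lit 74, nat_lit 111, nat_lit 259, nat_lit 222, nat_lit 111, nat_lit 74])
(.leaf 387 8 [nat_lit 185, nat_lit 0, nat_lit 111, nat_lit 0, nat_lit 185, nat_lit 111, nat_lit 185, nat_lit 0, nat_lit 111, nat_lit 0, nat_lit 185]))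
(.node (nat_lit 27) (.leaf 377 9 [nat_lit 74, nat_lit 37, nat_lit 0, nat_lit 222, nat_lit 185, nat_lit 222, nat_lit 111, nat_lit 185, nat_lit 0, nat_lit 37, nat_lit 74])
(.node (nat_lit 28) (.leaf 447 12 [nat_lit 37, nat_lit 0, nat_lit 111, nat_lit 0, nat_lit 148, nat_lit 259, nat_lit 185, nat_lit 111, nat_lit 185, nat_lit 111, nat_lit 259, nat_lit 148, nat_lit 37])
(.leaf 389 9 [nat_lit 37, nat_lit 111, nat_lit 0, nat_lit 222, nat_lit 0, nat_lit 111, nat_lit 37, nat_lit 111, nat_lit 0, nat_lit 222, nat_lit 0])))))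
(.node (nat_lit 34) (.node (nat_lit 31) (.node (nat_lit 30) (.leaf 149 2 [nat_lit 0, nat_lit 111, nat_lit 259, nat_lit 296, nat_lit 111, nat_lit 259, nat_lit 111, nat_lit 0, nat_lit 296])
(.leaf 351 10 [nat_lit 37, nat_lit 259, nat_lit 222, nat_lit 111, nat_lit 259, nat_lit 111, nat_lit 222, nat_lit 37, nat_lit 111, nat_lit 259]))
(.node (nat_lit 32) (.leaf 379 9 [nat_lit 185, nat_lit 37, nat_lit 0, nat_lit 111, nat_lit 185, nat_lit 37, nat_lit 185, nat_lit 148, nat_lit 74, nat_lit 148, nat_lit 0])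
(.node (nat_lit 33) (.leaf 149 9 [nat_lit 0, nat_lit 296, nat_lit 111, nat_lit 0, nat_lit 111, nat_lit 259, nat_lit 296, nat_lit 111, nat_lit 259])
(.leaf 241 9 [nat_lit 74, nat_lit 296, nat_lit 148, nat_lit 296, nat_lit 74, nat_lit 111, nat_lit 296, nat_lit 148, nat_lit 296]))))
(.node (nat_lit 37) (.node (nat_lit 35) (.leaf 147 1 [nat_lit 259, nat_lit 222, nat_lit 259, nat_lit 111, nat_lit 0, nat_lit 111, nat_lit 222, nat_lit 111, nat_lit 0])
(.node (nat_lit 36) (.leaf 257 0 [nat_lit 222, nat_lit 148, nat_lit 222, nat_lit 148, nat_lit 222, nat_lit 148, nat_lit 222, nat_lit 111, nat_lit 148])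
(.leaf 139 9 [nat_lit 0, nat_lit 222, nat_lit 111, nat_lit 0, nat_lit 111, nat_lit 222, nat_lit 0, nat_lit 111, nat_lit 0])))
(.node (nat_lit 38) (.leaf 385 5 [nat_lit 74, nat_lit 148, nat_lit 74, nat_lit 185, nat_lit 0, nat_lit 111, nat_lit 0, nat_lit 185, nat_lit 74, nat_lit 148, nat_lit 74])
(.node (nat_lit 39) (.leaf 487 7 [nat_lit 37, nat_lit 148, nat_lit 0, nat_lit 111, nat_lit 37, nat_lit 0, nat_lit 37, nat_lit 0, nat_lit 74, nat_lit 111, nat_lit 74, nat_lit 37, nat_lit 148, nat_lit 37])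
(.leaf 447 6 [nat_lit 185, nat_lit 111, nat_lit 259, nat_lit 148, nat_lit 37, nat_lit 111, nat_lit 37, nat_lit 0, nat_lit 111, nat_lit 0, nat_lit 148, nat_lit 259, nat_lit 185]))))))
(.node (nat_lit 58) (.node (nat_lit 48) (.node (nat_lit 44) (.node (nat_lit 42) (.node (nat_lit 41) (.leaf 545 5 [nat_lit 185, nat_lit 37, nat_lit 296, nat_lit 37, nat_lit 74, nat_lit 0, nat_lit 37, nat_lit 111, nat_lit 0, nat_lit 37, nat_lit 0, nat_lit 296, nat_lit 37, nat_lit 74, nat_lit 185])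
(.leaf 379 1 [nat_lit 185, nat_lit 37, nat_lit 185, nat_lit 148, nat_lit 74, nat_lit 148, nat_lit 0, nat_lit 111, nat_lit 185, nat_lit 37, nat_lit 0]))
(.node (nat_lit 43) (.leaf 193 7 [nat_lit 37, nat_lit 74, nat_lit 37, nat_lit 111, nat_lit 74, nat_lit 259, nat_lit 74, nat_lit 259, nat_lit 74])
(.leaf 443 12 [nat_lit 37, nat_lit 0, nat_lit 185, nat_lit 74, nat_lit 259, nat_lit 148, nat_lit 74, nat_lit 148, nat_lit 259, nat_lit 0, nat_lit 111, nat_lit 185, nat_lit 0])))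
(.node (nat_lit 46) (.node (nat_lit 45) (.leaf 371 5 [nat_lit 37, nat_lit 0, nat_lit 37, nat_lit 111, nat_lit 0, nat_lit 37, nat_lit 0, nat_lit 222, nat_lit 185, nat_lit 222, nat_lit 185])
(.leaf 393 2 [nat_lit 185, nat_lit 259, nat_lit 185, nat_lit 111, nat_lit 185, nat_lit 0, nat_lit 111, nat_lit 259, nat_lit 111, nat_lit 0, nat_lit 185]))
(.node (nat_lit 47) (.leaf 489 8 [nat_lit 185, nat_lit 0, nat_lit 111, nat_lit 37, nat_lit 0, nat_lit 37, nat_lit 0, nat_lit 148, nat_lit 0, nat_lit 111, nat_lit 0, nat_lit 148, nat_lit 37, nat_lit 185])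
(.leaf 417 9 [nat_lit 222, nat_lit 148, nat_lit 111, nat_lit 222, nat_lit 111, nat_lit 148, nat_lit 222, nat_lit 148, nat_lit 111, nat_lit 222, nat_lit 148]))))
(.node (nat_lit 53) (.node (nat_lit 50) (.node (nat_lit 49) (.leaf 459 6 [nat_lit 259, nat_lit 0, nat_lit 111, nat_lit 0, nat_lit 148, nat_lit 0, nat_lit 111, nat_lit 0, nat_lit 259, nat_lit 111, nat_lit 259, nat_lit 148, nat_lit 259])
(.leaf 313 10 [nat_lit 0, nat_lit 148, nat_lit 259, nat_lit 185, nat_lit 259, nat_lit 185, nat_lit 148, nat_lit 0, nat_lit 111, nat_lit 148]))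
(.node (nat_lit 51) (.leaf 351 5 [nat_lit 222, nat_lit 37, nat_lit 111, nat_lit 259, nat_lit 111, nat_lit 37, nat_lit 259, nat_lit 222, nat_lit 111, nat_lit 259])
(.node (nat_lit 52) (.leaf 237 6 [nat_lit 259, nat_lit 222, nat_lit 111, nat_lit 74, nat_lit 111, nat_lit 259, nat_lit 222, nat_lit 111, nat_lit 74])
(.leaf 351 8 [nat_lit 259, nat_lit 111, nat_lit 37, nat_lit 259, nat_lit 222, nat_lit 111, nat_lit 259, nat_lit 111, nat_lit 222, nat_lit 37]))))
(.node (nat_lit 55) (.node (nat_lit 54) (.leaf 481 10 [nat_lit 185, nat_lit 296, nat_lit 111, nat_lit 37, nat_lit 296, nat_lit 37, nat_lit 222, nat_lit 185, nat_lit 222, nat_lit 37, nat_lit 296, nat_lit 37, nat_lit 296])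
(.leaf 619 15 [nat_lit 74, nat_lit 37, nat_lit 185, nat_lit 37, nat_lit 185, nat_lit 148, nat_lit 259, nat_lit 74, nat_lit 259, nat_lit 148, nat_lit 111, nat_lit 222, nat_lit 74, nat_lit 185, nat_lit 222, nat_lit 74]))
(.node (nat_lit 56) (.leaf 485 7 [nat_lit 259, nat_lit 185, nat_lit 148, nat_lit 185, nat_lit 148, nat_lit 259, nat_lit 111, nat_lit 259, nat_lit 148, nat_lit 185, nat_lit 148, nat_lit 185, nat_lit 259])
(.node (nat_lit 57) (.leaf 393 9 [nat_lit 259, nat_lit 111, nat_lit 0, nat_lit 185, nat_lit 111, nat_lit 185, nat_lit 259, nat_lit 185, nat_lit 111, nat_lit 185, nat_lit 0])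
(.leaf 153 9 [nat_lit 0, nat_lit 148, nat_lit 0, nat_lit 296, nat_lit 148, nat_lit 259, nat_lit 111, nat_lit 148, nat_lit 296]))))))
(.node (nat_lit 72) (.node (nat_lit 65) (.node (nat_lit 61) (.node (nat_lit 59) (.leaf 195 7 [nat_lit 37, nat_lit 74, nat_lit 37, nat_lit 111, nat_lit 222, nat_lit 259, nat_lit 74, nat_lit 259, nat_lit 222])
(.node (nat_lit 60) (.leaf 431 3 [nat_lit 259, nat_lit 74, nat_lit 296, nat_lit 74, nat_lit 148, nat_lit 111, nat_lit 259, nat_lit 296, nat_lit 111, nat_lit 0, nat_lit 148, nat_lit 259])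
(.leaf 351 3 [nat_lit 259, nat_lit 111, nat_lit 222, nat_lit 37, nat_lit 111, nat_lit 259, nat_lit 111, nat_lit 37, nat_lit 259, nat_lit 222])))
(.node (nat_lit 63) (.node (nat_lit 62) (.leaf 359 3 [nat_lit 259, nat_lit 296, nat_lit 259, nat_lit 185, nat_lit 259, nat_lit 185, nat_lit 111, nat_lit 74, nat_lit 296, nat_lit 74])
(.leaf 589 4 [nat_lit 37, nat_lit 185, nat_lit 37, nat_lit 0, nat_lit 37, nat_lit 148, nat_lit 37, nat_lit 111, nat_lit 37, nat_lit 148, nat_lit 0, nat_lit 37, nat_lit 0, nat_lit 185, nat_lit 111, nat_lit 37]))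
(.node (nat_lit 64) (.leaf 371 9 [nat_lit 0, nat_lit 37, nat_lit 0, nat_lit 222, nat_lit 185, nat_lit 222, nat_lit 185, nat_lit 111, nat_lit 37, nat_lit 0, nat_lit 37])
(.leaf 139 7 [nat_lit 0, nat_lit 111, nat_lit 0, nat_lit 222, nat_lit 111, nat_lit 0, nat_lit 111, nat_lit 222, nat_lit 0]))))
(.node (nat_lit 68) (.node (nat_lit 66) (.leaf 481 13 [nat_lit 37, nat_lit 296, nat_lit 37, nat_lit 222, nat_lit 185, nat_lit 222, nat_lit 37, nat_lit 296, nat_lit 37, nat_lit 296, nat_lit 111, nat_lit 185, nat_lit 296])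
(.node (nat_lit 67) (.leaf 153 6 [nat_lit 148, nat_lit 296, nat_lit 111, nat_lit 0, nat_lit 148, nat_lit 0, nat_lit 296, nat_lit 148, nat_lit 259])
(.leaf 447 8 [nat_lit 259, nat_lit 148, nat_lit 37, nat_lit 111, nat_lit 37, nat_lit 0, nat_lit 111, nat_lit 0, nat_lit 148, nat_lit 259, nat_lit 185, nat_lit 111, nat_lit 185])))
(.node (nat_lit 70) (.node (nat_lit 69) (.leaf 149 4 [nat_lit 259, nat_lit 296, nat_lit 111, nat_lit 259, nat_lit 111, nat_lit 0, nat_lit 296, nat_lit 111, nat_lit 0])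
(.leaf 445 12 [nat_lit 37, nat_lit 0, nat_lit 37, nat_lit 296, nat_lit 259, nat_lit 111, nat_lit 259, nat_lit 111, nat_lit 296, nat_lit 37, nat_lit 0, nat_lit 111, nat_lit 37]))
(.node (nat_lit 71) (.leaf 413 11 [nat_lit 74, nat_lit 296, nat_lit 185, nat_lit 148, nat_lit 185, nat_lit 111, nat_lit 185, nat_lit 148, nat_lit 185, nat_lit 296, nat_lit 74])
(.leaf 189 2 [nat_lit 259, nat_lit 74, nat_lit 259, nat_lit 111, nat_lit 74, nat_lit 37, nat_lit 74, nat_lit 37, nat_lit 74])))))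
(.node (nat_lit 80) (.node (nat_lit 76) (.node (nat_lit 74) (.node (nat_lit 73) (.leaf 459 2 [nat_lit 259, nat_lit 148, nat_lit 259, nat_lit 111, nat_lit 259, nat_lit 0, nat_lit 111, nat_lit 0, nat_lit 148, nat_lit 0, nat_lit 111, nat_lit 0, nat_lit 259])
(.leaf 433 10 [nat_lit 222, nat_lit 148, nat_lit 0, nat_lit 222, nat_lit 185, nat_lit 222, nat_lit 185, nat_lit 0, nat_lit 148, nat_lit 222, nat_lit 111, nat_lit 222]))
(.node (nat_lit 75) (.leaf 239 9 [nat_lit 74, nat_lit 111, nat_lit 222, nat_lit 259, nat_lit 111, nat_lit 74, nat_lit 111, nat_lit 259, nat_lit 222])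
(.leaf 433 8 [nat_lit 222, nat_lit 111, nat_lit 222, nat_lit 148, nat_lit 0, nat_lit 222, nat_lit 185, nat_lit 222, nat_lit 185, nat_lit 0, nat_lit 148, nat_lit 222])))
(.node (nat_lit 78) (.node (nat_lit 77) (.leaf 407 11 [nat_lit 37, nat_lit 111, nat_lit 222, nat_lit 111, nat_lit 74, nat_lit 111, nat_lit 222, nat_lit 111, nat_lit 37, nat_lit 111, nat_lit 74])
(.leaf 511 1 [nat_lit 37, nat_lit 185, nat_lit 0, nat_lit 74, nat_lit 111, nat_lit 74, nat_lit 148, nat_lit 0, nat_lit 74, nat_lit 0, nat_lit 148, nat_lit 185, nat_lit 37, nat_lit 0]))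
(.node (nat_lit 79) (.leaf 485 0 [nat_lit 259, nat_lit 148, nat_lit 185, nat_lit 148, nat_lit 185, nat_lit 259, nat_lit 111, nat_lit 259, nat_lit 185, nat_lit 148, nat_lit 185, nat_lit 148, nat_lit 259])
(.leaf 551 10 [nat_lit 185, nat_lit 148, nat_lit 111, nat_lit 74, nat_lit 37, nat_lit 0, nat_lit 259, nat_lit 111, nat_lit 0, nat_lit 111, nat_lit 37, nat_lit 259, nat_lit 74, nat_lit 148, nat_lit 185]))))
(.node (nat_lit 85) (.node (nat_lit 82) (.node (nat_lit 81) (.leaf 387 11 [nat_lit 0, nat_lit 185, nat_lit 111, nat_lit 185, nat_lit 0, nat_lit 111, nat_lit 0, nat_lit 185, nat_lit 111, nat_lit 185, nat_lit 0])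
(.leaf 201 2 [nat_lit 259, nat_lit 74, nat_lit 259, nat_lit 111, nat_lit 222, nat_lit 37, nat_lit 74, nat_lit 37, nat_lit 222]))
(.node (nat_lit 83) (.leaf 465 13 [nat_lit 0, nat_lit 222, nat_lit 148, nat_lit 222, nat_lit 0, nat_lit 148, nat_lit 111, nat_lit 0, nat_lit 222, nat_lit 148, nat_lit 222, nat_lit 0, nat_lit 148])
(.node (nat_lit 84) (.leaf 309 10 [nat_lit 0, nat_lit 296, nat_lit 185, nat_lit 259, nat_lit 185, nat_lit 0, nat_lit 111, nat_lit 74, nat_lit 296, nat_lit 74])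
(.leaf 475 10 [nat_lit 185, nat_lit 111, nat_lit 74, nat_lit 37, nat_lit 111, nat_lit 37, nat_lit 111, nat_lit 222, nat_lit 296, nat_lit 74, nat_lit 296, nat_lit 185, nat_lit 222]))))
(.node (nat_lit 87) (.node (nat_lit 86) (.leaf 403 10 [nat_lit 74, nat_lit 37, nat_lit 259, nat_lit 111, nat_lit 74, nat_lit 111, nat_lit 74, nat_lit 259, nat_lit 37, nat_lit 111, nat_lit 74])
(.leaf 559 9 [nat_lit 185, nat_lit 148, nat_lit 74, nat_lit 111, nat_lit 222, nat_lit 37, nat_lit 0, nat_lit 74, nat_lit 185, nat_lit 222, nat_lit 0, nat_lit 148, nat_lit 185, nat_lit 37, nat_lit 148]))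
(.node (nat_lit 88) (.leaf 535 10 [nat_lit 185, nat_lit 74, nat_lit 111, nat_lit 74, nat_lit 37, nat_lit 111, nat_lit 37, nat_lit 148, nat_lit 222, nat_lit 185, nat_lit 222, nat_lit 185, nat_lit 148, nat_lit 185])
(.node (nat_lit 89) (.leaf 139 2 [nat_lit 0, nat_lit 111, nat_lit 222, nat_lit 0, nat_lit 111, nat_lit 0, nat_lit 111, nat_lit 0, nat_lit 222])
(.leaf 627 10 [nat_lit 185, nat_lit 74, nat_lit 111, nat_lit 222, nat_lit 148, nat_lit 111, nat_lit 37, nat_lit 0, nat_lit 74, nat_lit 37, nat_lit 111, nat_lit 148, nat_lit 37, nat_lit 74, nat_lit 185, nat_lit 111, nat_lit 222]))))))))))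
(.node (nat_lit 337) (.node (nat_lit 159) (.node (nat_lit 119) (.node (nat_lit 103) (.node (nat_lit 96) (.node (nat_lit 93) (.node (nat_lit 91) (.leaf 407 5 [nat_lit 222, nat_lit 111, nat_lit 37, nat_lit 111, nat_lit 74, nat_lit 111, nat_lit 37, nat_lit 111, nat_lit 222, nat_lit 111, nat_lit 74])
(.node (nat_lit 92) (.leaf 429 6 [nat_lit 0, nat_lit 148, nat_lit 111, nat_lit 74, nat_lit 296, nat_lit 74, nat_lit 0, nat_lit 111, nat_lit 0, nat_lit 148, nat_lit 259, nat_lit 296])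
(.leaf 421 9 [nat_lit 37, nat_lit 0, nat_lit 37, nat_lit 0, nat_lit 37, nat_lit 296, nat_lit 259, nat_lit 296, nat_lit 111, nat_lit 222, nat_lit 0, nat_lit 222])))
(.node (nat_lit 94) (.leaf 311 6 [nat_lit 74, nat_lit 296, nat_lit 74, nat_lit 111, nat_lit 0, nat_lit 296, nat_lit 0, nat_lit 185, nat_lit 259, nat_lit 185])
(.node (nat_lit 95) (.leaf 473 4 [nat_lit 259, nat_lit 111, nat_lit 222, nat_lit 185, nat_lit 148, nat_lit 259, nat_lit 148, nat_lit 259, nat_lit 148, nat_lit 0, nat_lit 185, nat_lit 222, nat_lit 259])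
(.leaf 407 7 [nat_lit 37, nat_lit 111, nat_lit 74, nat_lit 111, nat_lit 37, nat_lit 111, nat_lit 222, nat_lit 111, nat_lit 74, nat_lit 111, nat_lit 222]))))
(.node (nat_lit 99) (.node (nat_lit 97) (.leaf 565 12 [nat_lit 37, nat_lit 148, nat_lit 74, nat_lit 0, nat_lit 185, nat_lit 37, nat_lit 185, nat_lit 0, nat_lit 111, nat_lit 37, nat_lit 111, nat_lit 185, nat_lit 148, nat_lit 37, nat_lit 74])
(.node (nat_lit 98) (.leaf 139 4 [nat_lit 222, nat_lit 0, nat_lit 111, nat_lit 0, nat_lit 111, nat_lit 0, nat_lit 222, nat_lit 111, nat_lit 0])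
(.leaf 627 8 [nat_lit 222, nat_lit 111, nat_lit 185, nat_lit 74, nat_lit 111, nat_lit 222, nat_lit 148, nat_lit 111, nat_lit 37, nat_lit 0, nat_lit 74, nat_lit 37, nat_lit 111, nat_lit 148, nat_lit 37, nat_lit 74, nat_lit 185])))
(.node (nat_lit 101) (.node (nat_lit 100) (.leaf 137 7 [nat_lit 0, nat_lit 111, nat_lit 0, nat_lit 296, nat_lit 111, nat_lit 296, nat_lit 0, nat_lit 111, nat_lit 0])
(.leaf 135 7 [nat_lit 0, nat_lit 111, nat_lit 0, nat_lit 148, nat_lit 111, nat_lit 148, nat_lit 0, nat_lit 111, nat_lit 0]))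
(.node (nat_lit 102) (.leaf 309 6 [nat_lit 74, nat_lit 296, nat_lit 74, nat_lit 111, nat_lit 0, nat_lit 296, nat_lit 185, nat_lit 259, nat_lit 185, nat_lit 0])
(.leaf 401 9 [nat_lit 37, nat_lit 74, nat_lit 37, nat_lit 111, nat_lit 74, nat_lit 111, nat_lit 37, nat_lit 74, nat_lit 37, nat_lit 111, nat_lit 74])))))
(.node (nat_lit 111) (.node (nat_lit 107) (.node (nat_lit 105) (.node (nat_lit 104) (.leaf 421 5 [nat_lit 222, nat_lit 0, nat_lit 222, nat_lit 111, nat_lit 37, nat_lit 0, nat_lit 37, nat_lit 0, nat_lit 37, nat_lit 296, nat_lit 259, nat_lit 296])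
(.leaf 199 2 [nat_lit 296, nat_lit 259, nat_lit 74, nat_lit 259, nat_lit 111, nat_lit 37, nat_lit 74, nat_lit 37, nat_lit 296]))
(.node (nat_lit 106) (.leaf 429 1 [nat_lit 0, nat_lit 148, nat_lit 259, nat_lit 296, nat_lit 111, nat_lit 0, nat_lit 148, nat_lit 111, nat_lit 74, nat_lit 296, nat_lit 74, nat_lit 0])
(.leaf 445 4 [nat_lit 259, nat_lit 111, nat_lit 296, nat_lit 37, nat_lit 0, nat_lit 111, nat_lit 37, nat_lit 111, nat_lit 37, nat_lit 0, nat_lit 37, nat_lit 296, nat_lit 259])))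
(.node (nat_lit 109) (.node (nat_lit 108) (.leaf 235 2 [nat_lit 296, nat_lit 74, nat_lit 111, nat_lit 74, nat_lit 111, nat_lit 74, nat_lit 111, nat_lit 74, nat_lit 296])
(.leaf 427 10 [nat_lit 222, nat_lit 74, nat_lit 0, nat_lit 222, nat_lit 148, nat_lit 296, nat_lit 222, nat_lit 0, nat_lit 222, nat_lit 296, nat_lit 74, nat_lit 148]))
(.node (nat_lit 110) (.leaf 611 7 [nat_lit 259, nat_lit 111, nat_lit 185, nat_lit 222, nat_lit 74, nat_lit 185, nat_lit 222, nat_lit 185, nat_lit 74, nat_lit 0, nat_lit 148, nat_lit 259, nat_lit 148, nat_lit 259, nat_lit 148, nat_lit 185])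
(.leaf 455 6 [nat_lit 37, nat_lit 111, nat_lit 0, nat_lit 148, nat_lit 0, nat_lit 185, nat_lit 74, nat_lit 0, nat_lit 74, nat_lit 185, nat_lit 0, nat_lit 148, nat_lit 0]))))
(.node (nat_lit 115) (.node (nat_lit 113) (.node (nat_lit 112) (.leaf 447 1 [nat_lit 0, nat_lit 148, nat_lit 259, nat_lit 185, nat_lit 111, nat_lit 185, nat_lit 111, nat_lit 259, nat_lit 148, nat_lit 37, nat_lit 111, nat_lit 37, nat_lit 0])
(.leaf 535 1 [nat_lit 37, nat_lit 148, nat_lit 222, nat_lit 185, nat_lit 222, nat_lit 185, nat_lit 148, nat_lit 185, nat_lit 111, nat_lit 185, nat_lit 74, nat_lit 111, nat_lit 74, nat_lit 37]))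
(.node (nat_lit 114) (.leaf 461 10 [nat_lit 185, nat_lit 0, nat_lit 111, nat_lit 0, nat_lit 259, nat_lit 185, nat_lit 296, nat_lit 74, nat_lit 296, nat_lit 185, nat_lit 259, nat_lit 185, nat_lit 74])
(.leaf 425 4 [nat_lit 259, nat_lit 0, nat_lit 37, nat_lit 148, nat_lit 74, nat_lit 148, nat_lit 74, nat_lit 37, nat_lit 0, nat_lit 259, nat_lit 111, nat_lit 74])))
(.node (nat_lit 117) (.node (nat_lit 116) (.leaf 403 8 [nat_lit 74, nat_lit 111, nat_lit 74, nat_lit 37, nat_lit 259, nat_lit 111, nat_lit 74, nat_lit 111, nat_lit 74, nat_lit 259, nat_lit 37])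
(.leaf 445 10 [nat_lit 37, nat_lit 111, nat_lit 37, nat_lit 0, nat_lit 37, nat_lit 296, nat_lit 259, nat_lit 111, nat_lit 259, nat_lit 111, nat_lit 296, nat_lit 37, nat_lit 0]))
(.node (nat_lit 118) (.leaf 533 4 [nat_lit 296, nat_lit 74, nat_lit 259, nat_lit 296, nat_lit 111, nat_lit 185, nat_lit 37, nat_lit 296, nat_lit 37, nat_lit 74, nat_lit 37, nat_lit 296, nat_lit 185, nat_lit 37])
(.leaf 261 5 [nat_lit 222, nat_lit 185, nat_lit 222, nat_lit 185, nat_lit 111, nat_lit 185, nat_lit 222, nat_lit 185, nat_lit 222]))))))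
(.node (nat_lit 138) (.node (nat_lit 128) (.node (nat_lit 123) (.node (nat_lit 121) (.node (nat_lit 120) (.leaf 455 8 [nat_lit 0, nat_lit 148, nat_lit 0, nat_lit 185, nat_lit 74, nat_lit 0, nat_lit 74, nat_lit 185, nat_lit 0, nat_lit 148, nat_lit 0, nat_lit 111, nat_lit 37])
(.leaf 407 1 [nat_lit 222, nat_lit 111, nat_lit 74, nat_lit 111, nat_lit 222, nat_lit 111, nat_lit 37, nat_lit 111, nat_lit 74, nat_lit 111, nat_lit 37]))
(.node (nat_lit 122) (.leaf 497 9 [nat_lit 37, nat_lit 0, nat_lit 111, nat_lit 0, nat_lit 37, nat_lit 0, nat_lit 296, nat_lit 222, nat_lit 111, nat_lit 259, nat_lit 111, nat_lit 222, nat_lit 296, nat_lit 0])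
(.leaf 233 2 [nat_lit 148, nat_lit 74, nat_lit 111, nat_lit 74, nat_lit 111, nat_lit 74, nat_lit 111, nat_lit 74, nat_lit 148])))
(.node (nat_lit 125) (.node (nat_lit 124) (.leaf 489 3 [nat_lit 0, nat_lit 148, nat_lit 37, nat_lit 185, nat_lit 111, nat_lit 185, nat_lit 0, nat_lit 111, nat_lit 37, nat_lit 0, nat_lit 37, nat_lit 0, nat_lit 148, nat_lit 0])
(.leaf 589 12 [nat_lit 37, nat_lit 148, nat_lit 0, nat_lit 37, nat_lit 0, nat_lit 185, nat_lit 111, nat_lit 37, nat_lit 111, nat_lit 37, nat_lit 185, nat_lit 37, nat_lit 0, nat_lit 37, nat_lit 148, nat_lit 37]))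
(.node (nat_lit 126) (.leaf 463 13 [nat_lit 0, nat_lit 259, nat_lit 296, nat_lit 185, nat_lit 0, nat_lit 259, nat_lit 111, nat_lit 259, nat_lit 0, nat_lit 185, nat_lit 296, nat_lit 259, nat_lit 0])
(.node (nat_lit 127) (.leaf 547 3 [nat_lit 37, nat_lit 148, nat_lit 74, nat_lit 148, nat_lit 111, nat_lit 222, nat_lit 0, nat_lit 74, nat_lit 0, nat_lit 148, nat_lit 0, nat_lit 37, nat_lit 0, nat_lit 148, nat_lit 222])
(.leaf 255 8 [nat_lit 148, nat_lit 111, nat_lit 185, nat_lit 148, nat_lit 185, nat_lit 148, nat_lit 185, nat_lit 148, nat_lit 185])))))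
(.node (nat_lit 133) (.node (nat_lit 130) (.node (nat_lit 129) (.leaf 389 11 [nat_lit 0, nat_lit 222, nat_lit 0, nat_lit 111, nat_lit 37, nat_lit 111, nat_lit 0, nat_lit 222, nat_lit 0, nat_lit 111, nat_lit 37])
(.leaf 513 2 [nat_lit 74, nat_lit 259, nat_lit 111, nat_lit 185, nat_lit 74, nat_lit 37, nat_lit 296, nat_lit 148, nat_lit 296, nat_lit 148, nat_lit 185, nat_lit 37, nat_lit 0, nat_lit 259]))
(.node (nat_lit 131) (.leaf 431 9 [nat_lit 259, nat_lit 296, nat_lit 111, nat_lit 0, nat_lit 148, nat_lit 259, nat_lit 111, nat_lit 259, nat_lit 74, nat_lit 296, nat_lit 74, nat_lit 148])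
(.node (nat_lit 132) (.leaf 443 9 [nat_lit 185, nat_lit 0, nat_lit 111, nat_lit 37, nat_lit 0, nat_lit 185, nat_lit 74, nat_lit 259, nat_lit 148, nat_lit 74, nat_lit 148, nat_lit 259, nat_lit 0])
(.leaf 615 7 [nat_lit 259, nat_lit 148, nat_lit 74, nat_lit 259, nat_lit 296, nat_lit 111, nat_lit 74, nat_lit 37, nat_lit 74, nat_lit 37, nat_lit 74, nat_lit 296, nat_lit 259, nat_lit 111, nat_lit 148, nat_lit 259]))))
(.node (nat_lit 135) (.node (nat_lit 134) (.leaf 563 14 [nat_lit 74, nat_lit 0, nat_lit 185, nat_lit 74, nat_lit 111, nat_lit 74, nat_lit 148, nat_lit 259, nat_lit 185, nat_lit 259, nat_lit 148, nat_lit 185, nat_lit 0, nat_lit 148, nat_lit 74])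
(.leaf 509 12 [nat_lit 148, nat_lit 37, nat_lit 0, nat_lit 259, nat_lit 185, nat_lit 259, nat_lit 111, nat_lit 0, nat_lit 148, nat_lit 185, nat_lit 37, nat_lit 148, nat_lit 185, nat_lit 74]))
(.node (nat_lit 136) (.leaf 579 9 [nat_lit 222, nat_lit 148, nat_lit 74, nat_lit 185, nat_lit 37, nat_lit 185, nat_lit 37, nat_lit 222, nat_lit 185, nat_lit 222, nat_lit 148, nat_lit 222, nat_lit 111, nat_lit 222, nat_lit 74])
(.node (nat_lit 137) (.leaf 527 9 [nat_lit 74, nat_lit 111, nat_lit 185, nat_lit 74, nat_lit 111, nat_lit 0, nat_lit 148, nat_lit 37, nat_lit 148, nat_lit 185, nat_lit 74, nat_lit 148, nat_lit 185, nat_lit 148])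
(.leaf 403 2 [nat_lit 74, nat_lit 111, nat_lit 74, nat_lit 259, nat_lit 37, nat_lit 111, nat_lit 74, nat_lit 111, nat_lit 74, nat_lit 37, nat_lit 259]))))))
(.node (nat_lit 148) (.node (nat_lit 143) (.node (nat_lit 140) (.node (nat_lit 139) (.leaf 407 3 [nat_lit 74, nat_lit 111, nat_lit 222, nat_lit 111, nat_lit 37, nat_lit 111, nat_lit 74, nat_lit 111, nat_lit 37, nat_lit 111, nat_lit 222])
(.leaf 527 11 [nat_lit 185, nat_lit 74, nat_lit 111, nat_lit 0, nat_lit 148, nat_lit 37, nat_lit 148, nat_lit 185, nat_lit 74, nat_lit 148, nat_lit 185, nat_lit 148, nat_lit 111, nat_lit 74]))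
(.node (nat_lit 141) (.leaf 239 4 [nat_lit 74, nat_lit 111, nat_lit 259, nat_lit 222, nat_lit 111, nat_lit 74, nat_lit 111, nat_lit 222, nat_lit 259])
(.node (nat_lit 142) (.leaf 391 7 [nat_lit 74, nat_lit 148, nat_lit 74, nat_lit 111, nat_lit 0, nat_lit 148, nat_lit 296, nat_lit 259, nat_lit 296, nat_lit 148, nat_lit 0])
(.leaf 403 4 [nat_lit 74, nat_lit 259, nat_lit 37, nat_lit 111, nat_lit 74, nat_lit 111, nat_lit 74, nat_lit 37, nat_lit 259, nat_lit 111, nat_lit 74]))))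
(.node (nat_lit 145) (.node (nat_lit 144) (.leaf 565 7 [nat_lit 185, nat_lit 148, nat_lit 37, nat_lit 74, nat_lit 111, nat_lit 37, nat_lit 148, nat_lit 74, nat_lit 0, nat_lit 185, nat_lit 37, nat_lit 185, nat_lit 0, nat_lit 111, nat_lit 37])
(.leaf 355 5 [nat_lit 37, nat_lit 222, nat_lit 111, nat_lit 259, nat_lit 111, nat_lit 37, nat_lit 259, nat_lit 222, nat_lit 111, nat_lit 259]))
(.node (nat_lit 146) (.leaf 505 10 [nat_lit 37, nat_lit 0, nat_lit 111, nat_lit 37, nat_lit 0, nat_lit 111, nat_lit 37, nat_lit 148, nat_lit 37, nat_lit 148, nat_lit 0, nat_lit 148, nat_lit 37, nat_lit 148])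
(.node (nat_lit 147) (.leaf 597 11 [nat_lit 185, nat_lit 74, nat_lit 37, nat_lit 111, nat_lit 37, nat_lit 0, nat_lit 259, nat_lit 74, nat_lit 111, nat_lit 148, nat_lit 222, nat_lit 0, nat_lit 222, nat_lit 148, nat_lit 185, nat_lit 259])
(.leaf 353 3 [nat_lit 259, nat_lit 111, nat_lit 222, nat_lit 37, nat_lit 111, nat_lit 259, nat_lit 111, nat_lit 37, nat_lit 222, nat_lit 259])))))
(.node (nat_lit 153) (.node (nat_lit 150) (.node (nat_lit 149) (.leaf 151 1 [nat_lit 296, nat_lit 0, nat_lit 111, nat_lit 259, nat_lit 296, nat_lit 111, nat_lit 259, nat_lit 111, nat_lit 0])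
(.leaf 399 8 [nat_lit 185, nat_lit 222, nat_lit 185, nat_lit 0, nat_lit 222, nat_lit 111, nat_lit 185, nat_lit 222, nat_lit 185, nat_lit 0, nat_lit 222]))
(.node (nat_lit 151) (.leaf 487 2 [nat_lit 74, nat_lit 37, nat_lit 148, nat_lit 37, nat_lit 111, nat_lit 37, nat_lit 148, nat_lit 0, nat_lit 111, nat_lit 37, nat_lit 0, nat_lit 37, nat_lit 0, nat_lit 74])
(.node (nat_lit 152) (.leaf 487 11 [nat_lit 37, nat_lit 0, nat_lit 37, nat_lit 0, nat_lit 74, nat_lit 111, nat_lit 74, nat_lit 37, nat_lit 148, nat_lit 37, nat_lit 111, nat_lit 37, nat_lit 148, nat_lit 0])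
(.leaf 473 6 [nat_lit 222, nat_lit 185, nat_lit 148, nat_lit 259, nat_lit 148, nat_lit 259, nat_lit 148, nat_lit 0, nat_lit 185, nat_lit 222, nat_lit 259, nat_lit 111, nat_lit 259]))))
(.node (nat_lit 156) (.node (nat_lit 154) (.leaf 315 10 [nat_lit 0, nat_lit 148, nat_lit 0, nat_lit 148, nat_lit 185, nat_lit 259, nat_lit 185, nat_lit 259, nat_lit 111, nat_lit 148])
(.node (nat_lit 155) (.leaf 191 7 [nat_lit 37, nat_lit 74, nat_lit 37, nat_lit 111, nat_lit 259, nat_lit 74, nat_lit 37, nat_lit 259, nat_lit 37])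
(.leaf 623 1 [nat_lit 185, nat_lit 148, nat_lit 74, nat_lit 148, nat_lit 185, nat_lit 37, nat_lit 111, nat_lit 74, nat_lit 111, nat_lit 74, nat_lit 0, nat_lit 111, nat_lit 185, nat_lit 37, nat_lit 0, nat_lit 37, nat_lit 0])))
(.node (nat_lit 157) (.leaf 137 2 [nat_lit 296, nat_lit 0, nat_lit 111, nat_lit 0, nat_lit 111, nat_lit 0, nat_lit 111, nat_lit 0, nat_lit 296])
(.node (nat_lit 158) (.leaf 563 3 [nat_lit 74, nat_lit 148, nat_lit 259, nat_lit 185, nat_lit 259, nat_lit 148, nat_lit 185, nat_lit 0, nat_lit 148, nat_lit 74, nat_lit 111, nat_lit 74, nat_lit 0, nat_lit 185, nat_lit 74])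
(.leaf 535 13 [nat_lit 74, nat_lit 37, nat_lit 111, nat_lit 37, nat_lit 148, nat_lit 222, nat_lit 185, nat_lit 222, nat_lit 185, nat_lit 148, nat_lit 185, nat_lit 111, nat_lit 185, nat_lit 74]))))))))
(.node (nat_lit 217) (.node (nat_lit 185) (.node (nat_lit 171) (.node (nat_lit 165) (.node (nat_lit 162) (.node (nat_lit 160) (.leaf 311 10 [nat_lit 0, nat_lit 296, nat_lit 0, nat_lit 185, nat_lit 259, nat_lit 185, nat_lit 111, nat_lit 74, nat_lit 296, nat_lit 74])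
(.node (nat_lit 161) (.leaf 445 6 [nat_lit 296, nat_lit 37, nat_lit 0, nat_lit 111, nat_lit 37, nat_lit 111, nat_lit 37, nat_lit 0, nat_lit 37, nat_lit 296, nat_lit 259, nat_lit 111, nat_lit 259])
(.leaf 525 4 [nat_lit 259, nat_lit 296, nat_lit 37, nat_lit 74, nat_lit 148, nat_lit 111, nat_lit 0, nat_lit 148, nat_lit 37, nat_lit 111, nat_lit 0, nat_lit 148, nat_lit 74, nat_lit 296])))
(.node (nat_lit 163) (.leaf 467 10 [nat_lit 222, nat_lit 148, nat_lit 111, nat_lit 0, nat_lit 222, nat_lit 148, nat_lit 0, nat_lit 222, nat_lit 0, nat_lit 148, nat_lit 222, nat_lit 0, nat_lit 148])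
(.node (nat_lit 164) (.leaf 595 14 [nat_lit 74, nat_lit 37, nat_lit 0, nat_lit 185, nat_lit 148, nat_lit 74, nat_lit 185, nat_lit 37, nat_lit 148, nat_lit 185, nat_lit 148, nat_lit 185, nat_lit 111, nat_lit 74, nat_lit 0, nat_lit 185])
(.leaf 547 8 [nat_lit 222, nat_lit 0, nat_lit 74, nat_lit 0, nat_lit 148, nat_lit 0, nat_lit 37, nat_lit 0, nat_lit 148, nat_lit 222, nat_lit 111, nat_lit 37, nat_lit 148, nat_lit 74, nat_lit 148]))))
(.node (nat_lit 168) (.node (nat_lit 166) (.leaf 97 0 [nat_lit 296, nat_lit 148, nat_lit 296, nat_lit 111, nat_lit 296, nat_lit 148, nat_lit 296])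
(.node (nat_lit 167) (.leaf 551 4 [nat_lit 37, nat_lit 259, nat_lit 74, nat_lit 148, nat_lit 185, nat_lit 111, nat_lit 185, nat_lit 148, nat_lit 111, nat_lit 74, nat_lit 37, nat_lit 0, nat_lit 259, nat_lit 111, nat_lit 0])
(.leaf 391 11 [nat_lit 0, nat_lit 148, nat_lit 296, nat_lit 259, nat_lit 296, nat_lit 148, nat_lit 0, nat_lit 111, nat_lit 74, nat_lit 148, nat_lit 74])))
(.node (nat_lit 169) (.leaf 459 9 [nat_lit 0, nat_lit 148, nat_lit 0, nat_lit 111, nat_lit 0, nat_lit 259, nat_lit 111, nat_lit 259, nat_lit 148, nat_lit 259, nat_lit 111, nat_lit 259, nat_lit 0])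
(.node (nat_lit 170) (.leaf 361 10 [nat_lit 74, nat_lit 296, nat_lit 74, nat_lit 111, nat_lit 259, nat_lit 296, nat_lit 185, nat_lit 259, nat_lit 185, nat_lit 259])
(.leaf 401 7 [nat_lit 74, nat_lit 111, nat_lit 37, nat_lit 74, nat_lit 37, nat_lit 111, nat_lit 74, nat_lit 111, nat_lit 37, nat_lit 74, nat_lit 37])))))
(.node (nat_lit 178) (.node (nat_lit 174) (.node (nat_lit 172) (.leaf 527 14 [nat_lit 0, nat_lit 148, nat_lit 37, nat_lit 148, nat_lit 185, nat_lit 74, nat_lit 148, nat_lit 185, nat_lit 148, nat_lit 111, nat_lit 74, nat_lit 111, nat_lit 185, nat_lit 74])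
(.node (nat_lit 173) (.leaf 417 2 [nat_lit 148, nat_lit 222, nat_lit 148, nat_lit 111, nat_lit 222, nat_lit 148, nat_lit 111, nat_lit 222, nat_lit 148, nat_lit 111, nat_lit 222])
(.leaf 235 7 [nat_lit 74, nat_lit 111, nat_lit 74, nat_lit 296, nat_lit 111, nat_lit 296, nat_lit 74, nat_lit 111, nat_lit 74])))
(.node (nat_lit 176) (.node (nat_lit 175) (.leaf 151 4 [nat_lit 259, nat_lit 296, nat_lit 111, nat_lit 259, nat_lit 111, nat_lit 0, nat_lit 111, nat_lit 296, nat_lit 0])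
(.leaf 315 8 [nat_lit 148, nat_lit 111, nat_lit 0, nat_lit 148, nat_lit 0, nat_lit 148, nat_lit 185, nat_lit 259, nat_lit 185, nat_lit 259]))
(.node (nat_lit 177) (.leaf 469 3 [nat_lit 259, nat_lit 222, nat_lit 111, nat_lit 259, nat_lit 222, nat_lit 296, nat_lit 222, nat_lit 0, nat_lit 222, nat_lit 111, nat_lit 0, nat_lit 296, nat_lit 222])
(.leaf 467 13 [nat_lit 0, nat_lit 222, nat_lit 148, nat_lit 0, nat_lit 222, nat_lit 0, nat_lit 148, nat_lit 222, nat_lit 0, nat_lit 148, nat_lit 111, nat_lit 222, nat_lit 148]))))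
(.node (nat_lit 181) (.node (nat_lit 179) (.leaf 225 2 [nat_lit 296, nat_lit 37, nat_lit 111, nat_lit 37, nat_lit 111, nat_lit 37, nat_lit 111, nat_lit 37, nat_lit 296])
(.node (nat_lit 180) (.leaf 353 10 [nat_lit 37, nat_lit 222, nat_lit 259, nat_lit 111, nat_lit 259, nat_lit 111, nat_lit 222, nat_lit 37, nat_lit 111, nat_lit 259])
(.leaf 197 2 [nat_lit 148, nat_lit 259, nat_lit 74, nat_lit 259, nat_lit 111, nat_lit 37, nat_lit 74, nat_lit 37, nat_lit 148])))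
(.node (nat_lit 183) (.node (nat_lit 182) (.leaf 359 10 [nat_lit 74, nat_lit 296, nat_lit 74, nat_lit 111, nat_lit 259, nat_lit 296, nat_lit 259, nat_lit 185, nat_lit 259, nat_lit 185])
(.leaf 507 13 [nat_lit 37, nat_lit 0, nat_lit 185, nat_lit 148, nat_lit 74, nat_lit 296, nat_lit 148, nat_lit 296, nat_lit 259, nat_lit 74, nat_lit 185, nat_lit 0, nat_lit 111, nat_lit 259]))
(.node (nat_lit 184) (.leaf 425 2 [nat_lit 74, nat_lit 111, nat_lit 259, nat_lit 0, nat_lit 37, nat_lit 148, nat_lit 74, nat_lit 148, nat_lit 74, nat_lit 37, nat_lit 0, nat_lit 259])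
(.leaf 589 2 [nat_lit 37, nat_lit 111, nat_lit 37, nat_lit 185, nat_lit 37, nat_lit 0, nat_lit 37, nat_lit 148, nat_lit 37, nat_lit 111, nat_lit 37, nat_lit 148, nat_lit 0, nat_lit 37, nat_lit 0, nat_lit 185]))))))
(.node (nat_lit 200) (.node (nat_lit 192) (.node (nat_lit 188) (.node (nat_lit 186) (.leaf 313 8 [nat_lit 148, nat_lit 111, nat_lit 0, nat_lit 148, nat_lit 259, nat_lit 185, nat_lit 259, nat_lit 185, nat_lit 148, nat_lit 0])
(.node (nat_lit 187) (.leaf 607 5 [nat_lit 148, nat_lit 37, nat_lit 111, nat_lit 74, nat_lit 222, nat_lit 0, nat_lit 222, nat_lit 37, nat_lit 148, nat_lit 222, nat_lit 37, nat_lit 0, nat_lit 222, nat_lit 74, nat_lit 148, nat_lit 37])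
(.leaf 629 1 [nat_lit 185, nat_lit 111, nat_lit 148, nat_lit 37, nat_lit 148, nat_lit 185, nat_lit 37, nat_lit 148, nat_lit 259, nat_lit 37, nat_lit 185, nat_lit 259, nat_lit 37, nat_lit 74, nat_lit 148, nat_lit 37, nat_lit 0])))
(.node (nat_lit 190) (.node (nat_lit 189) (.leaf 361 3 [nat_lit 259, nat_lit 296, nat_lit 185, nat_lit 259, nat_lit 185, nat_lit 259, nat_lit 111, nat_lit 74, nat_lit 296, nat_lit 74])
(.leaf 127 7 [nat_lit 259, nat_lit 74, nat_lit 0, nat_lit 259, nat_lit 0, nat_lit 111, nat_lit 37, nat_lit 74, nat_lit 37]))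
(.node (nat_lit 191) (.leaf 569 7 [nat_lit 0, nat_lit 259, nat_lit 111, nat_lit 259, nat_lit 296, nat_lit 148, nat_lit 0, nat_lit 111, nat_lit 0, nat_lit 259, nat_lit 111, nat_lit 259, nat_lit 148, nat_lit 296, nat_lit 0])
(.leaf 505 13 [nat_lit 37, nat_lit 0, nat_lit 111, nat_lit 37, nat_lit 148, nat_lit 37, nat_lit 148, nat_lit 0, nat_lit 148, nat_lit 37, nat_lit 148, nat_lit 111, nat_lit 37, nat_lit 0]))))
(.node (nat_lit 196) (.node (nat_lit 194) (.node (nat_lit 193) (.leaf 475 1 [nat_lit 37, nat_lit 111, nat_lit 222, nat_lit 296, nat_lit 74, nat_lit 296, nat_lit 185, nat_lit 222, nat_lit 111, nat_lit 185, nat_lit 111, nat_lit 74, nat_lit 37])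
(.leaf 529 8 [nat_lit 259, nat_lit 111, nat_lit 185, nat_lit 37, nat_lit 185, nat_lit 111, nat_lit 0, nat_lit 296, nat_lit 0, nat_lit 296, nat_lit 111, nat_lit 185, nat_lit 37, nat_lit 185]))
(.node (nat_lit 195) (.leaf 505 1 [nat_lit 37, nat_lit 148, nat_lit 37, nat_lit 148, nat_lit 0, nat_lit 148, nat_lit 37, nat_lit 148, nat_lit 111, nat_lit 37, nat_lit 0, nat_lit 111, nat_lit 37, nat_lit 0])
(.leaf 529 10 [nat_lit 185, nat_lit 37, nat_lit 185, nat_lit 111, nat_lit 0, nat_lit 296, nat_lit 0, nat_lit 296, nat_lit 111, nat_lit 185, nat_lit 37, nat_lit 185, nat_lit 111, nat_lit 259])))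
(.node (nat_lit 198) (.node (nat_lit 197) (.leaf 461 13 [nat_lit 0, nat_lit 259, nat_lit 185, nat_lit 296, nat_lit 74, nat_lit 296, nat_lit 185, nat_lit 259, nat_lit 185, nat_lit 74, nat_lit 111, nat_lit 185, nat_lit 0])
(.leaf 463 6 [nat_lit 259, nat_lit 0, nat_lit 185, nat_lit 296, nat_lit 259, nat_lit 0, nat_lit 111, nat_lit 0, nat_lit 259, nat_lit 296, nat_lit 185, nat_lit 0, nat_lit 259]))
(.node (nat_lit 199) (.leaf 633 2 [nat_lit 222, nat_lit 148, nat_lit 222, nat_lit 259, nat_lit 148, nat_lit 222, nat_lit 74, nat_lit 111, nat_lit 259, nat_lit 148, nat_lit 222, nat_lit 148, nat_lit 74, nat_lit 0, nat_lit 74, nat_lit 0, nat_lit 259])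
(.leaf 91 0 [nat_lit 148, nat_lit 296, nat_lit 148, nat_lit 111, nat_lit 148, nat_lit 296, nat_lit 148])))))
(.node (nat_lit 208) (.node (nat_lit 204) (.node (nat_lit 202) (.node (nat_lit 201) (.leaf 625 8 [nat_lit 185, nat_lit 37, nat_lit 148, nat_lit 0, nat_lit 148, nat_lit 74, nat_lit 111, nat_lit 74, nat_lit 37, nat_lit 0, nat_lit 148, nat_lit 37, nat_lit 111, nat_lit 37, nat_lit 259, nat_lit 185, nat_lit 259])
(.leaf 135 9 [nat_lit 0, nat_lit 148, nat_lit 111, nat_lit 148, nat_lit 0, nat_lit 111, nat_lit 0, nat_lit 111, nat_lit 0]))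
(.node (nat_lit 203) (.leaf 489 11 [nat_lit 37, nat_lit 0, nat_lit 37, nat_lit 0, nat_lit 148, nat_lit 0, nat_lit 111, nat_lit 0, nat_lit 148, nat_lit 37, nat_lit 185, nat_lit 111, nat_lit 185, nat_lit 0])
(.leaf 595 10 [nat_lit 74, nat_lit 0, nat_lit 185, nat_lit 111, nat_lit 74, nat_lit 37, nat_lit 0, nat_lit 185, nat_lit 148, nat_lit 74, nat_lit 185, nat_lit 37, nat_lit 148, nat_lit 185, nat_lit 148, nat_lit 185])))
(.node (nat_lit 206) (.node (nat_lit 205) (.leaf 497 3 [nat_lit 259, nat_lit 111, nat_lit 222, nat_lit 296, nat_lit 0, nat_lit 111, nat_lit 37, nat_lit 0, nat_lit 111, nat_lit 0, nat_lit 37, nat_lit 0, nat_lit 296, nat_lit 222])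
(.leaf 583 3 [nat_lit 37, nat_lit 185, nat_lit 0, nat_lit 111, nat_lit 0, nat_lit 185, nat_lit 222, nat_lit 148, nat_lit 37, nat_lit 74, nat_lit 37, nat_lit 0, nat_lit 37, nat_lit 0, nat_lit 148, nat_lit 222]))
(.node (nat_lit 207) (.leaf 145 2 [nat_lit 296, nat_lit 222, nat_lit 111, nat_lit 0, nat_lit 111, nat_lit 222, nat_lit 111, nat_lit 0, nat_lit 296])
(.leaf 475 3 [nat_lit 222, nat_lit 296, nat_lit 74, nat_lit 296, nat_lit 185, nat_lit 222, nat_lit 111, nat_lit 185, nat_lit 111, nat_lit 74, nat_lit 37, nat_lit 111, nat_lit 37]))))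
(.node (nat_lit 212) (.node (nat_lit 210) (.node (nat_lit 209) (.leaf 223 7 [nat_lit 37, nat_lit 111, nat_lit 37, nat_lit 148, nat_lit 111, nat_lit 148, nat_lit 37, nat_lit 111, nat_lit 37])
(.leaf 533 9 [nat_lit 185, nat_lit 37, nat_lit 296, nat_lit 37, nat_lit 74, nat_lit 37, nat_lit 296, nat_lit 185, nat_lit 37, nat_lit 111, nat_lit 296, nat_lit 74, nat_lit 259, nat_lit 296]))
(.node (nat_lit 211) (.leaf 459 13 [nat_lit 0, nat_lit 259, nat_lit 111, nat_lit 259, nat_lit 148, nat_lit 259, nat_lit 111, nat_lit 259, nat_lit 0, nat_lit 111, nat_lit 0, nat_lit 148, nat_lit 0])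
(.leaf 545 13 [nat_lit 0, nat_lit 37, nat_lit 0, nat_lit 296, nat_lit 37, nat_lit 74, nat_lit 185, nat_lit 111, nat_lit 185, nat_lit 37, nat_lit 296, nat_lit 37, nat_lit 74, nat_lit 0, nat_lit 37])))
(.node (nat_lit 214) (.node (nat_lit 213) (.leaf 491 11 [nat_lit 74, nat_lit 0, nat_lit 37, nat_lit 0, nat_lit 148, nat_lit 222, nat_lit 185, nat_lit 222, nat_lit 185, nat_lit 148, nat_lit 37, nat_lit 0, nat_lit 37, nat_lit 74])
(.leaf 511 6 [nat_lit 74, nat_lit 148, nat_lit 0, nat_lit 74, nat_lit 0, nat_lit 148, nat_lit 185, nat_lit 37, nat_lit 0, nat_lit 111, nat_lit 37, nat_lit 185, nat_lit 0, nat_lit 74]))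
(.node (nat_lit 215) (.leaf 567 6 [nat_lit 259, nat_lit 0, nat_lit 148, nat_lit 296, nat_lit 259, nat_lit 296, nat_lit 37, nat_lit 148, nat_lit 74, nat_lit 0, nat_lit 148, nat_lit 259, nat_lit 111, nat_lit 74, nat_lit 37])
(.node (nat_lit 216) (.leaf 497 5 [nat_lit 222, nat_lit 296, nat_lit 0, nat_lit 111, nat_lit 37, nat_lit 0, nat_lit 111, nat_lit 0, nat_lit 37, nat_lit 0, nat_lit 296, nat_lit 222, nat_lit 111, nat_lit 259])
(.leaf 393 11 [nat_lit 0, nat_lit 185, nat_lit 111, nat_lit 185, nat_lit 259, nat_lit 185, nat_lit 111, nat_lit 185, nat_lit 0, nat_lit 111, nat_lit 259]))))))))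
(.node (nat_lit 259) (.node (nat_lit 236) (.node (nat_lit 226) (.node (nat_lit 221) (.node (nat_lit 219) (.node (nat_lit 218) (.leaf 525 10 [nat_lit 0, nat_lit 148, nat_lit 37, nat_lit 111, nat_lit 0, nat_lit 148, nat_lit 74, nat_lit 296, nat_lit 111, nat_lit 259, nat_lit 296, nat_lit 37, nat_lit 74, nat_lit 148])
(.leaf 233 7 [nat_lit 74, nat_lit 111, nat_lit 74, nat_lit 148, nat_lit 111, nat_lit 148, nat_lit 74, nat_lit 111, nat_lit 74]))
(.node (nat_lit 220) (.leaf 355 8 [nat_lit 259, nat_lit 111, nat_lit 37, nat_lit 259, nat_lit 222, nat_lit 111, nat_lit 259, nat_lit 111, nat_lit 37, nat_lit 222])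
(.leaf 239 6 [nat_lit 259, nat_lit 222, nat_lit 111, nat_lit 74, nat_lit 111, nat_lit 222, nat_lit 259, nat_lit 111, nat_lit 74])))
(.node (nat_lit 223) (.node (nat_lit 222) (.leaf 151 7 [nat_lit 259, nat_lit 111, nat_lit 0, nat_lit 111, nat_lit 296, nat_lit 0, nat_lit 111, nat_lit 259, nat_lit 296])
(.leaf 557 5 [nat_lit 74, nat_lit 259, nat_lit 74, nat_lit 185, nat_lit 0, nat_lit 74, nat_lit 259, nat_lit 74, nat_lit 111, nat_lit 37, nat_lit 0, nat_lit 185, nat_lit 74, nat_lit 0, nat_lit 74]))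
(.node (nat_lit 224) (.leaf 135 2 [nat_lit 148, nat_lit 0, nat_lit 111, nat_lit 0, nat_lit 111, nat_lit 0, nat_lit 111, nat_lit 0, nat_lit 148])
(.node (nat_lit 225) (.leaf 597 15 [nat_lit 37, nat_lit 0, nat_lit 259, nat_lit 74, nat_lit 111, nat_lit 148, nat_lit 222, nat_lit 0, nat_lit 222, nat_lit 148, nat_lit 185, nat_lit 259, nat_lit 111, nat_lit 185, nat_lit 74, nat_lit 37])
(.leaf 543 6 [nat_lit 222, nat_lit 0, nat_lit 296, nat_lit 37, nat_lit 0, nat_lit 37, nat_lit 111, nat_lit 0, nat_lit 37, nat_lit 0, nat_lit 296, nat_lit 222, nat_lit 111, nat_lit 0, nat_lit 222])))))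
(.node (nat_lit 231) (.node (nat_lit 228) (.node (nat_lit 227) (.leaf 223 2 [nat_lit 148, nat_lit 37, nat_lit 111, nat_lit 37, nat_lit 111, nat_lit 37, nat_lit 111, nat_lit 37, nat_lit 148])
(.leaf 613 13 [nat_lit 222, nat_lit 111, nat_lit 222, nat_lit 0, nat_lit 296, nat_lit 74, nat_lit 259, nat_lit 37, nat_lit 74, nat_lit 37, nat_lit 296, nat_lit 222, nat_lit 0, nat_lit 222, nat_lit 111, nat_lit 222]))
(.node (nat_lit 229) (.leaf 241 5 [nat_lit 296, nat_lit 148, nat_lit 296, nat_lit 111, nat_lit 74, nat_lit 296, nat_lit 148, nat_lit 296, nat_lit 74])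
(.node (nat_lit 230) (.leaf 475 12 [nat_lit 74, nat_lit 37, nat_lit 111, nat_lit 37, nat_lit 111, nat_lit 222, nat_lit 296, nat_lit 74, nat_lit 296, nat_lit 185, nat_lit 222, nat_lit 111, nat_lit 185])
(.leaf 627 16 [nat_lit 37, nat_lit 0, nat_lit 74, nat_lit 37, nat_lit 111, nat_lit 148, nat_lit 37, nat_lit 74, nat_lit 185, nat_lit 111, nat_lit 222, nat_lit 111, nat_lit 185, nat_lit 74, nat_lit 111, nat_lit 222, nat_lit 148]))))
(.node (nat_lit 233) (.node (nat_lit 232) (.leaf 585 6 [nat_lit 0, nat_lit 222, nat_lit 148, nat_lit 111, nat_lit 222, nat_lit 0, nat_lit 222, nat_lit 74, nat_lit 0, nat_lit 37, nat_lit 0, nat_lit 148, nat_lit 222, nat_lit 111, nat_lit 74, nat_lit 37])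
(.leaf 407 9 [nat_lit 74, nat_lit 111, nat_lit 37, nat_lit 111, nat_lit 222, nat_lit 111, nat_lit 74, nat_lit 111, nat_lit 222, nat_lit 111, nat_lit 37]))
(.node (nat_lit 234) (.leaf 431 12 [nat_lit 0, nat_lit 148, nat_lit 259, nat_lit 111, nat_lit 259, nat_lit 74, nat_lit 296, nat_lit 74, nat_lit 148, nat_lit 111, nat_lit 259, nat_lit 296])
(.node (nat_lit 235) (.leaf 623 10 [nat_lit 74, nat_lit 0, nat_lit 111, nat_lit 185, nat_lit 37, nat_lit 0, nat_lit 37, nat_lit 0, nat_lit 111, nat_lit 185, nat_lit 148, nat_lit 74, nat_lit 148, nat_lit 185, nat_lit 37, nat_lit 111, nat_lit 74])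
(.leaf 629 3 [nat_lit 148, nat_lit 37, nat_lit 148, nat_lit 185, nat_lit 37, nat_lit 148, nat_lit 259, nat_lit 37, nat_lit 185, nat_lit 259, nat_lit 37, nat_lit 74, nat_lit 148, nat_lit 37, nat_lit 0, nat_lit 111, nat_lit 185]))))))
(.node (nat_lit 247) (.node (nat_lit 241) (.node (nat_lit 238) (.node (nat_lit 237) (.leaf 579 6 [nat_lit 222, nat_lit 74, nat_lit 111, nat_lit 222, nat_lit 148, nat_lit 74, nat_lit 185, nat_lit 37, nat_lit 185, nat_lit 37, nat_lit 222, nat_lit 185, nat_lit 222, nat_lit 148, nat_lit 222])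
(.leaf 483 13 [nat_lit 74, nat_lit 111, nat_lit 296, nat_lit 222, nat_lit 296, nat_lit 222, nat_lit 296, nat_lit 111, nat_lit 74, nat_lit 111, nat_lit 222, nat_lit 296, nat_lit 222]))
(.node (nat_lit 239) (.leaf 497 12 [nat_lit 0, nat_lit 37, nat_lit 0, nat_lit 296, nat_lit 222, nat_lit 111, nat_lit 259, nat_lit 111, nat_lit 222, nat_lit 296, nat_lit 0, nat_lit 111, nat_lit 37, nat_lit 0])
(.node (nat_lit 240) (.leaf 601 8 [nat_lit 222, nat_lit 74, nat_lit 37, nat_lit 74, nat_lit 296, nat_lit 37, nat_lit 148, nat_lit 37, nat_lit 0, nat_lit 37, nat_lit 148, nat_lit 222, nat_lit 111, nat_lit 296, nat_lit 37, nat_lit 222])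
(.leaf 483 9 [nat_lit 222, nat_lit 296, nat_lit 222, nat_lit 111, nat_lit 74, nat_lit 111, nat_lit 296, nat_lit 222, nat_lit 296, nat_lit 222, nat_lit 296, nat_lit 111, nat_lit 74]))))
(.node (nat_lit 244) (.node (nat_lit 242) (.leaf 151 9 [nat_lit 0, nat_lit 111, nat_lit 296, nat_lit 0, nat_lit 111, nat_lit 259, nat_lit 296, nat_lit 111, nat_lit 259])
(.node (nat_lit 243) (.leaf 197 7 [nat_lit 37, nat_lit 74, nat_lit 37, nat_lit 148, nat_lit 111, nat_lit 148, nat_lit 259, nat_lit 74, nat_lit 259])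
(.leaf 617 1 [nat_lit 148, nat_lit 296, nat_lit 259, nat_lit 148, nat_lit 296, nat_lit 74, nat_lit 296, nat_lit 148, nat_lit 259, nat_lit 296, nat_lit 74, nat_lit 148, nat_lit 111, nat_lit 37, nat_lit 74, nat_lit 37])))
(.node (nat_lit 245) (.leaf 613 15 [nat_lit 222, nat_lit 0, nat_lit 296, nat_lit 74, nat_lit 259, nat_lit 37, nat_lit 74, nat_lit 37, nat_lit 296, nat_lit 222, nat_lit 0, nat_lit 222, nat_lit 111, nat_lit 222, nat_lit 111, nat_lit 222])
(.node (nat_lit 246) (.leaf 573 15 [nat_lit 0, nat_lit 185, nat_lit 0, nat_lit 148, nat_lit 37, nat_lit 185, nat_lit 0, nat_lit 185, nat_lit 37, nat_lit 148, nat_lit 185, nat_lit 148, nat_lit 0, nat_lit 185, nat_lit 148])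
(.leaf 627 3 [nat_lit 148, nat_lit 37, nat_lit 74, nat_lit 185, nat_lit 111, nat_lit 222, nat_lit 111, nat_lit 185, nat_lit 74, nat_lit 111, nat_lit 222, nat_lit 148, nat_lit 111, nat_lit 37, nat_lit 0, nat_lit 74, nat_lit 37])))))
(.node (nat_lit 253) (.node (nat_lit 250) (.node (nat_lit 248) (.leaf 233 9 [nat_lit 74, nat_lit 148, nat_lit 111, nat_lit 148, nat_lit 74, nat_lit 111, nat_lit 74, nat_lit 111, nat_lit 74])
(.node (nat_lit 249) (.leaf 567 3 [nat_lit 74, nat_lit 37, nat_lit 111, nat_lit 259, nat_lit 0, nat_lit 148, nat_lit 296, nat_lit 259, nat_lit 296, nat_lit 37, nat_lit 148, nat_lit 74, nat_lit 0, nat_lit 148, nat_lit 259])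
(.leaf 521 7 [nat_lit 222, nat_lit 148, nat_lit 296, nat_lit 148, nat_lit 259, nat_lit 0, nat_lit 74, nat_lit 0, nat_lit 296, nat_lit 222, nat_lit 111, nat_lit 259, nat_lit 74, nat_lit 0])))
(.node (nat_lit 251) (.leaf 551 13 [nat_lit 74, nat_lit 37, nat_lit 0, nat_lit 259, nat_lit 111, nat_lit 0, nat_lit 111, nat_lit 37, nat_lit 259, nat_lit 74, nat_lit 148, nat_lit 185, nat_lit 111, nat_lit 185, nat_lit 148])
(.node (nat_lit 252) (.leaf 601 4 [nat_lit 296, nat_lit 37, nat_lit 222, nat_lit 111, nat_lit 222, nat_lit 74, nat_lit 37, nat_lit 74, nat_lit 296, nat_lit 37, nat_lit 148, nat_lit 37, nat_lit 0, nat_lit 37, nat_lit 148, nat_lit 222])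
(.leaf 145 5 [nat_lit 0, nat_lit 111, nat_lit 222, nat_lit 111, nat_lit 0, nat_lit 296, nat_lit 111, nat_lit 296, nat_lit 222]))))
(.node (nat_lit 256) (.node (nat_lit 254) (.leaf 623 13 [nat_lit 185, nat_lit 37, nat_lit 0, nat_lit 37, nat_lit 0, nat_lit 111, nat_lit 185, nat_lit 148, nat_lit 74, nat_lit 148, nat_lit 185, nat_lit 37, nat_lit 111, nat_lit 74, nat_lit 111, nat_lit 74, nat_lit 0])
(.node (nat_lit 255) (.leaf 599 15 [nat_lit 37, nat_lit 0, nat_lit 148, nat_lit 0, nat_lit 185, nat_lit 148, nat_lit 0, nat_lit 148, nat_lit 222, nat_lit 74, nat_lit 185, nat_lit 222, nat_lit 148, nat_lit 222, nat_lit 185, nat_lit 222])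
(.leaf 565 5 [nat_lit 37, nat_lit 111, nat_lit 185, nat_lit 148, nat_lit 37, nat_lit 74, nat_lit 111, nat_lit 37, nat_lit 148, nat_lit 74, nat_lit 0, nat_lit 185, nat_lit 37, nat_lit 185, nat_lit 0])))
(.node (nat_lit 257) (.leaf 551 2 [nat_lit 0, nat_lit 111, nat_lit 37, nat_lit 259, nat_lit 74, nat_lit 148, nat_lit 185, nat_lit 111, nat_lit 185, nat_lit 148, nat_lit 111, nat_lit 74, nat_lit 37, nat_lit 0, nat_lit 259])
(.node (nat_lit 258) (.leaf 469 6 [nat_lit 259, nat_lit 222, nat_lit 296, nat_lit 222, nat_lit 0, nat_lit 222, nat_lit 111, nat_lit 0, nat_lit 296, nat_lit 222, nat_lit 111, nat_lit 259, nat_lit 222])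
(.leaf 617 14 [nat_lit 37, nat_lit 74, nat_lit 37, nat_lit 111, nat_lit 148, nat_lit 296, nat_lit 259, nat_lit 148, nat_lit 296, nat_lit 74, nat_lit 296, nat_lit 148, nat_lit 259, nat_lit 296, nat_lit 74, nat_lit 148])))))))
(.node (nat_lit 287) (.node (nat_lit 272) (.node (nat_lit 265) (.node (nat_lit 262) (.node (nat_lit 260) (.leaf 135 5 [nat_lit 0, nat_lit 111, nat_lit 0, nat_lit 111, nat_lit 0, nat_lit 148, nat_lit 111, nat_lit 148, nat_lit 0])
(.node (nat_lit 261) (.leaf 609 2 [nat_lit 37, nat_lit 74, nat_lit 259, nat_lit 185, nat_lit 259, nat_lit 37, nat_lit 148, nat_lit 185, nat_lit 74, nat_lit 185, nat_lit 37, nat_lit 148, nat_lit 185, nat_lit 74, nat_lit 0, nat_lit 148])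
(.leaf 417 0 [nat_lit 222, nat_lit 111, nat_lit 148, nat_lit 222, nat_lit 148, nat_lit 111, nat_lit 222, nat_lit 148, nat_lit 111, nat_lit 222, nat_lit 148])))
(.node (nat_lit 263) (.leaf 531 1 [nat_lit 74, nat_lit 111, nat_lit 148, nat_lit 296, nat_lit 74, nat_lit 37, nat_lit 74, nat_lit 37, nat_lit 296, nat_lit 148, nat_lit 74, nat_lit 37, nat_lit 74, nat_lit 37])
(.node (nat_lit 264) (.leaf 623 8 [nat_lit 74, nat_lit 111, nat_lit 74, nat_lit 0, nat_lit 111, nat_lit 185, nat_lit 37, nat_lit 0, nat_lit 37, nat_lit 0, nat_lit 111, nat_lit 185, nat_lit 148, nat_lit 74, nat_lit 148, nat_lit 185, nat_lit 37])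
(.leaf 225 7 [nat_lit 37, nat_lit 111, nat_lit 37, nat_lit 296, nat_lit 111, nat_lit 296, nat_lit 37, nat_lit 111, nat_lit 37]))))
(.node (nat_lit 268) (.node (nat_lit 266) (.leaf 417 6 [nat_lit 222, nat_lit 148, nat_lit 111, nat_lit 222, nat_lit 148, nat_lit 111, nat_lit 222, nat_lit 111, nat_lit 148, nat_lit 222, nat_lit 148])
(.node (nat_lit 267) (.leaf 569 10 [nat_lit 259, nat_lit 296, nat_lit 148, nat_lit 0, nat_lit 111, nat_lit 0, nat_lit 259, nat_lit 111, nat_lit 259, nat_lit 148, nat_lit 296, nat_lit 0, nat_lit 111, nat_lit 0, nat_lit 259])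
(.leaf 569 2 [nat_lit 259, nat_lit 148, nat_lit 296, nat_lit 0, nat_lit 111, nat_lit 0, nat_lit 259, nat_lit 111, nat_lit 259, nat_lit 296, nat_lit 148, nat_lit 0, nat_lit 111, nat_lit 0, nat_lit 259])))
(.node (nat_lit 270) (.node (nat_lit 269) (.leaf 543 13 [nat_lit 0, nat_lit 37, nat_lit 0, nat_lit 296, nat_lit 222, nat_lit 111, nat_lit 0, nat_lit 222, nat_lit 111, nat_lit 222, nat_lit 0, nat_lit 296, nat_lit 37, nat_lit 0, nat_lit 37])
(.leaf 429 9 [nat_lit 74, nat_lit 296, nat_lit 74, nat_lit 0, nat_lit 111, nat_lit 0, nat_lit 148, nat_lit 259, nat_lit 296, nat_lit 111, nat_lit 0, nat_lit 148]))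
(.node (nat_lit 271) (.leaf 143 5 [nat_lit 0, nat_lit 111, nat_lit 222, nat_lit 111, nat_lit 0, nat_lit 148, nat_lit 111, nat_lit 148, nat_lit 222])
(.leaf 257 8 [nat_lit 148, nat_lit 111, nat_lit 222, nat_lit 148, nat_lit 222, nat_lit 148, nat_lit 222, nat_lit 148, nat_lit 222])))))
(.node (nat_lit 279) (.node (nat_lit 275) (.node (nat_lit 273) (.leaf 597 3 [nat_lit 148, nat_lit 222, nat_lit 0, nat_lit 222, nat_lit 148, nat_lit 185, nat_lit 259, nat_lit 111, nat_lit 185, nat_lit 74, nat_lit 37, nat_lit 111, nat_lit 37, nat_lit 0, nat_lit 259, nat_lit 74])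
(.node (nat_lit 274) (.leaf 519 7 [nat_lit 74, nat_lit 111, nat_lit 37, nat_lit 296, nat_lit 222, nat_lit 0, nat_lit 74, nat_lit 0, nat_lit 222, nat_lit 296, nat_lit 37, nat_lit 148, nat_lit 74, nat_lit 148])
(.leaf 235 9 [nat_lit 74, nat_lit 296, nat_lit 111, nat_lit 296, nat_lit 74, nat_lit 111, nat_lit 74, nat_lit 111, nat_lit 74])))
(.node (nat_lit 277) (.node (nat_lit 276) (.leaf 525 14 [nat_lit 0, nat_lit 148, nat_lit 74, nat_lit 296, nat_lit 111, nat_lit 259, nat_lit 296, nat_lit 37, nat_lit 74, nat_lit 148, nat_lit 111, nat_lit 0, nat_lit 148, nat_lit 37])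
(.leaf 507 11 [nat_lit 259, nat_lit 111, nat_lit 37, nat_lit 0, nat_lit 185, nat_lit 148, nat_lit 74, nat_lit 296, nat_lit 148, nat_lit 296, nat_lit 259, nat_lit 74, nat_lit 185, nat_lit 0]))
(.node (nat_lit 278) (.leaf 353 8 [nat_lit 259, nat_lit 111, nat_lit 37, nat_lit 222, nat_lit 259, nat_lit 111, nat_lit 259, nat_lit 111, nat_lit 222, nat_lit 37])
(.leaf 559 13 [nat_lit 222, nat_lit 37, nat_lit 0, nat_lit 74, nat_lit 185, nat_lit 222, nat_lit 0, nat_lit 148, nat_lit 185, nat_lit 37, nat_lit 148, nat_lit 111, nat_lit 185, nat_lit 148, nat_lit 74]))))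
(.node (nat_lit 283) (.node (nat_lit 281) (.node (nat_lit 280) (.leaf 503 3 [nat_lit 74, nat_lit 148, nat_lit 222, nat_lit 0, nat_lit 222, nat_lit 148, nat_lit 37, nat_lit 222, nat_lit 259, nat_lit 74, nat_lit 37, nat_lit 0, nat_lit 259, nat_lit 222])
(.leaf 585 10 [nat_lit 222, nat_lit 0, nat_lit 222, nat_lit 74, nat_lit 0, nat_lit 37, nat_lit 0, nat_lit 148, nat_lit 222, nat_lit 111, nat_lit 74, nat_lit 37, nat_lit 111, nat_lit 0, nat_lit 222, nat_lit 148]))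
(.node (nat_lit 282) (.leaf 633 10 [nat_lit 259, nat_lit 148, nat_lit 222, nat_lit 148, nat_lit 74, nat_lit 0, nat_lit 74, nat_lit 0, nat_lit 259, nat_lit 111, nat_lit 222, nat_lit 148, nat_lit 222, nat_lit 259, nat_lit 148, nat_lit 222, nat_lit 74])
(.leaf 611 9 [nat_lit 185, nat_lit 222, nat_lit 74, nat_lit 185, nat_lit 222, nat_lit 185, nat_lit 74, nat_lit 0, nat_lit 148, nat_lit 259, nat_lit 148, nat_lit 259, nat_lit 148, nat_lit 185, nat_lit 111, nat_lit 259])))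
(.node (nat_lit 285) (.node (nat_lit 284) (.leaf 627 13 [nat_lit 222, nat_lit 148, nat_lit 111, nat_lit 37, nat_lit 0, nat_lit 74, nat_lit 37, nat_lit 111, nat_lit 148, nat_lit 37, nat_lit 74, nat_lit 185, nat_lit 111, nat_lit 222, nat_lit 111, nat_lit 185, nat_lit 74])
(.leaf 583 7 [nat_lit 0, nat_lit 185, nat_lit 222, nat_lit 148, nat_lit 37, nat_lit 74, nat_lit 37, nat_lit 0, nat_lit 37, nat_lit 0, nat_lit 148, nat_lit 222, nat_lit 111, nat_lit 37, nat_lit 185, nat_lit 0]))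
(.node (nat_lit 286) (.leaf 143 9 [nat_lit 0, nat_lit 148, nat_lit 111, nat_lit 148, nat_lit 222, nat_lit 111, nat_lit 0, nat_lit 111, nat_lit 222])
(.leaf 585 3 [nat_lit 74, nat_lit 37, nat_lit 111, nat_lit 0, nat_lit 222, nat_lit 148, nat_lit 111, nat_lit 222, nat_lit 0, nat_lit 222, nat_lit 74, nat_lit 0, nat_lit 37, nat_lit 0, nat_lit 148, nat_lit 222]))))))
(.node (nat_lit 304) (.node (nat_lit 295) (.node (nat_lit 291) (.node (nat_lit 289) (.node (nat_lit 288) (.leaf 625 15 [nat_lit 74, nat_lit 37, nat_lit 0, nat_lit 148, nat_lit 37, nat_lit 111, nat_lit 37, nat_lit 259, nat_lit 185, nat_lit 259, nat_lit 111, nat_lit 185, nat_lit 37, nat_lit 148, nat_lit 0, nat_lit 148, nat_lit 74])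
(.leaf 223 5 [nat_lit 37, nat_lit 111, nat_lit 37, nat_lit 111, nat_lit 37, nat_lit 148, nat_lit 111, nat_lit 148, nat_lit 37]))
(.node (nat_lit 290) (.leaf 225 5 [nat_lit 37, nat_lit 111, nat_lit 37, nat_lit 111, nat_lit 37, nat_lit 296, nat_lit 111, nat_lit 296, nat_lit 37])
(.leaf 625 3 [nat_lit 37, nat_lit 259, nat_lit 185, nat_lit 259, nat_lit 111, nat_lit 185, nat_lit 37, nat_lit 148, nat_lit 0, nat_lit 148, nat_lit 74, nat_lit 111, nat_lit 74, nat_lit 37, nat_lit 0, nat_lit 148, nat_lit 37])))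
(.node (nat_lit 293) (.node (nat_lit 292) (.leaf 223 9 [nat_lit 37, nat_lit 148, nat_lit 111, nat_lit 148, nat_lit 37, nat_lit 111, nat_lit 37, nat_lit 111, nat_lit 37])
(.leaf 555 14 [nat_lit 37, nat_lit 0, nat_lit 74, nat_lit 0, nat_lit 185, nat_lit 37, nat_lit 74, nat_lit 185, nat_lit 0, nat_lit 148, nat_lit 222, nat_lit 0, nat_lit 222, nat_lit 148, nat_lit 74]))
(.node (nat_lit 294) (.leaf 531 3 [nat_lit 148, nat_lit 296, nat_lit 74, nat_lit 37, nat_lit 74, nat_lit 37, nat_lit 296, nat_lit 148, nat_lit 74, nat_lit 37, nat_lit 74, nat_lit 37, nat_lit 111, nat_lit 74])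
(.leaf 571 13 [nat_lit 37, nat_lit 111, nat_lit 0, nat_lit 148, nat_lit 185, nat_lit 37, nat_lit 74, nat_lit 185, nat_lit 37, nat_lit 185, nat_lit 74, nat_lit 37, nat_lit 185, nat_lit 148, nat_lit 0]))))
(.node (nat_lit 299) (.node (nat_lit 297) (.node (nat_lit 296) (.leaf 607 8 [nat_lit 74, nat_lit 222, nat_lit 0, nat_lit 222, nat_lit 37, nat_lit 148, nat_lit 222, nat_lit 37, nat_lit 0, nat_lit 222, nat_lit 74, nat_lit 148, nat_lit 37, nat_lit 111, nat_lit 148, nat_lit 37])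
(.leaf 509 4 [nat_lit 0, nat_lit 148, nat_lit 185, nat_lit 37, nat_lit 148, nat_lit 185, nat_lit 74, nat_lit 111, nat_lit 148, nat_lit 37, nat_lit 0, nat_lit 259, nat_lit 185, nat_lit 259]))
(.node (nat_lit 298) (.leaf 353 5 [nat_lit 222, nat_lit 37, nat_lit 111, nat_lit 259, nat_lit 111, nat_lit 37, nat_lit 222, nat_lit 259, nat_lit 111, nat_lit 259])
(.leaf 137 9 [nat_lit 0, nat_lit 296, nat_lit 111, nat_lit 296, nat_lit 0, nat_lit 111, nat_lit 0, nat_lit 111, nat_lit 0])))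
(.node (nat_lit 301) (.node (nat_lit 300) (.leaf 513 5 [nat_lit 185, nat_lit 74, nat_lit 37, nat_lit 296, nat_lit 148, nat_lit 296, nat_lit 148, nat_lit 185, nat_lit 37, nat_lit 0, nat_lit 259, nat_lit 111, nat_lit 74, nat_lit 259])
(.leaf 571 15 [nat_lit 0, nat_lit 148, nat_lit 185, nat_lit 37, nat_lit 74, nat_lit 185, nat_lit 37, nat_lit 185, nat_lit 74, nat_lit 37, nat_lit 185, nat_lit 148, nat_lit 0, nat_lit 111, nat_lit 37]))
(.node (nat_lit 302) (.leaf 233 5 [nat_lit 74, nat_lit 111, nat_lit 74, nat_lit 111, nat_lit 74, nat_lit 148, nat_lit 111, nat_lit 148, nat_lit 74])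
(.node (nat_lit 303) (.leaf 199 7 [nat_lit 37, nat_lit 74, nat_lit 37, nat_lit 296, nat_lit 111, nat_lit 296, nat_lit 259, nat_lit 74, nat_lit 259])
(.leaf 483 7 [nat_lit 74, nat_lit 111, nat_lit 222, nat_lit 296, nat_lit 222, nat_lit 111, nat_lit 74, nat_lit 111, nat_lit 296, nat_lit 222, nat_lit 296, nat_lit 222, nat_lit 296]))))))
(.node (nat_lit 314) (.node (nat_lit 309) (.node (nat_lit 306) (.node (nat_lit 305) (.leaf 127 3 [nat_lit 37, nat_lit 74, nat_lit 37, nat_lit 111, nat_lit 259, nat_lit 74, nat_lit 0, nat_lit 259, nat_lit 0])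
(.leaf 529 4 [nat_lit 185, nat_lit 37, nat_lit 185, nat_lit 111, nat_lit 259, nat_lit 111, nat_lit 185, nat_lit 37, nat_lit 185, nat_lit 111, nat_lit 0, nat_lit 296, nat_lit 0, nat_lit 296]))
(.node (nat_lit 307) (.leaf 557 14 [nat_lit 37, nat_lit 0, nat_lit 185, nat_lit 74, nat_lit 0, nat_lit 74, nat_lit 111, nat_lit 74, nat_lit 259, nat_lit 74, nat_lit 185, nat_lit 0, nat_lit 74, nat_lit 259, nat_lit 74])
(.node (nat_lit 308) (.leaf 619 9 [nat_lit 222, nat_lit 74, nat_lit 185, nat_lit 222, nat_lit 74, nat_lit 111, nat_lit 74, nat_lit 37, nat_lit 185, nat_lit 37, nat_lit 185, nat_lit 148, nat_lit 259, nat_lit 74, nat_lit 259, nat_lit 148])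
(.leaf 235 5 [nat_lit 74, nat_lit 111, nat_lit 74, nat_lit 111, nat_lit 74, nat_lit 296, nat_lit 111, nat_lit 296, nat_lit 74]))))
(.node (nat_lit 311) (.node (nat_lit 310) (.leaf 225 9 [nat_lit 37, nat_lit 296, nat_lit 111, nat_lit 296, nat_lit 37, nat_lit 111, nat_lit 37, nat_lit 111, nat_lit 37])
(.leaf 581 2 [nat_lit 296, nat_lit 185, nat_lit 222, nat_lit 37, nat_lit 185, nat_lit 222, nat_lit 37, nat_lit 185, nat_lit 296, nat_lit 111, nat_lit 185, nat_lit 37, nat_lit 185, nat_lit 37, nat_lit 185]))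
(.node (nat_lit 312) (.leaf 191 1 [nat_lit 259, nat_lit 74, nat_lit 37, nat_lit 259, nat_lit 37, nat_lit 111, nat_lit 37, nat_lit 74, nat_lit 37])
(.node (nat_lit 313) (.leaf 357 3 [nat_lit 259, nat_lit 111, nat_lit 37, nat_lit 222, nat_lit 111, nat_lit 259, nat_lit 111, nat_lit 37, nat_lit 222, nat_lit 259])
(.leaf 355 10 [nat_lit 37, nat_lit 259, nat_lit 222, nat_lit 111, nat_lit 259, nat_lit 111, nat_lit 37, nat_lit 222, nat_lit 111, nat_lit 259])))))
(.node (nat_lit 321) (.node (nat_lit 317) (.node (nat_lit 315) (.leaf 615 4 [nat_lit 148, nat_lit 259, nat_lit 111, nat_lit 259, nat_lit 148, nat_lit 74, nat_lit 259, nat_lit 296, nat_lit 111, nat_lit 74, nat_lit 37, nat_lit 74, nat_lit 37, nat_lit 74, nat_lit 296, nat_lit 259])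
(.node (nat_lit 316) (.leaf 469 13 [nat_lit 0, nat_lit 296, nat_lit 222, nat_lit 111, nat_lit 259, nat_lit 222, nat_lit 111, nat_lit 259, nat_lit 222, nat_lit 296, nat_lit 222, nat_lit 0, nat_lit 222])
(.leaf 543 3 [nat_lit 0, nat_lit 222, nat_lit 111, nat_lit 222, nat_lit 0, nat_lit 296, nat_lit 37, nat_lit 0, nat_lit 37, nat_lit 111, nat_lit 0, nat_lit 37, nat_lit 0, nat_lit 296, nat_lit 222])))
(.node (nat_lit 319) (.node (nat_lit 318) (.leaf 355 3 [nat_lit 259, nat_lit 111, nat_lit 37, nat_lit 222, nat_lit 111, nat_lit 259, nat_lit 111, nat_lit 37, nat_lit 259, nat_lit 222])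
(.leaf 137 5 [nat_lit 0, nat_lit 111, nat_lit 0, nat_lit 111, nat_lit 0, nat_lit 296, nat_lit 111, nat_lit 296, nat_lit 0]))
(.node (nat_lit 320) (.leaf 581 12 [nat_lit 185, nat_lit 37, nat_lit 185, nat_lit 37, nat_lit 185, nat_lit 111, nat_lit 296, nat_lit 185, nat_lit 222, nat_lit 37, nat_lit 185, nat_lit 222, nat_lit 37, nat_lit 185, nat_lit 296])
(.leaf 145 9 [nat_lit 0, nat_lit 296, nat_lit 111, nat_lit 296, nat_lit 222, nat_lit 111, nat_lit 0, nat_lit 111, nat_lit 222]))))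
(.node (nat_lit 326) (.node (nat_lit 323) (.node (nat_lit 322) (.leaf 357 8 [nat_lit 259, nat_lit 111, nat_lit 37, nat_lit 222, nat_lit 259, nat_lit 111, nat_lit 259, nat_lit 111, nat_lit 37, nat_lit 222])
(.leaf 357 5 [nat_lit 37, nat_lit 222, nat_lit 111, nat_lit 259, nat_lit 111, nat_lit 37, nat_lit 222, nat_lit 259, nat_lit 111, nat_lit 259]))
(.node (nat_lit 324) (.leaf 147 7 [nat_lit 222, nat_lit 111, nat_lit 0, nat_lit 111, nat_lit 259, nat_lit 222, nat_lit 259, nat_lit 111, nat_lit 0])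
(.node (nat_lit 325) (.leaf 529 14 [nat_lit 0, nat_lit 296, nat_lit 0, nat_lit 296, nat_lit 111, nat_lit 185, nat_lit 37, nat_lit 185, nat_lit 111, nat_lit 259, nat_lit 111, nat_lit 185, nat_lit 37, nat_lit 185])
(.leaf 147 5 [nat_lit 0, nat_lit 111, nat_lit 222, nat_lit 111, nat_lit 0, nat_lit 111, nat_lit 259, nat_lit 222, nat_lit 259]))))
(.node (nat_lit 330) (.node (nat_lit 328) (.node (nat_lit 327) (.leaf 569 15 [nat_lit 0, nat_lit 259, nat_lit 111, nat_lit 259, nat_lit 148, nat_lit 296, nat_lit 0, nat_lit 111, nat_lit 0, nat_lit 259, nat_lit 111, nat_lit 259, nat_lit 296, nat_lit 148, nat_lit 0])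
(.leaf 521 3 [nat_lit 259, nat_lit 74, nat_lit 0, nat_lit 111, nat_lit 222, nat_lit 148, nat_lit 296, nat_lit 148, nat_lit 259, nat_lit 0, nat_lit 74, nat_lit 0, nat_lit 296, nat_lit 222]))
(.node (nat_lit 329) (.leaf 143 7 [nat_lit 222, nat_lit 111, nat_lit 0, nat_lit 148, nat_lit 111, nat_lit 148, nat_lit 222, nat_lit 111, nat_lit 0])
(.leaf 143 2 [nat_lit 148, nat_lit 222, nat_lit 111, nat_lit 0, nat_lit 111, nat_lit 222, nat_lit 111, nat_lit 0, nat_lit 148])))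
(.node (nat_lit 332) (.node (nat_lit 331) (.leaf 519 9 [nat_lit 37, nat_lit 296, nat_lit 222, nat_lit 0, nat_lit 74, nat_lit 0, nat_lit 222, nat_lit 296, nat_lit 37, nat_lit 148, nat_lit 74, nat_lit 148, nat_lit 111, nat_lit 74])
(.leaf 483 1 [nat_lit 296, nat_lit 222, nat_lit 296, nat_lit 222, nat_lit 296, nat_lit 111, nat_lit 74, nat_lit 111, nat_lit 222, nat_lit 296, nat_lit 222, nat_lit 111, nat_lit 74]))
(.node (nat_lit 334) (.node (nat_lit 333) (.leaf 575 15 [nat_lit 0, nat_lit 148, nat_lit 74, nat_lit 148, nat_lit 0, nat_lit 111, nat_lit 259, nat_lit 296, nat_lit 222, nat_lit 296, nat_lit 74, nat_lit 296, nat_lit 222, nat_lit 296, nat_lit 259])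
(.leaf 575 5 [nat_lit 259, nat_lit 296, nat_lit 222, nat_lit 296, nat_lit 74, nat_lit 296, nat_lit 222, nat_lit 296, nat_lit 259, nat_lit 111, nat_lit 0, nat_lit 148, nat_lit 74, nat_lit 148, nat_lit 0]))
(.node (nat_lit 335) (.leaf 145 7 [nat_lit 222, nat_lit 111, nat_lit 0, nat_lit 296, nat_lit 111, nat_lit 296, nat_lit 222, nat_lit 111, nat_lit 0])
(.node (nat_lit 336) (.leaf 613 11 [nat_lit 222, nat_lit 111, nat_lit 222, nat_lit 111, nat_lit 222, nat_lit 0, nat_lit 296, nat_lit 74, nat_lit 259, nat_lit 37, nat_lit 74, nat_lit 37, nat_lit 296, nat_lit 222, nat_lit 0, nat_lit 222])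
(.leaf 615 13 [nat_lit 74, nat_lit 37, nat_lit 74, nat_lit 37, nat_lit 74, nat_lit 296, nat_lit 259, nat_lit 111, nat_lit 148, nat_lit 259, nat_lit 111, nat_lit 259, nat_lit 148, nat_lit 74, nat_lit 259, nat_lit 296]))))))))))))))
(.leaf 0 0 []))))
noncomputable def wt4 : LT := (.node (nat_lit 30) (.node (nat_lit 4) (.node (nat_lit 1) (.node (nat_lit 0) (.leaf 9 3 [nat_lit 111, nat_lit 148, nat_lit 111])
(.leaf 35 4 [nat_lit 296, nat_lit 0, nat_lit 148, nat_lit 0, nat_lit 296, nat_lit 148, nat_lit 259]))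
(.node (nat_lit 2) (.leaf 99 0 [nat_lit 185, nat_lit 148, nat_lit 185, nat_lit 148, nat_lit 185, nat_lit 148, nat_lit 185])
(.node (nat_lit 3) (.leaf 101 0 [nat_lit 222, nat_lit 148, nat_lit 222, nat_lit 148, nat_lit 222, nat_lit 148, nat_lit 222])
(.leaf 35 7 [nat_lit 0, nat_lit 296, nat_lit 148, nat_lit 259, nat_lit 148, nat_lit 296, nat_lit 0]))))
(.node (nat_lit 9) (.node (nat_lit 6) (.node (nat_lit 5) (.leaf 35 2 [nat_lit 259, nat_lit 148, nat_lit 296, nat_lit 0, nat_lit 148, nat_lit 0, nat_lit 296])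
(.leaf 69 7 [nat_lit 37, nat_lit 148, nat_lit 37, nat_lit 148, nat_lit 37, nat_lit 148, nat_lit 37]))
(.node (nat_lit 7) (.leaf 79 7 [nat_lit 74, nat_lit 148, nat_lit 74, nat_lit 148, nat_lit 74, nat_lit 148, nat_lit 74])
(.node (nat_lit 8) (.leaf 89 6 [nat_lit 296, nat_lit 74, nat_lit 296, nat_lit 148, nat_lit 296, nat_lit 74, nat_lit 296])
(.leaf 119 8 [nat_lit 0, nat_lit 148, nat_lit 259, nat_lit 185, nat_lit 259, nat_lit 185, nat_lit 148, nat_lit 0]))))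
(.node (nat_lit 16) (.node (nat_lit 12) (.node (nat_lit 10) (.leaf 175 6 [nat_lit 74, nat_lit 148, nat_lit 222, nat_lit 0, nat_lit 296, nat_lit 74, nat_lit 296, nat_lit 0, nat_lit 222])
(.node (nat_lit 11) (.leaf 91 5 [nat_lit 296, nat_lit 148, nat_lit 111, nat_lit 148, nat_lit 296, nat_lit 148, nat_lit 111])
(.leaf 417 11 [nat_lit 111, nat_lit 222, nat_lit 111, nat_lit 148, nat_lit 222, nat_lit 148, nat_lit 111, nat_lit 222, nat_lit 148, nat_lit 111, nat_lit 222])))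
(.node (nat_lit 14) (.node (nat_lit 13) (.leaf 175 8 [nat_lit 222, nat_lit 0, nat_lit 296, nat_lit 74, nat_lit 296, nat_lit 0, nat_lit 222, nat_lit 148, nat_lit 74])
(.leaf 103 0 [nat_lit 296, nat_lit 148, nat_lit 296, nat_lit 148, nat_lit 296, nat_lit 148, nat_lit 296]))
(.node (nat_lit 15) (.leaf 419 10 [nat_lit 185, nat_lit 148, nat_lit 296, nat_lit 148, nat_lit 185, nat_lit 148, nat_lit 296, nat_lit 148, nat_lit 185, nat_lit 148, nat_lit 296])
(.leaf 119 1 [nat_lit 259, nat_lit 185, nat_lit 259, nat_lit 185, nat_lit 148, nat_lit 0, nat_lit 148, nat_lit 0]))))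
(.node (nat_lit 22) (.node (nat_lit 19) (.node (nat_lit 17) (.leaf 223 3 [nat_lit 37, nat_lit 111, nat_lit 37, nat_lit 111, nat_lit 37, nat_lit 111, nat_lit 37, nat_lit 148, nat_lit 111])
(.node (nat_lit 18) (.leaf 315 3 [nat_lit 185, nat_lit 259, nat_lit 185, nat_lit 259, nat_lit 111, nat_lit 148, nat_lit 111, nat_lit 0, nat_lit 148, nat_lit 0])
(.leaf 143 3 [nat_lit 222, nat_lit 111, nat_lit 0, nat_lit 111, nat_lit 222, nat_lit 111, nat_lit 0, nat_lit 148, nat_lit 111])))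
(.node (nat_lit 20) (.leaf 233 3 [nat_lit 74, nat_lit 111, nat_lit 74, nat_lit 111, nat_lit 74, nat_lit 111, nat_lit 74, nat_lit 148, nat_lit 111])
(.node (nat_lit 21) (.leaf 119 6 [nat_lit 0, nat_lit 148, nat_lit 0, nat_lit 148, nat_lit 259, nat_lit 185, nat_lit 259, nat_lit 185])
(.leaf 413 7 [nat_lit 185, nat_lit 296, nat_lit 74, nat_lit 111, nat_lit 74, nat_lit 296, nat_lit 185, nat_lit 148, nat_lit 185, nat_lit 111, nat_lit 185]))))
(.node (nat_lit 25) (.node (nat_lit 23) (.leaf 135 3 [nat_lit 0, nat_lit 111, nat_lit 0, nat_lit 111, nat_lit 0, nat_lit 111, nat_lit 0, nat_lit 148, nat_lit 111])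
(.node (nat_lit 24) (.leaf 349 8 [nat_lit 37, nat_lit 74, nat_lit 37, nat_lit 148, nat_lit 37, nat_lit 296, nat_lit 74, nat_lit 296, nat_lit 74, nat_lit 37])
(.leaf 157 4 [nat_lit 259, nat_lit 0, nat_lit 296, nat_lit 259, nat_lit 148, nat_lit 0, nat_lit 296, nat_lit 148, nat_lit 259])))
(.node (nat_lit 27) (.node (nat_lit 26) (.leaf 243 9 [nat_lit 74, nat_lit 296, nat_lit 148, nat_lit 74, nat_lit 148, nat_lit 74, nat_lit 296, nat_lit 148, nat_lit 74])
(.leaf 509 6 [nat_lit 185, nat_lit 37, nat_lit 148, nat_lit 185, nat_lit 74, nat_lit 111, nat_lit 148, nat_lit 37, nat_lit 0, nat_lit 259, nat_lit 185, nat_lit 259, nat_lit 111, nat_lit 0]))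
(.node (nat_lit 28) (.leaf 465 9 [nat_lit 222, nat_lit 0, nat_lit 148, nat_lit 111, nat_lit 0, nat_lit 222, nat_lit 148, nat_lit 222, nat_lit 0, nat_lit 148, nat_lit 111, nat_lit 0, nat_lit 222])
(.node (nat_lit 29) (.leaf 263 0 [nat_lit 259, nat_lit 222, nat_lit 259, nat_lit 148, nat_lit 222, nat_lit 148, nat_lit 222, nat_lit 148, nat_lit 222])
(.leaf 509 9 [nat_lit 185, nat_lit 74, nat_lit 111, nat_lit 148, nat_lit 37, nat_lit 0, nat_lit 259, nat_lit 185, nat_lit 259, nat_lit 111, nat_lit 0, nat_lit 148, nat_lit 185, nat_lit 37])))))))))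
(.node (nat_lit 355) (.node (nat_lit 96) (.node (nat_lit 54) (.node (nat_lit 40) (.node (nat_lit 35) (.node (nat_lit 32) (.node (nat_lit 31) (.leaf 159 7 [nat_lit 296, nat_lit 148, nat_lit 0, nat_lit 259, nat_lit 148, nat_lit 296, nat_lit 148, nat_lit 259, nat_lit 0])
(.leaf 453 6 [nat_lit 185, nat_lit 0, nat_lit 74, nat_lit 148, nat_lit 0, nat_lit 148, nat_lit 74, nat_lit 0, nat_lit 185, nat_lit 148, nat_lit 185, nat_lit 37, nat_lit 185]))
(.node (nat_lit 33) (.leaf 549 10 [nat_lit 37, nat_lit 185, nat_lit 148, nat_lit 0, nat_lit 37, nat_lit 0, nat_lit 185, nat_lit 296, nat_lit 74, nat_lit 296, nat_lit 259, nat_lit 185, nat_lit 259, nat_lit 148, nat_lit 185])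
(.node (nat_lit 34) (.leaf 413 3 [nat_lit 185, nat_lit 111, nat_lit 185, nat_lit 148, nat_lit 185, nat_lit 296, nat_lit 74, nat_lit 111, nat_lit 74, nat_lit 296, nat_lit 185])
(.leaf 473 11 [nat_lit 259, nat_lit 148, nat_lit 0, nat_lit 185, nat_lit 222, nat_lit 259, nat_lit 111, nat_lit 259, nat_lit 111, nat_lit 222, nat_lit 185, nat_lit 148, nat_lit 259]))))
(.node (nat_lit 37) (.node (nat_lit 36) (.leaf 379 5 [nat_lit 74, nat_lit 148, nat_lit 0, nat_lit 111, nat_lit 185, nat_lit 37, nat_lit 0, nat_lit 111, nat_lit 185, nat_lit 37, nat_lit 185])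
(.leaf 397 9 [nat_lit 259, nat_lit 148, nat_lit 0, nat_lit 148, nat_lit 259, nat_lit 148, nat_lit 259, nat_lit 148, nat_lit 0, nat_lit 148, nat_lit 259]))
(.node (nat_lit 38) (.leaf 197 3 [nat_lit 259, nat_lit 74, nat_lit 259, nat_lit 111, nat_lit 37, nat_lit 74, nat_lit 37, nat_lit 148, nat_lit 111])
(.node (nat_lit 39) (.leaf 155 9 [nat_lit 0, nat_lit 259, nat_lit 296, nat_lit 259, nat_lit 148, nat_lit 0, nat_lit 296, nat_lit 148, nat_lit 259])
(.leaf 427 9 [nat_lit 111, nat_lit 222, nat_lit 74, nat_lit 0, nat_lit 222, nat_lit 148, nat_lit 296, nat_lit 222, nat_lit 0, nat_lit 222, nat_lit 296, nat_lit 74])))))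
(.node (nat_lit 47) (.node (nat_lit 43) (.node (nat_lit 41) (.leaf 417 3 [nat_lit 222, nat_lit 148, nat_lit 111, nat_lit 222, nat_lit 148, nat_lit 111, nat_lit 222, nat_lit 148, nat_lit 111, nat_lit 222, nat_lit 111])
(.node (nat_lit 42) (.leaf 159 9 [nat_lit 0, nat_lit 259, nat_lit 148, nat_lit 296, nat_lit 148, nat_lit 259, nat_lit 0, nat_lit 148, nat_lit 296])
(.leaf 513 10 [nat_lit 296, nat_lit 148, nat_lit 185, nat_lit 37, nat_lit 0, nat_lit 259, nat_lit 111, nat_lit 74, nat_lit 259, nat_lit 111, nat_lit 185, nat_lit 74, nat_lit 37, nat_lit 296])))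
(.node (nat_lit 45) (.node (nat_lit 44) (.leaf 155 4 [nat_lit 0, nat_lit 296, nat_lit 148, nat_lit 259, nat_lit 148, nat_lit 0, nat_lit 259, nat_lit 296, nat_lit 259])
(.leaf 385 7 [nat_lit 74, nat_lit 185, nat_lit 0, nat_lit 111, nat_lit 0, nat_lit 185, nat_lit 74, nat_lit 148, nat_lit 74, nat_lit 111, nat_lit 74]))
(.node (nat_lit 46) (.leaf 467 12 [nat_lit 111, nat_lit 0, nat_lit 222, nat_lit 148, nat_lit 0, nat_lit 222, nat_lit 0, nat_lit 148, nat_lit 222, nat_lit 0, nat_lit 148, nat_lit 111, nat_lit 222])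
(.leaf 245 5 [nat_lit 296, nat_lit 148, nat_lit 74, nat_lit 148, nat_lit 74, nat_lit 296, nat_lit 74, nat_lit 148, nat_lit 74]))))
(.node (nat_lit 50) (.node (nat_lit 48) (.leaf 363 8 [nat_lit 222, nat_lit 148, nat_lit 74, nat_lit 259, nat_lit 74, nat_lit 259, nat_lit 148, nat_lit 222, nat_lit 148, nat_lit 74])
(.node (nat_lit 49) (.leaf 363 4 [nat_lit 222, nat_lit 148, nat_lit 74, nat_lit 148, nat_lit 222, nat_lit 148, nat_lit 74, nat_lit 259, nat_lit 74, nat_lit 259])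
(.leaf 349 1 [nat_lit 37, nat_lit 296, nat_lit 74, nat_lit 296, nat_lit 74, nat_lit 37, nat_lit 148, nat_lit 37, nat_lit 74, nat_lit 37])))
(.node (nat_lit 52) (.node (nat_lit 51) (.leaf 577 15 [nat_lit 0, nat_lit 185, nat_lit 37, nat_lit 74, nat_lit 37, nat_lit 148, nat_lit 222, nat_lit 185, nat_lit 222, nat_lit 148, nat_lit 37, nat_lit 74, nat_lit 37, nat_lit 185, nat_lit 0])
(.leaf 505 7 [nat_lit 37, nat_lit 148, nat_lit 111, nat_lit 37, nat_lit 0, nat_lit 111, nat_lit 37, nat_lit 0, nat_lit 111, nat_lit 37, nat_lit 148, nat_lit 37, nat_lit 148, nat_lit 0]))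
(.node (nat_lit 53) (.leaf 159 4 [nat_lit 259, nat_lit 0, nat_lit 148, nat_lit 296, nat_lit 148, nat_lit 0, nat_lit 259, nat_lit 148, nat_lit 296])
(.leaf 415 5 [nat_lit 74, nat_lit 296, nat_lit 74, nat_lit 259, nat_lit 74, nat_lit 148, nat_lit 74, nat_lit 259, nat_lit 148, nat_lit 259, nat_lit 296]))))))
(.node (nat_lit 72) (.node (nat_lit 62) (.node (nat_lit 58) (.node (nat_lit 56) (.node (nat_lit 55) (.leaf 527 6 [nat_lit 185, nat_lit 148, nat_lit 111, nat_lit 74, nat_lit 111, nat_lit 185, nat_lit 74, nat_lit 111, nat_lit 0, nat_lit 148, nat_lit 37, nat_lit 148, nat_lit 185, nat_lit 74])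
(.leaf 243 7 [nat_lit 74, nat_lit 148, nat_lit 74, nat_lit 296, nat_lit 148, nat_lit 74, nat_lit 148, nat_lit 74, nat_lit 296]))
(.node (nat_lit 57) (.leaf 295 8 [nat_lit 0, nat_lit 74, nat_lit 0, nat_lit 296, nat_lit 74, nat_lit 296, nat_lit 148, nat_lit 0, nat_lit 74, nat_lit 0])
(.leaf 527 3 [nat_lit 185, nat_lit 74, nat_lit 148, nat_lit 185, nat_lit 148, nat_lit 111, nat_lit 74, nat_lit 111, nat_lit 185, nat_lit 74, nat_lit 111, nat_lit 0, nat_lit 148, nat_lit 37])))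
(.node (nat_lit 60) (.node (nat_lit 59) (.leaf 419 0 [nat_lit 296, nat_lit 148, nat_lit 185, nat_lit 148, nat_lit 296, nat_lit 148, nat_lit 185, nat_lit 148, nat_lit 296, nat_lit 148, nat_lit 185])
(.leaf 437 10 [nat_lit 37, nat_lit 148, nat_lit 37, nat_lit 296, nat_lit 148, nat_lit 296, nat_lit 37, nat_lit 148, nat_lit 37, nat_lit 296, nat_lit 148, nat_lit 296]))
(.node (nat_lit 61) (.leaf 379 7 [nat_lit 0, nat_lit 111, nat_lit 185, nat_lit 37, nat_lit 0, nat_lit 111, nat_lit 185, nat_lit 37, nat_lit 185, nat_lit 148, nat_lit 74])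
(.leaf 439 1 [nat_lit 37, nat_lit 148, nat_lit 0, nat_lit 37, nat_lit 0, nat_lit 37, nat_lit 148, nat_lit 37, nat_lit 148, nat_lit 37, nat_lit 0, nat_lit 37, nat_lit 0]))))
(.node (nat_lit 67) (.node (nat_lit 64) (.node (nat_lit 63) (.leaf 153 7 [nat_lit 296, nat_lit 111, nat_lit 0, nat_lit 148, nat_lit 0, nat_lit 296, nat_lit 148, nat_lit 259, nat_lit 111])
(.leaf 465 12 [nat_lit 111, nat_lit 0, nat_lit 222, nat_lit 148, nat_lit 222, nat_lit 0, nat_lit 148, nat_lit 111, nat_lit 0, nat_lit 222, nat_lit 148, nat_lit 222, nat_lit 0]))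
(.node (nat_lit 65) (.leaf 447 10 [nat_lit 37, nat_lit 111, nat_lit 37, nat_lit 0, nat_lit 111, nat_lit 0, nat_lit 148, nat_lit 259, nat_lit 185, nat_lit 111, nat_lit 185, nat_lit 111, nat_lit 259])
(.node (nat_lit 66) (.leaf 433 12 [nat_lit 0, nat_lit 222, nat_lit 185, nat_lit 222, nat_lit 185, nat_lit 0, nat_lit 148, nat_lit 222, nat_lit 111, nat_lit 222, nat_lit 111, nat_lit 222])
(.leaf 453 2 [nat_lit 185, nat_lit 37, nat_lit 185, nat_lit 148, nat_lit 185, nat_lit 0, nat_lit 74, nat_lit 148, nat_lit 0, nat_lit 148, nat_lit 74, nat_lit 0, nat_lit 185]))))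
(.node (nat_lit 69) (.node (nat_lit 68) (.leaf 563 9 [nat_lit 185, nat_lit 0, nat_lit 148, nat_lit 74, nat_lit 111, nat_lit 74, nat_lit 0, nat_lit 185, nat_lit 74, nat_lit 111, nat_lit 74, nat_lit 148, nat_lit 259, nat_lit 185, nat_lit 259])
(.leaf 507 5 [nat_lit 296, nat_lit 259, nat_lit 74, nat_lit 185, nat_lit 0, nat_lit 111, nat_lit 259, nat_lit 111, nat_lit 37, nat_lit 0, nat_lit 185, nat_lit 148, nat_lit 74, nat_lit 296]))
(.node (nat_lit 70) (.leaf 363 6 [nat_lit 74, nat_lit 148, nat_lit 222, nat_lit 148, nat_lit 74, nat_lit 259, nat_lit 74, nat_lit 259, nat_lit 148, nat_lit 222])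
(.node (nat_lit 71) (.leaf 395 11 [nat_lit 0, nat_lit 259, nat_lit 185, nat_lit 259, nat_lit 185, nat_lit 148, nat_lit 259, nat_lit 185, nat_lit 259, nat_lit 185, nat_lit 0])
(.leaf 485 2 [nat_lit 185, nat_lit 148, nat_lit 185, nat_lit 259, nat_lit 111, nat_lit 259, nat_lit 185, nat_lit 148, nat_lit 185, nat_lit 148, nat_lit 259, nat_lit 111, nat_lit 259]))))))
(.node (nat_lit 83) (.node (nat_lit 77) (.node (nat_lit 74) (.node (nat_lit 73) (.leaf 343 4 [nat_lit 296, nat_lit 148, nat_lit 0, nat_lit 148, nat_lit 296, nat_lit 148, nat_lit 0, nat_lit 185, nat_lit 259, nat_lit 185])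
(.leaf 415 2 [nat_lit 259, nat_lit 296, nat_lit 148, nat_lit 74, nat_lit 296, nat_lit 74, nat_lit 259, nat_lit 74, nat_lit 148, nat_lit 74, nat_lit 259]))
(.node (nat_lit 75) (.leaf 343 8 [nat_lit 296, nat_lit 148, nat_lit 0, nat_lit 185, nat_lit 259, nat_lit 185, nat_lit 148, nat_lit 296, nat_lit 148, nat_lit 0])
(.node (nat_lit 76) (.leaf 363 10 [nat_lit 74, nat_lit 259, nat_lit 74, nat_lit 259, nat_lit 148, nat_lit 222, nat_lit 148, nat_lit 74, nat_lit 148, nat_lit 222])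
(.leaf 373 7 [nat_lit 259, nat_lit 148, nat_lit 0, nat_lit 37, nat_lit 0, nat_lit 148, nat_lit 259, nat_lit 148, nat_lit 0, nat_lit 37, nat_lit 0]))))
(.node (nat_lit 80) (.node (nat_lit 78) (.leaf 395 5 [nat_lit 259, nat_lit 185, nat_lit 259, nat_lit 185, nat_lit 0, nat_lit 148, nat_lit 0, nat_lit 259, nat_lit 185, nat_lit 259, nat_lit 185])
(.node (nat_lit 79) (.leaf 425 10 [nat_lit 74, nat_lit 37, nat_lit 0, nat_lit 259, nat_lit 111, nat_lit 74, nat_lit 111, nat_lit 259, nat_lit 0, nat_lit 37, nat_lit 148, nat_lit 74])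
(.leaf 559 5 [nat_lit 185, nat_lit 37, nat_lit 148, nat_lit 111, nat_lit 185, nat_lit 148, nat_lit 74, nat_lit 111, nat_lit 222, nat_lit 37, nat_lit 0, nat_lit 74, nat_lit 185, nat_lit 222, nat_lit 0])))
(.node (nat_lit 81) (.leaf 485 10 [nat_lit 185, nat_lit 148, nat_lit 259, nat_lit 111, nat_lit 259, nat_lit 148, nat_lit 185, nat_lit 148, nat_lit 185, nat_lit 259, nat_lit 111, nat_lit 259, nat_lit 185])
(.node (nat_lit 82) (.leaf 333 1 [nat_lit 222, nat_lit 259, nat_lit 185, nat_lit 259, nat_lit 185, nat_lit 222, nat_lit 148, nat_lit 0, nat_lit 148, nat_lit 0])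
(.leaf 425 8 [nat_lit 74, nat_lit 148, nat_lit 74, nat_lit 37, nat_lit 0, nat_lit 259, nat_lit 111, nat_lit 74, nat_lit 111, nat_lit 259, nat_lit 0, nat_lit 37])))))
(.node (nat_lit 89) (.node (nat_lit 86) (.node (nat_lit 84) (.leaf 255 4 [nat_lit 185, nat_lit 148, nat_lit 185, nat_lit 111, nat_lit 148, nat_lit 111, nat_lit 185, nat_lit 148, nat_lit 185])
(.node (nat_lit 85) (.leaf 241 7 [nat_lit 296, nat_lit 111, nat_lit 74, nat_lit 296, nat_lit 148, nat_lit 296, nat_lit 74, nat_lit 111, nat_lit 296])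
(.leaf 415 11 [nat_lit 74, nat_lit 259, nat_lit 148, nat_lit 259, nat_lit 296, nat_lit 148, nat_lit 74, nat_lit 296, nat_lit 74, nat_lit 259, nat_lit 74])))
(.node (nat_lit 87) (.leaf 467 2 [nat_lit 0, nat_lit 222, nat_lit 0, nat_lit 148, nat_lit 222, nat_lit 0, nat_lit 148, nat_lit 111, nat_lit 222, nat_lit 148, nat_lit 111, nat_lit 0, nat_lit 222])
(.node (nat_lit 88) (.leaf 437 8 [nat_lit 296, nat_lit 148, nat_lit 37, nat_lit 148, nat_lit 37, nat_lit 296, nat_lit 148, nat_lit 296, nat_lit 37, nat_lit 148, nat_lit 37, nat_lit 296])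
(.leaf 509 13 [nat_lit 37, nat_lit 0, nat_lit 259, nat_lit 185, nat_lit 259, nat_lit 111, nat_lit 0, nat_lit 148, nat_lit 185, nat_lit 37, nat_lit 148, nat_lit 185, nat_lit 74, nat_lit 111]))))
(.node (nat_lit 92) (.node (nat_lit 90) (.leaf 329 1 [nat_lit 222, nat_lit 259, nat_lit 222, nat_lit 185, nat_lit 259, nat_lit 185, nat_lit 148, nat_lit 0, nat_lit 148, nat_lit 0])
(.node (nat_lit 91) (.leaf 321 1 [nat_lit 185, nat_lit 259, nat_lit 185, nat_lit 37, nat_lit 259, nat_lit 37, nat_lit 148, nat_lit 0, nat_lit 148, nat_lit 0])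
(.leaf 511 12 [nat_lit 185, nat_lit 37, nat_lit 0, nat_lit 111, nat_lit 37, nat_lit 185, nat_lit 0, nat_lit 74, nat_lit 111, nat_lit 74, nat_lit 148, nat_lit 0, nat_lit 74, nat_lit 0])))
(.node (nat_lit 94) (.node (nat_lit 93) (.leaf 337 5 [nat_lit 259, nat_lit 74, nat_lit 259, nat_lit 74, nat_lit 148, nat_lit 0, nat_lit 296, nat_lit 74, nat_lit 296, nat_lit 0])
(.leaf 429 8 [nat_lit 111, nat_lit 74, nat_lit 296, nat_lit 74, nat_lit 0, nat_lit 111, nat_lit 0, nat_lit 148, nat_lit 259, nat_lit 296, nat_lit 111, nat_lit 0]))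
(.node (nat_lit 95) (.leaf 513 12 [nat_lit 185, nat_lit 37, nat_lit 0, nat_lit 259, nat_lit 111, nat_lit 74, nat_lit 259, nat_lit 111, nat_lit 185, nat_lit 74, nat_lit 37, nat_lit 296, nat_lit 148, nat_lit 296])
(.leaf 391 9 [nat_lit 74, nat_lit 111, nat_lit 0, nat_lit 148, nat_lit 296, nat_lit 259, nat_lit 296, nat_lit 148, nat_lit 0, nat_lit 111, nat_lit 74]))))))))
(.node (nat_lit 168) (.node (nat_lit 127) (.node (nat_lit 111) (.node (nat_lit 103) (.node (nat_lit 99) (.node (nat_lit 97) (.leaf 565 9 [nat_lit 37, nat_lit 74, nat_lit 111, nat_lit 37, nat_lit 148, nat_lit 74, nat_lit 0, nat_lit 185, nat_lit 37, nat_lit 185, nat_lit 0, nat_lit 111, nat_lit 37, nat_lit 111, nat_lit 185])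
(.node (nat_lit 98) (.leaf 343 10 [nat_lit 0, nat_lit 185, nat_lit 259, nat_lit 185, nat_lit 148, nat_lit 296, nat_lit 148, nat_lit 0, nat_lit 148, nat_lit 296])
(.leaf 437 2 [nat_lit 296, nat_lit 37, nat_lit 148, nat_lit 37, nat_lit 296, nat_lit 148, nat_lit 296, nat_lit 148, nat_lit 37, nat_lit 148, nat_lit 37, nat_lit 296])))
(.node (nat_lit 101) (.node (nat_lit 100) (.leaf 97 6 [nat_lit 296, nat_lit 111, nat_lit 296, nat_lit 148, nat_lit 296, nat_lit 111, nat_lit 296])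
(.leaf 467 9 [nat_lit 111, nat_lit 222, nat_lit 148, nat_lit 111, nat_lit 0, nat_lit 222, nat_lit 148, nat_lit 0, nat_lit 222, nat_lit 0, nat_lit 148, nat_lit 222, nat_lit 0]))
(.node (nat_lit 102) (.leaf 609 9 [nat_lit 185, nat_lit 74, nat_lit 185, nat_lit 37, nat_lit 148, nat_lit 185, nat_lit 74, nat_lit 0, nat_lit 148, nat_lit 111, nat_lit 37, nat_lit 74, nat_lit 259, nat_lit 185, nat_lit 259, nat_lit 37])
(.leaf 247 9 [nat_lit 74, nat_lit 296, nat_lit 74, nat_lit 296, nat_lit 74, nat_lit 148, nat_lit 296, nat_lit 74, nat_lit 296]))))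
(.node (nat_lit 107) (.node (nat_lit 105) (.node (nat_lit 104) (.leaf 411 9 [nat_lit 259, nat_lit 296, nat_lit 37, nat_lit 296, nat_lit 259, nat_lit 148, nat_lit 259, nat_lit 296, nat_lit 37, nat_lit 296, nat_lit 259])
(.leaf 633 7 [nat_lit 222, nat_lit 74, nat_lit 111, nat_lit 259, nat_lit 148, nat_lit 222, nat_lit 148, nat_lit 74, nat_lit 0, nat_lit 74, nat_lit 0, nat_lit 259, nat_lit 111, nat_lit 222, nat_lit 148, nat_lit 222, nat_lit 259]))
(.node (nat_lit 106) (.leaf 437 12 [nat_lit 37, nat_lit 296, nat_lit 148, nat_lit 296, nat_lit 37, nat_lit 148, nat_lit 37, nat_lit 296, nat_lit 148, nat_lit 296, nat_lit 148, nat_lit 37])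
(.leaf 551 12 [nat_lit 111, nat_lit 74, nat_lit 37, nat_lit 0, nat_lit 259, nat_lit 111, nat_lit 0, nat_lit 111, nat_lit 37, nat_lit 259, nat_lit 74, nat_lit 148, nat_lit 185, nat_lit 111, nat_lit 185])))
(.node (nat_lit 109) (.node (nat_lit 108) (.leaf 417 8 [nat_lit 111, nat_lit 222, nat_lit 148, nat_lit 111, nat_lit 222, nat_lit 111, nat_lit 148, nat_lit 222, nat_lit 148, nat_lit 111, nat_lit 222])
(.leaf 159 2 [nat_lit 296, nat_lit 148, nat_lit 259, nat_lit 0, nat_lit 148, nat_lit 296, nat_lit 148, nat_lit 0, nat_lit 259]))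
(.node (nat_lit 110) (.leaf 491 6 [nat_lit 37, nat_lit 0, nat_lit 37, nat_lit 74, nat_lit 111, nat_lit 74, nat_lit 0, nat_lit 37, nat_lit 0, nat_lit 148, nat_lit 222, nat_lit 185, nat_lit 222, nat_lit 185])
(.leaf 591 4 [nat_lit 185, nat_lit 148, nat_lit 0, nat_lit 37, nat_lit 0, nat_lit 185, nat_lit 74, nat_lit 0, nat_lit 185, nat_lit 148, nat_lit 0, nat_lit 37, nat_lit 0, nat_lit 185, nat_lit 74, nat_lit 0])))))
(.node (nat_lit 119) (.node (nat_lit 115) (.node (nat_lit 113) (.node (nat_lit 112) (.leaf 443 6 [nat_lit 259, nat_lit 0, nat_lit 111, nat_lit 185, nat_lit 0, nat_lit 111, nat_lit 37, nat_lit 0, nat_lit 185, nat_lit 74, nat_lit 259, nat_lit 148, nat_lit 74])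
(.leaf 433 6 [nat_lit 222, nat_lit 111, nat_lit 222, nat_lit 111, nat_lit 222, nat_lit 148, nat_lit 0, nat_lit 222, nat_lit 185, nat_lit 222, nat_lit 185, nat_lit 0]))
(.node (nat_lit 114) (.leaf 559 11 [nat_lit 74, nat_lit 111, nat_lit 222, nat_lit 37, nat_lit 0, nat_lit 74, nat_lit 185, nat_lit 222, nat_lit 0, nat_lit 148, nat_lit 185, nat_lit 37, nat_lit 148, nat_lit 111, nat_lit 185])
(.leaf 505 9 [nat_lit 111, nat_lit 37, nat_lit 0, nat_lit 111, nat_lit 37, nat_lit 0, nat_lit 111, nat_lit 37, nat_lit 148, nat_lit 37, nat_lit 148, nat_lit 0, nat_lit 148, nat_lit 37])))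
(.node (nat_lit 117) (.node (nat_lit 116) (.leaf 573 3 [nat_lit 37, nat_lit 185, nat_lit 0, nat_lit 185, nat_lit 37, nat_lit 148, nat_lit 185, nat_lit 148, nat_lit 0, nat_lit 185, nat_lit 148, nat_lit 111, nat_lit 0, nat_lit 185, nat_lit 0])
(.leaf 603 3 [nat_lit 185, nat_lit 37, nat_lit 259, nat_lit 0, nat_lit 148, nat_lit 185, nat_lit 148, nat_lit 259, nat_lit 0, nat_lit 37, nat_lit 185, nat_lit 148, nat_lit 37, nat_lit 0, nat_lit 37, nat_lit 259]))
(.node (nat_lit 118) (.leaf 155 7 [nat_lit 259, nat_lit 148, nat_lit 0, nat_lit 259, nat_lit 296, nat_lit 259, nat_lit 148, nat_lit 0, nat_lit 296])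
(.leaf 317 10 [nat_lit 0, nat_lit 259, nat_lit 185, nat_lit 259, nat_lit 185, nat_lit 0, nat_lit 148, nat_lit 0, nat_lit 148, nat_lit 0]))))
(.node (nat_lit 123) (.node (nat_lit 121) (.node (nat_lit 120) (.leaf 473 13 [nat_lit 0, nat_lit 185, nat_lit 222, nat_lit 259, nat_lit 111, nat_lit 259, nat_lit 111, nat_lit 222, nat_lit 185, nat_lit 148, nat_lit 259, nat_lit 148, nat_lit 259])
(.leaf 431 8 [nat_lit 111, nat_lit 259, nat_lit 296, nat_lit 111, nat_lit 0, nat_lit 148, nat_lit 259, nat_lit 111, nat_lit 259, nat_lit 74, nat_lit 296, nat_lit 74]))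
(.node (nat_lit 122) (.leaf 547 1 [nat_lit 222, nat_lit 111, nat_lit 37, nat_lit 148, nat_lit 74, nat_lit 148, nat_lit 111, nat_lit 222, nat_lit 0, nat_lit 74, nat_lit 0, nat_lit 148, nat_lit 0, nat_lit 37, nat_lit 0])
(.leaf 249 7 [nat_lit 296, nat_lit 148, nat_lit 74, nat_lit 296, nat_lit 148, nat_lit 296, nat_lit 74, nat_lit 148, nat_lit 296])))
(.node (nat_lit 125) (.node (nat_lit 124) (.leaf 539 3 [nat_lit 296, nat_lit 148, nat_lit 259, nat_lit 148, nat_lit 222, nat_lit 148, nat_lit 259, nat_lit 148, nat_lit 259, nat_lit 148, nat_lit 222, nat_lit 148, nat_lit 259, nat_lit 296])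
(.leaf 595 6 [nat_lit 185, nat_lit 148, nat_lit 185, nat_lit 111, nat_lit 74, nat_lit 0, nat_lit 185, nat_lit 111, nat_lit 74, nat_lit 37, nat_lit 0, nat_lit 185, nat_lit 148, nat_lit 74, nat_lit 185, nat_lit 37]))
(.node (nat_lit 126) (.leaf 295 4 [nat_lit 0, nat_lit 74, nat_lit 0, nat_lit 148, nat_lit 0, nat_lit 74, nat_lit 0, nat_lit 296, nat_lit 74, nat_lit 296])
(.leaf 467 6 [nat_lit 222, nat_lit 0, nat_lit 148, nat_lit 111, nat_lit 222, nat_lit 148, nat_lit 111, nat_lit 0, nat_lit 222, nat_lit 148, nat_lit 0, nat_lit 222, nat_lit 0]))))))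
(.node (nat_lit 146) (.node (nat_lit 136) (.node (nat_lit 131) (.node (nat_lit 129) (.node (nat_lit 128) (.leaf 249 2 [nat_lit 296, nat_lit 74, nat_lit 148, nat_lit 296, nat_lit 148, nat_lit 296, nat_lit 148, nat_lit 74, nat_lit 296])
(.leaf 441 2 [nat_lit 296, nat_lit 0, nat_lit 37, nat_lit 296, nat_lit 74, nat_lit 148, nat_lit 259, nat_lit 296, nat_lit 148, nat_lit 74, nat_lit 37, nat_lit 0, nat_lit 296]))
(.node (nat_lit 130) (.leaf 441 11 [nat_lit 74, nat_lit 37, nat_lit 0, nat_lit 296, nat_lit 148, nat_lit 296, nat_lit 0, nat_lit 37, nat_lit 296, nat_lit 74, nat_lit 148, nat_lit 259, nat_lit 296])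
(.leaf 241 2 [nat_lit 296, nat_lit 74, nat_lit 111, nat_lit 296, nat_lit 148, nat_lit 296, nat_lit 111, nat_lit 74, nat_lit 296])))
(.node (nat_lit 133) (.node (nat_lit 132) (.leaf 487 5 [nat_lit 37, nat_lit 111, nat_lit 37, nat_lit 148, nat_lit 0, nat_lit 111, nat_lit 37, nat_lit 0, nat_lit 37, nat_lit 0, nat_lit 74, nat_lit 111, nat_lit 74, nat_lit 37])
(.leaf 337 10 [nat_lit 0, nat_lit 296, nat_lit 74, nat_lit 296, nat_lit 0, nat_lit 148, nat_lit 259, nat_lit 74, nat_lit 259, nat_lit 74]))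
(.node (nat_lit 134) (.leaf 367 2 [nat_lit 259, nat_lit 148, nat_lit 296, nat_lit 148, nat_lit 259, nat_lit 185, nat_lit 259, nat_lit 185, nat_lit 148, nat_lit 296])
(.node (nat_lit 135) (.leaf 339 1 [nat_lit 259, nat_lit 0, nat_lit 259, nat_lit 148, nat_lit 259, nat_lit 185, nat_lit 259, nat_lit 185, nat_lit 148, nat_lit 0])
(.leaf 539 11 [nat_lit 259, nat_lit 148, nat_lit 222, nat_lit 148, nat_lit 259, nat_lit 296, nat_lit 148, nat_lit 296, nat_lit 148, nat_lit 259, nat_lit 148, nat_lit 222, nat_lit 148, nat_lit 259])))))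
(.node (nat_lit 141) (.node (nat_lit 138) (.node (nat_lit 137) (.leaf 539 13 [nat_lit 222, nat_lit 148, nat_lit 259, nat_lit 296, nat_lit 148, nat_lit 296, nat_lit 148, nat_lit 259, nat_lit 148, nat_lit 222, nat_lit 148, nat_lit 259, nat_lit 148, nat_lit 259])
(.leaf 245 3 [nat_lit 74, nat_lit 148, nat_lit 296, nat_lit 148, nat_lit 74, nat_lit 148, nat_lit 74, nat_lit 296, nat_lit 74]))
(.node (nat_lit 139) (.leaf 559 8 [nat_lit 111, nat_lit 185, nat_lit 148, nat_lit 74, nat_lit 111, nat_lit 222, nat_lit 37, nat_lit 0, nat_lit 74, nat_lit 185, nat_lit 222, nat_lit 0, nat_lit 148, nat_lit 185, nat_lit 37])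
(.node (nat_lit 140) (.leaf 373 9 [nat_lit 0, nat_lit 37, nat_lit 0, nat_lit 148, nat_lit 259, nat_lit 148, nat_lit 0, nat_lit 37, nat_lit 0, nat_lit 148, nat_lit 259])
(.leaf 551 8 [nat_lit 185, nat_lit 111, nat_lit 185, nat_lit 148, nat_lit 111, nat_lit 74, nat_lit 37, nat_lit 0, nat_lit 259, nat_lit 111, nat_lit 0, nat_lit 111, nat_lit 37, nat_lit 259, nat_lit 74]))))
(.node (nat_lit 143) (.node (nat_lit 142) (.leaf 573 9 [nat_lit 185, nat_lit 148, nat_lit 0, nat_lit 185, nat_lit 148, nat_lit 111, nat_lit 0, nat_lit 185, nat_lit 0, nat_lit 148, nat_lit 37, nat_lit 185, nat_lit 0, nat_lit 185, nat_lit 37])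
(.leaf 385 3 [nat_lit 74, nat_lit 111, nat_lit 74, nat_lit 148, nat_lit 74, nat_lit 185, nat_lit 0, nat_lit 111, nat_lit 0, nat_lit 185, nat_lit 74]))
(.node (nat_lit 144) (.leaf 459 4 [nat_lit 259, nat_lit 111, nat_lit 259, nat_lit 0, nat_lit 111, nat_lit 0, nat_lit 148, nat_lit 0, nat_lit 111, nat_lit 0, nat_lit 259, nat_lit 111, nat_lit 259])
(.node (nat_lit 145) (.leaf 527 8 [nat_lit 111, nat_lit 74, nat_lit 111, nat_lit 185, nat_lit 74, nat_lit 111, nat_lit 0, nat_lit 148, nat_lit 37, nat_lit 148, nat_lit 185, nat_lit 74, nat_lit 148, nat_lit 185])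
(.leaf 197 1 [nat_lit 111, nat_lit 148, nat_lit 259, nat_lit 74, nat_lit 259, nat_lit 111, nat_lit 37, nat_lit 74, nat_lit 37]))))))
(.node (nat_lit 157) (.node (nat_lit 151) (.node (nat_lit 148) (.node (nat_lit 147) (.leaf 489 5 [nat_lit 37, nat_lit 185, nat_lit 111, nat_lit 185, nat_lit 0, nat_lit 111, nat_lit 37, nat_lit 0, nat_lit 37, nat_lit 0, nat_lit 148, nat_lit 0, nat_lit 111, nat_lit 0])
(.leaf 255 2 [nat_lit 185, nat_lit 148, nat_lit 185, nat_lit 148, nat_lit 185, nat_lit 111, nat_lit 148, nat_lit 111, nat_lit 185]))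
(.node (nat_lit 149) (.leaf 503 5 [nat_lit 222, nat_lit 0, nat_lit 222, nat_lit 148, nat_lit 37, nat_lit 222, nat_lit 259, nat_lit 74, nat_lit 37, nat_lit 0, nat_lit 259, nat_lit 222, nat_lit 111, nat_lit 74])
(.node (nat_lit 150) (.leaf 439 10 [nat_lit 37, nat_lit 0, nat_lit 37, nat_lit 0, nat_lit 148, nat_lit 37, nat_lit 148, nat_lit 0, nat_lit 37, nat_lit 0, nat_lit 37, nat_lit 148, nat_lit 37])
(.leaf 521 9 [nat_lit 296, nat_lit 148, nat_lit 259, nat_lit 0, nat_lit 74, nat_lit 0, nat_lit 296, nat_lit 222, nat_lit 111, nat_lit 259, nat_lit 74, nat_lit 0, nat_lit 111, nat_lit 222]))))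
(.node (nat_lit 154) (.node (nat_lit 152) (.leaf 573 14 [nat_lit 111, nat_lit 0, nat_lit 185, nat_lit 0, nat_lit 148, nat_lit 37, nat_lit 185, nat_lit 0, nat_lit 185, nat_lit 37, nat_lit 148, nat_lit 185, nat_lit 148, nat_lit 0, nat_lit 185])
(.node (nat_lit 153) (.leaf 629 6 [nat_lit 185, nat_lit 37, nat_lit 148, nat_lit 259, nat_lit 37, nat_lit 185, nat_lit 259, nat_lit 37, nat_lit 74, nat_lit 148, nat_lit 37, nat_lit 0, nat_lit 111, nat_lit 185, nat_lit 111, nat_lit 148, nat_lit 37])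
(.leaf 583 1 [nat_lit 222, nat_lit 111, nat_lit 37, nat_lit 185, nat_lit 0, nat_lit 111, nat_lit 0, nat_lit 185, nat_lit 222, nat_lit 148, nat_lit 37, nat_lit 74, nat_lit 37, nat_lit 0, nat_lit 37, nat_lit 0])))
(.node (nat_lit 155) (.leaf 437 5 [nat_lit 37, nat_lit 296, nat_lit 148, nat_lit 296, nat_lit 148, nat_lit 37, nat_lit 148, nat_lit 37, nat_lit 296, nat_lit 148, nat_lit 296, nat_lit 37])
(.node (nat_lit 156) (.leaf 491 1 [nat_lit 222, nat_lit 185, nat_lit 222, nat_lit 185, nat_lit 148, nat_lit 37, nat_lit 0, nat_lit 37, nat_lit 74, nat_lit 111, nat_lit 74, nat_lit 0, nat_lit 37, nat_lit 0])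
(.leaf 609 14 [nat_lit 185, nat_lit 74, nat_lit 0, nat_lit 148, nat_lit 111, nat_lit 37, nat_lit 74, nat_lit 259, nat_lit 185, nat_lit 259, nat_lit 37, nat_lit 148, nat_lit 185, nat_lit 74, nat_lit 185, nat_lit 37])))))
(.node (nat_lit 162) (.node (nat_lit 159) (.node (nat_lit 158) (.leaf 485 4 [nat_lit 185, nat_lit 259, nat_lit 111, nat_lit 259, nat_lit 185, nat_lit 148, nat_lit 185, nat_lit 148, nat_lit 259, nat_lit 111, nat_lit 259, nat_lit 148, nat_lit 185])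
(.leaf 245 9 [nat_lit 74, nat_lit 296, nat_lit 74, nat_lit 148, nat_lit 74, nat_lit 148, nat_lit 296, nat_lit 148, nat_lit 74]))
(.node (nat_lit 160) (.leaf 223 1 [nat_lit 111, nat_lit 148, nat_lit 37, nat_lit 111, nat_lit 37, nat_lit 111, nat_lit 37, nat_lit 111, nat_lit 37])
(.node (nat_lit 161) (.leaf 595 2 [nat_lit 74, nat_lit 185, nat_lit 37, nat_lit 148, nat_lit 185, nat_lit 148, nat_lit 185, nat_lit 111, nat_lit 74, nat_lit 0, nat_lit 185, nat_lit 111, nat_lit 74, nat_lit 37, nat_lit 0, nat_lit 185])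
(.leaf 505 5 [nat_lit 0, nat_lit 148, nat_lit 37, nat_lit 148, nat_lit 111, nat_lit 37, nat_lit 0, nat_lit 111, nat_lit 37, nat_lit 0, nat_lit 111, nat_lit 37, nat_lit 148, nat_lit 37]))))
(.node (nat_lit 165) (.node (nat_lit 163) (.leaf 249 9 [nat_lit 74, nat_lit 296, nat_lit 148, nat_lit 296, nat_lit 74, nat_lit 148, nat_lit 296, nat_lit 148, nat_lit 296])
(.node (nat_lit 164) (.leaf 601 2 [nat_lit 222, nat_lit 111, nat_lit 296, nat_lit 37, nat_lit 222, nat_lit 111, nat_lit 222, nat_lit 74, nat_lit 37, nat_lit 74, nat_lit 296, nat_lit 37, nat_lit 148, nat_lit 37, nat_lit 0, nat_lit 37])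
(.leaf 549 13 [nat_lit 0, nat_lit 37, nat_lit 0, nat_lit 185, nat_lit 296, nat_lit 74, nat_lit 296, nat_lit 259, nat_lit 185, nat_lit 259, nat_lit 148, nat_lit 185, nat_lit 148, nat_lit 37, nat_lit 185])))
(.node (nat_lit 166) (.leaf 507 2 [nat_lit 74, nat_lit 296, nat_lit 148, nat_lit 296, nat_lit 259, nat_lit 74, nat_lit 185, nat_lit 0, nat_lit 111, nat_lit 259, nat_lit 111, nat_lit 37, nat_lit 0, nat_lit 185])
(.node (nat_lit 167) (.leaf 427 2 [nat_lit 296, nat_lit 222, nat_lit 0, nat_lit 222, nat_lit 296, nat_lit 74, nat_lit 148, nat_lit 111, nat_lit 222, nat_lit 74, nat_lit 0, nat_lit 222])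
(.leaf 315 1 [nat_lit 0, nat_lit 148, nat_lit 185, nat_lit 259, nat_lit 185, nat_lit 259, nat_lit 111, nat_lit 148, nat_lit 111, nat_lit 0]))))))))
(.node (nat_lit 227) (.node (nat_lit 194) (.node (nat_lit 180) (.node (nat_lit 174) (.node (nat_lit 171) (.node (nat_lit 169) (.leaf 525 12 [nat_lit 37, nat_lit 111, nat_lit 0, nat_lit 148, nat_lit 74, nat_lit 296, nat_lit 111, nat_lit 259, nat_lit 296, nat_lit 37, nat_lit 74, nat_lit 148, nat_lit 111, nat_lit 0])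
(.node (nat_lit 170) (.leaf 587 2 [nat_lit 222, nat_lit 296, nat_lit 0, nat_lit 37, nat_lit 296, nat_lit 222, nat_lit 148, nat_lit 296, nat_lit 74, nat_lit 148, nat_lit 0, nat_lit 148, nat_lit 0, nat_lit 37, nat_lit 0, nat_lit 296])
(.leaf 631 3 [nat_lit 185, nat_lit 148, nat_lit 0, nat_lit 74, nat_lit 148, nat_lit 37, nat_lit 222, nat_lit 185, nat_lit 0, nat_lit 222, nat_lit 148, nat_lit 0, nat_lit 222, nat_lit 37, nat_lit 0, nat_lit 185, nat_lit 222])))
(.node (nat_lit 172) (.leaf 601 15 [nat_lit 37, nat_lit 0, nat_lit 37, nat_lit 148, nat_lit 222, nat_lit 111, nat_lit 296, nat_lit 37, nat_lit 222, nat_lit 111, nat_lit 222, nat_lit 74, nat_lit 37, nat_lit 74, nat_lit 296, nat_lit 37])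
(.node (nat_lit 173) (.leaf 257 2 [nat_lit 222, nat_lit 148, nat_lit 222, nat_lit 148, nat_lit 222, nat_lit 111, nat_lit 148, nat_lit 111, nat_lit 222])
(.leaf 629 4 [nat_lit 37, nat_lit 148, nat_lit 185, nat_lit 37, nat_lit 148, nat_lit 259, nat_lit 37, nat_lit 185, nat_lit 259, nat_lit 37, nat_lit 74, nat_lit 148, nat_lit 37, nat_lit 0, nat_lit 111, nat_lit 185, nat_lit 111]))))
(.node (nat_lit 177) (.node (nat_lit 175) (.leaf 367 4 [nat_lit 296, nat_lit 148, nat_lit 259, nat_lit 185, nat_lit 259, nat_lit 185, nat_lit 148, nat_lit 296, nat_lit 148, nat_lit 259])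
(.node (nat_lit 176) (.leaf 439 8 [nat_lit 37, nat_lit 148, nat_lit 37, nat_lit 0, nat_lit 37, nat_lit 0, nat_lit 148, nat_lit 37, nat_lit 148, nat_lit 0, nat_lit 37, nat_lit 0, nat_lit 37])
(.leaf 549 8 [nat_lit 185, nat_lit 148, nat_lit 37, nat_lit 185, nat_lit 148, nat_lit 0, nat_lit 37, nat_lit 0, nat_lit 185, nat_lit 296, nat_lit 74, nat_lit 296, nat_lit 259, nat_lit 185, nat_lit 259])))
(.node (nat_lit 178) (.leaf 573 11 [nat_lit 0, nat_lit 185, nat_lit 148, nat_lit 111, nat_lit 0, nat_lit 185, nat_lit 0, nat_lit 148, nat_lit 37, nat_lit 185, nat_lit 0, nat_lit 185, nat_lit 37, nat_lit 148, nat_lit 185])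
(.node (nat_lit 179) (.leaf 633 4 [nat_lit 222, nat_lit 259, nat_lit 148, nat_lit 222, nat_lit 74, nat_lit 111, nat_lit 259, nat_lit 148, nat_lit 222, nat_lit 148, nat_lit 74, nat_lit 0, nat_lit 74, nat_lit 0, nat_lit 259, nat_lit 111, nat_lit 222])
(.leaf 473 9 [nat_lit 259, nat_lit 148, nat_lit 259, nat_lit 148, nat_lit 0, nat_lit 185, nat_lit 222, nat_lit 259, nat_lit 111, nat_lit 259, nat_lit 111, nat_lit 222, nat_lit 185])))))
(.node (nat_lit 187) (.node (nat_lit 183) (.node (nat_lit 181) (.leaf 585 9 [nat_lit 111, nat_lit 222, nat_lit 0, nat_lit 222, nat_lit 74, nat_lit 0, nat_lit 37, nat_lit 0, nat_lit 148, nat_lit 222, nat_lit 111, nat_lit 74, nat_lit 37, nat_lit 111, nat_lit 0, nat_lit 222])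
(.node (nat_lit 182) (.leaf 631 8 [nat_lit 37, nat_lit 222, nat_lit 185, nat_lit 0, nat_lit 222, nat_lit 148, nat_lit 0, nat_lit 222, nat_lit 37, nat_lit 0, nat_lit 185, nat_lit 222, nat_lit 148, nat_lit 185, nat_lit 148, nat_lit 0, nat_lit 74])
(.leaf 629 16 [nat_lit 37, nat_lit 0, nat_lit 111, nat_lit 185, nat_lit 111, nat_lit 148, nat_lit 37, nat_lit 148, nat_lit 185, nat_lit 37, nat_lit 148, nat_lit 259, nat_lit 37, nat_lit 185, nat_lit 259, nat_lit 37, nat_lit 74])))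
(.node (nat_lit 185) (.node (nat_lit 184) (.leaf 367 6 [nat_lit 259, nat_lit 185, nat_lit 259, nat_lit 185, nat_lit 148, nat_lit 296, nat_lit 148, nat_lit 259, nat_lit 148, nat_lit 296])
(.leaf 623 3 [nat_lit 74, nat_lit 148, nat_lit 185, nat_lit 37, nat_lit 111, nat_lit 74, nat_lit 111, nat_lit 74, nat_lit 0, nat_lit 111, nat_lit 185, nat_lit 37, nat_lit 0, nat_lit 37, nat_lit 0, nat_lit 111, nat_lit 185]))
(.node (nat_lit 186) (.leaf 313 9 [nat_lit 111, nat_lit 0, nat_lit 148, nat_lit 259, nat_lit 185, nat_lit 259, nat_lit 185, nat_lit 148, nat_lit 0, nat_lit 111])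
(.leaf 317 8 [nat_lit 0, nat_lit 148, nat_lit 0, nat_lit 259, nat_lit 185, nat_lit 259, nat_lit 185, nat_lit 0, nat_lit 148, nat_lit 0]))))
(.node (nat_lit 190) (.node (nat_lit 188) (.leaf 527 1 [nat_lit 37, nat_lit 148, nat_lit 185, nat_lit 74, nat_lit 148, nat_lit 185, nat_lit 148, nat_lit 111, nat_lit 74, nat_lit 111, nat_lit 185, nat_lit 74, nat_lit 111, nat_lit 0])
(.node (nat_lit 189) (.leaf 579 11 [nat_lit 74, nat_lit 185, nat_lit 37, nat_lit 185, nat_lit 37, nat_lit 222, nat_lit 185, nat_lit 222, nat_lit 148, nat_lit 222, nat_lit 111, nat_lit 222, nat_lit 74, nat_lit 111, nat_lit 222])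
(.leaf 567 14 [nat_lit 74, nat_lit 0, nat_lit 148, nat_lit 259, nat_lit 111, nat_lit 74, nat_lit 37, nat_lit 111, nat_lit 259, nat_lit 0, nat_lit 148, nat_lit 296, nat_lit 259, nat_lit 296, nat_lit 37])))
(.node (nat_lit 192) (.node (nat_lit 191) (.leaf 629 9 [nat_lit 259, nat_lit 37, nat_lit 185, nat_lit 259, nat_lit 37, nat_lit 74, nat_lit 148, nat_lit 37, nat_lit 0, nat_lit 111, nat_lit 185, nat_lit 111, nat_lit 148, nat_lit 37, nat_lit 148, nat_lit 185, nat_lit 37])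
(.leaf 631 5 [nat_lit 0, nat_lit 74, nat_lit 148, nat_lit 37, nat_lit 222, nat_lit 185, nat_lit 0, nat_lit 222, nat_lit 148, nat_lit 0, nat_lit 222, nat_lit 37, nat_lit 0, nat_lit 185, nat_lit 222, nat_lit 148, nat_lit 185]))
(.node (nat_lit 193) (.leaf 367 0 [nat_lit 296, nat_lit 148, nat_lit 259, nat_lit 148, nat_lit 296, nat_lit 148, nat_lit 259, nat_lit 185, nat_lit 259, nat_lit 185])
(.leaf 537 8 [nat_lit 222, nat_lit 37, nat_lit 148, nat_lit 74, nat_lit 148, nat_lit 74, nat_lit 37, nat_lit 222, nat_lit 148, nat_lit 222, nat_lit 296, nat_lit 74, nat_lit 296, nat_lit 222]))))))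
(.node (nat_lit 209) (.node (nat_lit 201) (.node (nat_lit 197) (.node (nat_lit 195) (.leaf 519 4 [nat_lit 74, nat_lit 148, nat_lit 111, nat_lit 74, nat_lit 111, nat_lit 37, nat_lit 296, nat_lit 222, nat_lit 0, nat_lit 74, nat_lit 0, nat_lit 222, nat_lit 296, nat_lit 37])
(.node (nat_lit 196) (.leaf 623 5 [nat_lit 185, nat_lit 37, nat_lit 111, nat_lit 74, nat_lit 111, nat_lit 74, nat_lit 0, nat_lit 111, nat_lit 185, nat_lit 37, nat_lit 0, nat_lit 37, nat_lit 0, nat_lit 111, nat_lit 185, nat_lit 148, nat_lit 74])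
(.leaf 607 3 [nat_lit 37, nat_lit 111, nat_lit 148, nat_lit 37, nat_lit 111, nat_lit 74, nat_lit 222, nat_lit 0, nat_lit 222, nat_lit 37, nat_lit 148, nat_lit 222, nat_lit 37, nat_lit 0, nat_lit 222, nat_lit 74])))
(.node (nat_lit 199) (.node (nat_lit 198) (.leaf 443 4 [nat_lit 74, nat_lit 148, nat_lit 259, nat_lit 0, nat_lit 111, nat_lit 185, nat_lit 0, nat_lit 111, nat_lit 37, nat_lit 0, nat_lit 185, nat_lit 74, nat_lit 259])
(.leaf 343 6 [nat_lit 0, nat_lit 148, nat_lit 296, nat_lit 148, nat_lit 0, nat_lit 185, nat_lit 259, nat_lit 185, nat_lit 148, nat_lit 296]))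
(.node (nat_lit 200) (.leaf 391 5 [nat_lit 0, nat_lit 111, nat_lit 74, nat_lit 148, nat_lit 74, nat_lit 111, nat_lit 0, nat_lit 148, nat_lit 296, nat_lit 259, nat_lit 296])
(.leaf 447 3 [nat_lit 259, nat_lit 185, nat_lit 111, nat_lit 185, nat_lit 111, nat_lit 259, nat_lit 148, nat_lit 37, nat_lit 111, nat_lit 37, nat_lit 0, nat_lit 111, nat_lit 0]))))
(.node (nat_lit 205) (.node (nat_lit 203) (.node (nat_lit 202) (.leaf 505 3 [nat_lit 37, nat_lit 148, nat_lit 0, nat_lit 148, nat_lit 37, nat_lit 148, nat_lit 111, nat_lit 37, nat_lit 0, nat_lit 111, nat_lit 37, nat_lit 0, nat_lit 111, nat_lit 37])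
(.leaf 335 1 [nat_lit 296, nat_lit 185, nat_lit 259, nat_lit 185, nat_lit 296, nat_lit 259, nat_lit 148, nat_lit 0, nat_lit 148, nat_lit 0]))
(.node (nat_lit 204) (.leaf 453 12 [nat_lit 74, nat_lit 0, nat_lit 185, nat_lit 148, nat_lit 185, nat_lit 37, nat_lit 185, nat_lit 148, nat_lit 185, nat_lit 0, nat_lit 74, nat_lit 148, nat_lit 0])
(.leaf 233 1 [nat_lit 111, nat_lit 148, nat_lit 74, nat_lit 111, nat_lit 74, nat_lit 111, nat_lit 74, nat_lit 111, nat_lit 74])))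
(.node (nat_lit 207) (.node (nat_lit 206) (.leaf 633 12 [nat_lit 222, nat_lit 148, nat_lit 74, nat_lit 0, nat_lit 74, nat_lit 0, nat_lit 259, nat_lit 111, nat_lit 222, nat_lit 148, nat_lit 222, nat_lit 259, nat_lit 148, nat_lit 222, nat_lit 74, nat_lit 111, nat_lit 259])
(.leaf 583 11 [nat_lit 37, nat_lit 74, nat_lit 37, nat_lit 0, nat_lit 37, nat_lit 0, nat_lit 148, nat_lit 222, nat_lit 111, nat_lit 37, nat_lit 185, nat_lit 0, nat_lit 111, nat_lit 0, nat_lit 185, nat_lit 222]))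
(.node (nat_lit 208) (.leaf 597 4 [nat_lit 222, nat_lit 0, nat_lit 222, nat_lit 148, nat_lit 185, nat_lit 259, nat_lit 111, nat_lit 185, nat_lit 74, nat_lit 37, nat_lit 111, nat_lit 37, nat_lit 0, nat_lit 259, nat_lit 74, nat_lit 111])
(.leaf 341 6 [nat_lit 259, nat_lit 0, nat_lit 259, nat_lit 148, nat_lit 0, nat_lit 148, nat_lit 259, nat_lit 185, nat_lit 259, nat_lit 185])))))
(.node (nat_lit 218) (.node (nat_lit 213) (.node (nat_lit 211) (.node (nat_lit 210) (.leaf 487 9 [nat_lit 0, nat_lit 111, nat_lit 37, nat_lit 0, nat_lit 37, nat_lit 0, nat_lit 74, nat_lit 111, nat_lit 74, nat_lit 37, nat_lit 148, nat_lit 37, nat_lit 111, nat_lit 37])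
(.leaf 455 4 [nat_lit 0, nat_lit 111, nat_lit 37, nat_lit 111, nat_lit 0, nat_lit 148, nat_lit 0, nat_lit 185, nat_lit 74, nat_lit 0, nat_lit 74, nat_lit 185, nat_lit 0]))
(.node (nat_lit 212) (.leaf 255 9 [nat_lit 111, nat_lit 185, nat_lit 148, nat_lit 185, nat_lit 148, nat_lit 185, nat_lit 148, nat_lit 185, nat_lit 111])
(.leaf 547 13 [nat_lit 0, nat_lit 37, nat_lit 0, nat_lit 148, nat_lit 222, nat_lit 111, nat_lit 37, nat_lit 148, nat_lit 74, nat_lit 148, nat_lit 111, nat_lit 222, nat_lit 0, nat_lit 74, nat_lit 0])))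
(.node (nat_lit 215) (.node (nat_lit 214) (.leaf 503 9 [nat_lit 37, nat_lit 222, nat_lit 259, nat_lit 74, nat_lit 37, nat_lit 0, nat_lit 259, nat_lit 222, nat_lit 111, nat_lit 74, nat_lit 148, nat_lit 222, nat_lit 0, nat_lit 222])
(.leaf 153 4 [nat_lit 259, nat_lit 111, nat_lit 148, nat_lit 296, nat_lit 111, nat_lit 0, nat_lit 148, nat_lit 0, nat_lit 296]))
(.node (nat_lit 216) (.leaf 525 9 [nat_lit 111, nat_lit 0, nat_lit 148, nat_lit 37, nat_lit 111, nat_lit 0, nat_lit 148, nat_lit 74, nat_lit 296, nat_lit 111, nat_lit 259, nat_lit 296, nat_lit 37, nat_lit 74])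
(.node (nat_lit 217) (.leaf 247 5 [nat_lit 296, nat_lit 74, nat_lit 296, nat_lit 148, nat_lit 74, nat_lit 296, nat_lit 74, nat_lit 296, nat_lit 74])
(.leaf 547 5 [nat_lit 74, nat_lit 148, nat_lit 111, nat_lit 222, nat_lit 0, nat_lit 74, nat_lit 0, nat_lit 148, nat_lit 0, nat_lit 37, nat_lit 0, nat_lit 148, nat_lit 222, nat_lit 111, nat_lit 37])))))
(.node (nat_lit 222) (.node (nat_lit 220) (.node (nat_lit 219) (.leaf 429 3 [nat_lit 259, nat_lit 296, nat_lit 111, nat_lit 0, nat_lit 148, nat_lit 111, nat_lit 74, nat_lit 296, nat_lit 74, nat_lit 0, nat_lit 111, nat_lit 0])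
(.leaf 91 7 [nat_lit 111, nat_lit 148, nat_lit 296, nat_lit 148, nat_lit 111, nat_lit 148, nat_lit 296]))
(.node (nat_lit 221) (.leaf 603 8 [nat_lit 185, nat_lit 148, nat_lit 259, nat_lit 0, nat_lit 37, nat_lit 185, nat_lit 148, nat_lit 37, nat_lit 0, nat_lit 37, nat_lit 259, nat_lit 148, nat_lit 185, nat_lit 37, nat_lit 259, nat_lit 0])
(.leaf 603 15 [nat_lit 37, nat_lit 0, nat_lit 37, nat_lit 259, nat_lit 148, nat_lit 185, nat_lit 37, nat_lit 259, nat_lit 0, nat_lit 148, nat_lit 185, nat_lit 148, nat_lit 259, nat_lit 0, nat_lit 37, nat_lit 185])))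
(.node (nat_lit 224) (.node (nat_lit 223) (.leaf 603 10 [nat_lit 259, nat_lit 0, nat_lit 37, nat_lit 185, nat_lit 148, nat_lit 37, nat_lit 0, nat_lit 37, nat_lit 259, nat_lit 148, nat_lit 185, nat_lit 37, nat_lit 259, nat_lit 0, nat_lit 148, nat_lit 185])
(.leaf 611 3 [nat_lit 259, nat_lit 148, nat_lit 185, nat_lit 111, nat_lit 259, nat_lit 111, nat_lit 185, nat_lit 222, nat_lit 74, nat_lit 185, nat_lit 222, nat_lit 185, nat_lit 74, nat_lit 0, nat_lit 148, nat_lit 259]))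
(.node (nat_lit 225) (.leaf 537 2 [nat_lit 222, nat_lit 296, nat_lit 74, nat_lit 296, nat_lit 222, nat_lit 148, nat_lit 222, nat_lit 37, nat_lit 148, nat_lit 74, nat_lit 148, nat_lit 74, nat_lit 37, nat_lit 222])
(.node (nat_lit 226) (.leaf 535 8 [nat_lit 185, nat_lit 111, nat_lit 185, nat_lit 74, nat_lit 111, nat_lit 74, nat_lit 37, nat_lit 111, nat_lit 37, nat_lit 148, nat_lit 222, nat_lit 185, nat_lit 222, nat_lit 185])
(.leaf 531 11 [nat_lit 74, nat_lit 37, nat_lit 74, nat_lit 37, nat_lit 111, nat_lit 74, nat_lit 111, nat_lit 148, nat_lit 296, nat_lit 74, nat_lit 37, nat_lit 74, nat_lit 37, nat_lit 296]))))))))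
(.node (nat_lit 269) (.node (nat_lit 246) (.node (nat_lit 236) (.node (nat_lit 231) (.node (nat_lit 229) (.node (nat_lit 228) (.leaf 535 3 [nat_lit 222, nat_lit 185, nat_lit 222, nat_lit 185, nat_lit 148, nat_lit 185, nat_lit 111, nat_lit 185, nat_lit 74, nat_lit 111, nat_lit 74, nat_lit 37, nat_lit 111, nat_lit 37])
(.leaf 439 3 [nat_lit 0, nat_lit 37, nat_lit 0, nat_lit 37, nat_lit 148, nat_lit 37, nat_lit 148, nat_lit 37, nat_lit 0, nat_lit 37, nat_lit 0, nat_lit 148, nat_lit 37]))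
(.node (nat_lit 230) (.leaf 317 6 [nat_lit 0, nat_lit 148, nat_lit 0, nat_lit 148, nat_lit 0, nat_lit 259, nat_lit 185, nat_lit 259, nat_lit 185, nat_lit 0])
(.leaf 565 14 [nat_lit 74, nat_lit 0, nat_lit 185, nat_lit 37, nat_lit 185, nat_lit 0, nat_lit 111, nat_lit 37, nat_lit 111, nat_lit 185, nat_lit 148, nat_lit 37, nat_lit 74, nat_lit 111, nat_lit 37])))
(.node (nat_lit 233) (.node (nat_lit 232) (.leaf 577 5 [nat_lit 222, nat_lit 185, nat_lit 222, nat_lit 148, nat_lit 37, nat_lit 74, nat_lit 37, nat_lit 185, nat_lit 0, nat_lit 148, nat_lit 0, nat_lit 185, nat_lit 37, nat_lit 74, nat_lit 37])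
(.leaf 587 9 [nat_lit 296, nat_lit 74, nat_lit 148, nat_lit 0, nat_lit 148, nat_lit 0, nat_lit 37, nat_lit 0, nat_lit 296, nat_lit 148, nat_lit 222, nat_lit 296, nat_lit 0, nat_lit 37, nat_lit 296, nat_lit 222]))
(.node (nat_lit 234) (.leaf 321 8 [nat_lit 0, nat_lit 148, nat_lit 0, nat_lit 148, nat_lit 185, nat_lit 259, nat_lit 185, nat_lit 37, nat_lit 259, nat_lit 37])
(.node (nat_lit 235) (.leaf 607 6 [nat_lit 37, nat_lit 111, nat_lit 74, nat_lit 222, nat_lit 0, nat_lit 222, nat_lit 37, nat_lit 148, nat_lit 222, nat_lit 37, nat_lit 0, nat_lit 222, nat_lit 74, nat_lit 148, nat_lit 37, nat_lit 111])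
(.leaf 571 1 [nat_lit 185, nat_lit 37, nat_lit 74, nat_lit 185, nat_lit 37, nat_lit 185, nat_lit 74, nat_lit 37, nat_lit 185, nat_lit 148, nat_lit 0, nat_lit 111, nat_lit 37, nat_lit 111, nat_lit 0])))))
(.node (nat_lit 241) (.node (nat_lit 238) (.node (nat_lit 237) (.leaf 153 1 [nat_lit 0, nat_lit 296, nat_lit 148, nat_lit 259, nat_lit 111, nat_lit 148, nat_lit 296, nat_lit 111, nat_lit 0])
(.leaf 547 7 [nat_lit 111, nat_lit 222, nat_lit 0, nat_lit 74, nat_lit 0, nat_lit 148, nat_lit 0, nat_lit 37, nat_lit 0, nat_lit 148, nat_lit 222, nat_lit 111, nat_lit 37, nat_lit 148, nat_lit 74]))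
(.node (nat_lit 239) (.leaf 563 12 [nat_lit 74, nat_lit 111, nat_lit 74, nat_lit 0, nat_lit 185, nat_lit 74, nat_lit 111, nat_lit 74, nat_lit 148, nat_lit 259, nat_lit 185, nat_lit 259, nat_lit 148, nat_lit 185, nat_lit 0])
(.node (nat_lit 240) (.leaf 417 5 [nat_lit 111, nat_lit 222, nat_lit 148, nat_lit 111, nat_lit 222, nat_lit 148, nat_lit 111, nat_lit 222, nat_lit 111, nat_lit 148, nat_lit 222])
(.leaf 625 1 [nat_lit 37, nat_lit 111, nat_lit 37, nat_lit 259, nat_lit 185, nat_lit 259, nat_lit 111, nat_lit 185, nat_lit 37, nat_lit 148, nat_lit 0, nat_lit 148, nat_lit 74, nat_lit 111, nat_lit 74, nat_lit 37, nat_lit 0]))))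
(.node (nat_lit 243) (.node (nat_lit 242) (.leaf 315 9 [nat_lit 111, nat_lit 0, nat_lit 148, nat_lit 0, nat_lit 148, nat_lit 185, nat_lit 259, nat_lit 185, nat_lit 259, nat_lit 111])
(.leaf 627 15 [nat_lit 111, nat_lit 37, nat_lit 0, nat_lit 74, nat_lit 37, nat_lit 111, nat_lit 148, nat_lit 37, nat_lit 74, nat_lit 185, nat_lit 111, nat_lit 222, nat_lit 111, nat_lit 185, nat_lit 74, nat_lit 111, nat_lit 222]))
(.node (nat_lit 244) (.leaf 135 1 [nat_lit 111, nat_lit 148, nat_lit 0, nat_lit 111, nat_lit 0, nat_lit 111, nat_lit 0, nat_lit 111, nat_lit 0])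
(.node (nat_lit 245) (.leaf 523 5 [nat_lit 296, nat_lit 0, nat_lit 296, nat_lit 259, nat_lit 148, nat_lit 74, nat_lit 185, nat_lit 37, nat_lit 74, nat_lit 0, nat_lit 74, nat_lit 185, nat_lit 0, nat_lit 185])
(.leaf 143 1 [nat_lit 111, nat_lit 148, nat_lit 222, nat_lit 111, nat_lit 0, nat_lit 111, nat_lit 222, nat_lit 111, nat_lit 0]))))))
(.node (nat_lit 257) (.node (nat_lit 251) (.node (nat_lit 248) (.node (nat_lit 247) (.leaf 599 4 [nat_lit 0, nat_lit 148, nat_lit 222, nat_lit 74, nat_lit 185, nat_lit 222, nat_lit 148, nat_lit 222, nat_lit 185, nat_lit 222, nat_lit 111, nat_lit 37, nat_lit 0, nat_lit 148, nat_lit 0, nat_lit 185])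
(.leaf 539 9 [nat_lit 259, nat_lit 148, nat_lit 259, nat_lit 148, nat_lit 222, nat_lit 148, nat_lit 259, nat_lit 296, nat_lit 148, nat_lit 296, nat_lit 148, nat_lit 259, nat_lit 148, nat_lit 222]))
(.node (nat_lit 249) (.leaf 599 11 [nat_lit 222, nat_lit 185, nat_lit 222, nat_lit 111, nat_lit 37, nat_lit 0, nat_lit 148, nat_lit 0, nat_lit 185, nat_lit 148, nat_lit 0, nat_lit 148, nat_lit 222, nat_lit 74, nat_lit 185, nat_lit 222])
(.node (nat_lit 250) (.leaf 577 9 [nat_lit 37, nat_lit 74, nat_lit 37, nat_lit 185, nat_lit 0, nat_lit 148, nat_lit 0, nat_lit 185, nat_lit 37, nat_lit 74, nat_lit 37, nat_lit 148, nat_lit 222, nat_lit 185, nat_lit 222])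
(.leaf 499 8 [nat_lit 259, nat_lit 37, nat_lit 0, nat_lit 37, nat_lit 74, nat_lit 37, nat_lit 0, nat_lit 37, nat_lit 259, nat_lit 296, nat_lit 74, nat_lit 296, nat_lit 148, nat_lit 74]))))
(.node (nat_lit 254) (.node (nat_lit 252) (.leaf 455 10 [nat_lit 0, nat_lit 185, nat_lit 74, nat_lit 0, nat_lit 74, nat_lit 185, nat_lit 0, nat_lit 148, nat_lit 0, nat_lit 111, nat_lit 37, nat_lit 111, nat_lit 0])
(.node (nat_lit 253) (.leaf 245 7 [nat_lit 74, nat_lit 148, nat_lit 74, nat_lit 296, nat_lit 74, nat_lit 148, nat_lit 74, nat_lit 148, nat_lit 296])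
(.leaf 609 1 [nat_lit 111, nat_lit 37, nat_lit 74, nat_lit 259, nat_lit 185, nat_lit 259, nat_lit 37, nat_lit 148, nat_lit 185, nat_lit 74, nat_lit 185, nat_lit 37, nat_lit 148, nat_lit 185, nat_lit 74, nat_lit 0])))
(.node (nat_lit 255) (.leaf 441 8 [nat_lit 259, nat_lit 296, nat_lit 148, nat_lit 74, nat_lit 37, nat_lit 0, nat_lit 296, nat_lit 148, nat_lit 296, nat_lit 0, nat_lit 37, nat_lit 296, nat_lit 74])
(.node (nat_lit 256) (.leaf 519 6 [nat_lit 111, nat_lit 74, nat_lit 111, nat_lit 37, nat_lit 296, nat_lit 222, nat_lit 0, nat_lit 74, nat_lit 0, nat_lit 222, nat_lit 296, nat_lit 37, nat_lit 148, nat_lit 74])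
(.leaf 485 12 [nat_lit 259, nat_lit 111, nat_lit 259, nat_lit 148, nat_lit 185, nat_lit 148, nat_lit 185, nat_lit 259, nat_lit 111, nat_lit 259, nat_lit 185, nat_lit 148, nat_lit 185])))))
(.node (nat_lit 263) (.node (nat_lit 260) (.node (nat_lit 258) (.leaf 431 1 [nat_lit 259, nat_lit 111, nat_lit 259, nat_lit 74, nat_lit 296, nat_lit 74, nat_lit 148, nat_lit 111, nat_lit 259, nat_lit 296, nat_lit 111, nat_lit 0])
(.node (nat_lit 259) (.leaf 397 7 [nat_lit 259, nat_lit 148, nat_lit 259, nat_lit 148, nat_lit 0, nat_lit 148, nat_lit 259, nat_lit 148, nat_lit 259, nat_lit 148, nat_lit 0])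
(.leaf 621 11 [nat_lit 259, nat_lit 74, nat_lit 259, nat_lit 148, nat_lit 74, nat_lit 37, nat_lit 74, nat_lit 185, nat_lit 37, nat_lit 185, nat_lit 37, nat_lit 185, nat_lit 259, nat_lit 37, nat_lit 74, nat_lit 259])))
(.node (nat_lit 261) (.leaf 531 4 [nat_lit 296, nat_lit 74, nat_lit 37, nat_lit 74, nat_lit 37, nat_lit 296, nat_lit 148, nat_lit 74, nat_lit 37, nat_lit 74, nat_lit 37, nat_lit 111, nat_lit 74, nat_lit 111])
(.node (nat_lit 262) (.leaf 257 9 [nat_lit 111, nat_lit 222, nat_lit 148, nat_lit 222, nat_lit 148, nat_lit 222, nat_lit 148, nat_lit 222, nat_lit 111])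
(.leaf 523 10 [nat_lit 74, nat_lit 185, nat_lit 37, nat_lit 74, nat_lit 0, nat_lit 74, nat_lit 185, nat_lit 0, nat_lit 185, nat_lit 148, nat_lit 296, nat_lit 0, nat_lit 296, nat_lit 259]))))
(.node (nat_lit 266) (.node (nat_lit 264) (.leaf 615 5 [nat_lit 259, nat_lit 111, nat_lit 259, nat_lit 148, nat_lit 74, nat_lit 259, nat_lit 296, nat_lit 111, nat_lit 74, nat_lit 37, nat_lit 74, nat_lit 37, nat_lit 74, nat_lit 296, nat_lit 259, nat_lit 111])
(.node (nat_lit 265) (.leaf 335 10 [nat_lit 0, nat_lit 148, nat_lit 296, nat_lit 185, nat_lit 259, nat_lit 185, nat_lit 296, nat_lit 259, nat_lit 148, nat_lit 0])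
(.leaf 589 10 [nat_lit 37, nat_lit 111, nat_lit 37, nat_lit 148, nat_lit 0, nat_lit 37, nat_lit 0, nat_lit 185, nat_lit 111, nat_lit 37, nat_lit 111, nat_lit 37, nat_lit 185, nat_lit 37, nat_lit 0, nat_lit 37])))
(.node (nat_lit 267) (.leaf 333 8 [nat_lit 0, nat_lit 148, nat_lit 0, nat_lit 148, nat_lit 222, nat_lit 259, nat_lit 185, nat_lit 259, nat_lit 185, nat_lit 222])
(.node (nat_lit 268) (.leaf 539 7 [nat_lit 222, nat_lit 148, nat_lit 259, nat_lit 148, nat_lit 259, nat_lit 148, nat_lit 222, nat_lit 148, nat_lit 259, nat_lit 296, nat_lit 148, nat_lit 296, nat_lit 148, nat_lit 259])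
(.leaf 157 2 [nat_lit 259, nat_lit 148, nat_lit 259, nat_lit 0, nat_lit 296, nat_lit 259, nat_lit 148, nat_lit 0, nat_lit 296])))))))
(.node (nat_lit 298) (.node (nat_lit 282) (.node (nat_lit 275) (.node (nat_lit 272) (.node (nat_lit 270) (.leaf 521 11 [nat_lit 259, nat_lit 0, nat_lit 74, nat_lit 0, nat_lit 296, nat_lit 222, nat_lit 111, nat_lit 259, nat_lit 74, nat_lit 0, nat_lit 111, nat_lit 222, nat_lit 148, nat_lit 296])
(.node (nat_lit 271) (.leaf 525 1 [nat_lit 74, nat_lit 296, nat_lit 111, nat_lit 259, nat_lit 296, nat_lit 37, nat_lit 74, nat_lit 148, nat_lit 111, nat_lit 0, nat_lit 148, nat_lit 37, nat_lit 111, nat_lit 0])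
(.leaf 471 3 [nat_lit 222, nat_lit 148, nat_lit 222, nat_lit 148, nat_lit 259, nat_lit 222, nat_lit 148, nat_lit 296, nat_lit 0, nat_lit 148, nat_lit 0, nat_lit 296, nat_lit 222])))
(.node (nat_lit 273) (.leaf 567 9 [nat_lit 296, nat_lit 259, nat_lit 296, nat_lit 37, nat_lit 148, nat_lit 74, nat_lit 0, nat_lit 148, nat_lit 259, nat_lit 111, nat_lit 74, nat_lit 37, nat_lit 111, nat_lit 259, nat_lit 0])
(.node (nat_lit 274) (.leaf 631 14 [nat_lit 0, nat_lit 222, nat_lit 37, nat_lit 0, nat_lit 185, nat_lit 222, nat_lit 148, nat_lit 185, nat_lit 148, nat_lit 0, nat_lit 74, nat_lit 148, nat_lit 37, nat_lit 222, nat_lit 185, nat_lit 0, nat_lit 222])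
(.leaf 575 1 [nat_lit 74, nat_lit 148, nat_lit 0, nat_lit 111, nat_lit 259, nat_lit 296, nat_lit 222, nat_lit 296, nat_lit 74, nat_lit 296, nat_lit 222, nat_lit 296, nat_lit 259, nat_lit 111, nat_lit 0]))))
(.node (nat_lit 278) (.node (nat_lit 276) (.leaf 611 5 [nat_lit 185, nat_lit 111, nat_lit 259, nat_lit 111, nat_lit 185, nat_lit 222, nat_lit 74, nat_lit 185, nat_lit 222, nat_lit 185, nat_lit 74, nat_lit 0, nat_lit 148, nat_lit 259, nat_lit 148, nat_lit 259])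
(.node (nat_lit 277) (.leaf 617 13 [nat_lit 111, nat_lit 37, nat_lit 74, nat_lit 37, nat_lit 111, nat_lit 148, nat_lit 296, nat_lit 259, nat_lit 148, nat_lit 296, nat_lit 74, nat_lit 296, nat_lit 148, nat_lit 259, nat_lit 296, nat_lit 74])
(.leaf 333 10 [nat_lit 0, nat_lit 148, nat_lit 222, nat_lit 259, nat_lit 185, nat_lit 259, nat_lit 185, nat_lit 222, nat_lit 148, nat_lit 0])))
(.node (nat_lit 280) (.node (nat_lit 279) (.leaf 621 15 [nat_lit 74, nat_lit 37, nat_lit 74, nat_lit 185, nat_lit 37, nat_lit 185, nat_lit 37, nat_lit 185, nat_lit 259, nat_lit 37, nat_lit 74, nat_lit 259, nat_lit 148, nat_lit 259, nat_lit 74, nat_lit 259])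
(.leaf 599 6 [nat_lit 222, nat_lit 74, nat_lit 185, nat_lit 222, nat_lit 148, nat_lit 222, nat_lit 185, nat_lit 222, nat_lit 111, nat_lit 37, nat_lit 0, nat_lit 148, nat_lit 0, nat_lit 185, nat_lit 148, nat_lit 0]))
(.node (nat_lit 281) (.leaf 331 8 [nat_lit 0, nat_lit 148, nat_lit 0, nat_lit 148, nat_lit 259, nat_lit 222, nat_lit 185, nat_lit 259, nat_lit 185, nat_lit 222])
(.leaf 585 1 [nat_lit 222, nat_lit 111, nat_lit 74, nat_lit 37, nat_lit 111, nat_lit 0, nat_lit 222, nat_lit 148, nat_lit 111, nat_lit 222, nat_lit 0, nat_lit 222, nat_lit 74, nat_lit 0, nat_lit 37, nat_lit 0])))))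
(.node (nat_lit 290) (.node (nat_lit 286) (.node (nat_lit 284) (.node (nat_lit 283) (.leaf 397 11 [nat_lit 0, nat_lit 148, nat_lit 259, nat_lit 148, nat_lit 259, nat_lit 148, nat_lit 0, nat_lit 148, nat_lit 259, nat_lit 148, nat_lit 259])
(.leaf 263 4 [nat_lit 222, nat_lit 148, nat_lit 222, nat_lit 148, nat_lit 222, nat_lit 148, nat_lit 259, nat_lit 222, nat_lit 259]))
(.node (nat_lit 285) (.leaf 563 5 [nat_lit 259, nat_lit 185, nat_lit 259, nat_lit 148, nat_lit 185, nat_lit 0, nat_lit 148, nat_lit 74, nat_lit 111, nat_lit 74, nat_lit 0, nat_lit 185, nat_lit 74, nat_lit 111, nat_lit 74])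
(.leaf 607 14 [nat_lit 222, nat_lit 37, nat_lit 0, nat_lit 222, nat_lit 74, nat_lit 148, nat_lit 37, nat_lit 111, nat_lit 148, nat_lit 37, nat_lit 111, nat_lit 74, nat_lit 222, nat_lit 0, nat_lit 222, nat_lit 37])))
(.node (nat_lit 288) (.node (nat_lit 287) (.leaf 319 6 [nat_lit 0, nat_lit 148, nat_lit 0, nat_lit 148, nat_lit 0, nat_lit 185, nat_lit 259, nat_lit 185, nat_lit 0, nat_lit 259])
(.leaf 459 11 [nat_lit 0, nat_lit 111, nat_lit 0, nat_lit 259, nat_lit 111, nat_lit 259, nat_lit 148, nat_lit 259, nat_lit 111, nat_lit 259, nat_lit 0, nat_lit 111, nat_lit 0]))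
(.node (nat_lit 289) (.leaf 617 5 [nat_lit 296, nat_lit 74, nat_lit 296, nat_lit 148, nat_lit 259, nat_lit 296, nat_lit 74, nat_lit 148, nat_lit 111, nat_lit 37, nat_lit 74, nat_lit 37, nat_lit 111, nat_lit 148, nat_lit 296, nat_lit 259])
(.leaf 255 6 [nat_lit 185, nat_lit 111, nat_lit 148, nat_lit 111, nat_lit 185, nat_lit 148, nat_lit 185, nat_lit 148, nat_lit 185]))))
(.node (nat_lit 294) (.node (nat_lit 292) (.node (nat_lit 291) (.leaf 471 10 [nat_lit 296, nat_lit 0, nat_lit 148, nat_lit 0, nat_lit 296, nat_lit 222, nat_lit 148, nat_lit 222, nat_lit 148, nat_lit 222, nat_lit 148, nat_lit 259, nat_lit 222])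
(.leaf 555 8 [nat_lit 222, nat_lit 0, nat_lit 222, nat_lit 148, nat_lit 74, nat_lit 111, nat_lit 37, nat_lit 0, nat_lit 74, nat_lit 0, nat_lit 185, nat_lit 37, nat_lit 74, nat_lit 185, nat_lit 0]))
(.node (nat_lit 293) (.leaf 537 13 [nat_lit 74, nat_lit 37, nat_lit 222, nat_lit 148, nat_lit 222, nat_lit 296, nat_lit 74, nat_lit 296, nat_lit 222, nat_lit 148, nat_lit 222, nat_lit 37, nat_lit 148, nat_lit 74])
(.leaf 511 8 [nat_lit 0, nat_lit 74, nat_lit 0, nat_lit 148, nat_lit 185, nat_lit 37, nat_lit 0, nat_lit 111, nat_lit 37, nat_lit 185, nat_lit 0, nat_lit 74, nat_lit 111, nat_lit 74])))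
(.node (nat_lit 296) (.node (nat_lit 295) (.leaf 499 6 [nat_lit 74, nat_lit 148, nat_lit 259, nat_lit 37, nat_lit 0, nat_lit 37, nat_lit 74, nat_lit 37, nat_lit 0, nat_lit 37, nat_lit 259, nat_lit 296, nat_lit 74, nat_lit 296])
(.leaf 555 12 [nat_lit 74, nat_lit 111, nat_lit 37, nat_lit 0, nat_lit 74, nat_lit 0, nat_lit 185, nat_lit 37, nat_lit 74, nat_lit 185, nat_lit 0, nat_lit 148, nat_lit 222, nat_lit 0, nat_lit 222]))
(.node (nat_lit 297) (.leaf 611 1 [nat_lit 259, nat_lit 148, nat_lit 259, nat_lit 148, nat_lit 185, nat_lit 111, nat_lit 259, nat_lit 111, nat_lit 185, nat_lit 222, nat_lit 74, nat_lit 185, nat_lit 222, nat_lit 185, nat_lit 74, nat_lit 0])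
(.leaf 319 10 [nat_lit 0, nat_lit 185, nat_lit 259, nat_lit 185, nat_lit 0, nat_lit 259, nat_lit 148, nat_lit 0, nat_lit 148, nat_lit 0]))))))
(.node (nat_lit 316) (.node (nat_lit 307) (.node (nat_lit 302) (.node (nat_lit 300) (.node (nat_lit 299) (.leaf 599 1 [nat_lit 0, nat_lit 185, nat_lit 148, nat_lit 0, nat_lit 148, nat_lit 222, nat_lit 74, nat_lit 185, nat_lit 222, nat_lit 148, nat_lit 222, nat_lit 185, nat_lit 222, nat_lit 111, nat_lit 37, nat_lit 0])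
(.leaf 625 13 [nat_lit 74, nat_lit 111, nat_lit 74, nat_lit 37, nat_lit 0, nat_lit 148, nat_lit 37, nat_lit 111, nat_lit 37, nat_lit 259, nat_lit 185, nat_lit 259, nat_lit 111, nat_lit 185, nat_lit 37, nat_lit 148, nat_lit 0]))
(.node (nat_lit 301) (.leaf 589 14 [nat_lit 0, nat_lit 37, nat_lit 0, nat_lit 185, nat_lit 111, nat_lit 37, nat_lit 111, nat_lit 37, nat_lit 185, nat_lit 37, nat_lit 0, nat_lit 37, nat_lit 148, nat_lit 37, nat_lit 111, nat_lit 37])
(.leaf 567 1 [nat_lit 259, nat_lit 111, nat_lit 74, nat_lit 37, nat_lit 111, nat_lit 259, nat_lit 0, nat_lit 148, nat_lit 296, nat_lit 259, nat_lit 296, nat_lit 37, nat_lit 148, nat_lit 74, nat_lit 0])))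
(.node (nat_lit 304) (.node (nat_lit 303) (.leaf 591 14 [nat_lit 0, nat_lit 37, nat_lit 0, nat_lit 185, nat_lit 74, nat_lit 0, nat_lit 148, nat_lit 185, nat_lit 148, nat_lit 0, nat_lit 37, nat_lit 0, nat_lit 185, nat_lit 74, nat_lit 0, nat_lit 185])
(.leaf 569 4 [nat_lit 296, nat_lit 0, nat_lit 111, nat_lit 0, nat_lit 259, nat_lit 111, nat_lit 259, nat_lit 296, nat_lit 148, nat_lit 0, nat_lit 111, nat_lit 0, nat_lit 259, nat_lit 111, nat_lit 259]))
(.node (nat_lit 305) (.leaf 537 11 [nat_lit 74, nat_lit 148, nat_lit 74, nat_lit 37, nat_lit 222, nat_lit 148, nat_lit 222, nat_lit 296, nat_lit 74, nat_lit 296, nat_lit 222, nat_lit 148, nat_lit 222, nat_lit 37])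
(.node (nat_lit 306) (.leaf 595 8 [nat_lit 185, nat_lit 111, nat_lit 74, nat_lit 0, nat_lit 185, nat_lit 111, nat_lit 74, nat_lit 37, nat_lit 0, nat_lit 185, nat_lit 148, nat_lit 74, nat_lit 185, nat_lit 37, nat_lit 148, nat_lit 185])
(.leaf 471 5 [nat_lit 222, nat_lit 148, nat_lit 259, nat_lit 222, nat_lit 148, nat_lit 296, nat_lit 0, nat_lit 148, nat_lit 0, nat_lit 296, nat_lit 222, nat_lit 148, nat_lit 222])))))
(.node (nat_lit 311) (.node (nat_lit 309) (.node (nat_lit 308) (.leaf 597 8 [nat_lit 185, nat_lit 259, nat_lit 111, nat_lit 185, nat_lit 74, nat_lit 37, nat_lit 111, nat_lit 37, nat_lit 0, nat_lit 259, nat_lit 74, nat_lit 111, nat_lit 148, nat_lit 222, nat_lit 0, nat_lit 222])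
(.leaf 619 4 [nat_lit 259, nat_lit 74, nat_lit 259, nat_lit 148, nat_lit 111, nat_lit 222, nat_lit 74, nat_lit 185, nat_lit 222, nat_lit 74, nat_lit 111, nat_lit 74, nat_lit 37, nat_lit 185, nat_lit 37, nat_lit 185]))
(.node (nat_lit 310) (.leaf 627 4 [nat_lit 37, nat_lit 74, nat_lit 185, nat_lit 111, nat_lit 222, nat_lit 111, nat_lit 185, nat_lit 74, nat_lit 111, nat_lit 222, nat_lit 148, nat_lit 111, nat_lit 37, nat_lit 0, nat_lit 74, nat_lit 37, nat_lit 111])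
(.leaf 249 5 [nat_lit 296, nat_lit 148, nat_lit 296, nat_lit 148, nat_lit 74, nat_lit 296, nat_lit 148, nat_lit 296, nat_lit 74])))
(.node (nat_lit 313) (.node (nat_lit 312) (.leaf 489 1 [nat_lit 0, nat_lit 111, nat_lit 0, nat_lit 148, nat_lit 37, nat_lit 185, nat_lit 111, nat_lit 185, nat_lit 0, nat_lit 111, nat_lit 37, nat_lit 0, nat_lit 37, nat_lit 0])
(.leaf 633 14 [nat_lit 74, nat_lit 0, nat_lit 74, nat_lit 0, nat_lit 259, nat_lit 111, nat_lit 222, nat_lit 148, nat_lit 222, nat_lit 259, nat_lit 148, nat_lit 222, nat_lit 74, nat_lit 111, nat_lit 259, nat_lit 148, nat_lit 222]))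
(.node (nat_lit 314) (.leaf 625 11 [nat_lit 0, nat_lit 148, nat_lit 74, nat_lit 111, nat_lit 74, nat_lit 37, nat_lit 0, nat_lit 148, nat_lit 37, nat_lit 111, nat_lit 37, nat_lit 259, nat_lit 185, nat_lit 259, nat_lit 111, nat_lit 185, nat_lit 37])
(.node (nat_lit 315) (.leaf 471 13 [nat_lit 0, nat_lit 296, nat_lit 222, nat_lit 148, nat_lit 222, nat_lit 148, nat_lit 222, nat_lit 148, nat_lit 259, nat_lit 222, nat_lit 148, nat_lit 296, nat_lit 0])
(.leaf 257 4 [nat_lit 222, nat_lit 148, nat_lit 222, nat_lit 111, nat_lit 148, nat_lit 111, nat_lit 222, nat_lit 148, nat_lit 222]))))))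
(.node (nat_lit 328) (.node (nat_lit 322) (.node (nat_lit 319) (.node (nat_lit 317) (.leaf 391 1 [nat_lit 296, nat_lit 259, nat_lit 296, nat_lit 148, nat_lit 0, nat_lit 111, nat_lit 74, nat_lit 148, nat_lit 74, nat_lit 111, nat_lit 0])
(.node (nat_lit 318) (.leaf 331 1 [nat_lit 259, nat_lit 222, nat_lit 185, nat_lit 259, nat_lit 185, nat_lit 222, nat_lit 148, nat_lit 0, nat_lit 148, nat_lit 0])
(.leaf 615 9 [nat_lit 74, nat_lit 259, nat_lit 296, nat_lit 111, nat_lit 74, nat_lit 37, nat_lit 74, nat_lit 37, nat_lit 74, nat_lit 296, nat_lit 259, nat_lit 111, nat_lit 148, nat_lit 259, nat_lit 111, nat_lit 259])))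
(.node (nat_lit 320) (.leaf 157 9 [nat_lit 0, nat_lit 296, nat_lit 148, nat_lit 259, nat_lit 148, nat_lit 259, nat_lit 0, nat_lit 296, nat_lit 259])
(.node (nat_lit 321) (.leaf 619 8 [nat_lit 111, nat_lit 222, nat_lit 74, nat_lit 185, nat_lit 222, nat_lit 74, nat_lit 111, nat_lit 74, nat_lit 37, nat_lit 185, nat_lit 37, nat_lit 185, nat_lit 148, nat_lit 259, nat_lit 74, nat_lit 259])
(.leaf 335 8 [nat_lit 0, nat_lit 148, nat_lit 0, nat_lit 148, nat_lit 296, nat_lit 185, nat_lit 259, nat_lit 185, nat_lit 296, nat_lit 259]))))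
(.node (nat_lit 325) (.node (nat_lit 323) (.leaf 591 6 [nat_lit 0, nat_lit 37, nat_lit 0, nat_lit 185, nat_lit 74, nat_lit 0, nat_lit 185, nat_lit 148, nat_lit 0, nat_lit 37, nat_lit 0, nat_lit 185, nat_lit 74, nat_lit 0, nat_lit 148, nat_lit 185])
(.node (nat_lit 324) (.leaf 579 4 [nat_lit 222, nat_lit 111, nat_lit 222, nat_lit 74, nat_lit 111, nat_lit 222, nat_lit 148, nat_lit 74, nat_lit 185, nat_lit 37, nat_lit 185, nat_lit 37, nat_lit 222, nat_lit 185, nat_lit 222])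
(.leaf 571 11 [nat_lit 0, nat_lit 111, nat_lit 37, nat_lit 111, nat_lit 0, nat_lit 148, nat_lit 185, nat_lit 37, nat_lit 74, nat_lit 185, nat_lit 37, nat_lit 185, nat_lit 74, nat_lit 37, nat_lit 185])))
(.node (nat_lit 326) (.leaf 257 6 [nat_lit 222, nat_lit 111, nat_lit 148, nat_lit 111, nat_lit 222, nat_lit 148, nat_lit 222, nat_lit 148, nat_lit 222])
(.node (nat_lit 327) (.leaf 313 1 [nat_lit 259, nat_lit 185, nat_lit 259, nat_lit 185, nat_lit 148, nat_lit 0, nat_lit 111, nat_lit 148, nat_lit 111, nat_lit 0])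
(.leaf 617 9 [nat_lit 259, nat_lit 296, nat_lit 74, nat_lit 148, nat_lit 111, nat_lit 37, nat_lit 74, nat_lit 37, nat_lit 111, nat_lit 148, nat_lit 296, nat_lit 259, nat_lit 148, nat_lit 296, nat_lit 74, nat_lit 296])))))
(.node (nat_lit 337) (.node (nat_lit 332) (.node (nat_lit 330) (.node (nat_lit 329) (.leaf 319 8 [nat_lit 0, nat_lit 148, nat_lit 0, nat_lit 185, nat_lit 259, nat_lit 185, nat_lit 0, nat_lit 259, nat_lit 148, nat_lit 0])
(.leaf 453 10 [nat_lit 0, nat_lit 148, nat_lit 74, nat_lit 0, nat_lit 185, nat_lit 148, nat_lit 185, nat_lit 37, nat_lit 185, nat_lit 148, nat_lit 185, nat_lit 0, nat_lit 74]))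
(.node (nat_lit 331) (.leaf 569 13 [nat_lit 0, nat_lit 111, nat_lit 0, nat_lit 259, nat_lit 111, nat_lit 259, nat_lit 148, nat_lit 296, nat_lit 0, nat_lit 111, nat_lit 0, nat_lit 259, nat_lit 111, nat_lit 259, nat_lit 296])
(.leaf 539 5 [nat_lit 259, nat_lit 148, nat_lit 222, nat_lit 148, nat_lit 259, nat_lit 148, nat_lit 259, nat_lit 148, nat_lit 222, nat_lit 148, nat_lit 259, nat_lit 296, nat_lit 148, nat_lit 296])))
(.node (nat_lit 334) (.node (nat_lit 333) (.leaf 539 0 [nat_lit 259, nat_lit 296, nat_lit 148, nat_lit 296, nat_lit 148, nat_lit 259, nat_lit 148, nat_lit 222, nat_lit 148, nat_lit 259, nat_lit 148, nat_lit 259, nat_lit 148, nat_lit 222])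
(.leaf 471 7 [nat_lit 259, nat_lit 222, nat_lit 148, nat_lit 296, nat_lit 0, nat_lit 148, nat_lit 0, nat_lit 296, nat_lit 222, nat_lit 148, nat_lit 222, nat_lit 148, nat_lit 222]))
(.node (nat_lit 335) (.leaf 161 9 [nat_lit 0, nat_lit 259, nat_lit 148, nat_lit 296, nat_lit 148, nat_lit 0, nat_lit 259, nat_lit 148, nat_lit 296])
(.node (nat_lit 336) (.leaf 587 12 [nat_lit 0, nat_lit 148, nat_lit 0, nat_lit 37, nat_lit 0, nat_lit 296, nat_lit 148, nat_lit 222, nat_lit 296, nat_lit 0, nat_lit 37, nat_lit 296, nat_lit 222, nat_lit 148, nat_lit 296, nat_lit 74])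
(.leaf 339 10 [nat_lit 0, nat_lit 148, nat_lit 259, nat_lit 0, nat_lit 259, nat_lit 148, nat_lit 259, nat_lit 185, nat_lit 259, nat_lit 185])))))
(.node (nat_lit 343) (.node (nat_lit 340) (.node (nat_lit 338) (.leaf 325 8 [nat_lit 0, nat_lit 148, nat_lit 0, nat_lit 148, nat_lit 259, nat_lit 185, nat_lit 37, nat_lit 259, nat_lit 37, nat_lit 185])
(.node (nat_lit 339) (.leaf 617 2 [nat_lit 296, nat_lit 259, nat_lit 148, nat_lit 296, nat_lit 74, nat_lit 296, nat_lit 148, nat_lit 259, nat_lit 296, nat_lit 74, nat_lit 148, nat_lit 111, nat_lit 37, nat_lit 74, nat_lit 37, nat_lit 111])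
(.leaf 161 7 [nat_lit 296, nat_lit 148, nat_lit 0, nat_lit 259, nat_lit 148, nat_lit 296, nat_lit 148, nat_lit 0, nat_lit 259])))
(.node (nat_lit 341) (.leaf 575 3 [nat_lit 0, nat_lit 111, nat_lit 259, nat_lit 296, nat_lit 222, nat_lit 296, nat_lit 74, nat_lit 296, nat_lit 222, nat_lit 296, nat_lit 259, nat_lit 111, nat_lit 0, nat_lit 148, nat_lit 74])
(.node (nat_lit 342) (.leaf 313 6 [nat_lit 0, nat_lit 111, nat_lit 148, nat_lit 111, nat_lit 0, nat_lit 148, nat_lit 259, nat_lit 185, nat_lit 259, nat_lit 185])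
(.leaf 325 1 [nat_lit 259, nat_lit 185, nat_lit 37, nat_lit 259, nat_lit 37, nat_lit 185, nat_lit 148, nat_lit 0, nat_lit 148, nat_lit 0]))))
(.node (nat_lit 347) (.node (nat_lit 345) (.node (nat_lit 344) (.leaf 635 25 [nat_lit 296, nat_lit 37, nat_lit 0, nat_lit 148, nat_lit 296, nat_lit 37, nat_lit 0, nat_lit 148, nat_lit 296, nat_lit 37, nat_lit 0, nat_lit 148, nat_lit 296, nat_lit 37, nat_lit 0, nat_lit 148, nat_lit 296, nat_lit 37, nat_lit 0, nat_lit 148, nat_lit 296, nat_lit 37, nat_lit 0, nat_lit 148, nat_lit 296, nat_lit 37, nat_lit 0])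
(.leaf 263 8 [nat_lit 222, nat_lit 148, nat_lit 259, nat_lit 222, nat_lit 259, nat_lit 148, nat_lit 222, nat_lit 148, nat_lit 222]))
(.node (nat_lit 346) (.leaf 331 10 [nat_lit 0, nat_lit 148, nat_lit 259, nat_lit 222, nat_lit 185, nat_lit 259, nat_lit 185, nat_lit 222, nat_lit 148, nat_lit 0])
(.leaf 321 10 [nat_lit 0, nat_lit 148, nat_lit 185, nat_lit 259, nat_lit 185, nat_lit 37, nat_lit 259, nat_lit 37, nat_lit 148, nat_lit 0])))
(.node (nat_lit 350) (.node (nat_lit 348) (.leaf 323 1 [nat_lit 259, nat_lit 185, nat_lit 0, nat_lit 259, nat_lit 0, nat_lit 185, nat_lit 148, nat_lit 0, nat_lit 148, nat_lit 0])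
(.node (nat_lit 349) (.leaf 263 6 [nat_lit 222, nat_lit 148, nat_lit 222, nat_lit 148, nat_lit 259, nat_lit 222, nat_lit 259, nat_lit 148, nat_lit 222])
(.leaf 325 10 [nat_lit 0, nat_lit 148, nat_lit 259, nat_lit 185, nat_lit 37, nat_lit 259, nat_lit 37, nat_lit 185, nat_lit 148, nat_lit 0])))
(.node (nat_lit 352) (.node (nat_lit 351) (.leaf 341 1 [nat_lit 259, nat_lit 185, nat_lit 259, nat_lit 185, nat_lit 148, nat_lit 259, nat_lit 0, nat_lit 259, nat_lit 148, nat_lit 0])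
(.leaf 327 1 [nat_lit 259, nat_lit 185, nat_lit 222, nat_lit 259, nat_lit 222, nat_lit 185, nat_lit 148, nat_lit 0, nat_lit 148, nat_lit 0]))
(.node (nat_lit 353) (.leaf 339 5 [nat_lit 259, nat_lit 185, nat_lit 259, nat_lit 185, nat_lit 148, nat_lit 0, nat_lit 148, nat_lit 259, nat_lit 0, nat_lit 259])
(.node (nat_lit 354) (.leaf 329 8 [nat_lit 0, nat_lit 148, nat_lit 0, nat_lit 148, nat_lit 222, nat_lit 259, nat_lit 222, nat_lit 185, nat_lit 259, nat_lit 185])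
(.leaf 341 10 [nat_lit 0, nat_lit 148, nat_lit 259, nat_lit 185, nat_lit 259, nat_lit 185, nat_lit 148, nat_lit 259, nat_lit 0, nat_lit 259])))))))))))))))
(.leaf 0 0 [])))
noncomputable def wt5 : LT := (.node (nat_lit 28) (.node (nat_lit 4) (.node (nat_lit 1) (.node (nat_lit 0) (.leaf 21 5 [nat_lit 74, nat_lit 185, nat_lit 74, nat_lit 185, nat_lit 74])
(.leaf 99 7 [nat_lit 148, nat_lit 185, nat_lit 148, nat_lit 185, nat_lit 148, nat_lit 185, nat_lit 148]))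
(.node (nat_lit 2) (.leaf 111 0 [nat_lit 296, nat_lit 185, nat_lit 259, nat_lit 185, nat_lit 296, nat_lit 185, nat_lit 259])
(.node (nat_lit 3) (.leaf 105 0 [nat_lit 222, nat_lit 185, nat_lit 222, nat_lit 185, nat_lit 222, nat_lit 185, nat_lit 222])
(.leaf 39 5 [nat_lit 259, nat_lit 185, nat_lit 0, nat_lit 185, nat_lit 259, nat_lit 185, nat_lit 0]))))
(.node (nat_lit 9) (.node (nat_lit 6) (.node (nat_lit 5) (.leaf 93 7 [nat_lit 111, nat_lit 185, nat_lit 111, nat_lit 185, nat_lit 111, nat_lit 185, nat_lit 111])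
(.leaf 37 7 [nat_lit 0, nat_lit 185, nat_lit 0, nat_lit 185, nat_lit 0, nat_lit 185, nat_lit 0]))
(.node (nat_lit 7) (.leaf 123 8 [nat_lit 37, nat_lit 0, nat_lit 74, nat_lit 259, nat_lit 185, nat_lit 37, nat_lit 0, nat_lit 74, nat_lit 259])
(.node (nat_lit 8) (.leaf 107 6 [nat_lit 222, nat_lit 185, nat_lit 259, nat_lit 185, nat_lit 222, nat_lit 185, nat_lit 259])
(.leaf 141 6 [nat_lit 37, nat_lit 185, nat_lit 111, nat_lit 0, nat_lit 185, nat_lit 37, nat_lit 185, nat_lit 111, nat_lit 0]))))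
(.node (nat_lit 16) (.node (nat_lit 12) (.node (nat_lit 10) (.leaf 107 0 [nat_lit 259, nat_lit 185, nat_lit 222, nat_lit 185, nat_lit 259, nat_lit 185, nat_lit 222])
(.node (nat_lit 11) (.leaf 275 5 [nat_lit 296, nat_lit 222, nat_lit 296, nat_lit 259, nat_lit 185, nat_lit 259, nat_lit 296, nat_lit 222, nat_lit 296])
(.leaf 119 5 [nat_lit 148, nat_lit 0, nat_lit 148, nat_lit 0, nat_lit 148, nat_lit 259, nat_lit 185, nat_lit 259])))
(.node (nat_lit 14) (.node (nat_lit 13) (.leaf 141 8 [nat_lit 111, nat_lit 0, nat_lit 185, nat_lit 37, nat_lit 185, nat_lit 111, nat_lit 0, nat_lit 185, nat_lit 37])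
(.leaf 203 6 [nat_lit 222, nat_lit 185, nat_lit 74, nat_lit 37, nat_lit 185, nat_lit 222, nat_lit 185, nat_lit 37, nat_lit 74]))
(.node (nat_lit 15) (.leaf 273 0 [nat_lit 296, nat_lit 222, nat_lit 296, nat_lit 259, nat_lit 185, nat_lit 296, nat_lit 222, nat_lit 296, nat_lit 259])
(.leaf 39 7 [nat_lit 0, nat_lit 185, nat_lit 259, nat_lit 185, nat_lit 0, nat_lit 185, nat_lit 259]))))
(.node (nat_lit 21) (.node (nat_lit 18) (.node (nat_lit 17) (.leaf 405 9 [nat_lit 296, nat_lit 74, nat_lit 37, nat_lit 259, nat_lit 296, nat_lit 185, nat_lit 296, nat_lit 74, nat_lit 259, nat_lit 37, nat_lit 296])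
(.leaf 413 6 [nat_lit 148, nat_lit 185, nat_lit 296, nat_lit 74, nat_lit 111, nat_lit 74, nat_lit 296, nat_lit 185, nat_lit 148, nat_lit 185, nat_lit 111]))
(.node (nat_lit 19) (.leaf 109 0 [nat_lit 259, nat_lit 185, nat_lit 259, nat_lit 185, nat_lit 259, nat_lit 185, nat_lit 259])
(.node (nat_lit 20) (.leaf 111 6 [nat_lit 259, nat_lit 185, nat_lit 296, nat_lit 185, nat_lit 259, nat_lit 185, nat_lit 296])
(.leaf 259 7 [nat_lit 222, nat_lit 185, nat_lit 111, nat_lit 222, nat_lit 185, nat_lit 222, nat_lit 185, nat_lit 111, nat_lit 222]))))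
(.node (nat_lit 24) (.node (nat_lit 22) (.leaf 119 3 [nat_lit 259, nat_lit 185, nat_lit 148, nat_lit 0, nat_lit 148, nat_lit 0, nat_lit 148, nat_lit 259])
(.node (nat_lit 23) (.leaf 203 3 [nat_lit 37, nat_lit 74, nat_lit 185, nat_lit 222, nat_lit 185, nat_lit 74, nat_lit 37, nat_lit 185, nat_lit 222])
(.leaf 203 8 [nat_lit 74, nat_lit 37, nat_lit 185, nat_lit 222, nat_lit 185, nat_lit 37, nat_lit 74, nat_lit 185, nat_lit 222])))
(.node (nat_lit 26) (.node (nat_lit 25) (.leaf 379 4 [nat_lit 148, nat_lit 74, nat_lit 148, nat_lit 0, nat_lit 111, nat_lit 185, nat_lit 37, nat_lit 0, nat_lit 111, nat_lit 185, nat_lit 37])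
(.leaf 377 5 [nat_lit 0, nat_lit 37, nat_lit 74, nat_lit 111, nat_lit 74, nat_lit 37, nat_lit 0, nat_lit 222, nat_lit 185, nat_lit 222, nat_lit 111]))
(.node (nat_lit 27) (.leaf 259 9 [nat_lit 111, nat_lit 222, nat_lit 185, nat_lit 222, nat_lit 185, nat_lit 111, nat_lit 222, nat_lit 185, nat_lit 222])
(.leaf 203 1 [nat_lit 222, nat_lit 185, nat_lit 37, nat_lit 74, nat_lit 185, nat_lit 222, nat_lit 185, nat_lit 74, nat_lit 37]))))))))
(.node (nat_lit 363) (.node (nat_lit 84) (.node (nat_lit 48) (.node (nat_lit 37) (.node (nat_lit 32) (.node (nat_lit 30) (.node (nat_lit 29) (.leaf 409 8 [nat_lit 296, nat_lit 37, nat_lit 185, nat_lit 37, nat_lit 296, nat_lit 185, nat_lit 296, nat_lit 37, nat_lit 185, nat_lit 37, nat_lit 296])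
(.leaf 493 7 [nat_lit 296, nat_lit 259, nat_lit 185, nat_lit 259, nat_lit 74, nat_lit 0, nat_lit 37, nat_lit 0, nat_lit 296, nat_lit 37, nat_lit 0, nat_lit 185, nat_lit 259, nat_lit 296]))
(.node (nat_lit 31) (.leaf 419 11 [nat_lit 148, nat_lit 296, nat_lit 148, nat_lit 185, nat_lit 148, nat_lit 296, nat_lit 148, nat_lit 185, nat_lit 148, nat_lit 296, nat_lit 148])
(.leaf 343 3 [nat_lit 148, nat_lit 296, nat_lit 148, nat_lit 0, nat_lit 148, nat_lit 296, nat_lit 148, nat_lit 0, nat_lit 185, nat_lit 259])))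
(.node (nat_lit 34) (.node (nat_lit 33) (.leaf 481 11 [nat_lit 296, nat_lit 111, nat_lit 37, nat_lit 296, nat_lit 37, nat_lit 222, nat_lit 185, nat_lit 222, nat_lit 37, nat_lit 296, nat_lit 37, nat_lit 296, nat_lit 111])
(.leaf 385 1 [nat_lit 74, nat_lit 148, nat_lit 74, nat_lit 111, nat_lit 74, nat_lit 148, nat_lit 74, nat_lit 185, nat_lit 0, nat_lit 111, nat_lit 0]))
(.node (nat_lit 35) (.leaf 297 9 [nat_lit 74, nat_lit 0, nat_lit 296, nat_lit 259, nat_lit 296, nat_lit 222, nat_lit 0, nat_lit 74, nat_lit 185, nat_lit 222])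
(.node (nat_lit 36) (.leaf 409 11 [nat_lit 37, nat_lit 296, nat_lit 185, nat_lit 296, nat_lit 37, nat_lit 185, nat_lit 37, nat_lit 296, nat_lit 185, nat_lit 296, nat_lit 37])
(.leaf 379 2 [nat_lit 37, nat_lit 185, nat_lit 148, nat_lit 74, nat_lit 148, nat_lit 0, nat_lit 111, nat_lit 185, nat_lit 37, nat_lit 0, nat_lit 111])))))
(.node (nat_lit 42) (.node (nat_lit 39) (.node (nat_lit 38) (.leaf 255 7 [nat_lit 111, nat_lit 148, nat_lit 111, nat_lit 185, nat_lit 148, nat_lit 185, nat_lit 148, nat_lit 185, nat_lit 148])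
(.leaf 279 9 [nat_lit 37, nat_lit 0, nat_lit 74, nat_lit 185, nat_lit 296, nat_lit 259, nat_lit 296, nat_lit 37, nat_lit 0, nat_lit 74]))
(.node (nat_lit 40) (.leaf 307 9 [nat_lit 74, nat_lit 0, nat_lit 74, nat_lit 296, nat_lit 74, nat_lit 0, nat_lit 74, nat_lit 296, nat_lit 185, nat_lit 259])
(.node (nat_lit 41) (.leaf 279 2 [nat_lit 296, nat_lit 259, nat_lit 296, nat_lit 37, nat_lit 0, nat_lit 74, nat_lit 185, nat_lit 37, nat_lit 0, nat_lit 74])
(.leaf 453 5 [nat_lit 148, nat_lit 185, nat_lit 0, nat_lit 74, nat_lit 148, nat_lit 0, nat_lit 148, nat_lit 74, nat_lit 0, nat_lit 185, nat_lit 148, nat_lit 185, nat_lit 37]))))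
(.node (nat_lit 45) (.node (nat_lit 43) (.leaf 215 2 [nat_lit 222, nat_lit 259, nat_lit 74, nat_lit 37, nat_lit 185, nat_lit 259, nat_lit 74, nat_lit 37, nat_lit 222])
(.node (nat_lit 44) (.leaf 413 2 [nat_lit 148, nat_lit 185, nat_lit 111, nat_lit 185, nat_lit 148, nat_lit 185, nat_lit 296, nat_lit 74, nat_lit 111, nat_lit 74, nat_lit 296])
(.leaf 387 7 [nat_lit 111, nat_lit 185, nat_lit 0, nat_lit 111, nat_lit 0, nat_lit 185, nat_lit 111, nat_lit 185, nat_lit 0, nat_lit 111, nat_lit 0])))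
(.node (nat_lit 46) (.leaf 375 9 [nat_lit 0, nat_lit 37, nat_lit 0, nat_lit 185, nat_lit 37, nat_lit 74, nat_lit 37, nat_lit 0, nat_lit 37, nat_lit 74, nat_lit 37])
(.node (nat_lit 47) (.leaf 399 11 [nat_lit 0, nat_lit 222, nat_lit 111, nat_lit 185, nat_lit 222, nat_lit 185, nat_lit 0, nat_lit 222, nat_lit 111, nat_lit 185, nat_lit 222])
(.leaf 413 8 [nat_lit 296, nat_lit 74, nat_lit 111, nat_lit 74, nat_lit 296, nat_lit 185, nat_lit 148, nat_lit 185, nat_lit 111, nat_lit 185, nat_lit 148]))))))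
(.node (nat_lit 63) (.node (nat_lit 55) (.node (nat_lit 51) (.node (nat_lit 49) (.leaf 527 7 [nat_lit 148, nat_lit 111, nat_lit 74, nat_lit 111, nat_lit 185, nat_lit 74, nat_lit 111, nat_lit 0, nat_lit 148, nat_lit 37, nat_lit 148, nat_lit 185, nat_lit 74, nat_lit 148])
(.node (nat_lit 50) (.leaf 413 4 [nat_lit 111, nat_lit 185, nat_lit 148, nat_lit 185, nat_lit 296, nat_lit 74, nat_lit 111, nat_lit 74, nat_lit 296, nat_lit 185, nat_lit 148])
(.leaf 447 7 [nat_lit 111, nat_lit 259, nat_lit 148, nat_lit 37, nat_lit 111, nat_lit 37, nat_lit 0, nat_lit 111, nat_lit 0, nat_lit 148, nat_lit 259, nat_lit 185, nat_lit 111])))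
(.node (nat_lit 53) (.node (nat_lit 52) (.leaf 509 10 [nat_lit 74, nat_lit 111, nat_lit 148, nat_lit 37, nat_lit 0, nat_lit 259, nat_lit 185, nat_lit 259, nat_lit 111, nat_lit 0, nat_lit 148, nat_lit 185, nat_lit 37, nat_lit 148])
(.leaf 379 10 [nat_lit 37, nat_lit 0, nat_lit 111, nat_lit 185, nat_lit 37, nat_lit 185, nat_lit 148, nat_lit 74, nat_lit 148, nat_lit 0, nat_lit 111]))
(.node (nat_lit 54) (.leaf 385 9 [nat_lit 0, nat_lit 111, nat_lit 0, nat_lit 185, nat_lit 74, nat_lit 148, nat_lit 74, nat_lit 111, nat_lit 74, nat_lit 148, nat_lit 74])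
(.leaf 281 9 [nat_lit 37, nat_lit 0, nat_lit 296, nat_lit 259, nat_lit 296, nat_lit 222, nat_lit 0, nat_lit 37, nat_lit 185, nat_lit 222]))))
(.node (nat_lit 59) (.node (nat_lit 57) (.node (nat_lit 56) (.leaf 523 2 [nat_lit 0, nat_lit 185, nat_lit 148, nat_lit 296, nat_lit 0, nat_lit 296, nat_lit 259, nat_lit 148, nat_lit 74, nat_lit 185, nat_lit 37, nat_lit 74, nat_lit 0, nat_lit 74])
(.leaf 581 15 [nat_lit 37, nat_lit 185, nat_lit 111, nat_lit 296, nat_lit 185, nat_lit 222, nat_lit 37, nat_lit 185, nat_lit 222, nat_lit 37, nat_lit 185, nat_lit 296, nat_lit 111, nat_lit 185, nat_lit 37]))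
(.node (nat_lit 58) (.leaf 393 1 [nat_lit 111, nat_lit 185, nat_lit 259, nat_lit 185, nat_lit 111, nat_lit 185, nat_lit 0, nat_lit 111, nat_lit 259, nat_lit 111, nat_lit 0])
(.leaf 579 15 [nat_lit 37, nat_lit 222, nat_lit 185, nat_lit 222, nat_lit 148, nat_lit 222, nat_lit 111, nat_lit 222, nat_lit 74, nat_lit 111, nat_lit 222, nat_lit 148, nat_lit 74, nat_lit 185, nat_lit 37])))
(.node (nat_lit 61) (.node (nat_lit 60) (.leaf 453 1 [nat_lit 148, nat_lit 185, nat_lit 37, nat_lit 185, nat_lit 148, nat_lit 185, nat_lit 0, nat_lit 74, nat_lit 148, nat_lit 0, nat_lit 148, nat_lit 74, nat_lit 0])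
(.leaf 169 4 [nat_lit 296, nat_lit 0, nat_lit 185, nat_lit 259, nat_lit 185, nat_lit 0, nat_lit 296, nat_lit 185, nat_lit 259]))
(.node (nat_lit 62) (.leaf 509 7 [nat_lit 37, nat_lit 148, nat_lit 185, nat_lit 74, nat_lit 111, nat_lit 148, nat_lit 37, nat_lit 0, nat_lit 259, nat_lit 185, nat_lit 259, nat_lit 111, nat_lit 0, nat_lit 148])
(.leaf 261 3 [nat_lit 222, nat_lit 111, nat_lit 222, nat_lit 185, nat_lit 222, nat_lit 185, nat_lit 111, nat_lit 185, nat_lit 222])))))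
(.node (nat_lit 73) (.node (nat_lit 68) (.node (nat_lit 65) (.node (nat_lit 64) (.leaf 453 3 [nat_lit 37, nat_lit 185, nat_lit 148, nat_lit 185, nat_lit 0, nat_lit 74, nat_lit 148, nat_lit 0, nat_lit 148, nat_lit 74, nat_lit 0, nat_lit 185, nat_lit 148])
(.leaf 281 7 [nat_lit 222, nat_lit 185, nat_lit 37, nat_lit 0, nat_lit 296, nat_lit 259, nat_lit 296, nat_lit 222, nat_lit 0, nat_lit 37]))
(.node (nat_lit 66) (.leaf 207 1 [nat_lit 222, nat_lit 259, nat_lit 74, nat_lit 37, nat_lit 185, nat_lit 259, nat_lit 222, nat_lit 74, nat_lit 37])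
(.node (nat_lit 67) (.leaf 261 7 [nat_lit 222, nat_lit 185, nat_lit 111, nat_lit 185, nat_lit 222, nat_lit 185, nat_lit 222, nat_lit 111, nat_lit 222])
(.leaf 371 2 [nat_lit 222, nat_lit 185, nat_lit 111, nat_lit 37, nat_lit 0, nat_lit 37, nat_lit 111, nat_lit 0, nat_lit 37, nat_lit 0, nat_lit 222]))))
(.node (nat_lit 70) (.node (nat_lit 69) (.leaf 423 8 [nat_lit 74, nat_lit 259, nat_lit 0, nat_lit 37, nat_lit 0, nat_lit 296, nat_lit 0, nat_lit 296, nat_lit 185, nat_lit 74, nat_lit 0, nat_lit 37])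
(.leaf 393 5 [nat_lit 111, nat_lit 185, nat_lit 0, nat_lit 111, nat_lit 259, nat_lit 111, nat_lit 0, nat_lit 185, nat_lit 111, nat_lit 185, nat_lit 259]))
(.node (nat_lit 71) (.leaf 163 9 [nat_lit 0, nat_lit 259, nat_lit 185, nat_lit 0, nat_lit 185, nat_lit 259, nat_lit 0, nat_lit 185, nat_lit 0])
(.node (nat_lit 72) (.leaf 527 4 [nat_lit 74, nat_lit 148, nat_lit 185, nat_lit 148, nat_lit 111, nat_lit 74, nat_lit 111, nat_lit 185, nat_lit 74, nat_lit 111, nat_lit 0, nat_lit 148, nat_lit 37, nat_lit 148])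
(.leaf 545 6 [nat_lit 37, nat_lit 296, nat_lit 37, nat_lit 74, nat_lit 0, nat_lit 37, nat_lit 111, nat_lit 0, nat_lit 37, nat_lit 0, nat_lit 296, nat_lit 37, nat_lit 74, nat_lit 185, nat_lit 111])))))
(.node (nat_lit 78) (.node (nat_lit 75) (.node (nat_lit 74) (.leaf 261 1 [nat_lit 222, nat_lit 185, nat_lit 222, nat_lit 111, nat_lit 222, nat_lit 185, nat_lit 222, nat_lit 185, nat_lit 111])
(.leaf 485 11 [nat_lit 148, nat_lit 259, nat_lit 111, nat_lit 259, nat_lit 148, nat_lit 185, nat_lit 148, nat_lit 185, nat_lit 259, nat_lit 111, nat_lit 259, nat_lit 185, nat_lit 148]))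
(.node (nat_lit 76) (.leaf 297 7 [nat_lit 222, nat_lit 185, nat_lit 74, nat_lit 0, nat_lit 296, nat_lit 259, nat_lit 296, nat_lit 222, nat_lit 0, nat_lit 74])
(.node (nat_lit 77) (.leaf 475 11 [nat_lit 111, nat_lit 74, nat_lit 37, nat_lit 111, nat_lit 37, nat_lit 111, nat_lit 222, nat_lit 296, nat_lit 74, nat_lit 296, nat_lit 185, nat_lit 222, nat_lit 111])
(.leaf 269 7 [nat_lit 296, nat_lit 222, nat_lit 185, nat_lit 259, nat_lit 185, nat_lit 222, nat_lit 296, nat_lit 185, nat_lit 259]))))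
(.node (nat_lit 81) (.node (nat_lit 79) (.leaf 477 5 [nat_lit 222, nat_lit 185, nat_lit 296, nat_lit 74, nat_lit 259, nat_lit 185, nat_lit 259, nat_lit 74, nat_lit 37, nat_lit 185, nat_lit 37, nat_lit 296, nat_lit 222])
(.node (nat_lit 80) (.leaf 551 11 [nat_lit 148, nat_lit 111, nat_lit 74, nat_lit 37, nat_lit 0, nat_lit 259, nat_lit 111, nat_lit 0, nat_lit 111, nat_lit 37, nat_lit 259, nat_lit 74, nat_lit 148, nat_lit 185, nat_lit 111])
(.leaf 207 6 [nat_lit 259, nat_lit 222, nat_lit 74, nat_lit 37, nat_lit 185, nat_lit 222, nat_lit 259, nat_lit 74, nat_lit 37])))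
(.node (nat_lit 82) (.leaf 423 4 [nat_lit 74, nat_lit 0, nat_lit 37, nat_lit 185, nat_lit 74, nat_lit 259, nat_lit 0, nat_lit 37, nat_lit 0, nat_lit 296, nat_lit 0, nat_lit 296])
(.node (nat_lit 83) (.leaf 473 8 [nat_lit 148, nat_lit 259, nat_lit 148, nat_lit 259, nat_lit 148, nat_lit 0, nat_lit 185, nat_lit 222, nat_lit 259, nat_lit 111, nat_lit 259, nat_lit 111, nat_lit 222])
(.leaf 369 3 [nat_lit 37, nat_lit 0, nat_lit 37, nat_lit 185, nat_lit 37, nat_lit 74, nat_lit 0, nat_lit 37, nat_lit 0, nat_lit 74, nat_lit 37]))))))))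
(.node (nat_lit 152) (.node (nat_lit 111) (.node (nat_lit 97) (.node (nat_lit 90) (.node (nat_lit 87) (.node (nat_lit 85) (.leaf 369 7 [nat_lit 37, nat_lit 74, nat_lit 0, nat_lit 37, nat_lit 0, nat_lit 74, nat_lit 37, nat_lit 185, nat_lit 37, nat_lit 0, nat_lit 37])
(.node (nat_lit 86) (.leaf 311 5 [nat_lit 111, nat_lit 74, nat_lit 296, nat_lit 74, nat_lit 111, nat_lit 0, nat_lit 296, nat_lit 0, nat_lit 185, nat_lit 259])
(.leaf 491 3 [nat_lit 222, nat_lit 185, nat_lit 148, nat_lit 37, nat_lit 0, nat_lit 37, nat_lit 74, nat_lit 111, nat_lit 74, nat_lit 0, nat_lit 37, nat_lit 0, nat_lit 148, nat_lit 222])))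
(.node (nat_lit 88) (.leaf 309 4 [nat_lit 0, nat_lit 111, nat_lit 74, nat_lit 296, nat_lit 74, nat_lit 111, nat_lit 0, nat_lit 296, nat_lit 185, nat_lit 259])
(.node (nat_lit 89) (.leaf 523 4 [nat_lit 148, nat_lit 296, nat_lit 0, nat_lit 296, nat_lit 259, nat_lit 148, nat_lit 74, nat_lit 185, nat_lit 37, nat_lit 74, nat_lit 0, nat_lit 74, nat_lit 185, nat_lit 0])
(.leaf 479 11 [nat_lit 296, nat_lit 74, nat_lit 37, nat_lit 296, nat_lit 185, nat_lit 259, nat_lit 296, nat_lit 74, nat_lit 222, nat_lit 37, nat_lit 296, nat_lit 259, nat_lit 222]))))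
(.node (nat_lit 93) (.node (nat_lit 91) (.leaf 549 9 [nat_lit 148, nat_lit 37, nat_lit 185, nat_lit 148, nat_lit 0, nat_lit 37, nat_lit 0, nat_lit 185, nat_lit 296, nat_lit 74, nat_lit 296, nat_lit 259, nat_lit 185, nat_lit 259, nat_lit 148])
(.node (nat_lit 92) (.leaf 377 2 [nat_lit 222, nat_lit 111, nat_lit 185, nat_lit 0, nat_lit 37, nat_lit 74, nat_lit 111, nat_lit 74, nat_lit 37, nat_lit 0, nat_lit 222])
(.leaf 627 11 [nat_lit 74, nat_lit 111, nat_lit 222, nat_lit 148, nat_lit 111, nat_lit 37, nat_lit 0, nat_lit 74, nat_lit 37, nat_lit 111, nat_lit 148, nat_lit 37, nat_lit 74, nat_lit 185, nat_lit 111, nat_lit 222, nat_lit 111])))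
(.node (nat_lit 95) (.node (nat_lit 94) (.leaf 455 12 [nat_lit 74, nat_lit 0, nat_lit 74, nat_lit 185, nat_lit 0, nat_lit 148, nat_lit 0, nat_lit 111, nat_lit 37, nat_lit 111, nat_lit 0, nat_lit 148, nat_lit 0])
(.leaf 169 9 [nat_lit 0, nat_lit 296, nat_lit 185, nat_lit 259, nat_lit 185, nat_lit 296, nat_lit 0, nat_lit 185, nat_lit 259]))
(.node (nat_lit 96) (.leaf 395 4 [nat_lit 148, nat_lit 259, nat_lit 185, nat_lit 259, nat_lit 185, nat_lit 0, nat_lit 148, nat_lit 0, nat_lit 259, nat_lit 185, nat_lit 259])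
(.leaf 549 12 [nat_lit 148, nat_lit 0, nat_lit 37, nat_lit 0, nat_lit 185, nat_lit 296, nat_lit 74, nat_lit 296, nat_lit 259, nat_lit 185, nat_lit 259, nat_lit 148, nat_lit 185, nat_lit 148, nat_lit 37])))))
(.node (nat_lit 104) (.node (nat_lit 100) (.node (nat_lit 98) (.leaf 447 5 [nat_lit 111, nat_lit 185, nat_lit 111, nat_lit 259, nat_lit 148, nat_lit 37, nat_lit 111, nat_lit 37, nat_lit 0, nat_lit 111, nat_lit 0, nat_lit 148, nat_lit 259])
(.node (nat_lit 99) (.leaf 491 5 [nat_lit 148, nat_lit 37, nat_lit 0, nat_lit 37, nat_lit 74, nat_lit 111, nat_lit 74, nat_lit 0, nat_lit 37, nat_lit 0, nat_lit 148, nat_lit 222, nat_lit 185, nat_lit 222])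
(.leaf 321 4 [nat_lit 37, nat_lit 259, nat_lit 37, nat_lit 148, nat_lit 0, nat_lit 148, nat_lit 0, nat_lit 148, nat_lit 185, nat_lit 259])))
(.node (nat_lit 102) (.node (nat_lit 101) (.leaf 283 9 [nat_lit 37, nat_lit 0, nat_lit 222, nat_lit 296, nat_lit 0, nat_lit 296, nat_lit 259, nat_lit 37, nat_lit 185, nat_lit 222])
(.leaf 489 7 [nat_lit 111, nat_lit 185, nat_lit 0, nat_lit 111, nat_lit 37, nat_lit 0, nat_lit 37, nat_lit 0, nat_lit 148, nat_lit 0, nat_lit 111, nat_lit 0, nat_lit 148, nat_lit 37]))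
(.node (nat_lit 103) (.leaf 477 7 [nat_lit 296, nat_lit 74, nat_lit 259, nat_lit 185, nat_lit 259, nat_lit 74, nat_lit 37, nat_lit 185, nat_lit 37, nat_lit 296, nat_lit 222, nat_lit 185, nat_lit 222])
(.leaf 463 9 [nat_lit 296, nat_lit 259, nat_lit 0, nat_lit 111, nat_lit 0, nat_lit 259, nat_lit 296, nat_lit 185, nat_lit 0, nat_lit 259, nat_lit 111, nat_lit 259, nat_lit 0]))))
(.node (nat_lit 107) (.node (nat_lit 105) (.leaf 507 1 [nat_lit 148, nat_lit 74, nat_lit 296, nat_lit 148, nat_lit 296, nat_lit 259, nat_lit 74, nat_lit 185, nat_lit 0, nat_lit 111, nat_lit 259, nat_lit 111, nat_lit 37, nat_lit 0])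
(.node (nat_lit 106) (.leaf 545 4 [nat_lit 111, nat_lit 185, nat_lit 37, nat_lit 296, nat_lit 37, nat_lit 74, nat_lit 0, nat_lit 37, nat_lit 111, nat_lit 0, nat_lit 37, nat_lit 0, nat_lit 296, nat_lit 37, nat_lit 74])
(.leaf 485 9 [nat_lit 148, nat_lit 185, nat_lit 148, nat_lit 259, nat_lit 111, nat_lit 259, nat_lit 148, nat_lit 185, nat_lit 148, nat_lit 185, nat_lit 259, nat_lit 111, nat_lit 259])))
(.node (nat_lit 109) (.node (nat_lit 108) (.leaf 405 3 [nat_lit 296, nat_lit 74, nat_lit 259, nat_lit 37, nat_lit 296, nat_lit 185, nat_lit 296, nat_lit 74, nat_lit 37, nat_lit 259, nat_lit 296])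
(.leaf 563 7 [nat_lit 259, nat_lit 148, nat_lit 185, nat_lit 0, nat_lit 148, nat_lit 74, nat_lit 111, nat_lit 74, nat_lit 0, nat_lit 185, nat_lit 74, nat_lit 111, nat_lit 74, nat_lit 148, nat_lit 259]))
(.node (nat_lit 110) (.leaf 593 10 [nat_lit 296, nat_lit 37, nat_lit 74, nat_lit 185, nat_lit 0, nat_lit 37, nat_lit 0, nat_lit 222, nat_lit 0, nat_lit 296, nat_lit 37, nat_lit 0, nat_lit 259, nat_lit 185, nat_lit 296, nat_lit 222])
(.leaf 563 10 [nat_lit 0, nat_lit 148, nat_lit 74, nat_lit 111, nat_lit 74, nat_lit 0, nat_lit 185, nat_lit 74, nat_lit 111, nat_lit 74, nat_lit 148, nat_lit 259, nat_lit 185, nat_lit 259, nat_lit 148]))))))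
(.node (nat_lit 130) (.node (nat_lit 120) (.node (nat_lit 115) (.node (nat_lit 113) (.node (nat_lit 112) (.leaf 435 6 [nat_lit 37, nat_lit 74, nat_lit 296, nat_lit 222, nat_lit 0, nat_lit 222, nat_lit 0, nat_lit 296, nat_lit 185, nat_lit 259, nat_lit 74, nat_lit 37])
(.leaf 325 3 [nat_lit 37, nat_lit 259, nat_lit 37, nat_lit 185, nat_lit 148, nat_lit 0, nat_lit 148, nat_lit 0, nat_lit 148, nat_lit 259]))
(.node (nat_lit 114) (.leaf 501 4 [nat_lit 74, nat_lit 259, nat_lit 185, nat_lit 74, nat_lit 0, nat_lit 74, nat_lit 0, nat_lit 259, nat_lit 74, nat_lit 37, nat_lit 0, nat_lit 185, nat_lit 37, nat_lit 0])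
(.leaf 165 4 [nat_lit 222, nat_lit 0, nat_lit 185, nat_lit 259, nat_lit 185, nat_lit 0, nat_lit 222, nat_lit 185, nat_lit 259])))
(.node (nat_lit 117) (.node (nat_lit 116) (.leaf 511 3 [nat_lit 0, nat_lit 74, nat_lit 111, nat_lit 74, nat_lit 148, nat_lit 0, nat_lit 74, nat_lit 0, nat_lit 148, nat_lit 185, nat_lit 37, nat_lit 0, nat_lit 111, nat_lit 37])
(.leaf 315 6 [nat_lit 259, nat_lit 111, nat_lit 148, nat_lit 111, nat_lit 0, nat_lit 148, nat_lit 0, nat_lit 148, nat_lit 185, nat_lit 259]))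
(.node (nat_lit 118) (.leaf 163 7 [nat_lit 0, nat_lit 185, nat_lit 0, nat_lit 259, nat_lit 185, nat_lit 0, nat_lit 185, nat_lit 259, nat_lit 0])
(.node (nat_lit 119) (.leaf 495 5 [nat_lit 296, nat_lit 259, nat_lit 185, nat_lit 296, nat_lit 185, nat_lit 296, nat_lit 74, nat_lit 0, nat_lit 37, nat_lit 0, nat_lit 296, nat_lit 37, nat_lit 296, nat_lit 0])
(.leaf 623 2 [nat_lit 148, nat_lit 74, nat_lit 148, nat_lit 185, nat_lit 37, nat_lit 111, nat_lit 74, nat_lit 111, nat_lit 74, nat_lit 0, nat_lit 111, nat_lit 185, nat_lit 37, nat_lit 0, nat_lit 37, nat_lit 0, nat_lit 111])))))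
(.node (nat_lit 125) (.node (nat_lit 122) (.node (nat_lit 121) (.leaf 551 9 [nat_lit 111, nat_lit 185, nat_lit 148, nat_lit 111, nat_lit 74, nat_lit 37, nat_lit 0, nat_lit 259, nat_lit 111, nat_lit 0, nat_lit 111, nat_lit 37, nat_lit 259, nat_lit 74, nat_lit 148])
(.leaf 573 1 [nat_lit 0, nat_lit 148, nat_lit 37, nat_lit 185, nat_lit 0, nat_lit 185, nat_lit 37, nat_lit 148, nat_lit 185, nat_lit 148, nat_lit 0, nat_lit 185, nat_lit 148, nat_lit 111, nat_lit 0]))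
(.node (nat_lit 123) (.leaf 165 9 [nat_lit 0, nat_lit 222, nat_lit 185, nat_lit 259, nat_lit 185, nat_lit 222, nat_lit 0, nat_lit 185, nat_lit 259])
(.node (nat_lit 124) (.leaf 535 5 [nat_lit 222, nat_lit 185, nat_lit 148, nat_lit 185, nat_lit 111, nat_lit 185, nat_lit 74, nat_lit 111, nat_lit 74, nat_lit 37, nat_lit 111, nat_lit 37, nat_lit 148, nat_lit 222])
(.leaf 451 9 [nat_lit 0, nat_lit 74, nat_lit 37, nat_lit 74, nat_lit 0, nat_lit 222, nat_lit 259, nat_lit 185, nat_lit 222, nat_lit 74, nat_lit 259, nat_lit 0, nat_lit 74]))))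
(.node (nat_lit 127) (.node (nat_lit 126) (.leaf 443 10 [nat_lit 0, nat_lit 111, nat_lit 37, nat_lit 0, nat_lit 185, nat_lit 74, nat_lit 259, nat_lit 148, nat_lit 74, nat_lit 148, nat_lit 259, nat_lit 0, nat_lit 111])
(.leaf 593 7 [nat_lit 296, nat_lit 222, nat_lit 185, nat_lit 296, nat_lit 37, nat_lit 74, nat_lit 185, nat_lit 0, nat_lit 37, nat_lit 0, nat_lit 222, nat_lit 0, nat_lit 296, nat_lit 37, nat_lit 0, nat_lit 259]))
(.node (nat_lit 128) (.leaf 559 10 [nat_lit 148, nat_lit 74, nat_lit 111, nat_lit 222, nat_lit 37, nat_lit 0, nat_lit 74, nat_lit 185, nat_lit 222, nat_lit 0, nat_lit 148, nat_lit 185, nat_lit 37, nat_lit 148, nat_lit 111])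
(.node (nat_lit 129) (.leaf 629 7 [nat_lit 37, nat_lit 148, nat_lit 259, nat_lit 37, nat_lit 185, nat_lit 259, nat_lit 37, nat_lit 74, nat_lit 148, nat_lit 37, nat_lit 0, nat_lit 111, nat_lit 185, nat_lit 111, nat_lit 148, nat_lit 37, nat_lit 148])
(.leaf 375 1 [nat_lit 37, nat_lit 74, nat_lit 37, nat_lit 0, nat_lit 37, nat_lit 74, nat_lit 37, nat_lit 185, nat_lit 0, nat_lit 37, nat_lit 0]))))))
(.node (nat_lit 141) (.node (nat_lit 135) (.node (nat_lit 132) (.node (nat_lit 131) (.leaf 631 11 [nat_lit 0, nat_lit 222, nat_lit 148, nat_lit 0, nat_lit 222, nat_lit 37, nat_lit 0, nat_lit 185, nat_lit 222, nat_lit 148, nat_lit 185, nat_lit 148, nat_lit 0, nat_lit 74, nat_lit 148, nat_lit 37, nat_lit 222])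
(.leaf 299 9 [nat_lit 74, nat_lit 0, nat_lit 222, nat_lit 296, nat_lit 0, nat_lit 296, nat_lit 259, nat_lit 74, nat_lit 185, nat_lit 222]))
(.node (nat_lit 133) (.leaf 455 2 [nat_lit 0, nat_lit 148, nat_lit 0, nat_lit 111, nat_lit 37, nat_lit 111, nat_lit 0, nat_lit 148, nat_lit 0, nat_lit 185, nat_lit 74, nat_lit 0, nat_lit 74])
(.node (nat_lit 134) (.leaf 515 9 [nat_lit 296, nat_lit 259, nat_lit 185, nat_lit 222, nat_lit 37, nat_lit 0, nat_lit 37, nat_lit 296, nat_lit 222, nat_lit 37, nat_lit 0, nat_lit 74, nat_lit 185, nat_lit 296])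
(.leaf 489 9 [nat_lit 0, nat_lit 111, nat_lit 37, nat_lit 0, nat_lit 37, nat_lit 0, nat_lit 148, nat_lit 0, nat_lit 111, nat_lit 0, nat_lit 148, nat_lit 37, nat_lit 185, nat_lit 111]))))
(.node (nat_lit 138) (.node (nat_lit 136) (.leaf 393 7 [nat_lit 0, nat_lit 111, nat_lit 259, nat_lit 111, nat_lit 0, nat_lit 185, nat_lit 111, nat_lit 185, nat_lit 259, nat_lit 185, nat_lit 111])
(.node (nat_lit 137) (.leaf 561 12 [nat_lit 296, nat_lit 37, nat_lit 74, nat_lit 0, nat_lit 222, nat_lit 0, nat_lit 185, nat_lit 37, nat_lit 74, nat_lit 185, nat_lit 296, nat_lit 185, nat_lit 0, nat_lit 222, nat_lit 0])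
(.leaf 453 7 [nat_lit 0, nat_lit 74, nat_lit 148, nat_lit 0, nat_lit 148, nat_lit 74, nat_lit 0, nat_lit 185, nat_lit 148, nat_lit 185, nat_lit 37, nat_lit 185, nat_lit 148])))
(.node (nat_lit 139) (.leaf 443 1 [nat_lit 74, nat_lit 259, nat_lit 148, nat_lit 74, nat_lit 148, nat_lit 259, nat_lit 0, nat_lit 111, nat_lit 185, nat_lit 0, nat_lit 111, nat_lit 37, nat_lit 0])
(.node (nat_lit 140) (.leaf 433 2 [nat_lit 222, nat_lit 185, nat_lit 0, nat_lit 148, nat_lit 222, nat_lit 111, nat_lit 222, nat_lit 111, nat_lit 222, nat_lit 148, nat_lit 0, nat_lit 222])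
(.leaf 485 3 [nat_lit 148, nat_lit 185, nat_lit 259, nat_lit 111, nat_lit 259, nat_lit 185, nat_lit 148, nat_lit 185, nat_lit 148, nat_lit 259, nat_lit 111, nat_lit 259, nat_lit 148])))))
(.node (nat_lit 146) (.node (nat_lit 143) (.node (nat_lit 142) (.leaf 365 10 [nat_lit 74, nat_lit 259, nat_lit 74, nat_lit 296, nat_lit 74, nat_lit 259, nat_lit 74, nat_lit 296, nat_lit 185, nat_lit 259])
(.leaf 163 2 [nat_lit 0, nat_lit 185, nat_lit 259, nat_lit 0, nat_lit 185, nat_lit 0, nat_lit 185, nat_lit 0, nat_lit 259]))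
(.node (nat_lit 144) (.leaf 609 15 [nat_lit 74, nat_lit 0, nat_lit 148, nat_lit 111, nat_lit 37, nat_lit 74, nat_lit 259, nat_lit 185, nat_lit 259, nat_lit 37, nat_lit 148, nat_lit 185, nat_lit 74, nat_lit 185, nat_lit 37, nat_lit 148])
(.node (nat_lit 145) (.leaf 535 9 [nat_lit 111, nat_lit 185, nat_lit 74, nat_lit 111, nat_lit 74, nat_lit 37, nat_lit 111, nat_lit 37, nat_lit 148, nat_lit 222, nat_lit 185, nat_lit 222, nat_lit 185, nat_lit 148])
(.leaf 387 9 [nat_lit 0, nat_lit 111, nat_lit 0, nat_lit 185, nat_lit 111, nat_lit 185, nat_lit 0, nat_lit 111, nat_lit 0, nat_lit 185, nat_lit 111]))))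
(.node (nat_lit 149) (.node (nat_lit 147) (.leaf 557 1 [nat_lit 74, nat_lit 0, nat_lit 74, nat_lit 111, nat_lit 74, nat_lit 259, nat_lit 74, nat_lit 185, nat_lit 0, nat_lit 74, nat_lit 259, nat_lit 74, nat_lit 111, nat_lit 37, nat_lit 0])
(.node (nat_lit 148) (.leaf 573 13 [nat_lit 148, nat_lit 111, nat_lit 0, nat_lit 185, nat_lit 0, nat_lit 148, nat_lit 37, nat_lit 185, nat_lit 0, nat_lit 185, nat_lit 37, nat_lit 148, nat_lit 185, nat_lit 148, nat_lit 0])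
(.leaf 599 3 [nat_lit 148, nat_lit 0, nat_lit 148, nat_lit 222, nat_lit 74, nat_lit 185, nat_lit 222, nat_lit 148, nat_lit 222, nat_lit 185, nat_lit 222, nat_lit 111, nat_lit 37, nat_lit 0, nat_lit 148, nat_lit 0])))
(.node (nat_lit 150) (.leaf 595 1 [nat_lit 148, nat_lit 74, nat_lit 185, nat_lit 37, nat_lit 148, nat_lit 185, nat_lit 148, nat_lit 185, nat_lit 111, nat_lit 74, nat_lit 0, nat_lit 185, nat_lit 111, nat_lit 74, nat_lit 37, nat_lit 0])
(.node (nat_lit 151) (.leaf 603 14 [nat_lit 148, nat_lit 37, nat_lit 0, nat_lit 37, nat_lit 259, nat_lit 148, nat_lit 185, nat_lit 37, nat_lit 259, nat_lit 0, nat_lit 148, nat_lit 185, nat_lit 148, nat_lit 259, nat_lit 0, nat_lit 37])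
(.leaf 631 1 [nat_lit 222, nat_lit 148, nat_lit 185, nat_lit 148, nat_lit 0, nat_lit 74, nat_lit 148, nat_lit 37, nat_lit 222, nat_lit 185, nat_lit 0, nat_lit 222, nat_lit 148, nat_lit 0, nat_lit 222, nat_lit 37, nat_lit 0]))))))))
(.node (nat_lit 216) (.node (nat_lit 179) (.node (nat_lit 165) (.node (nat_lit 158) (.node (nat_lit 155) (.node (nat_lit 153) (.leaf 323 3 [nat_lit 0, nat_lit 259, nat_lit 0, nat_lit 185, nat_lit 148, nat_lit 0, nat_lit 148, nat_lit 0, nat_lit 148, nat_lit 259])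
(.node (nat_lit 154) (.leaf 621 4 [nat_lit 37, nat_lit 185, nat_lit 259, nat_lit 37, nat_lit 74, nat_lit 259, nat_lit 148, nat_lit 259, nat_lit 74, nat_lit 259, nat_lit 148, nat_lit 74, nat_lit 37, nat_lit 74, nat_lit 185, nat_lit 37])
(.leaf 283 7 [nat_lit 222, nat_lit 185, nat_lit 37, nat_lit 0, nat_lit 222, nat_lit 296, nat_lit 0, nat_lit 296, nat_lit 259, nat_lit 37])))
(.node (nat_lit 156) (.leaf 501 7 [nat_lit 74, nat_lit 0, nat_lit 74, nat_lit 0, nat_lit 259, nat_lit 74, nat_lit 37, nat_lit 0, nat_lit 185, nat_lit 37, nat_lit 0, nat_lit 185, nat_lit 74, nat_lit 259])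
(.node (nat_lit 157) (.leaf 433 4 [nat_lit 0, nat_lit 148, nat_lit 222, nat_lit 111, nat_lit 222, nat_lit 111, nat_lit 222, nat_lit 148, nat_lit 0, nat_lit 222, nat_lit 185, nat_lit 222])
(.leaf 307 7 [nat_lit 259, nat_lit 185, nat_lit 74, nat_lit 0, nat_lit 74, nat_lit 296, nat_lit 74, nat_lit 0, nat_lit 74, nat_lit 296]))))
(.node (nat_lit 161) (.node (nat_lit 159) (.leaf 271 5 [nat_lit 296, nat_lit 259, nat_lit 185, nat_lit 259, nat_lit 185, nat_lit 259, nat_lit 296, nat_lit 185, nat_lit 259])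
(.node (nat_lit 160) (.leaf 573 10 [nat_lit 148, nat_lit 0, nat_lit 185, nat_lit 148, nat_lit 111, nat_lit 0, nat_lit 185, nat_lit 0, nat_lit 148, nat_lit 37, nat_lit 185, nat_lit 0, nat_lit 185, nat_lit 37, nat_lit 148])
(.leaf 493 4 [nat_lit 259, nat_lit 296, nat_lit 185, nat_lit 296, nat_lit 259, nat_lit 185, nat_lit 259, nat_lit 74, nat_lit 0, nat_lit 37, nat_lit 0, nat_lit 296, nat_lit 37, nat_lit 0])))
(.node (nat_lit 163) (.node (nat_lit 162) (.leaf 163 4 [nat_lit 259, nat_lit 0, nat_lit 185, nat_lit 0, nat_lit 185, nat_lit 0, nat_lit 259, nat_lit 185, nat_lit 0])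
(.leaf 577 7 [nat_lit 222, nat_lit 148, nat_lit 37, nat_lit 74, nat_lit 37, nat_lit 185, nat_lit 0, nat_lit 148, nat_lit 0, nat_lit 185, nat_lit 37, nat_lit 74, nat_lit 37, nat_lit 148, nat_lit 222]))
(.node (nat_lit 164) (.leaf 495 8 [nat_lit 296, nat_lit 185, nat_lit 296, nat_lit 74, nat_lit 0, nat_lit 37, nat_lit 0, nat_lit 296, nat_lit 37, nat_lit 296, nat_lit 0, nat_lit 185, nat_lit 296, nat_lit 259])
(.leaf 619 12 [nat_lit 222, nat_lit 74, nat_lit 111, nat_lit 74, nat_lit 37, nat_lit 185, nat_lit 37, nat_lit 185, nat_lit 148, nat_lit 259, nat_lit 74, nat_lit 259, nat_lit 148, nat_lit 111, nat_lit 222, nat_lit 74])))))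
(.node (nat_lit 172) (.node (nat_lit 168) (.node (nat_lit 166) (.leaf 359 9 [nat_lit 111, nat_lit 74, nat_lit 296, nat_lit 74, nat_lit 111, nat_lit 259, nat_lit 296, nat_lit 259, nat_lit 185, nat_lit 259])
(.node (nat_lit 167) (.leaf 523 12 [nat_lit 37, nat_lit 74, nat_lit 0, nat_lit 74, nat_lit 185, nat_lit 0, nat_lit 185, nat_lit 148, nat_lit 296, nat_lit 0, nat_lit 296, nat_lit 259, nat_lit 148, nat_lit 74])
(.leaf 289 9 [nat_lit 37, nat_lit 0, nat_lit 222, nat_lit 0, nat_lit 296, nat_lit 259, nat_lit 296, nat_lit 37, nat_lit 185, nat_lit 222])))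
(.node (nat_lit 170) (.node (nat_lit 169) (.leaf 581 7 [nat_lit 222, nat_lit 37, nat_lit 185, nat_lit 296, nat_lit 111, nat_lit 185, nat_lit 37, nat_lit 185, nat_lit 37, nat_lit 185, nat_lit 111, nat_lit 296, nat_lit 185, nat_lit 222, nat_lit 37])
(.leaf 317 2 [nat_lit 259, nat_lit 185, nat_lit 0, nat_lit 148, nat_lit 0, nat_lit 148, nat_lit 0, nat_lit 148, nat_lit 0, nat_lit 259]))
(.node (nat_lit 171) (.leaf 591 13 [nat_lit 148, nat_lit 0, nat_lit 37, nat_lit 0, nat_lit 185, nat_lit 74, nat_lit 0, nat_lit 148, nat_lit 185, nat_lit 148, nat_lit 0, nat_lit 37, nat_lit 0, nat_lit 185, nat_lit 74, nat_lit 0])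
(.leaf 559 6 [nat_lit 37, nat_lit 148, nat_lit 111, nat_lit 185, nat_lit 148, nat_lit 74, nat_lit 111, nat_lit 222, nat_lit 37, nat_lit 0, nat_lit 74, nat_lit 185, nat_lit 222, nat_lit 0, nat_lit 148]))))
(.node (nat_lit 175) (.node (nat_lit 173) (.leaf 533 2 [nat_lit 37, nat_lit 111, nat_lit 296, nat_lit 74, nat_lit 259, nat_lit 296, nat_lit 111, nat_lit 185, nat_lit 37, nat_lit 296, nat_lit 37, nat_lit 74, nat_lit 37, nat_lit 296])
(.node (nat_lit 174) (.leaf 555 3 [nat_lit 37, nat_lit 74, nat_lit 185, nat_lit 0, nat_lit 148, nat_lit 222, nat_lit 0, nat_lit 222, nat_lit 148, nat_lit 74, nat_lit 111, nat_lit 37, nat_lit 0, nat_lit 74, nat_lit 0])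
(.leaf 603 9 [nat_lit 148, nat_lit 259, nat_lit 0, nat_lit 37, nat_lit 185, nat_lit 148, nat_lit 37, nat_lit 0, nat_lit 37, nat_lit 259, nat_lit 148, nat_lit 185, nat_lit 37, nat_lit 259, nat_lit 0, nat_lit 148])))
(.node (nat_lit 177) (.node (nat_lit 176) (.leaf 461 11 [nat_lit 0, nat_lit 111, nat_lit 0, nat_lit 259, nat_lit 185, nat_lit 296, nat_lit 74, nat_lit 296, nat_lit 185, nat_lit 259, nat_lit 185, nat_lit 74, nat_lit 111])
(.leaf 515 12 [nat_lit 222, nat_lit 37, nat_lit 0, nat_lit 37, nat_lit 296, nat_lit 222, nat_lit 37, nat_lit 0, nat_lit 74, nat_lit 185, nat_lit 296, nat_lit 185, nat_lit 296, nat_lit 259]))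
(.node (nat_lit 178) (.leaf 513 13 [nat_lit 37, nat_lit 0, nat_lit 259, nat_lit 111, nat_lit 74, nat_lit 259, nat_lit 111, nat_lit 185, nat_lit 74, nat_lit 37, nat_lit 296, nat_lit 148, nat_lit 296, nat_lit 148])
(.leaf 311 3 [nat_lit 259, nat_lit 185, nat_lit 111, nat_lit 74, nat_lit 296, nat_lit 74, nat_lit 111, nat_lit 0, nat_lit 296, nat_lit 0]))))))
(.node (nat_lit 196) (.node (nat_lit 187) (.node (nat_lit 183) (.node (nat_lit 181) (.node (nat_lit 180) (.leaf 517 4 [nat_lit 296, nat_lit 37, nat_lit 0, nat_lit 259, nat_lit 74, nat_lit 259, nat_lit 185, nat_lit 0, nat_lit 296, nat_lit 37, nat_lit 0, nat_lit 185, nat_lit 259, nat_lit 296])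
(.leaf 611 6 [nat_lit 111, nat_lit 259, nat_lit 111, nat_lit 185, nat_lit 222, nat_lit 74, nat_lit 185, nat_lit 222, nat_lit 185, nat_lit 74, nat_lit 0, nat_lit 148, nat_lit 259, nat_lit 148, nat_lit 259, nat_lit 148]))
(.node (nat_lit 182) (.leaf 565 3 [nat_lit 0, nat_lit 111, nat_lit 37, nat_lit 111, nat_lit 185, nat_lit 148, nat_lit 37, nat_lit 74, nat_lit 111, nat_lit 37, nat_lit 148, nat_lit 74, nat_lit 0, nat_lit 185, nat_lit 37])
(.leaf 275 0 [nat_lit 259, nat_lit 296, nat_lit 222, nat_lit 296, nat_lit 185, nat_lit 296, nat_lit 222, nat_lit 296, nat_lit 259])))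
(.node (nat_lit 185) (.node (nat_lit 184) (.leaf 451 3 [nat_lit 222, nat_lit 74, nat_lit 259, nat_lit 0, nat_lit 74, nat_lit 185, nat_lit 0, nat_lit 74, nat_lit 37, nat_lit 74, nat_lit 0, nat_lit 222, nat_lit 259])
(.leaf 631 4 [nat_lit 148, nat_lit 0, nat_lit 74, nat_lit 148, nat_lit 37, nat_lit 222, nat_lit 185, nat_lit 0, nat_lit 222, nat_lit 148, nat_lit 0, nat_lit 222, nat_lit 37, nat_lit 0, nat_lit 185, nat_lit 222, nat_lit 148]))
(.node (nat_lit 186) (.leaf 535 11 [nat_lit 74, nat_lit 111, nat_lit 74, nat_lit 37, nat_lit 111, nat_lit 37, nat_lit 148, nat_lit 222, nat_lit 185, nat_lit 222, nat_lit 185, nat_lit 148, nat_lit 185, nat_lit 111])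
(.leaf 565 1 [nat_lit 37, nat_lit 185, nat_lit 0, nat_lit 111, nat_lit 37, nat_lit 111, nat_lit 185, nat_lit 148, nat_lit 37, nat_lit 74, nat_lit 111, nat_lit 37, nat_lit 148, nat_lit 74, nat_lit 0]))))
(.node (nat_lit 191) (.node (nat_lit 189) (.node (nat_lit 188) (.leaf 561 8 [nat_lit 0, nat_lit 222, nat_lit 0, nat_lit 185, nat_lit 296, nat_lit 37, nat_lit 74, nat_lit 0, nat_lit 222, nat_lit 0, nat_lit 185, nat_lit 37, nat_lit 74, nat_lit 185, nat_lit 296])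
(.leaf 527 12 [nat_lit 74, nat_lit 111, nat_lit 0, nat_lit 148, nat_lit 37, nat_lit 148, nat_lit 185, nat_lit 74, nat_lit 148, nat_lit 185, nat_lit 148, nat_lit 111, nat_lit 74, nat_lit 111]))
(.node (nat_lit 190) (.leaf 435 2 [nat_lit 259, nat_lit 74, nat_lit 37, nat_lit 185, nat_lit 37, nat_lit 74, nat_lit 296, nat_lit 222, nat_lit 0, nat_lit 222, nat_lit 0, nat_lit 296])
(.leaf 511 13 [nat_lit 37, nat_lit 0, nat_lit 111, nat_lit 37, nat_lit 185, nat_lit 0, nat_lit 74, nat_lit 111, nat_lit 74, nat_lit 148, nat_lit 0, nat_lit 74, nat_lit 0, nat_lit 148])))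
(.node (nat_lit 193) (.node (nat_lit 192) (.leaf 599 13 [nat_lit 222, nat_lit 111, nat_lit 37, nat_lit 0, nat_lit 148, nat_lit 0, nat_lit 185, nat_lit 148, nat_lit 0, nat_lit 148, nat_lit 222, nat_lit 74, nat_lit 185, nat_lit 222, nat_lit 148, nat_lit 222])
(.leaf 625 6 [nat_lit 259, nat_lit 111, nat_lit 185, nat_lit 37, nat_lit 148, nat_lit 0, nat_lit 148, nat_lit 74, nat_lit 111, nat_lit 74, nat_lit 37, nat_lit 0, nat_lit 148, nat_lit 37, nat_lit 111, nat_lit 37, nat_lit 259]))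
(.node (nat_lit 194) (.leaf 335 5 [nat_lit 296, nat_lit 259, nat_lit 148, nat_lit 0, nat_lit 148, nat_lit 0, nat_lit 148, nat_lit 296, nat_lit 185, nat_lit 259])
(.node (nat_lit 195) (.leaf 595 4 [nat_lit 37, nat_lit 148, nat_lit 185, nat_lit 148, nat_lit 185, nat_lit 111, nat_lit 74, nat_lit 0, nat_lit 185, nat_lit 111, nat_lit 74, nat_lit 37, nat_lit 0, nat_lit 185, nat_lit 148, nat_lit 74])
(.leaf 573 5 [nat_lit 0, nat_lit 185, nat_lit 37, nat_lit 148, nat_lit 185, nat_lit 148, nat_lit 0, nat_lit 185, nat_lit 148, nat_lit 111, nat_lit 0, nat_lit 185, nat_lit 0, nat_lit 148, nat_lit 37]))))))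
(.node (nat_lit 206) (.node (nat_lit 201) (.node (nat_lit 198) (.node (nat_lit 197) (.leaf 589 1 [nat_lit 111, nat_lit 37, nat_lit 111, nat_lit 37, nat_lit 185, nat_lit 37, nat_lit 0, nat_lit 37, nat_lit 148, nat_lit 37, nat_lit 111, nat_lit 37, nat_lit 148, nat_lit 0, nat_lit 37, nat_lit 0])
(.leaf 345 5 [nat_lit 37, nat_lit 296, nat_lit 0, nat_lit 296, nat_lit 222, nat_lit 0, nat_lit 259, nat_lit 37, nat_lit 185, nat_lit 222]))
(.node (nat_lit 199) (.leaf 515 7 [nat_lit 296, nat_lit 185, nat_lit 296, nat_lit 259, nat_lit 185, nat_lit 222, nat_lit 37, nat_lit 0, nat_lit 37, nat_lit 296, nat_lit 222, nat_lit 37, nat_lit 0, nat_lit 74])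
(.node (nat_lit 200) (.leaf 557 9 [nat_lit 0, nat_lit 74, nat_lit 259, nat_lit 74, nat_lit 111, nat_lit 37, nat_lit 0, nat_lit 185, nat_lit 74, nat_lit 0, nat_lit 74, nat_lit 111, nat_lit 74, nat_lit 259, nat_lit 74])
(.leaf 591 10 [nat_lit 74, nat_lit 0, nat_lit 185, nat_lit 148, nat_lit 0, nat_lit 37, nat_lit 0, nat_lit 185, nat_lit 74, nat_lit 0, nat_lit 148, nat_lit 185, nat_lit 148, nat_lit 0, nat_lit 37, nat_lit 0]))))
(.node (nat_lit 203) (.node (nat_lit 202) (.leaf 591 5 [nat_lit 148, nat_lit 0, nat_lit 37, nat_lit 0, nat_lit 185, nat_lit 74, nat_lit 0, nat_lit 185, nat_lit 148, nat_lit 0, nat_lit 37, nat_lit 0, nat_lit 185, nat_lit 74, nat_lit 0, nat_lit 148])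
(.leaf 629 12 [nat_lit 259, nat_lit 37, nat_lit 74, nat_lit 148, nat_lit 37, nat_lit 0, nat_lit 111, nat_lit 185, nat_lit 111, nat_lit 148, nat_lit 37, nat_lit 148, nat_lit 185, nat_lit 37, nat_lit 148, nat_lit 259, nat_lit 37]))
(.node (nat_lit 204) (.leaf 167 9 [nat_lit 0, nat_lit 259, nat_lit 185, nat_lit 259, nat_lit 185, nat_lit 259, nat_lit 0, nat_lit 185, nat_lit 259])
(.node (nat_lit 205) (.leaf 549 6 [nat_lit 259, nat_lit 148, nat_lit 185, nat_lit 148, nat_lit 37, nat_lit 185, nat_lit 148, nat_lit 0, nat_lit 37, nat_lit 0, nat_lit 185, nat_lit 296, nat_lit 74, nat_lit 296, nat_lit 259])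
(.leaf 513 6 [nat_lit 74, nat_lit 37, nat_lit 296, nat_lit 148, nat_lit 296, nat_lit 148, nat_lit 185, nat_lit 37, nat_lit 0, nat_lit 259, nat_lit 111, nat_lit 74, nat_lit 259, nat_lit 111])))))
(.node (nat_lit 211) (.node (nat_lit 208) (.node (nat_lit 207) (.leaf 533 10 [nat_lit 37, nat_lit 296, nat_lit 37, nat_lit 74, nat_lit 37, nat_lit 296, nat_lit 185, nat_lit 37, nat_lit 111, nat_lit 296, nat_lit 74, nat_lit 259, nat_lit 296, nat_lit 111])
(.leaf 495 10 [nat_lit 296, nat_lit 74, nat_lit 0, nat_lit 37, nat_lit 0, nat_lit 296, nat_lit 37, nat_lit 296, nat_lit 0, nat_lit 185, nat_lit 296, nat_lit 259, nat_lit 185, nat_lit 296]))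
(.node (nat_lit 209) (.leaf 629 2 [nat_lit 111, nat_lit 148, nat_lit 37, nat_lit 148, nat_lit 185, nat_lit 37, nat_lit 148, nat_lit 259, nat_lit 37, nat_lit 185, nat_lit 259, nat_lit 37, nat_lit 74, nat_lit 148, nat_lit 37, nat_lit 0, nat_lit 111])
(.node (nat_lit 210) (.leaf 485 5 [nat_lit 259, nat_lit 111, nat_lit 259, nat_lit 185, nat_lit 148, nat_lit 185, nat_lit 148, nat_lit 259, nat_lit 111, nat_lit 259, nat_lit 148, nat_lit 185, nat_lit 148])
(.leaf 211 6 [nat_lit 259, nat_lit 222, nat_lit 74, nat_lit 37, nat_lit 185, nat_lit 259, nat_lit 74, nat_lit 37, nat_lit 222]))))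
(.node (nat_lit 213) (.node (nat_lit 212) (.leaf 255 1 [nat_lit 148, nat_lit 185, nat_lit 148, nat_lit 185, nat_lit 148, nat_lit 185, nat_lit 111, nat_lit 148, nat_lit 111])
(.leaf 529 7 [nat_lit 111, nat_lit 259, nat_lit 111, nat_lit 185, nat_lit 37, nat_lit 185, nat_lit 111, nat_lit 0, nat_lit 296, nat_lit 0, nat_lit 296, nat_lit 111, nat_lit 185, nat_lit 37]))
(.node (nat_lit 214) (.leaf 319 3 [nat_lit 0, nat_lit 259, nat_lit 148, nat_lit 0, nat_lit 148, nat_lit 0, nat_lit 148, nat_lit 0, nat_lit 185, nat_lit 259])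
(.node (nat_lit 215) (.leaf 393 3 [nat_lit 259, nat_lit 185, nat_lit 111, nat_lit 185, nat_lit 0, nat_lit 111, nat_lit 259, nat_lit 111, nat_lit 0, nat_lit 185, nat_lit 111])
(.leaf 579 2 [nat_lit 222, nat_lit 148, nat_lit 222, nat_lit 111, nat_lit 222, nat_lit 74, nat_lit 111, nat_lit 222, nat_lit 148, nat_lit 74, nat_lit 185, nat_lit 37, nat_lit 185, nat_lit 37, nat_lit 222]))))))))
(.node (nat_lit 264) (.node (nat_lit 238) (.node (nat_lit 227) (.node (nat_lit 221) (.node (nat_lit 218) (.node (nat_lit 217) (.leaf 565 8 [nat_lit 148, nat_lit 37, nat_lit 74, nat_lit 111, nat_lit 37, nat_lit 148, nat_lit 74, nat_lit 0, nat_lit 185, nat_lit 37, nat_lit 185, nat_lit 0, nat_lit 111, nat_lit 37, nat_lit 111])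
(.leaf 597 12 [nat_lit 74, nat_lit 37, nat_lit 111, nat_lit 37, nat_lit 0, nat_lit 259, nat_lit 74, nat_lit 111, nat_lit 148, nat_lit 222, nat_lit 0, nat_lit 222, nat_lit 148, nat_lit 185, nat_lit 259, nat_lit 111]))
(.node (nat_lit 219) (.leaf 555 6 [nat_lit 0, nat_lit 148, nat_lit 222, nat_lit 0, nat_lit 222, nat_lit 148, nat_lit 74, nat_lit 111, nat_lit 37, nat_lit 0, nat_lit 74, nat_lit 0, nat_lit 185, nat_lit 37, nat_lit 74])
(.node (nat_lit 220) (.leaf 563 1 [nat_lit 74, nat_lit 111, nat_lit 74, nat_lit 148, nat_lit 259, nat_lit 185, nat_lit 259, nat_lit 148, nat_lit 185, nat_lit 0, nat_lit 148, nat_lit 74, nat_lit 111, nat_lit 74, nat_lit 0])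
(.leaf 573 7 [nat_lit 37, nat_lit 148, nat_lit 185, nat_lit 148, nat_lit 0, nat_lit 185, nat_lit 148, nat_lit 111, nat_lit 0, nat_lit 185, nat_lit 0, nat_lit 148, nat_lit 37, nat_lit 185, nat_lit 0]))))
(.node (nat_lit 224) (.node (nat_lit 222) (.leaf 623 6 [nat_lit 37, nat_lit 111, nat_lit 74, nat_lit 111, nat_lit 74, nat_lit 0, nat_lit 111, nat_lit 185, nat_lit 37, nat_lit 0, nat_lit 37, nat_lit 0, nat_lit 111, nat_lit 185, nat_lit 148, nat_lit 74, nat_lit 148])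
(.node (nat_lit 223) (.leaf 517 11 [nat_lit 0, nat_lit 296, nat_lit 37, nat_lit 0, nat_lit 185, nat_lit 259, nat_lit 296, nat_lit 185, nat_lit 296, nat_lit 37, nat_lit 0, nat_lit 259, nat_lit 74, nat_lit 259])
(.leaf 167 4 [nat_lit 259, nat_lit 0, nat_lit 185, nat_lit 259, nat_lit 185, nat_lit 0, nat_lit 259, nat_lit 185, nat_lit 259])))
(.node (nat_lit 225) (.leaf 315 4 [nat_lit 259, nat_lit 185, nat_lit 259, nat_lit 111, nat_lit 148, nat_lit 111, nat_lit 0, nat_lit 148, nat_lit 0, nat_lit 148])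
(.node (nat_lit 226) (.leaf 583 5 [nat_lit 0, nat_lit 111, nat_lit 0, nat_lit 185, nat_lit 222, nat_lit 148, nat_lit 37, nat_lit 74, nat_lit 37, nat_lit 0, nat_lit 37, nat_lit 0, nat_lit 148, nat_lit 222, nat_lit 111, nat_lit 37])
(.leaf 627 7 [nat_lit 111, nat_lit 222, nat_lit 111, nat_lit 185, nat_lit 74, nat_lit 111, nat_lit 222, nat_lit 148, nat_lit 111, nat_lit 37, nat_lit 0, nat_lit 74, nat_lit 37, nat_lit 111, nat_lit 148, nat_lit 37, nat_lit 74])))))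
(.node (nat_lit 232) (.node (nat_lit 229) (.node (nat_lit 228) (.leaf 509 2 [nat_lit 259, nat_lit 111, nat_lit 0, nat_lit 148, nat_lit 185, nat_lit 37, nat_lit 148, nat_lit 185, nat_lit 74, nat_lit 111, nat_lit 148, nat_lit 37, nat_lit 0, nat_lit 259])
(.leaf 559 2 [nat_lit 222, nat_lit 0, nat_lit 148, nat_lit 185, nat_lit 37, nat_lit 148, nat_lit 111, nat_lit 185, nat_lit 148, nat_lit 74, nat_lit 111, nat_lit 222, nat_lit 37, nat_lit 0, nat_lit 74]))
(.node (nat_lit 230) (.leaf 473 1 [nat_lit 222, nat_lit 259, nat_lit 111, nat_lit 259, nat_lit 111, nat_lit 222, nat_lit 185, nat_lit 148, nat_lit 259, nat_lit 148, nat_lit 259, nat_lit 148, nat_lit 0])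
(.node (nat_lit 231) (.leaf 463 3 [nat_lit 0, nat_lit 259, nat_lit 111, nat_lit 259, nat_lit 0, nat_lit 185, nat_lit 296, nat_lit 259, nat_lit 0, nat_lit 111, nat_lit 0, nat_lit 259, nat_lit 296])
(.leaf 317 4 [nat_lit 0, nat_lit 148, nat_lit 0, nat_lit 148, nat_lit 0, nat_lit 148, nat_lit 0, nat_lit 259, nat_lit 185, nat_lit 259]))))
(.node (nat_lit 235) (.node (nat_lit 233) (.leaf 395 7 [nat_lit 259, nat_lit 185, nat_lit 0, nat_lit 148, nat_lit 0, nat_lit 259, nat_lit 185, nat_lit 259, nat_lit 185, nat_lit 148, nat_lit 259])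
(.node (nat_lit 234) (.leaf 167 2 [nat_lit 259, nat_lit 185, nat_lit 259, nat_lit 0, nat_lit 185, nat_lit 259, nat_lit 185, nat_lit 0, nat_lit 259])
(.leaf 609 6 [nat_lit 259, nat_lit 37, nat_lit 148, nat_lit 185, nat_lit 74, nat_lit 185, nat_lit 37, nat_lit 148, nat_lit 185, nat_lit 74, nat_lit 0, nat_lit 148, nat_lit 111, nat_lit 37, nat_lit 74, nat_lit 259])))
(.node (nat_lit 236) (.leaf 265 8 [nat_lit 222, nat_lit 185, nat_lit 222, nat_lit 259, nat_lit 185, nat_lit 222, nat_lit 185, nat_lit 259, nat_lit 222])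
(.node (nat_lit 237) (.leaf 399 9 [nat_lit 222, nat_lit 185, nat_lit 0, nat_lit 222, nat_lit 111, nat_lit 185, nat_lit 222, nat_lit 185, nat_lit 0, nat_lit 222, nat_lit 111])
(.leaf 269 2 [nat_lit 222, nat_lit 296, nat_lit 185, nat_lit 259, nat_lit 185, nat_lit 296, nat_lit 222, nat_lit 185, nat_lit 259]))))))
(.node (nat_lit 250) (.node (nat_lit 244) (.node (nat_lit 241) (.node (nat_lit 239) (.leaf 625 9 [nat_lit 37, nat_lit 148, nat_lit 0, nat_lit 148, nat_lit 74, nat_lit 111, nat_lit 74, nat_lit 37, nat_lit 0, nat_lit 148, nat_lit 37, nat_lit 111, nat_lit 37, nat_lit 259, nat_lit 185, nat_lit 259, nat_lit 111])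
(.node (nat_lit 240) (.leaf 603 4 [nat_lit 37, nat_lit 259, nat_lit 0, nat_lit 148, nat_lit 185, nat_lit 148, nat_lit 259, nat_lit 0, nat_lit 37, nat_lit 185, nat_lit 148, nat_lit 37, nat_lit 0, nat_lit 37, nat_lit 259, nat_lit 148])
(.leaf 475 8 [nat_lit 222, nat_lit 111, nat_lit 185, nat_lit 111, nat_lit 74, nat_lit 37, nat_lit 111, nat_lit 37, nat_lit 111, nat_lit 222, nat_lit 296, nat_lit 74, nat_lit 296])))
(.node (nat_lit 242) (.leaf 477 1 [nat_lit 37, nat_lit 296, nat_lit 222, nat_lit 185, nat_lit 222, nat_lit 185, nat_lit 296, nat_lit 74, nat_lit 259, nat_lit 185, nat_lit 259, nat_lit 74, nat_lit 37])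
(.node (nat_lit 243) (.leaf 595 13 [nat_lit 111, nat_lit 74, nat_lit 37, nat_lit 0, nat_lit 185, nat_lit 148, nat_lit 74, nat_lit 185, nat_lit 37, nat_lit 148, nat_lit 185, nat_lit 148, nat_lit 185, nat_lit 111, nat_lit 74, nat_lit 0])
(.leaf 165 2 [nat_lit 259, nat_lit 185, nat_lit 222, nat_lit 0, nat_lit 185, nat_lit 259, nat_lit 185, nat_lit 0, nat_lit 222]))))
(.node (nat_lit 247) (.node (nat_lit 245) (.leaf 265 5 [nat_lit 259, nat_lit 222, nat_lit 185, nat_lit 222, nat_lit 185, nat_lit 222, nat_lit 259, nat_lit 185, nat_lit 222])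
(.node (nat_lit 246) (.leaf 507 9 [nat_lit 0, nat_lit 111, nat_lit 259, nat_lit 111, nat_lit 37, nat_lit 0, nat_lit 185, nat_lit 148, nat_lit 74, nat_lit 296, nat_lit 148, nat_lit 296, nat_lit 259, nat_lit 74])
(.leaf 169 7 [nat_lit 259, nat_lit 185, nat_lit 0, nat_lit 296, nat_lit 185, nat_lit 259, nat_lit 185, nat_lit 296, nat_lit 0])))
(.node (nat_lit 248) (.leaf 209 1 [nat_lit 259, nat_lit 74, nat_lit 222, nat_lit 37, nat_lit 185, nat_lit 259, nat_lit 222, nat_lit 74, nat_lit 37])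
(.node (nat_lit 249) (.leaf 361 8 [nat_lit 259, nat_lit 111, nat_lit 74, nat_lit 296, nat_lit 74, nat_lit 111, nat_lit 259, nat_lit 296, nat_lit 185, nat_lit 259])
(.leaf 581 10 [nat_lit 296, nat_lit 111, nat_lit 185, nat_lit 37, nat_lit 185, nat_lit 37, nat_lit 185, nat_lit 111, nat_lit 296, nat_lit 185, nat_lit 222, nat_lit 37, nat_lit 185, nat_lit 222, nat_lit 37])))))
(.node (nat_lit 257) (.node (nat_lit 253) (.node (nat_lit 251) (.leaf 265 3 [nat_lit 222, nat_lit 185, nat_lit 259, nat_lit 222, nat_lit 185, nat_lit 222, nat_lit 185, nat_lit 222, nat_lit 259])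
(.node (nat_lit 252) (.leaf 395 9 [nat_lit 0, nat_lit 148, nat_lit 0, nat_lit 259, nat_lit 185, nat_lit 259, nat_lit 185, nat_lit 148, nat_lit 259, nat_lit 185, nat_lit 259])
(.leaf 599 9 [nat_lit 222, nat_lit 148, nat_lit 222, nat_lit 185, nat_lit 222, nat_lit 111, nat_lit 37, nat_lit 0, nat_lit 148, nat_lit 0, nat_lit 185, nat_lit 148, nat_lit 0, nat_lit 148, nat_lit 222, nat_lit 74])))
(.node (nat_lit 255) (.node (nat_lit 254) (.leaf 209 6 [nat_lit 259, nat_lit 222, nat_lit 74, nat_lit 37, nat_lit 185, nat_lit 259, nat_lit 74, nat_lit 222, nat_lit 37])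
(.leaf 481 4 [nat_lit 222, nat_lit 37, nat_lit 296, nat_lit 37, nat_lit 296, nat_lit 111, nat_lit 185, nat_lit 296, nat_lit 111, nat_lit 37, nat_lit 296, nat_lit 37, nat_lit 222]))
(.node (nat_lit 256) (.leaf 169 2 [nat_lit 259, nat_lit 185, nat_lit 296, nat_lit 0, nat_lit 185, nat_lit 259, nat_lit 185, nat_lit 0, nat_lit 296])
(.leaf 261 9 [nat_lit 111, nat_lit 185, nat_lit 222, nat_lit 185, nat_lit 222, nat_lit 111, nat_lit 222, nat_lit 185, nat_lit 222]))))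
(.node (nat_lit 260) (.node (nat_lit 258) (.leaf 299 7 [nat_lit 222, nat_lit 185, nat_lit 74, nat_lit 0, nat_lit 222, nat_lit 296, nat_lit 0, nat_lit 296, nat_lit 259, nat_lit 74])
(.node (nat_lit 259) (.leaf 335 3 [nat_lit 259, nat_lit 185, nat_lit 296, nat_lit 259, nat_lit 148, nat_lit 0, nat_lit 148, nat_lit 0, nat_lit 148, nat_lit 296])
(.leaf 461 8 [nat_lit 74, nat_lit 111, nat_lit 185, nat_lit 0, nat_lit 111, nat_lit 0, nat_lit 259, nat_lit 185, nat_lit 296, nat_lit 74, nat_lit 296, nat_lit 185, nat_lit 259])))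
(.node (nat_lit 262) (.node (nat_lit 261) (.leaf 371 4 [nat_lit 111, nat_lit 37, nat_lit 0, nat_lit 37, nat_lit 111, nat_lit 0, nat_lit 37, nat_lit 0, nat_lit 222, nat_lit 185, nat_lit 222])
(.leaf 365 8 [nat_lit 259, nat_lit 185, nat_lit 74, nat_lit 259, nat_lit 74, nat_lit 296, nat_lit 74, nat_lit 259, nat_lit 74, nat_lit 296]))
(.node (nat_lit 263) (.leaf 595 7 [nat_lit 148, nat_lit 185, nat_lit 111, nat_lit 74, nat_lit 0, nat_lit 185, nat_lit 111, nat_lit 74, nat_lit 37, nat_lit 0, nat_lit 185, nat_lit 148, nat_lit 74, nat_lit 185, nat_lit 37, nat_lit 148])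
(.leaf 321 2 [nat_lit 259, nat_lit 185, nat_lit 37, nat_lit 259, nat_lit 37, nat_lit 148, nat_lit 0, nat_lit 148, nat_lit 0, nat_lit 148])))))))
(.node (nat_lit 297) (.node (nat_lit 279) (.node (nat_lit 271) (.node (nat_lit 267) (.node (nat_lit 265) (.leaf 549 1 [nat_lit 296, nat_lit 74, nat_lit 296, nat_lit 259, nat_lit 185, nat_lit 259, nat_lit 148, nat_lit 185, nat_lit 148, nat_lit 37, nat_lit 185, nat_lit 148, nat_lit 0, nat_lit 37, nat_lit 0])
(.node (nat_lit 266) (.leaf 367 10 [nat_lit 148, nat_lit 296, nat_lit 148, nat_lit 259, nat_lit 148, nat_lit 296, nat_lit 148, nat_lit 259, nat_lit 185, nat_lit 259])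
(.leaf 479 2 [nat_lit 259, nat_lit 296, nat_lit 74, nat_lit 222, nat_lit 37, nat_lit 296, nat_lit 259, nat_lit 222, nat_lit 185, nat_lit 296, nat_lit 74, nat_lit 37, nat_lit 296])))
(.node (nat_lit 269) (.node (nat_lit 268) (.leaf 285 9 [nat_lit 37, nat_lit 0, nat_lit 259, nat_lit 222, nat_lit 296, nat_lit 0, nat_lit 296, nat_lit 37, nat_lit 185, nat_lit 222])
(.leaf 581 1 [nat_lit 111, nat_lit 296, nat_lit 185, nat_lit 222, nat_lit 37, nat_lit 185, nat_lit 222, nat_lit 37, nat_lit 185, nat_lit 296, nat_lit 111, nat_lit 185, nat_lit 37, nat_lit 185, nat_lit 37]))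
(.node (nat_lit 270) (.leaf 313 5 [nat_lit 148, nat_lit 0, nat_lit 111, nat_lit 148, nat_lit 111, nat_lit 0, nat_lit 148, nat_lit 259, nat_lit 185, nat_lit 259])
(.leaf 285 7 [nat_lit 222, nat_lit 185, nat_lit 37, nat_lit 0, nat_lit 259, nat_lit 222, nat_lit 296, nat_lit 0, nat_lit 296, nat_lit 37]))))
(.node (nat_lit 275) (.node (nat_lit 273) (.node (nat_lit 272) (.leaf 265 0 [nat_lit 222, nat_lit 259, nat_lit 185, nat_lit 222, nat_lit 185, nat_lit 259, nat_lit 222, nat_lit 185, nat_lit 222])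
(.leaf 461 2 [nat_lit 296, nat_lit 74, nat_lit 296, nat_lit 185, nat_lit 259, nat_lit 185, nat_lit 74, nat_lit 111, nat_lit 185, nat_lit 0, nat_lit 111, nat_lit 0, nat_lit 259]))
(.node (nat_lit 274) (.leaf 571 7 [nat_lit 74, nat_lit 37, nat_lit 185, nat_lit 148, nat_lit 0, nat_lit 111, nat_lit 37, nat_lit 111, nat_lit 0, nat_lit 148, nat_lit 185, nat_lit 37, nat_lit 74, nat_lit 185, nat_lit 37])
(.leaf 571 10 [nat_lit 148, nat_lit 0, nat_lit 111, nat_lit 37, nat_lit 111, nat_lit 0, nat_lit 148, nat_lit 185, nat_lit 37, nat_lit 74, nat_lit 185, nat_lit 37, nat_lit 185, nat_lit 74, nat_lit 37])))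
(.node (nat_lit 277) (.node (nat_lit 276) (.leaf 309 2 [nat_lit 259, nat_lit 185, nat_lit 0, nat_lit 111, nat_lit 74, nat_lit 296, nat_lit 74, nat_lit 111, nat_lit 0, nat_lit 296])
(.leaf 291 7 [nat_lit 222, nat_lit 185, nat_lit 37, nat_lit 0, nat_lit 222, nat_lit 296, nat_lit 0, nat_lit 296, nat_lit 37, nat_lit 259]))
(.node (nat_lit 278) (.leaf 529 13 [nat_lit 111, nat_lit 0, nat_lit 296, nat_lit 0, nat_lit 296, nat_lit 111, nat_lit 185, nat_lit 37, nat_lit 185, nat_lit 111, nat_lit 259, nat_lit 111, nat_lit 185, nat_lit 37])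
(.leaf 395 2 [nat_lit 259, nat_lit 185, nat_lit 148, nat_lit 259, nat_lit 185, nat_lit 259, nat_lit 185, nat_lit 0, nat_lit 148, nat_lit 0, nat_lit 259])))))
(.node (nat_lit 288) (.node (nat_lit 283) (.node (nat_lit 281) (.node (nat_lit 280) (.leaf 595 9 [nat_lit 111, nat_lit 74, nat_lit 0, nat_lit 185, nat_lit 111, nat_lit 74, nat_lit 37, nat_lit 0, nat_lit 185, nat_lit 148, nat_lit 74, nat_lit 185, nat_lit 37, nat_lit 148, nat_lit 185, nat_lit 148])
(.leaf 301 9 [nat_lit 74, nat_lit 0, nat_lit 259, nat_lit 222, nat_lit 296, nat_lit 0, nat_lit 296, nat_lit 74, nat_lit 185, nat_lit 222]))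
(.node (nat_lit 282) (.leaf 343 1 [nat_lit 259, nat_lit 185, nat_lit 148, nat_lit 296, nat_lit 148, nat_lit 0, nat_lit 148, nat_lit 296, nat_lit 148, nat_lit 0])
(.leaf 211 1 [nat_lit 259, nat_lit 74, nat_lit 37, nat_lit 222, nat_lit 185, nat_lit 259, nat_lit 222, nat_lit 74, nat_lit 37])))
(.node (nat_lit 285) (.node (nat_lit 284) (.leaf 477 11 [nat_lit 259, nat_lit 74, nat_lit 37, nat_lit 185, nat_lit 37, nat_lit 296, nat_lit 222, nat_lit 185, nat_lit 222, nat_lit 185, nat_lit 296, nat_lit 74, nat_lit 259])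
(.leaf 267 2 [nat_lit 222, nat_lit 259, nat_lit 185, nat_lit 259, nat_lit 185, nat_lit 259, nat_lit 222, nat_lit 185, nat_lit 259]))
(.node (nat_lit 286) (.leaf 165 7 [nat_lit 259, nat_lit 185, nat_lit 0, nat_lit 222, nat_lit 185, nat_lit 259, nat_lit 185, nat_lit 222, nat_lit 0])
(.node (nat_lit 287) (.leaf 529 5 [nat_lit 37, nat_lit 185, nat_lit 111, nat_lit 259, nat_lit 111, nat_lit 185, nat_lit 37, nat_lit 185, nat_lit 111, nat_lit 0, nat_lit 296, nat_lit 0, nat_lit 296, nat_lit 111])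
(.leaf 271 0 [nat_lit 259, nat_lit 296, nat_lit 185, nat_lit 259, nat_lit 185, nat_lit 296, nat_lit 259, nat_lit 185, nat_lit 259])))))
(.node (nat_lit 292) (.node (nat_lit 290) (.node (nat_lit 289) (.leaf 293 6 [nat_lit 222, nat_lit 185, nat_lit 259, nat_lit 37, nat_lit 0, nat_lit 222, nat_lit 296, nat_lit 0, nat_lit 296, nat_lit 37])
(.leaf 331 4 [nat_lit 259, nat_lit 185, nat_lit 222, nat_lit 148, nat_lit 0, nat_lit 148, nat_lit 0, nat_lit 148, nat_lit 259, nat_lit 222]))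
(.node (nat_lit 291) (.leaf 623 14 [nat_lit 37, nat_lit 0, nat_lit 37, nat_lit 0, nat_lit 111, nat_lit 185, nat_lit 148, nat_lit 74, nat_lit 148, nat_lit 185, nat_lit 37, nat_lit 111, nat_lit 74, nat_lit 111, nat_lit 74, nat_lit 0, nat_lit 111])
(.leaf 529 11 [nat_lit 37, nat_lit 185, nat_lit 111, nat_lit 0, nat_lit 296, nat_lit 0, nat_lit 296, nat_lit 111, nat_lit 185, nat_lit 37, nat_lit 185, nat_lit 111, nat_lit 259, nat_lit 111])))
(.node (nat_lit 294) (.node (nat_lit 293) (.leaf 267 5 [nat_lit 259, nat_lit 185, nat_lit 259, nat_lit 222, nat_lit 185, nat_lit 259, nat_lit 185, nat_lit 222, nat_lit 259])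
(.leaf 579 13 [nat_lit 37, nat_lit 185, nat_lit 37, nat_lit 222, nat_lit 185, nat_lit 222, nat_lit 148, nat_lit 222, nat_lit 111, nat_lit 222, nat_lit 74, nat_lit 111, nat_lit 222, nat_lit 148, nat_lit 74]))
(.node (nat_lit 295) (.leaf 591 1 [nat_lit 74, nat_lit 0, nat_lit 148, nat_lit 185, nat_lit 148, nat_lit 0, nat_lit 37, nat_lit 0, nat_lit 185, nat_lit 74, nat_lit 0, nat_lit 185, nat_lit 148, nat_lit 0, nat_lit 37, nat_lit 0])
(.node (nat_lit 296) (.leaf 293 8 [nat_lit 259, nat_lit 37, nat_lit 0, nat_lit 222, nat_lit 296, nat_lit 0, nat_lit 296, nat_lit 37, nat_lit 185, nat_lit 222])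
(.leaf 361 6 [nat_lit 259, nat_lit 185, nat_lit 259, nat_lit 111, nat_lit 74, nat_lit 296, nat_lit 74, nat_lit 111, nat_lit 259, nat_lit 296])))))))
(.node (nat_lit 319) (.node (nat_lit 307) (.node (nat_lit 302) (.node (nat_lit 299) (.node (nat_lit 298) (.leaf 619 3 [nat_lit 148, nat_lit 259, nat_lit 74, nat_lit 259, nat_lit 148, nat_lit 111, nat_lit 222, nat_lit 74, nat_lit 185, nat_lit 222, nat_lit 74, nat_lit 111, nat_lit 74, nat_lit 37, nat_lit 185, nat_lit 37])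
(.leaf 611 13 [nat_lit 222, nat_lit 185, nat_lit 74, nat_lit 0, nat_lit 148, nat_lit 259, nat_lit 148, nat_lit 259, nat_lit 148, nat_lit 185, nat_lit 111, nat_lit 259, nat_lit 111, nat_lit 185, nat_lit 222, nat_lit 74]))
(.node (nat_lit 300) (.leaf 571 2 [nat_lit 37, nat_lit 74, nat_lit 185, nat_lit 37, nat_lit 185, nat_lit 74, nat_lit 37, nat_lit 185, nat_lit 148, nat_lit 0, nat_lit 111, nat_lit 37, nat_lit 111, nat_lit 0, nat_lit 148])
(.node (nat_lit 301) (.leaf 291 9 [nat_lit 37, nat_lit 0, nat_lit 222, nat_lit 296, nat_lit 0, nat_lit 296, nat_lit 37, nat_lit 259, nat_lit 185, nat_lit 222])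
(.leaf 571 5 [nat_lit 37, nat_lit 185, nat_lit 74, nat_lit 37, nat_lit 185, nat_lit 148, nat_lit 0, nat_lit 111, nat_lit 37, nat_lit 111, nat_lit 0, nat_lit 148, nat_lit 185, nat_lit 37, nat_lit 74]))))
(.node (nat_lit 304) (.node (nat_lit 303) (.leaf 331 6 [nat_lit 222, nat_lit 148, nat_lit 0, nat_lit 148, nat_lit 0, nat_lit 148, nat_lit 259, nat_lit 222, nat_lit 185, nat_lit 259])
(.leaf 267 7 [nat_lit 259, nat_lit 222, nat_lit 185, nat_lit 259, nat_lit 185, nat_lit 222, nat_lit 259, nat_lit 185, nat_lit 259]))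
(.node (nat_lit 305) (.leaf 269 5 [nat_lit 259, nat_lit 185, nat_lit 296, nat_lit 222, nat_lit 185, nat_lit 259, nat_lit 185, nat_lit 222, nat_lit 296])
(.node (nat_lit 306) (.leaf 609 10 [nat_lit 74, nat_lit 185, nat_lit 37, nat_lit 148, nat_lit 185, nat_lit 74, nat_lit 0, nat_lit 148, nat_lit 111, nat_lit 37, nat_lit 74, nat_lit 259, nat_lit 185, nat_lit 259, nat_lit 37, nat_lit 148])
(.leaf 535 7 [nat_lit 148, nat_lit 185, nat_lit 111, nat_lit 185, nat_lit 74, nat_lit 111, nat_lit 74, nat_lit 37, nat_lit 111, nat_lit 37, nat_lit 148, nat_lit 222, nat_lit 185, nat_lit 222])))))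
(.node (nat_lit 313) (.node (nat_lit 310) (.node (nat_lit 308) (.leaf 327 3 [nat_lit 222, nat_lit 259, nat_lit 222, nat_lit 185, nat_lit 148, nat_lit 0, nat_lit 148, nat_lit 0, nat_lit 148, nat_lit 259])
(.node (nat_lit 309) (.leaf 167 7 [nat_lit 259, nat_lit 185, nat_lit 0, nat_lit 259, nat_lit 185, nat_lit 259, nat_lit 185, nat_lit 259, nat_lit 0])
(.leaf 305 9 [nat_lit 74, nat_lit 0, nat_lit 222, nat_lit 0, nat_lit 296, nat_lit 259, nat_lit 296, nat_lit 74, nat_lit 185, nat_lit 222])))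
(.node (nat_lit 311) (.leaf 609 12 [nat_lit 37, nat_lit 148, nat_lit 185, nat_lit 74, nat_lit 0, nat_lit 148, nat_lit 111, nat_lit 37, nat_lit 74, nat_lit 259, nat_lit 185, nat_lit 259, nat_lit 37, nat_lit 148, nat_lit 185, nat_lit 74])
(.node (nat_lit 312) (.leaf 501 1 [nat_lit 37, nat_lit 0, nat_lit 185, nat_lit 74, nat_lit 259, nat_lit 185, nat_lit 74, nat_lit 0, nat_lit 74, nat_lit 0, nat_lit 259, nat_lit 74, nat_lit 37, nat_lit 0])
(.leaf 577 13 [nat_lit 0, nat_lit 148, nat_lit 0, nat_lit 185, nat_lit 37, nat_lit 74, nat_lit 37, nat_lit 148, nat_lit 222, nat_lit 185, nat_lit 222, nat_lit 148, nat_lit 37, nat_lit 74, nat_lit 37]))))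
(.node (nat_lit 316) (.node (nat_lit 314) (.leaf 621 2 [nat_lit 37, nat_lit 185, nat_lit 37, nat_lit 185, nat_lit 259, nat_lit 37, nat_lit 74, nat_lit 259, nat_lit 148, nat_lit 259, nat_lit 74, nat_lit 259, nat_lit 148, nat_lit 74, nat_lit 37, nat_lit 74])
(.node (nat_lit 315) (.leaf 593 14 [nat_lit 0, nat_lit 37, nat_lit 0, nat_lit 222, nat_lit 0, nat_lit 296, nat_lit 37, nat_lit 0, nat_lit 259, nat_lit 185, nat_lit 296, nat_lit 222, nat_lit 185, nat_lit 296, nat_lit 37, nat_lit 74])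
(.leaf 323 7 [nat_lit 148, nat_lit 0, nat_lit 148, nat_lit 0, nat_lit 148, nat_lit 259, nat_lit 185, nat_lit 0, nat_lit 259, nat_lit 0])))
(.node (nat_lit 317) (.leaf 255 3 [nat_lit 148, nat_lit 185, nat_lit 148, nat_lit 185, nat_lit 111, nat_lit 148, nat_lit 111, nat_lit 185, nat_lit 148])
(.node (nat_lit 318) (.leaf 319 1 [nat_lit 259, nat_lit 185, nat_lit 0, nat_lit 259, nat_lit 148, nat_lit 0, nat_lit 148, nat_lit 0, nat_lit 148, nat_lit 0])
(.leaf 577 1 [nat_lit 37, nat_lit 74, nat_lit 37, nat_lit 148, nat_lit 222, nat_lit 185, nat_lit 222, nat_lit 148, nat_lit 37, nat_lit 74, nat_lit 37, nat_lit 185, nat_lit 0, nat_lit 148, nat_lit 0]))))))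
(.node (nat_lit 335) (.node (nat_lit 326) (.node (nat_lit 322) (.node (nat_lit 320) (.leaf 597 9 [nat_lit 259, nat_lit 111, nat_lit 185, nat_lit 74, nat_lit 37, nat_lit 111, nat_lit 37, nat_lit 0, nat_lit 259, nat_lit 74, nat_lit 111, nat_lit 148, nat_lit 222, nat_lit 0, nat_lit 222, nat_lit 148])
(.node (nat_lit 321) (.leaf 271 3 [nat_lit 259, nat_lit 185, nat_lit 296, nat_lit 259, nat_lit 185, nat_lit 259, nat_lit 185, nat_lit 259, nat_lit 296])
(.leaf 347 3 [nat_lit 222, nat_lit 185, nat_lit 74, nat_lit 296, nat_lit 0, nat_lit 296, nat_lit 222, nat_lit 0, nat_lit 259, nat_lit 74])))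
(.node (nat_lit 324) (.node (nat_lit 323) (.leaf 221 6 [nat_lit 222, nat_lit 259, nat_lit 74, nat_lit 37, nat_lit 185, nat_lit 222, nat_lit 259, nat_lit 74, nat_lit 37])
(.leaf 215 7 [nat_lit 259, nat_lit 74, nat_lit 37, nat_lit 222, nat_lit 185, nat_lit 222, nat_lit 259, nat_lit 74, nat_lit 37]))
(.node (nat_lit 325) (.leaf 301 7 [nat_lit 222, nat_lit 185, nat_lit 74, nat_lit 0, nat_lit 259, nat_lit 222, nat_lit 296, nat_lit 0, nat_lit 296, nat_lit 74])
(.leaf 561 3 [nat_lit 37, nat_lit 74, nat_lit 185, nat_lit 296, nat_lit 185, nat_lit 0, nat_lit 222, nat_lit 0, nat_lit 185, nat_lit 296, nat_lit 37, nat_lit 74, nat_lit 0, nat_lit 222, nat_lit 0]))))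
(.node (nat_lit 330) (.node (nat_lit 328) (.node (nat_lit 327) (.leaf 339 7 [nat_lit 259, nat_lit 185, nat_lit 148, nat_lit 0, nat_lit 148, nat_lit 259, nat_lit 0, nat_lit 259, nat_lit 148, nat_lit 259])
(.leaf 589 6 [nat_lit 37, nat_lit 0, nat_lit 37, nat_lit 148, nat_lit 37, nat_lit 111, nat_lit 37, nat_lit 148, nat_lit 0, nat_lit 37, nat_lit 0, nat_lit 185, nat_lit 111, nat_lit 37, nat_lit 111, nat_lit 37]))
(.node (nat_lit 329) (.leaf 271 8 [nat_lit 259, nat_lit 185, nat_lit 259, nat_lit 296, nat_lit 185, nat_lit 259, nat_lit 185, nat_lit 296, nat_lit 259])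
(.leaf 269 0 [nat_lit 259, nat_lit 185, nat_lit 222, nat_lit 296, nat_lit 185, nat_lit 259, nat_lit 185, nat_lit 296, nat_lit 222])))
(.node (nat_lit 332) (.node (nat_lit 331) (.leaf 267 0 [nat_lit 259, nat_lit 185, nat_lit 222, nat_lit 259, nat_lit 185, nat_lit 259, nat_lit 185, nat_lit 259, nat_lit 222])
(.leaf 359 7 [nat_lit 259, nat_lit 185, nat_lit 111, nat_lit 74, nat_lit 296, nat_lit 74, nat_lit 111, nat_lit 259, nat_lit 296, nat_lit 259]))
(.node (nat_lit 333) (.leaf 461 6 [nat_lit 259, nat_lit 185, nat_lit 74, nat_lit 111, nat_lit 185, nat_lit 0, nat_lit 111, nat_lit 0, nat_lit 259, nat_lit 185, nat_lit 296, nat_lit 74, nat_lit 296])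
(.node (nat_lit 334) (.leaf 289 7 [nat_lit 222, nat_lit 185, nat_lit 37, nat_lit 0, nat_lit 222, nat_lit 0, nat_lit 296, nat_lit 259, nat_lit 296, nat_lit 37])
(.leaf 367 8 [nat_lit 259, nat_lit 185, nat_lit 148, nat_lit 296, nat_lit 148, nat_lit 259, nat_lit 148, nat_lit 296, nat_lit 148, nat_lit 259]))))))
(.node (nat_lit 345) (.node (nat_lit 340) (.node (nat_lit 337) (.node (nat_lit 336) (.leaf 581 13 [nat_lit 37, nat_lit 185, nat_lit 37, nat_lit 185, nat_lit 111, nat_lit 296, nat_lit 185, nat_lit 222, nat_lit 37, nat_lit 185, nat_lit 222, nat_lit 37, nat_lit 185, nat_lit 296, nat_lit 111])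
(.leaf 305 7 [nat_lit 222, nat_lit 185, nat_lit 74, nat_lit 0, nat_lit 222, nat_lit 0, nat_lit 296, nat_lit 259, nat_lit 296, nat_lit 74]))
(.node (nat_lit 338) (.leaf 325 7 [nat_lit 148, nat_lit 0, nat_lit 148, nat_lit 0, nat_lit 148, nat_lit 259, nat_lit 185, nat_lit 37, nat_lit 259, nat_lit 37])
(.node (nat_lit 339) (.leaf 255 5 [nat_lit 148, nat_lit 185, nat_lit 111, nat_lit 148, nat_lit 111, nat_lit 185, nat_lit 148, nat_lit 185, nat_lit 148])
(.leaf 561 6 [nat_lit 296, nat_lit 185, nat_lit 0, nat_lit 222, nat_lit 0, nat_lit 185, nat_lit 296, nat_lit 37, nat_lit 74, nat_lit 0, nat_lit 222, nat_lit 0, nat_lit 185, nat_lit 37, nat_lit 74]))))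
(.node (nat_lit 342) (.node (nat_lit 341) (.leaf 347 5 [nat_lit 74, nat_lit 296, nat_lit 0, nat_lit 296, nat_lit 222, nat_lit 0, nat_lit 259, nat_lit 74, nat_lit 185, nat_lit 222])
(.leaf 517 1 [nat_lit 259, nat_lit 296, nat_lit 185, nat_lit 296, nat_lit 37, nat_lit 0, nat_lit 259, nat_lit 74, nat_lit 259, nat_lit 185, nat_lit 0, nat_lit 296, nat_lit 37, nat_lit 0]))
(.node (nat_lit 343) (.leaf 581 4 [nat_lit 222, nat_lit 37, nat_lit 185, nat_lit 222, nat_lit 37, nat_lit 185, nat_lit 296, nat_lit 111, nat_lit 185, nat_lit 37, nat_lit 185, nat_lit 37, nat_lit 185, nat_lit 111, nat_lit 296])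
(.node (nat_lit 344) (.leaf 217 7 [nat_lit 259, nat_lit 74, nat_lit 37, nat_lit 222, nat_lit 185, nat_lit 259, nat_lit 74, nat_lit 222, nat_lit 37])
(.leaf 619 1 [nat_lit 37, nat_lit 185, nat_lit 148, nat_lit 259, nat_lit 74, nat_lit 259, nat_lit 148, nat_lit 111, nat_lit 222, nat_lit 74, nat_lit 185, nat_lit 222, nat_lit 74, nat_lit 111, nat_lit 74, nat_lit 37])))))
(.node (nat_lit 352) (.node (nat_lit 348) (.node (nat_lit 346) (.leaf 583 9 [nat_lit 222, nat_lit 148, nat_lit 37, nat_lit 74, nat_lit 37, nat_lit 0, nat_lit 37, nat_lit 0, nat_lit 148, nat_lit 222, nat_lit 111, nat_lit 37, nat_lit 185, nat_lit 0, nat_lit 111, nat_lit 0])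
(.node (nat_lit 347) (.leaf 287 9 [nat_lit 37, nat_lit 0, nat_lit 222, nat_lit 259, nat_lit 296, nat_lit 0, nat_lit 296, nat_lit 37, nat_lit 185, nat_lit 222])
(.leaf 345 3 [nat_lit 222, nat_lit 185, nat_lit 37, nat_lit 296, nat_lit 0, nat_lit 296, nat_lit 222, nat_lit 0, nat_lit 259, nat_lit 37])))
(.node (nat_lit 350) (.node (nat_lit 349) (.leaf 219 7 [nat_lit 259, nat_lit 74, nat_lit 37, nat_lit 222, nat_lit 185, nat_lit 259, nat_lit 74, nat_lit 37, nat_lit 222])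
(.leaf 493 10 [nat_lit 259, nat_lit 74, nat_lit 0, nat_lit 37, nat_lit 0, nat_lit 296, nat_lit 37, nat_lit 0, nat_lit 185, nat_lit 259, nat_lit 296, nat_lit 185, nat_lit 296, nat_lit 259]))
(.node (nat_lit 351) (.leaf 341 3 [nat_lit 259, nat_lit 185, nat_lit 148, nat_lit 259, nat_lit 0, nat_lit 259, nat_lit 148, nat_lit 0, nat_lit 148, nat_lit 259])
(.leaf 313 3 [nat_lit 259, nat_lit 185, nat_lit 148, nat_lit 0, nat_lit 111, nat_lit 148, nat_lit 111, nat_lit 0, nat_lit 148, nat_lit 259]))))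
(.node (nat_lit 356) (.node (nat_lit 354) (.node (nat_lit 353) (.leaf 611 10 [nat_lit 222, nat_lit 74, nat_lit 185, nat_lit 222, nat_lit 185, nat_lit 74, nat_lit 0, nat_lit 148, nat_lit 259, nat_lit 148, nat_lit 259, nat_lit 148, nat_lit 185, nat_lit 111, nat_lit 259, nat_lit 111])
(.leaf 339 9 [nat_lit 148, nat_lit 0, nat_lit 148, nat_lit 259, nat_lit 0, nat_lit 259, nat_lit 148, nat_lit 259, nat_lit 185, nat_lit 259]))
(.node (nat_lit 355) (.leaf 333 4 [nat_lit 259, nat_lit 185, nat_lit 222, nat_lit 148, nat_lit 0, nat_lit 148, nat_lit 0, nat_lit 148, nat_lit 222, nat_lit 259])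
(.leaf 341 5 [nat_lit 148, nat_lit 259, nat_lit 0, nat_lit 259, nat_lit 148, nat_lit 0, nat_lit 148, nat_lit 259, nat_lit 185, nat_lit 259])))
(.node (nat_lit 359) (.node (nat_lit 357) (.leaf 333 6 [nat_lit 222, nat_lit 148, nat_lit 0, nat_lit 148, nat_lit 0, nat_lit 148, nat_lit 222, nat_lit 259, nat_lit 185, nat_lit 259])
(.node (nat_lit 358) (.leaf 303 9 [nat_lit 74, nat_lit 0, nat_lit 222, nat_lit 259, nat_lit 296, nat_lit 0, nat_lit 296, nat_lit 74, nat_lit 185, nat_lit 222])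
(.leaf 217 2 [nat_lit 259, nat_lit 74, nat_lit 222, nat_lit 37, nat_lit 185, nat_lit 259, nat_lit 74, nat_lit 37, nat_lit 222])))
(.node (nat_lit 360) (.leaf 287 7 [nat_lit 222, nat_lit 185, nat_lit 37, nat_lit 0, nat_lit 222, nat_lit 259, nat_lit 296, nat_lit 0, nat_lit 296, nat_lit 37])
(.node (nat_lit 361) (.leaf 621 6 [nat_lit 259, nat_lit 37, nat_lit 74, nat_lit 259, nat_lit 148, nat_lit 259, nat_lit 74, nat_lit 259, nat_lit 148, nat_lit 74, nat_lit 37, nat_lit 74, nat_lit 185, nat_lit 37, nat_lit 185, nat_lit 37])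
(.node (nat_lit 362) (.leaf 303 7 [nat_lit 222, nat_lit 185, nat_lit 74, nat_lit 0, nat_lit 222, nat_lit 259, nat_lit 296, nat_lit 0, nat_lit 296, nat_lit 74])
(.leaf 327 7 [nat_lit 148, nat_lit 0, nat_lit 148, nat_lit 0, nat_lit 148, nat_lit 259, nat_lit 185, nat_lit 222, nat_lit 259, nat_lit 222])))))))))))))))
(.leaf 0 0 [])))
noncomputable def wt6 : LT := (.node (nat_lit 9) (.node (nat_lit 3) (.node (nat_lit 1) (.node (nat_lit 0) (.leaf 13 0 [nat_lit 259, nat_lit 222, nat_lit 259])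
(.leaf 7 3 [nat_lit 74, nat_lit 222, nat_lit 74]))
(.node (nat_lit 2) (.leaf 3 3 [nat_lit 37, nat_lit 222, nat_lit 37])
(.leaf 105 7 [nat_lit 185, nat_lit 222, nat_lit 185, nat_lit 222, nat_lit 185, nat_lit 222, nat_lit 185])))
(.node (nat_lit 5) (.node (nat_lit 4) (.leaf 113 0 [nat_lit 296, nat_lit 222, nat_lit 296, nat_lit 222, nat_lit 296, nat_lit 222, nat_lit 296])
(.leaf 101 7 [nat_lit 148, nat_lit 222, nat_lit 148, nat_lit 222, nat_lit 148, nat_lit 222, nat_lit 148]))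
(.node (nat_lit 6) (.leaf 41 7 [nat_lit 0, nat_lit 222, nat_lit 0, nat_lit 222, nat_lit 0, nat_lit 222, nat_lit 0])
(.node (nat_lit 7) (.leaf 33 6 [nat_lit 111, nat_lit 0, nat_lit 111, nat_lit 222, nat_lit 111, nat_lit 0, nat_lit 111])
(.node (nat_lit 8) (.leaf 107 7 [nat_lit 185, nat_lit 259, nat_lit 185, nat_lit 222, nat_lit 185, nat_lit 259, nat_lit 185])
(.leaf 115 0 [nat_lit 296, nat_lit 259, nat_lit 296, nat_lit 222, nat_lit 296, nat_lit 259, nat_lit 296]))))))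
(.node (nat_lit 193) (.node (nat_lit 35) (.node (nat_lit 16) (.node (nat_lit 12) (.node (nat_lit 10) (.leaf 43 7 [nat_lit 0, nat_lit 259, nat_lit 0, nat_lit 222, nat_lit 0, nat_lit 259, nat_lit 0])
(.node (nat_lit 11) (.leaf 175 5 [nat_lit 148, nat_lit 74, nat_lit 148, nat_lit 222, nat_lit 0, nat_lit 296, nat_lit 74, nat_lit 296, nat_lit 0])
(.leaf 203 7 [nat_lit 185, nat_lit 74, nat_lit 37, nat_lit 185, nat_lit 222, nat_lit 185, nat_lit 37, nat_lit 74, nat_lit 185])))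
(.node (nat_lit 14) (.node (nat_lit 13) (.leaf 273 7 [nat_lit 296, nat_lit 259, nat_lit 185, nat_lit 296, nat_lit 222, nat_lit 296, nat_lit 259, nat_lit 185, nat_lit 296])
(.leaf 195 6 [nat_lit 111, nat_lit 37, nat_lit 74, nat_lit 37, nat_lit 111, nat_lit 222, nat_lit 259, nat_lit 74, nat_lit 259]))
(.node (nat_lit 15) (.leaf 259 8 [nat_lit 185, nat_lit 111, nat_lit 222, nat_lit 185, nat_lit 222, nat_lit 185, nat_lit 111, nat_lit 222, nat_lit 185])
(.leaf 19 5 [nat_lit 37, nat_lit 259, nat_lit 222, nat_lit 37, nat_lit 259]))))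
(.node (nat_lit 23) (.node (nat_lit 19) (.node (nat_lit 17) (.leaf 139 5 [nat_lit 0, nat_lit 111, nat_lit 0, nat_lit 111, nat_lit 0, nat_lit 222, nat_lit 111, nat_lit 0, nat_lit 111])
(.node (nat_lit 18) (.leaf 433 9 [nat_lit 111, nat_lit 222, nat_lit 148, nat_lit 0, nat_lit 222, nat_lit 185, nat_lit 222, nat_lit 185, nat_lit 0, nat_lit 148, nat_lit 222, nat_lit 111])
(.leaf 261 4 [nat_lit 111, nat_lit 222, nat_lit 185, nat_lit 222, nat_lit 185, nat_lit 111, nat_lit 185, nat_lit 222, nat_lit 185])))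
(.node (nat_lit 21) (.node (nat_lit 20) (.leaf 269 3 [nat_lit 296, nat_lit 185, nat_lit 259, nat_lit 185, nat_lit 296, nat_lit 222, nat_lit 185, nat_lit 259, nat_lit 185])
(.leaf 363 9 [nat_lit 148, nat_lit 74, nat_lit 259, nat_lit 74, nat_lit 259, nat_lit 148, nat_lit 222, nat_lit 148, nat_lit 74, nat_lit 148]))
(.node (nat_lit 22) (.leaf 417 10 [nat_lit 148, nat_lit 111, nat_lit 222, nat_lit 111, nat_lit 148, nat_lit 222, nat_lit 148, nat_lit 111, nat_lit 222, nat_lit 148, nat_lit 111])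
(.leaf 203 2 [nat_lit 185, nat_lit 37, nat_lit 74, nat_lit 185, nat_lit 222, nat_lit 185, nat_lit 74, nat_lit 37, nat_lit 185]))))
(.node (nat_lit 29) (.node (nat_lit 26) (.node (nat_lit 24) (.leaf 173 4 [nat_lit 296, nat_lit 0, nat_lit 296, nat_lit 0, nat_lit 222, nat_lit 0, nat_lit 296, nat_lit 0, nat_lit 296])
(.node (nat_lit 25) (.leaf 377 3 [nat_lit 111, nat_lit 185, nat_lit 0, nat_lit 37, nat_lit 74, nat_lit 111, nat_lit 74, nat_lit 37, nat_lit 0, nat_lit 222, nat_lit 185])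
(.leaf 259 6 [nat_lit 185, nat_lit 222, nat_lit 185, nat_lit 111, nat_lit 222, nat_lit 185, nat_lit 222, nat_lit 185, nat_lit 111])))
(.node (nat_lit 27) (.leaf 457 10 [nat_lit 37, nat_lit 296, nat_lit 74, nat_lit 0, nat_lit 222, nat_lit 0, nat_lit 74, nat_lit 296, nat_lit 222, nat_lit 37, nat_lit 296, nat_lit 222, nat_lit 296])
(.node (nat_lit 28) (.leaf 237 8 [nat_lit 111, nat_lit 74, nat_lit 111, nat_lit 259, nat_lit 222, nat_lit 111, nat_lit 74, nat_lit 111, nat_lit 259])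
(.leaf 201 1 [nat_lit 111, nat_lit 259, nat_lit 74, nat_lit 259, nat_lit 111, nat_lit 222, nat_lit 37, nat_lit 74, nat_lit 37]))))
(.node (nat_lit 32) (.node (nat_lit 30) (.leaf 175 9 [nat_lit 0, nat_lit 296, nat_lit 74, nat_lit 296, nat_lit 0, nat_lit 222, nat_lit 148, nat_lit 74, nat_lit 148])
(.node (nat_lit 31) (.leaf 281 8 [nat_lit 185, nat_lit 37, nat_lit 0, nat_lit 296, nat_lit 259, nat_lit 296, nat_lit 222, nat_lit 0, nat_lit 37, nat_lit 185])
(.leaf 173 9 [nat_lit 0, nat_lit 296, nat_lit 0, nat_lit 296, nat_lit 222, nat_lit 296, nat_lit 0, nat_lit 296, nat_lit 0])))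
(.node (nat_lit 33) (.leaf 331 7 [nat_lit 148, nat_lit 0, nat_lit 148, nat_lit 0, nat_lit 148, nat_lit 259, nat_lit 222, nat_lit 185, nat_lit 259, nat_lit 185])
(.node (nat_lit 34) (.leaf 457 5 [nat_lit 37, nat_lit 296, nat_lit 222, nat_lit 296, nat_lit 222, nat_lit 37, nat_lit 296, nat_lit 74, nat_lit 0, nat_lit 222, nat_lit 0, nat_lit 74, nat_lit 296])
(.leaf 561 10 [nat_lit 0, nat_lit 185, nat_lit 296, nat_lit 37, nat_lit 74, nat_lit 0, nat_lit 222, nat_lit 0, nat_lit 185, nat_lit 37, nat_lit 74, nat_lit 185, nat_lit 296, nat_lit 185, nat_lit 0])))))))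
(.node (nat_lit 76) (.node (nat_lit 51) (.node (nat_lit 42) (.node (nat_lit 38) (.node (nat_lit 36) (.leaf 283 1 [nat_lit 296, nat_lit 0, nat_lit 296, nat_lit 259, nat_lit 37, nat_lit 185, nat_lit 222, nat_lit 185, nat_lit 37, nat_lit 0])
(.node (nat_lit 37) (.leaf 417 1 [nat_lit 111, nat_lit 148, nat_lit 222, nat_lit 148, nat_lit 111, nat_lit 222, nat_lit 148, nat_lit 111, nat_lit 222, nat_lit 148, nat_lit 111])
(.leaf 593 9 [nat_lit 185, nat_lit 296, nat_lit 37, nat_lit 74, nat_lit 185, nat_lit 0, nat_lit 37, nat_lit 0, nat_lit 222, nat_lit 0, nat_lit 296, nat_lit 37, nat_lit 0, nat_lit 259, nat_lit 185, nat_lit 296])))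
(.node (nat_lit 40) (.node (nat_lit 39) (.leaf 165 5 [nat_lit 0, nat_lit 185, nat_lit 259, nat_lit 185, nat_lit 0, nat_lit 222, nat_lit 185, nat_lit 259, nat_lit 185])
(.leaf 211 5 [nat_lit 185, nat_lit 259, nat_lit 222, nat_lit 74, nat_lit 37, nat_lit 185, nat_lit 259, nat_lit 74, nat_lit 37]))
(.node (nat_lit 41) (.leaf 427 4 [nat_lit 0, nat_lit 222, nat_lit 296, nat_lit 74, nat_lit 148, nat_lit 111, nat_lit 222, nat_lit 74, nat_lit 0, nat_lit 222, nat_lit 148, nat_lit 296])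
(.leaf 47 7 [nat_lit 0, nat_lit 296, nat_lit 0, nat_lit 259, nat_lit 296, nat_lit 222, nat_lit 259]))))
(.node (nat_lit 46) (.node (nat_lit 44) (.node (nat_lit 43) (.leaf 433 11 [nat_lit 148, nat_lit 0, nat_lit 222, nat_lit 185, nat_lit 222, nat_lit 185, nat_lit 0, nat_lit 148, nat_lit 222, nat_lit 111, nat_lit 222, nat_lit 111])
(.leaf 45 7 [nat_lit 0, nat_lit 222, nat_lit 259, nat_lit 222, nat_lit 0, nat_lit 222, nat_lit 259]))
(.node (nat_lit 45) (.leaf 209 4 [nat_lit 37, nat_lit 185, nat_lit 259, nat_lit 222, nat_lit 74, nat_lit 37, nat_lit 185, nat_lit 259, nat_lit 74])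
(.leaf 201 7 [nat_lit 37, nat_lit 74, nat_lit 37, nat_lit 222, nat_lit 111, nat_lit 259, nat_lit 74, nat_lit 259, nat_lit 111])))
(.node (nat_lit 48) (.node (nat_lit 47) (.leaf 257 7 [nat_lit 111, nat_lit 148, nat_lit 111, nat_lit 222, nat_lit 148, nat_lit 222, nat_lit 148, nat_lit 222, nat_lit 148])
(.leaf 427 1 [nat_lit 148, nat_lit 296, nat_lit 222, nat_lit 0, nat_lit 222, nat_lit 296, nat_lit 74, nat_lit 148, nat_lit 111, nat_lit 222, nat_lit 74, nat_lit 0]))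
(.node (nat_lit 49) (.leaf 427 6 [nat_lit 296, nat_lit 74, nat_lit 148, nat_lit 111, nat_lit 222, nat_lit 74, nat_lit 0, nat_lit 222, nat_lit 148, nat_lit 296, nat_lit 222, nat_lit 0])
(.node (nat_lit 50) (.leaf 179 5 [nat_lit 296, nat_lit 259, nat_lit 296, nat_lit 222, nat_lit 0, nat_lit 296, nat_lit 259, nat_lit 296, nat_lit 0])
(.leaf 165 1 [nat_lit 185, nat_lit 259, nat_lit 185, nat_lit 222, nat_lit 0, nat_lit 185, nat_lit 259, nat_lit 185, nat_lit 0]))))))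
(.node (nat_lit 62) (.node (nat_lit 56) (.node (nat_lit 53) (.node (nat_lit 52) (.leaf 275 7 [nat_lit 296, nat_lit 259, nat_lit 185, nat_lit 259, nat_lit 296, nat_lit 222, nat_lit 296, nat_lit 185, nat_lit 296])
(.leaf 363 5 [nat_lit 148, nat_lit 74, nat_lit 148, nat_lit 222, nat_lit 148, nat_lit 74, nat_lit 259, nat_lit 74, nat_lit 259, nat_lit 148]))
(.node (nat_lit 54) (.leaf 465 8 [nat_lit 148, nat_lit 222, nat_lit 0, nat_lit 148, nat_lit 111, nat_lit 0, nat_lit 222, nat_lit 148, nat_lit 222, nat_lit 0, nat_lit 148, nat_lit 111, nat_lit 0])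
(.node (nat_lit 55) (.leaf 277 0 [nat_lit 296, nat_lit 222, nat_lit 296, nat_lit 222, nat_lit 259, nat_lit 296, nat_lit 222, nat_lit 296, nat_lit 259])
(.leaf 281 4 [nat_lit 0, nat_lit 37, nat_lit 185, nat_lit 222, nat_lit 185, nat_lit 37, nat_lit 0, nat_lit 296, nat_lit 259, nat_lit 296]))))
(.node (nat_lit 59) (.node (nat_lit 57) (.leaf 435 12 [nat_lit 0, nat_lit 296, nat_lit 185, nat_lit 259, nat_lit 74, nat_lit 37, nat_lit 185, nat_lit 37, nat_lit 74, nat_lit 296, nat_lit 222, nat_lit 0])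
(.node (nat_lit 58) (.leaf 207 8 [nat_lit 74, nat_lit 37, nat_lit 185, nat_lit 222, nat_lit 259, nat_lit 74, nat_lit 37, nat_lit 185, nat_lit 259])
(.leaf 285 2 [nat_lit 296, nat_lit 0, nat_lit 296, nat_lit 37, nat_lit 185, nat_lit 222, nat_lit 185, nat_lit 37, nat_lit 0, nat_lit 259])))
(.node (nat_lit 60) (.leaf 289 1 [nat_lit 0, nat_lit 296, nat_lit 259, nat_lit 296, nat_lit 37, nat_lit 185, nat_lit 222, nat_lit 185, nat_lit 37, nat_lit 0])
(.node (nat_lit 61) (.leaf 275 3 [nat_lit 296, nat_lit 185, nat_lit 296, nat_lit 222, nat_lit 296, nat_lit 259, nat_lit 185, nat_lit 259, nat_lit 296])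
(.leaf 465 10 [nat_lit 0, nat_lit 148, nat_lit 111, nat_lit 0, nat_lit 222, nat_lit 148, nat_lit 222, nat_lit 0, nat_lit 148, nat_lit 111, nat_lit 0, nat_lit 222, nat_lit 148])))))
(.node (nat_lit 69) (.node (nat_lit 65) (.node (nat_lit 63) (.leaf 261 2 [nat_lit 185, nat_lit 222, nat_lit 111, nat_lit 222, nat_lit 185, nat_lit 222, nat_lit 185, nat_lit 111, nat_lit 185])
(.node (nat_lit 64) (.leaf 421 6 [nat_lit 0, nat_lit 222, nat_lit 111, nat_lit 37, nat_lit 0, nat_lit 37, nat_lit 0, nat_lit 37, nat_lit 296, nat_lit 259, nat_lit 296, nat_lit 111])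
(.leaf 389 7 [nat_lit 0, nat_lit 111, nat_lit 37, nat_lit 111, nat_lit 0, nat_lit 222, nat_lit 0, nat_lit 111, nat_lit 37, nat_lit 111, nat_lit 0])))
(.node (nat_lit 67) (.node (nat_lit 66) (.leaf 139 1 [nat_lit 111, nat_lit 0, nat_lit 111, nat_lit 222, nat_lit 0, nat_lit 111, nat_lit 0, nat_lit 111, nat_lit 0])
(.leaf 269 9 [nat_lit 185, nat_lit 259, nat_lit 185, nat_lit 222, nat_lit 296, nat_lit 185, nat_lit 259, nat_lit 185, nat_lit 296]))
(.node (nat_lit 68) (.leaf 579 7 [nat_lit 74, nat_lit 111, nat_lit 222, nat_lit 148, nat_lit 74, nat_lit 185, nat_lit 37, nat_lit 185, nat_lit 37, nat_lit 222, nat_lit 185, nat_lit 222, nat_lit 148, nat_lit 222, nat_lit 111])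
(.leaf 503 6 [nat_lit 0, nat_lit 222, nat_lit 148, nat_lit 37, nat_lit 222, nat_lit 259, nat_lit 74, nat_lit 37, nat_lit 0, nat_lit 259, nat_lit 222, nat_lit 111, nat_lit 74, nat_lit 148]))))
(.node (nat_lit 72) (.node (nat_lit 70) (.leaf 355 7 [nat_lit 111, nat_lit 259, nat_lit 111, nat_lit 37, nat_lit 259, nat_lit 222, nat_lit 111, nat_lit 259, nat_lit 111, nat_lit 37])
(.node (nat_lit 71) (.leaf 47 5 [nat_lit 259, nat_lit 222, nat_lit 0, nat_lit 296, nat_lit 0, nat_lit 259, nat_lit 296])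
(.leaf 327 6 [nat_lit 185, nat_lit 148, nat_lit 0, nat_lit 148, nat_lit 0, nat_lit 148, nat_lit 259, nat_lit 185, nat_lit 222, nat_lit 259])))
(.node (nat_lit 74) (.node (nat_lit 73) (.leaf 469 5 [nat_lit 111, nat_lit 259, nat_lit 222, nat_lit 296, nat_lit 222, nat_lit 0, nat_lit 222, nat_lit 111, nat_lit 0, nat_lit 296, nat_lit 222, nat_lit 111, nat_lit 259])
(.leaf 205 8 [nat_lit 74, nat_lit 37, nat_lit 74, nat_lit 222, nat_lit 259, nat_lit 74, nat_lit 37, nat_lit 74, nat_lit 259]))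
(.node (nat_lit 75) (.leaf 283 8 [nat_lit 185, nat_lit 37, nat_lit 0, nat_lit 222, nat_lit 296, nat_lit 0, nat_lit 296, nat_lit 259, nat_lit 37, nat_lit 185])
(.leaf 277 7 [nat_lit 296, nat_lit 259, nat_lit 222, nat_lit 296, nat_lit 222, nat_lit 296, nat_lit 222, nat_lit 259, nat_lit 296])))))))
(.node (nat_lit 119) (.node (nat_lit 95) (.node (nat_lit 85) (.node (nat_lit 80) (.node (nat_lit 78) (.node (nat_lit 77) (.leaf 297 8 [nat_lit 185, nat_lit 74, nat_lit 0, nat_lit 296, nat_lit 259, nat_lit 296, nat_lit 222, nat_lit 0, nat_lit 74, nat_lit 185])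
(.leaf 613 14 [nat_lit 111, nat_lit 222, nat_lit 0, nat_lit 296, nat_lit 74, nat_lit 259, nat_lit 37, nat_lit 74, nat_lit 37, nat_lit 296, nat_lit 222, nat_lit 0, nat_lit 222, nat_lit 111, nat_lit 222, nat_lit 111]))
(.node (nat_lit 79) (.leaf 297 4 [nat_lit 0, nat_lit 74, nat_lit 185, nat_lit 222, nat_lit 185, nat_lit 74, nat_lit 0, nat_lit 296, nat_lit 259, nat_lit 296])
(.leaf 503 8 [nat_lit 148, nat_lit 37, nat_lit 222, nat_lit 259, nat_lit 74, nat_lit 37, nat_lit 0, nat_lit 259, nat_lit 222, nat_lit 111, nat_lit 74, nat_lit 148, nat_lit 222, nat_lit 0])))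
(.node (nat_lit 82) (.node (nat_lit 81) (.leaf 541 5 [nat_lit 37, nat_lit 296, nat_lit 0, nat_lit 37, nat_lit 0, nat_lit 74, nat_lit 296, nat_lit 74, nat_lit 0, nat_lit 37, nat_lit 0, nat_lit 296, nat_lit 222, nat_lit 37, nat_lit 296])
(.leaf 427 11 [nat_lit 74, nat_lit 0, nat_lit 222, nat_lit 148, nat_lit 296, nat_lit 222, nat_lit 0, nat_lit 222, nat_lit 296, nat_lit 74, nat_lit 148, nat_lit 111]))
(.node (nat_lit 83) (.leaf 261 8 [nat_lit 185, nat_lit 111, nat_lit 185, nat_lit 222, nat_lit 185, nat_lit 222, nat_lit 111, nat_lit 222, nat_lit 185])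
(.node (nat_lit 84) (.leaf 421 8 [nat_lit 111, nat_lit 37, nat_lit 0, nat_lit 37, nat_lit 0, nat_lit 37, nat_lit 296, nat_lit 259, nat_lit 296, nat_lit 111, nat_lit 222, nat_lit 0])
(.leaf 399 7 [nat_lit 111, nat_lit 185, nat_lit 222, nat_lit 185, nat_lit 0, nat_lit 222, nat_lit 111, nat_lit 185, nat_lit 222, nat_lit 185, nat_lit 0])))))
(.node (nat_lit 90) (.node (nat_lit 87) (.node (nat_lit 86) (.leaf 469 2 [nat_lit 111, nat_lit 259, nat_lit 222, nat_lit 111, nat_lit 259, nat_lit 222, nat_lit 296, nat_lit 222, nat_lit 0, nat_lit 222, nat_lit 111, nat_lit 0, nat_lit 296])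
(.leaf 479 6 [nat_lit 37, nat_lit 296, nat_lit 259, nat_lit 222, nat_lit 185, nat_lit 296, nat_lit 74, nat_lit 37, nat_lit 296, nat_lit 185, nat_lit 259, nat_lit 296, nat_lit 74]))
(.node (nat_lit 88) (.leaf 467 1 [nat_lit 148, nat_lit 0, nat_lit 222, nat_lit 0, nat_lit 148, nat_lit 222, nat_lit 0, nat_lit 148, nat_lit 111, nat_lit 222, nat_lit 148, nat_lit 111, nat_lit 0])
(.node (nat_lit 89) (.leaf 515 3 [nat_lit 37, nat_lit 0, nat_lit 74, nat_lit 185, nat_lit 296, nat_lit 185, nat_lit 296, nat_lit 259, nat_lit 185, nat_lit 222, nat_lit 37, nat_lit 0, nat_lit 37, nat_lit 296])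
(.leaf 467 7 [nat_lit 0, nat_lit 148, nat_lit 111, nat_lit 222, nat_lit 148, nat_lit 111, nat_lit 0, nat_lit 222, nat_lit 148, nat_lit 0, nat_lit 222, nat_lit 0, nat_lit 148]))))
(.node (nat_lit 92) (.node (nat_lit 91) (.leaf 537 9 [nat_lit 37, nat_lit 148, nat_lit 74, nat_lit 148, nat_lit 74, nat_lit 37, nat_lit 222, nat_lit 148, nat_lit 222, nat_lit 296, nat_lit 74, nat_lit 296, nat_lit 222, nat_lit 148])
(.leaf 491 2 [nat_lit 185, nat_lit 222, nat_lit 185, nat_lit 148, nat_lit 37, nat_lit 0, nat_lit 37, nat_lit 74, nat_lit 111, nat_lit 74, nat_lit 0, nat_lit 37, nat_lit 0, nat_lit 148]))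
(.node (nat_lit 93) (.leaf 351 6 [nat_lit 37, nat_lit 111, nat_lit 259, nat_lit 111, nat_lit 37, nat_lit 259, nat_lit 222, nat_lit 111, nat_lit 259, nat_lit 111])
(.node (nat_lit 94) (.leaf 521 8 [nat_lit 148, nat_lit 296, nat_lit 148, nat_lit 259, nat_lit 0, nat_lit 74, nat_lit 0, nat_lit 296, nat_lit 222, nat_lit 111, nat_lit 259, nat_lit 74, nat_lit 0, nat_lit 111])
(.leaf 351 2 [nat_lit 111, nat_lit 259, nat_lit 111, nat_lit 222, nat_lit 37, nat_lit 111, nat_lit 259, nat_lit 111, nat_lit 37, nat_lit 259]))))))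
(.node (nat_lit 106) (.node (nat_lit 100) (.node (nat_lit 97) (.node (nat_lit 96) (.leaf 407 6 [nat_lit 111, nat_lit 37, nat_lit 111, nat_lit 74, nat_lit 111, nat_lit 37, nat_lit 111, nat_lit 222, nat_lit 111, nat_lit 74, nat_lit 111])
(.leaf 607 1 [nat_lit 74, nat_lit 148, nat_lit 37, nat_lit 111, nat_lit 148, nat_lit 37, nat_lit 111, nat_lit 74, nat_lit 222, nat_lit 0, nat_lit 222, nat_lit 37, nat_lit 148, nat_lit 222, nat_lit 37, nat_lit 0]))
(.node (nat_lit 98) (.leaf 483 10 [nat_lit 296, nat_lit 222, nat_lit 111, nat_lit 74, nat_lit 111, nat_lit 296, nat_lit 222, nat_lit 296, nat_lit 222, nat_lit 296, nat_lit 111, nat_lit 74, nat_lit 111])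
(.node (nat_lit 99) (.leaf 299 1 [nat_lit 296, nat_lit 0, nat_lit 296, nat_lit 259, nat_lit 74, nat_lit 185, nat_lit 222, nat_lit 185, nat_lit 74, nat_lit 0])
(.leaf 627 9 [nat_lit 111, nat_lit 185, nat_lit 74, nat_lit 111, nat_lit 222, nat_lit 148, nat_lit 111, nat_lit 37, nat_lit 0, nat_lit 74, nat_lit 37, nat_lit 111, nat_lit 148, nat_lit 37, nat_lit 74, nat_lit 185, nat_lit 111]))))
(.node (nat_lit 103) (.node (nat_lit 101) (.leaf 543 5 [nat_lit 111, nat_lit 222, nat_lit 0, nat_lit 296, nat_lit 37, nat_lit 0, nat_lit 37, nat_lit 111, nat_lit 0, nat_lit 37, nat_lit 0, nat_lit 296, nat_lit 222, nat_lit 111, nat_lit 0])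
(.node (nat_lit 102) (.leaf 433 7 [nat_lit 111, nat_lit 222, nat_lit 111, nat_lit 222, nat_lit 148, nat_lit 0, nat_lit 222, nat_lit 185, nat_lit 222, nat_lit 185, nat_lit 0, nat_lit 148])
(.leaf 541 2 [nat_lit 37, nat_lit 296, nat_lit 222, nat_lit 37, nat_lit 296, nat_lit 0, nat_lit 37, nat_lit 0, nat_lit 74, nat_lit 296, nat_lit 74, nat_lit 0, nat_lit 37, nat_lit 0, nat_lit 296])))
(.node (nat_lit 104) (.leaf 471 9 [nat_lit 148, nat_lit 296, nat_lit 0, nat_lit 148, nat_lit 0, nat_lit 296, nat_lit 222, nat_lit 148, nat_lit 222, nat_lit 148, nat_lit 222, nat_lit 148, nat_lit 259])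
(.node (nat_lit 105) (.leaf 125 8 [nat_lit 37, nat_lit 0, nat_lit 296, nat_lit 0, nat_lit 259, nat_lit 296, nat_lit 37, nat_lit 222, nat_lit 259])
(.leaf 383 1 [nat_lit 0, nat_lit 74, nat_lit 296, nat_lit 37, nat_lit 296, nat_lit 222, nat_lit 296, nat_lit 37, nat_lit 296, nat_lit 74, nat_lit 0])))))
(.node (nat_lit 112) (.node (nat_lit 109) (.node (nat_lit 107) (.leaf 345 10 [nat_lit 0, nat_lit 259, nat_lit 37, nat_lit 185, nat_lit 222, nat_lit 185, nat_lit 37, nat_lit 296, nat_lit 0, nat_lit 296])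
(.node (nat_lit 108) (.leaf 519 1 [nat_lit 296, nat_lit 37, nat_lit 148, nat_lit 74, nat_lit 148, nat_lit 111, nat_lit 74, nat_lit 111, nat_lit 37, nat_lit 296, nat_lit 222, nat_lit 0, nat_lit 74, nat_lit 0])
(.leaf 333 7 [nat_lit 148, nat_lit 0, nat_lit 148, nat_lit 0, nat_lit 148, nat_lit 222, nat_lit 259, nat_lit 185, nat_lit 259, nat_lit 185])))
(.node (nat_lit 110) (.leaf 143 4 [nat_lit 111, nat_lit 0, nat_lit 111, nat_lit 222, nat_lit 111, nat_lit 0, nat_lit 148, nat_lit 111, nat_lit 148])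
(.node (nat_lit 111) (.leaf 305 1 [nat_lit 0, nat_lit 296, nat_lit 259, nat_lit 296, nat_lit 74, nat_lit 185, nat_lit 222, nat_lit 185, nat_lit 74, nat_lit 0])
(.leaf 477 4 [nat_lit 185, nat_lit 222, nat_lit 185, nat_lit 296, nat_lit 74, nat_lit 259, nat_lit 185, nat_lit 259, nat_lit 74, nat_lit 37, nat_lit 185, nat_lit 37, nat_lit 296]))))
(.node (nat_lit 115) (.node (nat_lit 113) (.leaf 491 4 [nat_lit 185, nat_lit 148, nat_lit 37, nat_lit 0, nat_lit 37, nat_lit 74, nat_lit 111, nat_lit 74, nat_lit 0, nat_lit 37, nat_lit 0, nat_lit 148, nat_lit 222, nat_lit 185])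
(.node (nat_lit 114) (.leaf 261 6 [nat_lit 185, nat_lit 222, nat_lit 185, nat_lit 111, nat_lit 185, nat_lit 222, nat_lit 185, nat_lit 222, nat_lit 111])
(.leaf 497 6 [nat_lit 296, nat_lit 0, nat_lit 111, nat_lit 37, nat_lit 0, nat_lit 111, nat_lit 0, nat_lit 37, nat_lit 0, nat_lit 296, nat_lit 222, nat_lit 111, nat_lit 259, nat_lit 111])))
(.node (nat_lit 117) (.node (nat_lit 116) (.leaf 347 10 [nat_lit 0, nat_lit 259, nat_lit 74, nat_lit 185, nat_lit 222, nat_lit 185, nat_lit 74, nat_lit 296, nat_lit 0, nat_lit 296])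
(.leaf 467 11 [nat_lit 148, nat_lit 111, nat_lit 0, nat_lit 222, nat_lit 148, nat_lit 0, nat_lit 222, nat_lit 0, nat_lit 148, nat_lit 222, nat_lit 0, nat_lit 148, nat_lit 111]))
(.node (nat_lit 118) (.leaf 475 9 [nat_lit 111, nat_lit 185, nat_lit 111, nat_lit 74, nat_lit 37, nat_lit 111, nat_lit 37, nat_lit 111, nat_lit 222, nat_lit 296, nat_lit 74, nat_lit 296, nat_lit 185])
(.leaf 417 4 [nat_lit 148, nat_lit 111, nat_lit 222, nat_lit 148, nat_lit 111, nat_lit 222, nat_lit 148, nat_lit 111, nat_lit 222, nat_lit 111, nat_lit 148])))))))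
(.node (nat_lit 149) (.node (nat_lit 133) (.node (nat_lit 126) (.node (nat_lit 122) (.node (nat_lit 120) (.leaf 477 6 [nat_lit 185, nat_lit 296, nat_lit 74, nat_lit 259, nat_lit 185, nat_lit 259, nat_lit 74, nat_lit 37, nat_lit 185, nat_lit 37, nat_lit 296, nat_lit 222, nat_lit 185])
(.node (nat_lit 121) (.leaf 599 7 [nat_lit 74, nat_lit 185, nat_lit 222, nat_lit 148, nat_lit 222, nat_lit 185, nat_lit 222, nat_lit 111, nat_lit 37, nat_lit 0, nat_lit 148, nat_lit 0, nat_lit 185, nat_lit 148, nat_lit 0, nat_lit 148])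
(.leaf 473 7 [nat_lit 185, nat_lit 148, nat_lit 259, nat_lit 148, nat_lit 259, nat_lit 148, nat_lit 0, nat_lit 185, nat_lit 222, nat_lit 259, nat_lit 111, nat_lit 259, nat_lit 111])))
(.node (nat_lit 124) (.node (nat_lit 123) (.leaf 371 3 [nat_lit 185, nat_lit 111, nat_lit 37, nat_lit 0, nat_lit 37, nat_lit 111, nat_lit 0, nat_lit 37, nat_lit 0, nat_lit 222, nat_lit 185])
(.leaf 581 8 [nat_lit 37, nat_lit 185, nat_lit 296, nat_lit 111, nat_lit 185, nat_lit 37, nat_lit 185, nat_lit 37, nat_lit 185, nat_lit 111, nat_lit 296, nat_lit 185, nat_lit 222, nat_lit 37, nat_lit 185]))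
(.node (nat_lit 125) (.leaf 467 4 [nat_lit 0, nat_lit 148, nat_lit 222, nat_lit 0, nat_lit 148, nat_lit 111, nat_lit 222, nat_lit 148, nat_lit 111, nat_lit 0, nat_lit 222, nat_lit 148, nat_lit 0])
(.leaf 383 7 [nat_lit 296, nat_lit 37, nat_lit 296, nat_lit 74, nat_lit 0, nat_lit 222, nat_lit 0, nat_lit 74, nat_lit 296, nat_lit 37, nat_lit 296]))))
(.node (nat_lit 129) (.node (nat_lit 127) (.leaf 577 8 [nat_lit 148, nat_lit 37, nat_lit 74, nat_lit 37, nat_lit 185, nat_lit 0, nat_lit 148, nat_lit 0, nat_lit 185, nat_lit 37, nat_lit 74, nat_lit 37, nat_lit 148, nat_lit 222, nat_lit 185])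
(.node (nat_lit 128) (.leaf 215 1 [nat_lit 185, nat_lit 222, nat_lit 259, nat_lit 74, nat_lit 37, nat_lit 185, nat_lit 259, nat_lit 74, nat_lit 37])
(.leaf 469 8 [nat_lit 296, nat_lit 222, nat_lit 0, nat_lit 222, nat_lit 111, nat_lit 0, nat_lit 296, nat_lit 222, nat_lit 111, nat_lit 259, nat_lit 222, nat_lit 111, nat_lit 259])))
(.node (nat_lit 131) (.node (nat_lit 130) (.leaf 435 10 [nat_lit 0, nat_lit 222, nat_lit 0, nat_lit 296, nat_lit 185, nat_lit 259, nat_lit 74, nat_lit 37, nat_lit 185, nat_lit 37, nat_lit 74, nat_lit 296])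
(.leaf 263 7 [nat_lit 148, nat_lit 222, nat_lit 148, nat_lit 259, nat_lit 222, nat_lit 259, nat_lit 148, nat_lit 222, nat_lit 148]))
(.node (nat_lit 132) (.leaf 399 10 [nat_lit 185, nat_lit 0, nat_lit 222, nat_lit 111, nat_lit 185, nat_lit 222, nat_lit 185, nat_lit 0, nat_lit 222, nat_lit 111, nat_lit 185])
(.leaf 585 13 [nat_lit 74, nat_lit 0, nat_lit 37, nat_lit 0, nat_lit 148, nat_lit 222, nat_lit 111, nat_lit 74, nat_lit 37, nat_lit 111, nat_lit 0, nat_lit 222, nat_lit 148, nat_lit 111, nat_lit 222, nat_lit 0])))))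
(.node (nat_lit 141) (.node (nat_lit 137) (.node (nat_lit 135) (.node (nat_lit 134) (.leaf 587 3 [nat_lit 296, nat_lit 0, nat_lit 37, nat_lit 296, nat_lit 222, nat_lit 148, nat_lit 296, nat_lit 74, nat_lit 148, nat_lit 0, nat_lit 148, nat_lit 0, nat_lit 37, nat_lit 0, nat_lit 296, nat_lit 148])
(.leaf 475 4 [nat_lit 296, nat_lit 74, nat_lit 296, nat_lit 185, nat_lit 222, nat_lit 111, nat_lit 185, nat_lit 111, nat_lit 74, nat_lit 37, nat_lit 111, nat_lit 37, nat_lit 111]))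
(.node (nat_lit 136) (.leaf 239 8 [nat_lit 111, nat_lit 74, nat_lit 111, nat_lit 222, nat_lit 259, nat_lit 111, nat_lit 74, nat_lit 111, nat_lit 259])
(.leaf 539 14 [nat_lit 148, nat_lit 259, nat_lit 296, nat_lit 148, nat_lit 296, nat_lit 148, nat_lit 259, nat_lit 148, nat_lit 222, nat_lit 148, nat_lit 259, nat_lit 148, nat_lit 259, nat_lit 148])))
(.node (nat_lit 139) (.node (nat_lit 138) (.leaf 559 3 [nat_lit 0, nat_lit 148, nat_lit 185, nat_lit 37, nat_lit 148, nat_lit 111, nat_lit 185, nat_lit 148, nat_lit 74, nat_lit 111, nat_lit 222, nat_lit 37, nat_lit 0, nat_lit 74, nat_lit 185])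
(.leaf 607 10 [nat_lit 0, nat_lit 222, nat_lit 37, nat_lit 148, nat_lit 222, nat_lit 37, nat_lit 0, nat_lit 222, nat_lit 74, nat_lit 148, nat_lit 37, nat_lit 111, nat_lit 148, nat_lit 37, nat_lit 111, nat_lit 74]))
(.node (nat_lit 140) (.leaf 301 2 [nat_lit 296, nat_lit 0, nat_lit 296, nat_lit 74, nat_lit 185, nat_lit 222, nat_lit 185, nat_lit 74, nat_lit 0, nat_lit 259])
(.leaf 179 9 [nat_lit 0, nat_lit 296, nat_lit 259, nat_lit 296, nat_lit 0, nat_lit 222, nat_lit 296, nat_lit 259, nat_lit 296]))))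
(.node (nat_lit 145) (.node (nat_lit 143) (.node (nat_lit 142) (.leaf 555 11 [nat_lit 148, nat_lit 74, nat_lit 111, nat_lit 37, nat_lit 0, nat_lit 74, nat_lit 0, nat_lit 185, nat_lit 37, nat_lit 74, nat_lit 185, nat_lit 0, nat_lit 148, nat_lit 222, nat_lit 0])
(.leaf 555 9 [nat_lit 0, nat_lit 222, nat_lit 148, nat_lit 74, nat_lit 111, nat_lit 37, nat_lit 0, nat_lit 74, nat_lit 0, nat_lit 185, nat_lit 37, nat_lit 74, nat_lit 185, nat_lit 0, nat_lit 148]))
(.node (nat_lit 144) (.leaf 605 5 [nat_lit 296, nat_lit 259, nat_lit 296, nat_lit 37, nat_lit 74, nat_lit 0, nat_lit 296, nat_lit 37, nat_lit 0, nat_lit 222, nat_lit 37, nat_lit 0, nat_lit 37, nat_lit 296, nat_lit 74, nat_lit 37])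
(.leaf 145 4 [nat_lit 111, nat_lit 0, nat_lit 111, nat_lit 222, nat_lit 111, nat_lit 0, nat_lit 296, nat_lit 111, nat_lit 296])))
(.node (nat_lit 147) (.node (nat_lit 146) (.leaf 377 1 [nat_lit 185, nat_lit 222, nat_lit 111, nat_lit 185, nat_lit 0, nat_lit 37, nat_lit 74, nat_lit 111, nat_lit 74, nat_lit 37, nat_lit 0])
(.leaf 553 12 [nat_lit 296, nat_lit 74, nat_lit 37, nat_lit 0, nat_lit 296, nat_lit 222, nat_lit 296, nat_lit 259, nat_lit 74, nat_lit 259, nat_lit 74, nat_lit 0, nat_lit 74, nat_lit 37, nat_lit 296]))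
(.node (nat_lit 148) (.leaf 265 9 [nat_lit 185, nat_lit 222, nat_lit 259, nat_lit 185, nat_lit 222, nat_lit 185, nat_lit 259, nat_lit 222, nat_lit 185])
(.leaf 539 8 [nat_lit 148, nat_lit 259, nat_lit 148, nat_lit 259, nat_lit 148, nat_lit 222, nat_lit 148, nat_lit 259, nat_lit 296, nat_lit 148, nat_lit 296, nat_lit 148, nat_lit 259, nat_lit 148]))))))
(.node (nat_lit 169) (.node (nat_lit 158) (.node (nat_lit 153) (.node (nat_lit 151) (.node (nat_lit 150) (.leaf 407 2 [nat_lit 111, nat_lit 74, nat_lit 111, nat_lit 222, nat_lit 111, nat_lit 37, nat_lit 111, nat_lit 74, nat_lit 111, nat_lit 37, nat_lit 111])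
(.leaf 537 3 [nat_lit 296, nat_lit 74, nat_lit 296, nat_lit 222, nat_lit 148, nat_lit 222, nat_lit 37, nat_lit 148, nat_lit 74, nat_lit 148, nat_lit 74, nat_lit 37, nat_lit 222, nat_lit 148]))
(.node (nat_lit 152) (.leaf 631 2 [nat_lit 148, nat_lit 185, nat_lit 148, nat_lit 0, nat_lit 74, nat_lit 148, nat_lit 37, nat_lit 222, nat_lit 185, nat_lit 0, nat_lit 222, nat_lit 148, nat_lit 0, nat_lit 222, nat_lit 37, nat_lit 0, nat_lit 185])
(.leaf 607 15 [nat_lit 37, nat_lit 0, nat_lit 222, nat_lit 74, nat_lit 148, nat_lit 37, nat_lit 111, nat_lit 148, nat_lit 37, nat_lit 111, nat_lit 74, nat_lit 222, nat_lit 0, nat_lit 222, nat_lit 37, nat_lit 148])))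
(.node (nat_lit 155) (.node (nat_lit 154) (.leaf 633 13 [nat_lit 148, nat_lit 74, nat_lit 0, nat_lit 74, nat_lit 0, nat_lit 259, nat_lit 111, nat_lit 222, nat_lit 148, nat_lit 222, nat_lit 259, nat_lit 148, nat_lit 222, nat_lit 74, nat_lit 111, nat_lit 259, nat_lit 148])
(.leaf 451 4 [nat_lit 74, nat_lit 259, nat_lit 0, nat_lit 74, nat_lit 185, nat_lit 0, nat_lit 74, nat_lit 37, nat_lit 74, nat_lit 0, nat_lit 222, nat_lit 259, nat_lit 185]))
(.node (nat_lit 156) (.leaf 251 4 [nat_lit 296, nat_lit 222, nat_lit 296, nat_lit 74, nat_lit 222, nat_lit 74, nat_lit 296, nat_lit 222, nat_lit 296])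
(.node (nat_lit 157) (.leaf 371 1 [nat_lit 185, nat_lit 222, nat_lit 185, nat_lit 111, nat_lit 37, nat_lit 0, nat_lit 37, nat_lit 111, nat_lit 0, nat_lit 37, nat_lit 0])
(.leaf 547 2 [nat_lit 111, nat_lit 37, nat_lit 148, nat_lit 74, nat_lit 148, nat_lit 111, nat_lit 222, nat_lit 0, nat_lit 74, nat_lit 0, nat_lit 148, nat_lit 0, nat_lit 37, nat_lit 0, nat_lit 148])))))
(.node (nat_lit 163) (.node (nat_lit 160) (.node (nat_lit 159) (.leaf 599 12 [nat_lit 185, nat_lit 222, nat_lit 111, nat_lit 37, nat_lit 0, nat_lit 148, nat_lit 0, nat_lit 185, nat_lit 148, nat_lit 0, nat_lit 148, nat_lit 222, nat_lit 74, nat_lit 185, nat_lit 222, nat_lit 148])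
(.leaf 601 7 [nat_lit 111, nat_lit 222, nat_lit 74, nat_lit 37, nat_lit 74, nat_lit 296, nat_lit 37, nat_lit 148, nat_lit 37, nat_lit 0, nat_lit 37, nat_lit 148, nat_lit 222, nat_lit 111, nat_lit 296, nat_lit 37]))
(.node (nat_lit 161) (.leaf 329 4 [nat_lit 185, nat_lit 259, nat_lit 185, nat_lit 148, nat_lit 0, nat_lit 148, nat_lit 0, nat_lit 148, nat_lit 222, nat_lit 259])
(.node (nat_lit 162) (.leaf 585 2 [nat_lit 111, nat_lit 74, nat_lit 37, nat_lit 111, nat_lit 0, nat_lit 222, nat_lit 148, nat_lit 111, nat_lit 222, nat_lit 0, nat_lit 222, nat_lit 74, nat_lit 0, nat_lit 37, nat_lit 0, nat_lit 148])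
(.leaf 537 1 [nat_lit 148, nat_lit 222, nat_lit 296, nat_lit 74, nat_lit 296, nat_lit 222, nat_lit 148, nat_lit 222, nat_lit 37, nat_lit 148, nat_lit 74, nat_lit 148, nat_lit 74, nat_lit 37]))))
(.node (nat_lit 166) (.node (nat_lit 164) (.leaf 515 13 [nat_lit 37, nat_lit 0, nat_lit 37, nat_lit 296, nat_lit 222, nat_lit 37, nat_lit 0, nat_lit 74, nat_lit 185, nat_lit 296, nat_lit 185, nat_lit 296, nat_lit 259, nat_lit 185])
(.node (nat_lit 165) (.leaf 519 12 [nat_lit 0, nat_lit 74, nat_lit 0, nat_lit 222, nat_lit 296, nat_lit 37, nat_lit 148, nat_lit 74, nat_lit 148, nat_lit 111, nat_lit 74, nat_lit 111, nat_lit 37, nat_lit 296])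
(.leaf 287 1 [nat_lit 259, nat_lit 296, nat_lit 0, nat_lit 296, nat_lit 37, nat_lit 185, nat_lit 222, nat_lit 185, nat_lit 37, nat_lit 0])))
(.node (nat_lit 167) (.leaf 633 3 [nat_lit 148, nat_lit 222, nat_lit 259, nat_lit 148, nat_lit 222, nat_lit 74, nat_lit 111, nat_lit 259, nat_lit 148, nat_lit 222, nat_lit 148, nat_lit 74, nat_lit 0, nat_lit 74, nat_lit 0, nat_lit 259, nat_lit 111])
(.node (nat_lit 168) (.leaf 217 5 [nat_lit 37, nat_lit 185, nat_lit 259, nat_lit 74, nat_lit 37, nat_lit 222, nat_lit 185, nat_lit 259, nat_lit 74])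
(.leaf 217 1 [nat_lit 185, nat_lit 259, nat_lit 74, nat_lit 222, nat_lit 37, nat_lit 185, nat_lit 259, nat_lit 74, nat_lit 37]))))))
(.node (nat_lit 181) (.node (nat_lit 175) (.node (nat_lit 172) (.node (nat_lit 170) (.leaf 417 7 [nat_lit 148, nat_lit 111, nat_lit 222, nat_lit 148, nat_lit 111, nat_lit 222, nat_lit 111, nat_lit 148, nat_lit 222, nat_lit 148, nat_lit 111])
(.node (nat_lit 171) (.leaf 177 9 [nat_lit 0, nat_lit 296, nat_lit 0, nat_lit 296, nat_lit 222, nat_lit 0, nat_lit 296, nat_lit 0, nat_lit 296])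
(.leaf 299 8 [nat_lit 185, nat_lit 74, nat_lit 0, nat_lit 222, nat_lit 296, nat_lit 0, nat_lit 296, nat_lit 259, nat_lit 74, nat_lit 185])))
(.node (nat_lit 173) (.leaf 599 10 [nat_lit 148, nat_lit 222, nat_lit 185, nat_lit 222, nat_lit 111, nat_lit 37, nat_lit 0, nat_lit 148, nat_lit 0, nat_lit 185, nat_lit 148, nat_lit 0, nat_lit 148, nat_lit 222, nat_lit 74, nat_lit 185])
(.node (nat_lit 174) (.leaf 597 7 [nat_lit 148, nat_lit 185, nat_lit 259, nat_lit 111, nat_lit 185, nat_lit 74, nat_lit 37, nat_lit 111, nat_lit 37, nat_lit 0, nat_lit 259, nat_lit 74, nat_lit 111, nat_lit 148, nat_lit 222, nat_lit 0])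
(.leaf 479 10 [nat_lit 185, nat_lit 296, nat_lit 74, nat_lit 37, nat_lit 296, nat_lit 185, nat_lit 259, nat_lit 296, nat_lit 74, nat_lit 222, nat_lit 37, nat_lit 296, nat_lit 259]))))
(.node (nat_lit 178) (.node (nat_lit 176) (.leaf 229 4 [nat_lit 296, nat_lit 259, nat_lit 296, nat_lit 37, nat_lit 222, nat_lit 37, nat_lit 296, nat_lit 259, nat_lit 296])
(.node (nat_lit 177) (.leaf 601 3 [nat_lit 111, nat_lit 296, nat_lit 37, nat_lit 222, nat_lit 111, nat_lit 222, nat_lit 74, nat_lit 37, nat_lit 74, nat_lit 296, nat_lit 37, nat_lit 148, nat_lit 37, nat_lit 0, nat_lit 37, nat_lit 148])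
(.leaf 607 12 [nat_lit 37, nat_lit 148, nat_lit 222, nat_lit 37, nat_lit 0, nat_lit 222, nat_lit 74, nat_lit 148, nat_lit 37, nat_lit 111, nat_lit 148, nat_lit 37, nat_lit 111, nat_lit 74, nat_lit 222, nat_lit 0])))
(.node (nat_lit 179) (.leaf 59 5 [nat_lit 37, nat_lit 74, nat_lit 37, nat_lit 222, nat_lit 37, nat_lit 74, nat_lit 37])
(.node (nat_lit 180) (.leaf 579 5 [nat_lit 111, nat_lit 222, nat_lit 74, nat_lit 111, nat_lit 222, nat_lit 148, nat_lit 74, nat_lit 185, nat_lit 37, nat_lit 185, nat_lit 37, nat_lit 222, nat_lit 185, nat_lit 222, nat_lit 148])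
(.leaf 579 1 [nat_lit 185, nat_lit 222, nat_lit 148, nat_lit 222, nat_lit 111, nat_lit 222, nat_lit 74, nat_lit 111, nat_lit 222, nat_lit 148, nat_lit 74, nat_lit 185, nat_lit 37, nat_lit 185, nat_lit 37])))))
(.node (nat_lit 187) (.node (nat_lit 184) (.node (nat_lit 182) (.leaf 267 9 [nat_lit 185, nat_lit 259, nat_lit 185, nat_lit 222, nat_lit 259, nat_lit 185, nat_lit 259, nat_lit 185, nat_lit 259])
(.node (nat_lit 183) (.leaf 23 5 [nat_lit 74, nat_lit 259, nat_lit 222, nat_lit 259, nat_lit 74])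
(.leaf 631 13 [nat_lit 148, nat_lit 0, nat_lit 222, nat_lit 37, nat_lit 0, nat_lit 185, nat_lit 222, nat_lit 148, nat_lit 185, nat_lit 148, nat_lit 0, nat_lit 74, nat_lit 148, nat_lit 37, nat_lit 222, nat_lit 185, nat_lit 0])))
(.node (nat_lit 185) (.leaf 579 10 [nat_lit 148, nat_lit 74, nat_lit 185, nat_lit 37, nat_lit 185, nat_lit 37, nat_lit 222, nat_lit 185, nat_lit 222, nat_lit 148, nat_lit 222, nat_lit 111, nat_lit 222, nat_lit 74, nat_lit 111])
(.node (nat_lit 186) (.leaf 559 14 [nat_lit 37, nat_lit 0, nat_lit 74, nat_lit 185, nat_lit 222, nat_lit 0, nat_lit 148, nat_lit 185, nat_lit 37, nat_lit 148, nat_lit 111, nat_lit 185, nat_lit 148, nat_lit 74, nat_lit 111])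
(.leaf 23 2 [nat_lit 259, nat_lit 74, nat_lit 222, nat_lit 74, nat_lit 259]))))
(.node (nat_lit 190) (.node (nat_lit 188) (.leaf 553 2 [nat_lit 296, nat_lit 259, nat_lit 74, nat_lit 259, nat_lit 74, nat_lit 0, nat_lit 74, nat_lit 37, nat_lit 296, nat_lit 222, nat_lit 296, nat_lit 74, nat_lit 37, nat_lit 0, nat_lit 296])
(.node (nat_lit 189) (.leaf 587 8 [nat_lit 148, nat_lit 296, nat_lit 74, nat_lit 148, nat_lit 0, nat_lit 148, nat_lit 0, nat_lit 37, nat_lit 0, nat_lit 296, nat_lit 148, nat_lit 222, nat_lit 296, nat_lit 0, nat_lit 37, nat_lit 296])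
(.leaf 327 4 [nat_lit 259, nat_lit 222, nat_lit 185, nat_lit 148, nat_lit 0, nat_lit 148, nat_lit 0, nat_lit 148, nat_lit 259, nat_lit 185])))
(.node (nat_lit 191) (.leaf 543 7 [nat_lit 0, nat_lit 296, nat_lit 37, nat_lit 0, nat_lit 37, nat_lit 111, nat_lit 0, nat_lit 37, nat_lit 0, nat_lit 296, nat_lit 222, nat_lit 111, nat_lit 0, nat_lit 222, nat_lit 111])
(.node (nat_lit 192) (.leaf 535 6 [nat_lit 185, nat_lit 148, nat_lit 185, nat_lit 111, nat_lit 185, nat_lit 74, nat_lit 111, nat_lit 74, nat_lit 37, nat_lit 111, nat_lit 37, nat_lit 148, nat_lit 222, nat_lit 185])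
(.leaf 633 8 [nat_lit 74, nat_lit 111, nat_lit 259, nat_lit 148, nat_lit 222, nat_lit 148, nat_lit 74, nat_lit 0, nat_lit 74, nat_lit 0, nat_lit 259, nat_lit 111, nat_lit 222, nat_lit 148, nat_lit 222, nat_lit 259, nat_lit 148])))))))))))
(.node (nat_lit 317) (.node (nat_lit 233) (.node (nat_lit 211) (.node (nat_lit 202) (.node (nat_lit 197) (.node (nat_lit 195) (.node (nat_lit 194) (.leaf 285 8 [nat_lit 185, nat_lit 37, nat_lit 0, nat_lit 259, nat_lit 222, nat_lit 296, nat_lit 0, nat_lit 296, nat_lit 37, nat_lit 185])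
(.leaf 619 10 [nat_lit 74, nat_lit 185, nat_lit 222, nat_lit 74, nat_lit 111, nat_lit 74, nat_lit 37, nat_lit 185, nat_lit 37, nat_lit 185, nat_lit 148, nat_lit 259, nat_lit 74, nat_lit 259, nat_lit 148, nat_lit 111]))
(.node (nat_lit 196) (.leaf 219 6 [nat_lit 185, nat_lit 259, nat_lit 74, nat_lit 37, nat_lit 222, nat_lit 185, nat_lit 259, nat_lit 74, nat_lit 37])
(.leaf 471 2 [nat_lit 148, nat_lit 222, nat_lit 148, nat_lit 222, nat_lit 148, nat_lit 259, nat_lit 222, nat_lit 148, nat_lit 296, nat_lit 0, nat_lit 148, nat_lit 0, nat_lit 296])))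
(.node (nat_lit 199) (.node (nat_lit 198) (.leaf 433 1 [nat_lit 185, nat_lit 222, nat_lit 185, nat_lit 0, nat_lit 148, nat_lit 222, nat_lit 111, nat_lit 222, nat_lit 111, nat_lit 222, nat_lit 148, nat_lit 0])
(.leaf 585 8 [nat_lit 148, nat_lit 111, nat_lit 222, nat_lit 0, nat_lit 222, nat_lit 74, nat_lit 0, nat_lit 37, nat_lit 0, nat_lit 148, nat_lit 222, nat_lit 111, nat_lit 74, nat_lit 37, nat_lit 111, nat_lit 0]))
(.node (nat_lit 200) (.leaf 61 6 [nat_lit 74, nat_lit 37, nat_lit 74, nat_lit 222, nat_lit 74, nat_lit 37, nat_lit 74])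
(.node (nat_lit 201) (.leaf 253 4 [nat_lit 296, nat_lit 259, nat_lit 296, nat_lit 74, nat_lit 222, nat_lit 74, nat_lit 296, nat_lit 259, nat_lit 296])
(.leaf 433 3 [nat_lit 185, nat_lit 0, nat_lit 148, nat_lit 222, nat_lit 111, nat_lit 222, nat_lit 111, nat_lit 222, nat_lit 148, nat_lit 0, nat_lit 222, nat_lit 185])))))
(.node (nat_lit 206) (.node (nat_lit 204) (.node (nat_lit 203) (.leaf 263 5 [nat_lit 148, nat_lit 222, nat_lit 148, nat_lit 222, nat_lit 148, nat_lit 259, nat_lit 222, nat_lit 259, nat_lit 148])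
(.leaf 207 2 [nat_lit 259, nat_lit 74, nat_lit 37, nat_lit 185, nat_lit 259, nat_lit 222, nat_lit 74, nat_lit 37, nat_lit 185]))
(.node (nat_lit 205) (.leaf 535 4 [nat_lit 185, nat_lit 222, nat_lit 185, nat_lit 148, nat_lit 185, nat_lit 111, nat_lit 185, nat_lit 74, nat_lit 111, nat_lit 74, nat_lit 37, nat_lit 111, nat_lit 37, nat_lit 148])
(.leaf 265 4 [nat_lit 185, nat_lit 259, nat_lit 222, nat_lit 185, nat_lit 222, nat_lit 185, nat_lit 222, nat_lit 259, nat_lit 185])))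
(.node (nat_lit 208) (.node (nat_lit 207) (.leaf 353 1 [nat_lit 259, nat_lit 111, nat_lit 259, nat_lit 111, nat_lit 222, nat_lit 37, nat_lit 111, nat_lit 259, nat_lit 111, nat_lit 37])
(.leaf 631 16 [nat_lit 37, nat_lit 0, nat_lit 185, nat_lit 222, nat_lit 148, nat_lit 185, nat_lit 148, nat_lit 0, nat_lit 74, nat_lit 148, nat_lit 37, nat_lit 222, nat_lit 185, nat_lit 0, nat_lit 222, nat_lit 148, nat_lit 0]))
(.node (nat_lit 209) (.leaf 181 9 [nat_lit 0, nat_lit 259, nat_lit 296, nat_lit 0, nat_lit 296, nat_lit 222, nat_lit 296, nat_lit 259, nat_lit 296])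
(.node (nat_lit 210) (.leaf 537 7 [nat_lit 148, nat_lit 222, nat_lit 37, nat_lit 148, nat_lit 74, nat_lit 148, nat_lit 74, nat_lit 37, nat_lit 222, nat_lit 148, nat_lit 222, nat_lit 296, nat_lit 74, nat_lit 296])
(.leaf 293 1 [nat_lit 296, nat_lit 0, nat_lit 296, nat_lit 37, nat_lit 185, nat_lit 222, nat_lit 185, nat_lit 259, nat_lit 37, nat_lit 0]))))))
(.node (nat_lit 221) (.node (nat_lit 216) (.node (nat_lit 213) (.node (nat_lit 212) (.leaf 469 12 [nat_lit 111, nat_lit 0, nat_lit 296, nat_lit 222, nat_lit 111, nat_lit 259, nat_lit 222, nat_lit 111, nat_lit 259, nat_lit 222, nat_lit 296, nat_lit 222, nat_lit 0])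
(.leaf 483 12 [nat_lit 111, nat_lit 74, nat_lit 111, nat_lit 296, nat_lit 222, nat_lit 296, nat_lit 222, nat_lit 296, nat_lit 111, nat_lit 74, nat_lit 111, nat_lit 222, nat_lit 296]))
(.node (nat_lit 214) (.leaf 209 8 [nat_lit 74, nat_lit 37, nat_lit 185, nat_lit 259, nat_lit 74, nat_lit 222, nat_lit 37, nat_lit 185, nat_lit 259])
(.node (nat_lit 215) (.leaf 597 5 [nat_lit 0, nat_lit 222, nat_lit 148, nat_lit 185, nat_lit 259, nat_lit 111, nat_lit 185, nat_lit 74, nat_lit 37, nat_lit 111, nat_lit 37, nat_lit 0, nat_lit 259, nat_lit 74, nat_lit 111, nat_lit 148])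
(.leaf 481 5 [nat_lit 37, nat_lit 296, nat_lit 37, nat_lit 296, nat_lit 111, nat_lit 185, nat_lit 296, nat_lit 111, nat_lit 37, nat_lit 296, nat_lit 37, nat_lit 222, nat_lit 185]))))
(.node (nat_lit 218) (.node (nat_lit 217) (.leaf 125 6 [nat_lit 259, nat_lit 222, nat_lit 37, nat_lit 0, nat_lit 296, nat_lit 0, nat_lit 259, nat_lit 296, nat_lit 37])
(.leaf 239 2 [nat_lit 259, nat_lit 111, nat_lit 74, nat_lit 111, nat_lit 259, nat_lit 222, nat_lit 111, nat_lit 74, nat_lit 111]))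
(.node (nat_lit 219) (.leaf 251 2 [nat_lit 296, nat_lit 222, nat_lit 296, nat_lit 222, nat_lit 296, nat_lit 74, nat_lit 222, nat_lit 74, nat_lit 296])
(.node (nat_lit 220) (.leaf 619 13 [nat_lit 74, nat_lit 111, nat_lit 74, nat_lit 37, nat_lit 185, nat_lit 37, nat_lit 185, nat_lit 148, nat_lit 259, nat_lit 74, nat_lit 259, nat_lit 148, nat_lit 111, nat_lit 222, nat_lit 74, nat_lit 185])
(.leaf 251 9 [nat_lit 74, nat_lit 296, nat_lit 222, nat_lit 296, nat_lit 222, nat_lit 296, nat_lit 222, nat_lit 296, nat_lit 74])))))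
(.node (nat_lit 227) (.node (nat_lit 224) (.node (nat_lit 222) (.leaf 289 8 [nat_lit 185, nat_lit 37, nat_lit 0, nat_lit 222, nat_lit 0, nat_lit 296, nat_lit 259, nat_lit 296, nat_lit 37, nat_lit 185])
(.node (nat_lit 223) (.leaf 483 5 [nat_lit 296, nat_lit 111, nat_lit 74, nat_lit 111, nat_lit 222, nat_lit 296, nat_lit 222, nat_lit 111, nat_lit 74, nat_lit 111, nat_lit 296, nat_lit 222, nat_lit 296])
(.leaf 329 2 [nat_lit 259, nat_lit 222, nat_lit 185, nat_lit 259, nat_lit 185, nat_lit 148, nat_lit 0, nat_lit 148, nat_lit 0, nat_lit 148])))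
(.node (nat_lit 225) (.leaf 605 15 [nat_lit 37, nat_lit 0, nat_lit 37, nat_lit 296, nat_lit 74, nat_lit 37, nat_lit 222, nat_lit 296, nat_lit 259, nat_lit 296, nat_lit 37, nat_lit 74, nat_lit 0, nat_lit 296, nat_lit 37, nat_lit 0])
(.node (nat_lit 226) (.leaf 147 8 [nat_lit 111, nat_lit 0, nat_lit 111, nat_lit 259, nat_lit 222, nat_lit 259, nat_lit 111, nat_lit 0, nat_lit 111])
(.leaf 195 2 [nat_lit 259, nat_lit 74, nat_lit 259, nat_lit 222, nat_lit 111, nat_lit 37, nat_lit 74, nat_lit 37, nat_lit 111]))))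
(.node (nat_lit 230) (.node (nat_lit 228) (.leaf 183 4 [nat_lit 259, nat_lit 296, nat_lit 259, nat_lit 296, nat_lit 222, nat_lit 0, nat_lit 296, nat_lit 0, nat_lit 296])
(.node (nat_lit 229) (.leaf 65 1 [nat_lit 37, nat_lit 74, nat_lit 259, nat_lit 222, nat_lit 259, nat_lit 74, nat_lit 37])
(.leaf 631 10 [nat_lit 185, nat_lit 0, nat_lit 222, nat_lit 148, nat_lit 0, nat_lit 222, nat_lit 37, nat_lit 0, nat_lit 185, nat_lit 222, nat_lit 148, nat_lit 185, nat_lit 148, nat_lit 0, nat_lit 74, nat_lit 148, nat_lit 37])))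
(.node (nat_lit 231) (.leaf 579 3 [nat_lit 148, nat_lit 222, nat_lit 111, nat_lit 222, nat_lit 74, nat_lit 111, nat_lit 222, nat_lit 148, nat_lit 74, nat_lit 185, nat_lit 37, nat_lit 185, nat_lit 37, nat_lit 222, nat_lit 185])
(.node (nat_lit 232) (.leaf 71 7 [nat_lit 37, nat_lit 259, nat_lit 37, nat_lit 222, nat_lit 37, nat_lit 259, nat_lit 37])
(.leaf 581 5 [nat_lit 37, nat_lit 185, nat_lit 222, nat_lit 37, nat_lit 185, nat_lit 296, nat_lit 111, nat_lit 185, nat_lit 37, nat_lit 185, nat_lit 37, nat_lit 185, nat_lit 111, nat_lit 296, nat_lit 185])))))))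
(.node (nat_lit 263) (.node (nat_lit 247) (.node (nat_lit 240) (.node (nat_lit 236) (.node (nat_lit 234) (.leaf 561 1 [nat_lit 0, nat_lit 185, nat_lit 37, nat_lit 74, nat_lit 185, nat_lit 296, nat_lit 185, nat_lit 0, nat_lit 222, nat_lit 0, nat_lit 185, nat_lit 296, nat_lit 37, nat_lit 74, nat_lit 0])
(.node (nat_lit 235) (.leaf 277 2 [nat_lit 296, nat_lit 222, nat_lit 259, nat_lit 296, nat_lit 222, nat_lit 296, nat_lit 259, nat_lit 222, nat_lit 296])
(.leaf 547 9 [nat_lit 0, nat_lit 74, nat_lit 0, nat_lit 148, nat_lit 0, nat_lit 37, nat_lit 0, nat_lit 148, nat_lit 222, nat_lit 111, nat_lit 37, nat_lit 148, nat_lit 74, nat_lit 148, nat_lit 111])))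
(.node (nat_lit 238) (.node (nat_lit 237) (.leaf 633 5 [nat_lit 259, nat_lit 148, nat_lit 222, nat_lit 74, nat_lit 111, nat_lit 259, nat_lit 148, nat_lit 222, nat_lit 148, nat_lit 74, nat_lit 0, nat_lit 74, nat_lit 0, nat_lit 259, nat_lit 111, nat_lit 222, nat_lit 148])
(.leaf 583 10 [nat_lit 148, nat_lit 37, nat_lit 74, nat_lit 37, nat_lit 0, nat_lit 37, nat_lit 0, nat_lit 148, nat_lit 222, nat_lit 111, nat_lit 37, nat_lit 185, nat_lit 0, nat_lit 111, nat_lit 0, nat_lit 185]))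
(.node (nat_lit 239) (.leaf 183 9 [nat_lit 0, nat_lit 296, nat_lit 0, nat_lit 296, nat_lit 222, nat_lit 259, nat_lit 296, nat_lit 259, nat_lit 296])
(.leaf 265 7 [nat_lit 185, nat_lit 222, nat_lit 185, nat_lit 222, nat_lit 259, nat_lit 185, nat_lit 222, nat_lit 185, nat_lit 259]))))
(.node (nat_lit 243) (.node (nat_lit 241) (.leaf 211 8 [nat_lit 74, nat_lit 37, nat_lit 185, nat_lit 259, nat_lit 74, nat_lit 37, nat_lit 222, nat_lit 185, nat_lit 259])
(.node (nat_lit 242) (.leaf 543 2 [nat_lit 111, nat_lit 0, nat_lit 222, nat_lit 111, nat_lit 222, nat_lit 0, nat_lit 296, nat_lit 37, nat_lit 0, nat_lit 37, nat_lit 111, nat_lit 0, nat_lit 37, nat_lit 0, nat_lit 296])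
(.leaf 227 2 [nat_lit 296, nat_lit 222, nat_lit 296, nat_lit 222, nat_lit 296, nat_lit 37, nat_lit 222, nat_lit 37, nat_lit 296])))
(.node (nat_lit 245) (.node (nat_lit 244) (.leaf 227 9 [nat_lit 37, nat_lit 296, nat_lit 222, nat_lit 296, nat_lit 222, nat_lit 296, nat_lit 222, nat_lit 296, nat_lit 37])
(.leaf 585 11 [nat_lit 0, nat_lit 222, nat_lit 74, nat_lit 0, nat_lit 37, nat_lit 0, nat_lit 148, nat_lit 222, nat_lit 111, nat_lit 74, nat_lit 37, nat_lit 111, nat_lit 0, nat_lit 222, nat_lit 148, nat_lit 111]))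
(.node (nat_lit 246) (.leaf 599 14 [nat_lit 111, nat_lit 37, nat_lit 0, nat_lit 148, nat_lit 0, nat_lit 185, nat_lit 148, nat_lit 0, nat_lit 148, nat_lit 222, nat_lit 74, nat_lit 185, nat_lit 222, nat_lit 148, nat_lit 222, nat_lit 185])
(.leaf 347 4 [nat_lit 185, nat_lit 74, nat_lit 296, nat_lit 0, nat_lit 296, nat_lit 222, nat_lit 0, nat_lit 259, nat_lit 74, nat_lit 185])))))
(.node (nat_lit 255) (.node (nat_lit 251) (.node (nat_lit 249) (.node (nat_lit 248) (.leaf 143 8 [nat_lit 111, nat_lit 0, nat_lit 148, nat_lit 111, nat_lit 148, nat_lit 222, nat_lit 111, nat_lit 0, nat_lit 111])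
(.leaf 357 7 [nat_lit 111, nat_lit 259, nat_lit 111, nat_lit 37, nat_lit 222, nat_lit 259, nat_lit 111, nat_lit 259, nat_lit 111, nat_lit 37]))
(.node (nat_lit 250) (.leaf 277 4 [nat_lit 259, nat_lit 296, nat_lit 222, nat_lit 296, nat_lit 259, nat_lit 222, nat_lit 296, nat_lit 222, nat_lit 296])
(.leaf 333 2 [nat_lit 259, nat_lit 185, nat_lit 259, nat_lit 185, nat_lit 222, nat_lit 148, nat_lit 0, nat_lit 148, nat_lit 0, nat_lit 148])))
(.node (nat_lit 253) (.node (nat_lit 252) (.leaf 613 12 [nat_lit 111, nat_lit 222, nat_lit 111, nat_lit 222, nat_lit 0, nat_lit 296, nat_lit 74, nat_lit 259, nat_lit 37, nat_lit 74, nat_lit 37, nat_lit 296, nat_lit 222, nat_lit 0, nat_lit 222, nat_lit 111])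
(.leaf 583 2 [nat_lit 111, nat_lit 37, nat_lit 185, nat_lit 0, nat_lit 111, nat_lit 0, nat_lit 185, nat_lit 222, nat_lit 148, nat_lit 37, nat_lit 74, nat_lit 37, nat_lit 0, nat_lit 37, nat_lit 0, nat_lit 148]))
(.node (nat_lit 254) (.leaf 265 1 [nat_lit 259, nat_lit 185, nat_lit 222, nat_lit 185, nat_lit 259, nat_lit 222, nat_lit 185, nat_lit 222, nat_lit 185])
(.leaf 611 11 [nat_lit 74, nat_lit 185, nat_lit 222, nat_lit 185, nat_lit 74, nat_lit 0, nat_lit 148, nat_lit 259, nat_lit 148, nat_lit 259, nat_lit 148, nat_lit 185, nat_lit 111, nat_lit 259, nat_lit 111, nat_lit 185]))))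
(.node (nat_lit 259) (.node (nat_lit 257) (.node (nat_lit 256) (.leaf 267 3 [nat_lit 259, nat_lit 185, nat_lit 259, nat_lit 185, nat_lit 259, nat_lit 222, nat_lit 185, nat_lit 259, nat_lit 185])
(.leaf 263 2 [nat_lit 259, nat_lit 148, nat_lit 222, nat_lit 148, nat_lit 222, nat_lit 148, nat_lit 222, nat_lit 148, nat_lit 259]))
(.node (nat_lit 258) (.leaf 611 14 [nat_lit 185, nat_lit 74, nat_lit 0, nat_lit 148, nat_lit 259, nat_lit 148, nat_lit 259, nat_lit 148, nat_lit 185, nat_lit 111, nat_lit 259, nat_lit 111, nat_lit 185, nat_lit 222, nat_lit 74, nat_lit 185])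
(.leaf 293 7 [nat_lit 185, nat_lit 259, nat_lit 37, nat_lit 0, nat_lit 222, nat_lit 296, nat_lit 0, nat_lit 296, nat_lit 37, nat_lit 185])))
(.node (nat_lit 261) (.node (nat_lit 260) (.leaf 503 2 [nat_lit 111, nat_lit 74, nat_lit 148, nat_lit 222, nat_lit 0, nat_lit 222, nat_lit 148, nat_lit 37, nat_lit 222, nat_lit 259, nat_lit 74, nat_lit 37, nat_lit 0, nat_lit 259])
(.leaf 451 1 [nat_lit 259, nat_lit 185, nat_lit 222, nat_lit 74, nat_lit 259, nat_lit 0, nat_lit 74, nat_lit 185, nat_lit 0, nat_lit 74, nat_lit 37, nat_lit 74, nat_lit 0]))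
(.node (nat_lit 262) (.leaf 575 12 [nat_lit 296, nat_lit 259, nat_lit 111, nat_lit 0, nat_lit 148, nat_lit 74, nat_lit 148, nat_lit 0, nat_lit 111, nat_lit 259, nat_lit 296, nat_lit 222, nat_lit 296, nat_lit 74, nat_lit 296])
(.leaf 227 4 [nat_lit 296, nat_lit 222, nat_lit 296, nat_lit 37, nat_lit 222, nat_lit 37, nat_lit 296, nat_lit 222, nat_lit 296]))))))
(.node (nat_lit 281) (.node (nat_lit 272) (.node (nat_lit 267) (.node (nat_lit 265) (.node (nat_lit 264) (.leaf 305 8 [nat_lit 185, nat_lit 74, nat_lit 0, nat_lit 222, nat_lit 0, nat_lit 296, nat_lit 259, nat_lit 296, nat_lit 74, nat_lit 185])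
(.leaf 205 2 [nat_lit 259, nat_lit 74, nat_lit 37, nat_lit 74, nat_lit 259, nat_lit 222, nat_lit 74, nat_lit 37, nat_lit 74]))
(.node (nat_lit 266) (.leaf 345 4 [nat_lit 185, nat_lit 37, nat_lit 296, nat_lit 0, nat_lit 296, nat_lit 222, nat_lit 0, nat_lit 259, nat_lit 37, nat_lit 185])
(.leaf 303 1 [nat_lit 259, nat_lit 296, nat_lit 0, nat_lit 296, nat_lit 74, nat_lit 185, nat_lit 222, nat_lit 185, nat_lit 74, nat_lit 0])))
(.node (nat_lit 269) (.node (nat_lit 268) (.leaf 221 7 [nat_lit 259, nat_lit 74, nat_lit 37, nat_lit 185, nat_lit 222, nat_lit 259, nat_lit 74, nat_lit 37, nat_lit 185])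
(.leaf 575 8 [nat_lit 296, nat_lit 74, nat_lit 296, nat_lit 222, nat_lit 296, nat_lit 259, nat_lit 111, nat_lit 0, nat_lit 148, nat_lit 74, nat_lit 148, nat_lit 0, nat_lit 111, nat_lit 259, nat_lit 296]))
(.node (nat_lit 270) (.leaf 469 10 [nat_lit 0, nat_lit 222, nat_lit 111, nat_lit 0, nat_lit 296, nat_lit 222, nat_lit 111, nat_lit 259, nat_lit 222, nat_lit 111, nat_lit 259, nat_lit 222, nat_lit 296])
(.node (nat_lit 271) (.leaf 471 4 [nat_lit 148, nat_lit 222, nat_lit 148, nat_lit 259, nat_lit 222, nat_lit 148, nat_lit 296, nat_lit 0, nat_lit 148, nat_lit 0, nat_lit 296, nat_lit 222, nat_lit 148])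
(.leaf 521 2 [nat_lit 111, nat_lit 259, nat_lit 74, nat_lit 0, nat_lit 111, nat_lit 222, nat_lit 148, nat_lit 296, nat_lit 148, nat_lit 259, nat_lit 0, nat_lit 74, nat_lit 0, nat_lit 296])))))
(.node (nat_lit 276) (.node (nat_lit 274) (.node (nat_lit 273) (.leaf 483 3 [nat_lit 296, nat_lit 222, nat_lit 296, nat_lit 111, nat_lit 74, nat_lit 111, nat_lit 222, nat_lit 296, nat_lit 222, nat_lit 111, nat_lit 74, nat_lit 111, nat_lit 296])
(.leaf 577 6 [nat_lit 185, nat_lit 222, nat_lit 148, nat_lit 37, nat_lit 74, nat_lit 37, nat_lit 185, nat_lit 0, nat_lit 148, nat_lit 0, nat_lit 185, nat_lit 37, nat_lit 74, nat_lit 37, nat_lit 148]))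
(.node (nat_lit 275) (.leaf 85 6 [nat_lit 259, nat_lit 74, nat_lit 259, nat_lit 222, nat_lit 259, nat_lit 74, nat_lit 259])
(.leaf 471 6 [nat_lit 148, nat_lit 259, nat_lit 222, nat_lit 148, nat_lit 296, nat_lit 0, nat_lit 148, nat_lit 0, nat_lit 296, nat_lit 222, nat_lit 148, nat_lit 222, nat_lit 148])))
(.node (nat_lit 278) (.node (nat_lit 277) (.leaf 171 9 [nat_lit 0, nat_lit 296, nat_lit 0, nat_lit 259, nat_lit 296, nat_lit 222, nat_lit 0, nat_lit 259, nat_lit 0])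
(.leaf 171 5 [nat_lit 0, nat_lit 259, nat_lit 0, nat_lit 222, nat_lit 0, nat_lit 296, nat_lit 0, nat_lit 259, nat_lit 296]))
(.node (nat_lit 279) (.leaf 503 11 [nat_lit 259, nat_lit 74, nat_lit 37, nat_lit 0, nat_lit 259, nat_lit 222, nat_lit 111, nat_lit 74, nat_lit 148, nat_lit 222, nat_lit 0, nat_lit 222, nat_lit 148, nat_lit 37])
(.node (nat_lit 280) (.leaf 291 8 [nat_lit 185, nat_lit 37, nat_lit 0, nat_lit 222, nat_lit 296, nat_lit 0, nat_lit 296, nat_lit 37, nat_lit 259, nat_lit 185])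
(.leaf 215 3 [nat_lit 259, nat_lit 74, nat_lit 37, nat_lit 185, nat_lit 259, nat_lit 74, nat_lit 37, nat_lit 222, nat_lit 185]))))))
(.node (nat_lit 293) (.node (nat_lit 286) (.node (nat_lit 283) (.node (nat_lit 282) (.leaf 457 8 [nat_lit 296, nat_lit 222, nat_lit 37, nat_lit 296, nat_lit 74, nat_lit 0, nat_lit 222, nat_lit 0, nat_lit 74, nat_lit 296, nat_lit 222, nat_lit 37, nat_lit 296])
(.leaf 65 5 [nat_lit 259, nat_lit 74, nat_lit 37, nat_lit 222, nat_lit 37, nat_lit 74, nat_lit 259]))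
(.node (nat_lit 284) (.leaf 257 1 [nat_lit 148, nat_lit 222, nat_lit 148, nat_lit 222, nat_lit 148, nat_lit 222, nat_lit 111, nat_lit 148, nat_lit 111])
(.node (nat_lit 285) (.leaf 473 2 [nat_lit 259, nat_lit 111, nat_lit 259, nat_lit 111, nat_lit 222, nat_lit 185, nat_lit 148, nat_lit 259, nat_lit 148, nat_lit 259, nat_lit 148, nat_lit 0, nat_lit 185])
(.leaf 481 3 [nat_lit 185, nat_lit 222, nat_lit 37, nat_lit 296, nat_lit 37, nat_lit 296, nat_lit 111, nat_lit 185, nat_lit 296, nat_lit 111, nat_lit 37, nat_lit 296, nat_lit 37]))))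
(.node (nat_lit 289) (.node (nat_lit 287) (.leaf 253 9 [nat_lit 74, nat_lit 296, nat_lit 259, nat_lit 296, nat_lit 222, nat_lit 296, nat_lit 259, nat_lit 296, nat_lit 74])
(.node (nat_lit 288) (.leaf 301 8 [nat_lit 185, nat_lit 74, nat_lit 0, nat_lit 259, nat_lit 222, nat_lit 296, nat_lit 0, nat_lit 296, nat_lit 74, nat_lit 185])
(.leaf 251 6 [nat_lit 296, nat_lit 74, nat_lit 222, nat_lit 74, nat_lit 296, nat_lit 222, nat_lit 296, nat_lit 222, nat_lit 296])))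
(.node (nat_lit 291) (.node (nat_lit 290) (.leaf 357 1 [nat_lit 259, nat_lit 111, nat_lit 259, nat_lit 111, nat_lit 37, nat_lit 222, nat_lit 111, nat_lit 259, nat_lit 111, nat_lit 37])
(.leaf 73 7 [nat_lit 37, nat_lit 222, nat_lit 259, nat_lit 222, nat_lit 37, nat_lit 222, nat_lit 259]))
(.node (nat_lit 292) (.leaf 331 3 [nat_lit 185, nat_lit 259, nat_lit 185, nat_lit 222, nat_lit 148, nat_lit 0, nat_lit 148, nat_lit 0, nat_lit 148, nat_lit 259])
(.leaf 291 1 [nat_lit 296, nat_lit 0, nat_lit 296, nat_lit 37, nat_lit 259, nat_lit 185, nat_lit 222, nat_lit 185, nat_lit 37, nat_lit 0])))))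
(.node (nat_lit 301) (.node (nat_lit 297) (.node (nat_lit 295) (.node (nat_lit 294) (.leaf 231 2 [nat_lit 296, nat_lit 259, nat_lit 296, nat_lit 222, nat_lit 296, nat_lit 37, nat_lit 259, nat_lit 37, nat_lit 296])
(.leaf 353 6 [nat_lit 37, nat_lit 111, nat_lit 259, nat_lit 111, nat_lit 37, nat_lit 222, nat_lit 259, nat_lit 111, nat_lit 259, nat_lit 111]))
(.node (nat_lit 296) (.leaf 229 9 [nat_lit 37, nat_lit 296, nat_lit 259, nat_lit 296, nat_lit 222, nat_lit 296, nat_lit 259, nat_lit 296, nat_lit 37])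
(.leaf 257 5 [nat_lit 148, nat_lit 222, nat_lit 111, nat_lit 148, nat_lit 111, nat_lit 222, nat_lit 148, nat_lit 222, nat_lit 148])))
(.node (nat_lit 299) (.node (nat_lit 298) (.leaf 147 3 [nat_lit 259, nat_lit 111, nat_lit 0, nat_lit 111, nat_lit 222, nat_lit 111, nat_lit 0, nat_lit 111, nat_lit 259])
(.leaf 81 7 [nat_lit 74, nat_lit 259, nat_lit 74, nat_lit 222, nat_lit 74, nat_lit 259, nat_lit 74]))
(.node (nat_lit 300) (.leaf 627 14 [nat_lit 148, nat_lit 111, nat_lit 37, nat_lit 0, nat_lit 74, nat_lit 37, nat_lit 111, nat_lit 148, nat_lit 37, nat_lit 74, nat_lit 185, nat_lit 111, nat_lit 222, nat_lit 111, nat_lit 185, nat_lit 74, nat_lit 111])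
(.leaf 497 2 [nat_lit 111, nat_lit 259, nat_lit 111, nat_lit 222, nat_lit 296, nat_lit 0, nat_lit 111, nat_lit 37, nat_lit 0, nat_lit 111, nat_lit 0, nat_lit 37, nat_lit 0, nat_lit 296]))))
(.node (nat_lit 306) (.node (nat_lit 303) (.node (nat_lit 302) (.leaf 601 9 [nat_lit 74, nat_lit 37, nat_lit 74, nat_lit 296, nat_lit 37, nat_lit 148, nat_lit 37, nat_lit 0, nat_lit 37, nat_lit 148, nat_lit 222, nat_lit 111, nat_lit 296, nat_lit 37, nat_lit 222, nat_lit 111])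
(.leaf 45 5 [nat_lit 259, nat_lit 222, nat_lit 0, nat_lit 222, nat_lit 259, nat_lit 222, nat_lit 0]))
(.node (nat_lit 304) (.leaf 613 16 [nat_lit 0, nat_lit 296, nat_lit 74, nat_lit 259, nat_lit 37, nat_lit 74, nat_lit 37, nat_lit 296, nat_lit 222, nat_lit 0, nat_lit 222, nat_lit 111, nat_lit 222, nat_lit 111, nat_lit 222, nat_lit 111])
(.node (nat_lit 305) (.leaf 227 6 [nat_lit 296, nat_lit 37, nat_lit 222, nat_lit 37, nat_lit 296, nat_lit 222, nat_lit 296, nat_lit 222, nat_lit 296])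
(.leaf 257 3 [nat_lit 148, nat_lit 222, nat_lit 148, nat_lit 222, nat_lit 111, nat_lit 148, nat_lit 111, nat_lit 222, nat_lit 148]))))
(.node (nat_lit 310) (.node (nat_lit 308) (.node (nat_lit 307) (.leaf 457 1 [nat_lit 0, nat_lit 74, nat_lit 296, nat_lit 222, nat_lit 37, nat_lit 296, nat_lit 222, nat_lit 296, nat_lit 222, nat_lit 37, nat_lit 296, nat_lit 74, nat_lit 0])
(.leaf 613 10 [nat_lit 111, nat_lit 222, nat_lit 111, nat_lit 222, nat_lit 111, nat_lit 222, nat_lit 0, nat_lit 296, nat_lit 74, nat_lit 259, nat_lit 37, nat_lit 74, nat_lit 37, nat_lit 296, nat_lit 222, nat_lit 0]))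
(.node (nat_lit 309) (.leaf 593 1 [nat_lit 0, nat_lit 296, nat_lit 37, nat_lit 0, nat_lit 259, nat_lit 185, nat_lit 296, nat_lit 222, nat_lit 185, nat_lit 296, nat_lit 37, nat_lit 74, nat_lit 185, nat_lit 0, nat_lit 37, nat_lit 0])
(.leaf 355 2 [nat_lit 111, nat_lit 259, nat_lit 111, nat_lit 37, nat_lit 222, nat_lit 111, nat_lit 259, nat_lit 111, nat_lit 37, nat_lit 259])))
(.node (nat_lit 312) (.node (nat_lit 311) (.leaf 145 8 [nat_lit 111, nat_lit 0, nat_lit 296, nat_lit 111, nat_lit 296, nat_lit 222, nat_lit 111, nat_lit 0, nat_lit 111])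
(.leaf 287 8 [nat_lit 185, nat_lit 37, nat_lit 0, nat_lit 222, nat_lit 259, nat_lit 296, nat_lit 0, nat_lit 296, nat_lit 37, nat_lit 185]))
(.node (nat_lit 314) (.node (nat_lit 313) (.leaf 613 8 [nat_lit 0, nat_lit 222, nat_lit 111, nat_lit 222, nat_lit 111, nat_lit 222, nat_lit 111, nat_lit 222, nat_lit 0, nat_lit 296, nat_lit 74, nat_lit 259, nat_lit 37, nat_lit 74, nat_lit 37, nat_lit 296])
(.leaf 303 8 [nat_lit 185, nat_lit 74, nat_lit 0, nat_lit 222, nat_lit 259, nat_lit 296, nat_lit 0, nat_lit 296, nat_lit 74, nat_lit 185]))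
(.node (nat_lit 315) (.leaf 73 5 [nat_lit 259, nat_lit 222, nat_lit 37, nat_lit 222, nat_lit 259, nat_lit 222, nat_lit 37])
(.node (nat_lit 316) (.leaf 263 9 [nat_lit 148, nat_lit 259, nat_lit 222, nat_lit 259, nat_lit 148, nat_lit 222, nat_lit 148, nat_lit 222, nat_lit 148])
(.leaf 181 5 [nat_lit 296, nat_lit 259, nat_lit 296, nat_lit 222, nat_lit 0, nat_lit 259, nat_lit 296, nat_lit 0, nat_lit 296]))))))))))))
(.leaf 0 0 []))))
noncomputable def wt7 : LT := (.node (nat_lit 7) (.node (nat_lit 2) (.node (nat_lit 0) (.leaf 13 3 [nat_lit 222, nat_lit 259, nat_lit 222])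
(.node (nat_lit 1) (.leaf 1 3 [nat_lit 0, nat_lit 259, nat_lit 0])
(.leaf 17 3 [nat_lit 296, nat_lit 259, nat_lit 0, nat_lit 296, nat_lit 0])))
(.node (nat_lit 4) (.node (nat_lit 3) (.leaf 5 3 [nat_lit 37, nat_lit 259, nat_lit 37])
(.leaf 39 6 [nat_lit 185, nat_lit 0, nat_lit 185, nat_lit 259, nat_lit 185, nat_lit 0, nat_lit 185]))
(.node (nat_lit 5) (.leaf 35 3 [nat_lit 148, nat_lit 296, nat_lit 0, nat_lit 148, nat_lit 0, nat_lit 296, nat_lit 148])
(.node (nat_lit 6) (.leaf 23 3 [nat_lit 74, nat_lit 222, nat_lit 74, nat_lit 259, nat_lit 222])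
(.leaf 57 4 [nat_lit 111, nat_lit 37, nat_lit 74, nat_lit 37, nat_lit 111, nat_lit 259, nat_lit 74])))))
(.node (nat_lit 96) (.node (nat_lit 18) (.node (nat_lit 11) (.node (nat_lit 9) (.node (nat_lit 8) (.leaf 95 7 [nat_lit 111, nat_lit 259, nat_lit 111, nat_lit 259, nat_lit 111, nat_lit 259, nat_lit 111])
(.leaf 57 2 [nat_lit 74, nat_lit 259, nat_lit 111, nat_lit 37, nat_lit 74, nat_lit 37, nat_lit 111]))
(.node (nat_lit 10) (.leaf 107 5 [nat_lit 185, nat_lit 222, nat_lit 185, nat_lit 259, nat_lit 185, nat_lit 222, nat_lit 185])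
(.leaf 115 6 [nat_lit 296, nat_lit 222, nat_lit 296, nat_lit 259, nat_lit 296, nat_lit 222, nat_lit 296])))
(.node (nat_lit 14) (.node (nat_lit 12) (.leaf 51 4 [nat_lit 296, nat_lit 0, nat_lit 296, nat_lit 0, nat_lit 296, nat_lit 259, nat_lit 296])
(.node (nat_lit 13) (.leaf 111 7 [nat_lit 185, nat_lit 296, nat_lit 185, nat_lit 259, nat_lit 185, nat_lit 296, nat_lit 185])
(.leaf 15 5 [nat_lit 0, nat_lit 296, nat_lit 259, nat_lit 0, nat_lit 296])))
(.node (nat_lit 16) (.node (nat_lit 15) (.leaf 109 7 [nat_lit 185, nat_lit 259, nat_lit 185, nat_lit 259, nat_lit 185, nat_lit 259, nat_lit 185])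
(.leaf 63 6 [nat_lit 74, nat_lit 37, nat_lit 74, nat_lit 259, nat_lit 74, nat_lit 37, nat_lit 74]))
(.node (nat_lit 17) (.leaf 155 3 [nat_lit 148, nat_lit 0, nat_lit 296, nat_lit 148, nat_lit 259, nat_lit 148, nat_lit 0, nat_lit 259, nat_lit 296])
(.leaf 351 9 [nat_lit 111, nat_lit 37, nat_lit 259, nat_lit 222, nat_lit 111, nat_lit 259, nat_lit 111, nat_lit 222, nat_lit 37, nat_lit 111])))))
(.node (nat_lit 35) (.node (nat_lit 24) (.node (nat_lit 21) (.node (nat_lit 19) (.leaf 51 2 [nat_lit 296, nat_lit 259, nat_lit 296, nat_lit 0, nat_lit 296, nat_lit 0, nat_lit 296])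
(.node (nat_lit 20) (.leaf 19 4 [nat_lit 222, nat_lit 37, nat_lit 259, nat_lit 222, nat_lit 37])
(.leaf 263 3 [nat_lit 148, nat_lit 222, nat_lit 148, nat_lit 222, nat_lit 148, nat_lit 222, nat_lit 148, nat_lit 259, nat_lit 222])))
(.node (nat_lit 22) (.leaf 279 4 [nat_lit 296, nat_lit 37, nat_lit 0, nat_lit 74, nat_lit 185, nat_lit 37, nat_lit 0, nat_lit 74, nat_lit 185, nat_lit 296])
(.node (nat_lit 23) (.leaf 53 6 [nat_lit 296, nat_lit 0, nat_lit 296, nat_lit 259, nat_lit 296, nat_lit 0, nat_lit 296])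
(.leaf 155 8 [nat_lit 148, nat_lit 0, nat_lit 259, nat_lit 296, nat_lit 259, nat_lit 148, nat_lit 0, nat_lit 296, nat_lit 148]))))
(.node (nat_lit 29) (.node (nat_lit 26) (.node (nat_lit 25) (.leaf 119 2 [nat_lit 185, nat_lit 259, nat_lit 185, nat_lit 148, nat_lit 0, nat_lit 148, nat_lit 0, nat_lit 148])
(.leaf 149 8 [nat_lit 111, nat_lit 0, nat_lit 296, nat_lit 111, nat_lit 0, nat_lit 111, nat_lit 259, nat_lit 296, nat_lit 111]))
(.node (nat_lit 27) (.leaf 147 4 [nat_lit 111, nat_lit 0, nat_lit 111, nat_lit 222, nat_lit 111, nat_lit 0, nat_lit 111, nat_lit 259, nat_lit 222])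
(.node (nat_lit 28) (.leaf 351 4 [nat_lit 111, nat_lit 222, nat_lit 37, nat_lit 111, nat_lit 259, nat_lit 111, nat_lit 37, nat_lit 259, nat_lit 222, nat_lit 111])
(.leaf 373 8 [nat_lit 148, nat_lit 0, nat_lit 37, nat_lit 0, nat_lit 148, nat_lit 259, nat_lit 148, nat_lit 0, nat_lit 37, nat_lit 0, nat_lit 148]))))
(.node (nat_lit 32) (.node (nat_lit 30) (.leaf 119 4 [nat_lit 185, nat_lit 148, nat_lit 0, nat_lit 148, nat_lit 0, nat_lit 148, nat_lit 259, nat_lit 185])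
(.node (nat_lit 31) (.leaf 159 1 [nat_lit 148, nat_lit 296, nat_lit 148, nat_lit 259, nat_lit 0, nat_lit 148, nat_lit 296, nat_lit 148, nat_lit 0])
(.leaf 83 7 [nat_lit 74, nat_lit 259, nat_lit 74, nat_lit 259, nat_lit 74, nat_lit 259, nat_lit 74])))
(.node (nat_lit 33) (.leaf 129 8 [nat_lit 74, nat_lit 0, nat_lit 74, nat_lit 296, nat_lit 259, nat_lit 74, nat_lit 0, nat_lit 74, nat_lit 296])
(.node (nat_lit 34) (.leaf 123 7 [nat_lit 185, nat_lit 37, nat_lit 0, nat_lit 74, nat_lit 259, nat_lit 185, nat_lit 37, nat_lit 0, nat_lit 74])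
(.leaf 319 5 [nat_lit 148, nat_lit 0, nat_lit 148, nat_lit 0, nat_lit 148, nat_lit 0, nat_lit 185, nat_lit 259, nat_lit 185, nat_lit 0]))))))
(.node (nat_lit 57) (.node (nat_lit 44) (.node (nat_lit 39) (.node (nat_lit 37) (.node (nat_lit 36) (.leaf 149 5 [nat_lit 296, nat_lit 111, nat_lit 259, nat_lit 111, nat_lit 0, nat_lit 296, nat_lit 111, nat_lit 0, nat_lit 111])
(.leaf 363 3 [nat_lit 148, nat_lit 222, nat_lit 148, nat_lit 74, nat_lit 148, nat_lit 222, nat_lit 148, nat_lit 74, nat_lit 259, nat_lit 74]))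
(.node (nat_lit 38) (.leaf 117 0 [nat_lit 296, nat_lit 259, nat_lit 296, nat_lit 259, nat_lit 296, nat_lit 259, nat_lit 296])
(.leaf 339 4 [nat_lit 148, nat_lit 259, nat_lit 185, nat_lit 259, nat_lit 185, nat_lit 148, nat_lit 0, nat_lit 148, nat_lit 259, nat_lit 0])))
(.node (nat_lit 41) (.node (nat_lit 40) (.leaf 281 2 [nat_lit 296, nat_lit 222, nat_lit 0, nat_lit 37, nat_lit 185, nat_lit 222, nat_lit 185, nat_lit 37, nat_lit 0, nat_lit 296])
(.leaf 239 3 [nat_lit 111, nat_lit 74, nat_lit 111, nat_lit 259, nat_lit 222, nat_lit 111, nat_lit 74, nat_lit 111, nat_lit 222]))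
(.node (nat_lit 42) (.leaf 397 10 [nat_lit 148, nat_lit 0, nat_lit 148, nat_lit 259, nat_lit 148, nat_lit 259, nat_lit 148, nat_lit 0, nat_lit 148, nat_lit 259, nat_lit 148])
(.node (nat_lit 43) (.leaf 153 5 [nat_lit 111, nat_lit 148, nat_lit 296, nat_lit 111, nat_lit 0, nat_lit 148, nat_lit 0, nat_lit 296, nat_lit 148])
(.leaf 187 5 [nat_lit 37, nat_lit 74, nat_lit 37, nat_lit 74, nat_lit 37, nat_lit 259, nat_lit 74, nat_lit 37, nat_lit 74])))))
(.node (nat_lit 50) (.node (nat_lit 47) (.node (nat_lit 45) (.leaf 415 1 [nat_lit 148, nat_lit 259, nat_lit 296, nat_lit 148, nat_lit 74, nat_lit 296, nat_lit 74, nat_lit 259, nat_lit 74, nat_lit 148, nat_lit 74])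
(.node (nat_lit 46) (.leaf 397 8 [nat_lit 148, nat_lit 259, nat_lit 148, nat_lit 0, nat_lit 148, nat_lit 259, nat_lit 148, nat_lit 259, nat_lit 148, nat_lit 0, nat_lit 148])
(.leaf 359 4 [nat_lit 296, nat_lit 259, nat_lit 185, nat_lit 259, nat_lit 185, nat_lit 111, nat_lit 74, nat_lit 296, nat_lit 74, nat_lit 111])))
(.node (nat_lit 48) (.leaf 497 4 [nat_lit 111, nat_lit 222, nat_lit 296, nat_lit 0, nat_lit 111, nat_lit 37, nat_lit 0, nat_lit 111, nat_lit 0, nat_lit 37, nat_lit 0, nat_lit 296, nat_lit 222, nat_lit 111])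
(.node (nat_lit 49) (.leaf 391 3 [nat_lit 296, nat_lit 148, nat_lit 0, nat_lit 111, nat_lit 74, nat_lit 148, nat_lit 74, nat_lit 111, nat_lit 0, nat_lit 148, nat_lit 296])
(.leaf 163 1 [nat_lit 185, nat_lit 0, nat_lit 185, nat_lit 259, nat_lit 0, nat_lit 185, nat_lit 0, nat_lit 185, nat_lit 0]))))
(.node (nat_lit 53) (.node (nat_lit 51) (.leaf 207 7 [nat_lit 222, nat_lit 74, nat_lit 37, nat_lit 185, nat_lit 222, nat_lit 259, nat_lit 74, nat_lit 37, nat_lit 185])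
(.node (nat_lit 52) (.leaf 493 5 [nat_lit 296, nat_lit 185, nat_lit 296, nat_lit 259, nat_lit 185, nat_lit 259, nat_lit 74, nat_lit 0, nat_lit 37, nat_lit 0, nat_lit 296, nat_lit 37, nat_lit 0, nat_lit 185])
(.leaf 563 8 [nat_lit 148, nat_lit 185, nat_lit 0, nat_lit 148, nat_lit 74, nat_lit 111, nat_lit 74, nat_lit 0, nat_lit 185, nat_lit 74, nat_lit 111, nat_lit 74, nat_lit 148, nat_lit 259, nat_lit 185])))
(.node (nat_lit 55) (.node (nat_lit 54) (.leaf 275 1 [nat_lit 296, nat_lit 222, nat_lit 296, nat_lit 185, nat_lit 296, nat_lit 222, nat_lit 296, nat_lit 259, nat_lit 185])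
(.leaf 473 10 [nat_lit 148, nat_lit 259, nat_lit 148, nat_lit 0, nat_lit 185, nat_lit 222, nat_lit 259, nat_lit 111, nat_lit 259, nat_lit 111, nat_lit 222, nat_lit 185, nat_lit 148]))
(.node (nat_lit 56) (.leaf 271 1 [nat_lit 296, nat_lit 185, nat_lit 259, nat_lit 185, nat_lit 296, nat_lit 259, nat_lit 185, nat_lit 259, nat_lit 185])
(.leaf 405 6 [nat_lit 37, nat_lit 296, nat_lit 185, nat_lit 296, nat_lit 74, nat_lit 37, nat_lit 259, nat_lit 296, nat_lit 185, nat_lit 296, nat_lit 74]))))))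
(.node (nat_lit 73) (.node (nat_lit 65) (.node (nat_lit 61) (.node (nat_lit 59) (.node (nat_lit 58) (.leaf 337 6 [nat_lit 74, nat_lit 259, nat_lit 74, nat_lit 148, nat_lit 0, nat_lit 296, nat_lit 74, nat_lit 296, nat_lit 0, nat_lit 148])
(.leaf 393 10 [nat_lit 111, nat_lit 0, nat_lit 185, nat_lit 111, nat_lit 185, nat_lit 259, nat_lit 185, nat_lit 111, nat_lit 185, nat_lit 0, nat_lit 111]))
(.node (nat_lit 60) (.leaf 633 6 [nat_lit 148, nat_lit 222, nat_lit 74, nat_lit 111, nat_lit 259, nat_lit 148, nat_lit 222, nat_lit 148, nat_lit 74, nat_lit 0, nat_lit 74, nat_lit 0, nat_lit 259, nat_lit 111, nat_lit 222, nat_lit 148, nat_lit 222])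
(.leaf 131 1 [nat_lit 74, nat_lit 296, nat_lit 74, nat_lit 259, nat_lit 0, nat_lit 74, nat_lit 296, nat_lit 74, nat_lit 0])))
(.node (nat_lit 63) (.node (nat_lit 62) (.leaf 157 8 [nat_lit 148, nat_lit 0, nat_lit 296, nat_lit 148, nat_lit 259, nat_lit 148, nat_lit 259, nat_lit 0, nat_lit 296])
(.leaf 237 7 [nat_lit 222, nat_lit 111, nat_lit 74, nat_lit 111, nat_lit 259, nat_lit 222, nat_lit 111, nat_lit 74, nat_lit 111]))
(.node (nat_lit 64) (.leaf 447 9 [nat_lit 148, nat_lit 37, nat_lit 111, nat_lit 37, nat_lit 0, nat_lit 111, nat_lit 0, nat_lit 148, nat_lit 259, nat_lit 185, nat_lit 111, nat_lit 185, nat_lit 111])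
(.leaf 195 5 [nat_lit 222, nat_lit 111, nat_lit 37, nat_lit 74, nat_lit 37, nat_lit 111, nat_lit 222, nat_lit 259, nat_lit 74]))))
(.node (nat_lit 69) (.node (nat_lit 67) (.node (nat_lit 66) (.leaf 473 12 [nat_lit 148, nat_lit 0, nat_lit 185, nat_lit 222, nat_lit 259, nat_lit 111, nat_lit 259, nat_lit 111, nat_lit 222, nat_lit 185, nat_lit 148, nat_lit 259, nat_lit 148])
(.leaf 151 5 [nat_lit 296, nat_lit 111, nat_lit 259, nat_lit 111, nat_lit 0, nat_lit 111, nat_lit 296, nat_lit 0, nat_lit 111]))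
(.node (nat_lit 68) (.leaf 473 5 [nat_lit 111, nat_lit 222, nat_lit 185, nat_lit 148, nat_lit 259, nat_lit 148, nat_lit 259, nat_lit 148, nat_lit 0, nat_lit 185, nat_lit 222, nat_lit 259, nat_lit 111])
(.leaf 207 3 [nat_lit 74, nat_lit 37, nat_lit 185, nat_lit 259, nat_lit 222, nat_lit 74, nat_lit 37, nat_lit 185, nat_lit 222])))
(.node (nat_lit 71) (.node (nat_lit 70) (.leaf 179 7 [nat_lit 296, nat_lit 222, nat_lit 0, nat_lit 296, nat_lit 259, nat_lit 296, nat_lit 0, nat_lit 222, nat_lit 296])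
(.leaf 47 3 [nat_lit 296, nat_lit 222, nat_lit 259, nat_lit 222, nat_lit 0, nat_lit 296, nat_lit 0]))
(.node (nat_lit 72) (.leaf 273 9 [nat_lit 185, nat_lit 296, nat_lit 222, nat_lit 296, nat_lit 259, nat_lit 185, nat_lit 296, nat_lit 222, nat_lit 296])
(.leaf 451 6 [nat_lit 0, nat_lit 74, nat_lit 185, nat_lit 0, nat_lit 74, nat_lit 37, nat_lit 74, nat_lit 0, nat_lit 222, nat_lit 259, nat_lit 185, nat_lit 222, nat_lit 74])))))
(.node (nat_lit 84) (.node (nat_lit 78) (.node (nat_lit 75) (.node (nat_lit 74) (.leaf 459 3 [nat_lit 148, nat_lit 259, nat_lit 111, nat_lit 259, nat_lit 0, nat_lit 111, nat_lit 0, nat_lit 148, nat_lit 0, nat_lit 111, nat_lit 0, nat_lit 259, nat_lit 111])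
(.leaf 633 11 [nat_lit 148, nat_lit 222, nat_lit 148, nat_lit 74, nat_lit 0, nat_lit 74, nat_lit 0, nat_lit 259, nat_lit 111, nat_lit 222, nat_lit 148, nat_lit 222, nat_lit 259, nat_lit 148, nat_lit 222, nat_lit 74, nat_lit 111]))
(.node (nat_lit 76) (.leaf 403 6 [nat_lit 37, nat_lit 111, nat_lit 74, nat_lit 111, nat_lit 74, nat_lit 37, nat_lit 259, nat_lit 111, nat_lit 74, nat_lit 111, nat_lit 74])
(.node (nat_lit 77) (.leaf 415 3 [nat_lit 296, nat_lit 148, nat_lit 74, nat_lit 296, nat_lit 74, nat_lit 259, nat_lit 74, nat_lit 148, nat_lit 74, nat_lit 259, nat_lit 148])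
(.leaf 283 5 [nat_lit 37, nat_lit 185, nat_lit 222, nat_lit 185, nat_lit 37, nat_lit 0, nat_lit 222, nat_lit 296, nat_lit 0, nat_lit 296]))))
(.node (nat_lit 81) (.node (nat_lit 79) (.leaf 337 8 [nat_lit 74, nat_lit 148, nat_lit 0, nat_lit 296, nat_lit 74, nat_lit 296, nat_lit 0, nat_lit 148, nat_lit 259, nat_lit 74])
(.node (nat_lit 80) (.leaf 289 4 [nat_lit 296, nat_lit 37, nat_lit 185, nat_lit 222, nat_lit 185, nat_lit 37, nat_lit 0, nat_lit 222, nat_lit 0, nat_lit 296])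
(.leaf 365 5 [nat_lit 74, nat_lit 296, nat_lit 185, nat_lit 259, nat_lit 185, nat_lit 74, nat_lit 259, nat_lit 74, nat_lit 296, nat_lit 74])))
(.node (nat_lit 82) (.leaf 469 4 [nat_lit 222, nat_lit 111, nat_lit 259, nat_lit 222, nat_lit 296, nat_lit 222, nat_lit 0, nat_lit 222, nat_lit 111, nat_lit 0, nat_lit 296, nat_lit 222, nat_lit 111])
(.node (nat_lit 83) (.leaf 189 5 [nat_lit 111, nat_lit 74, nat_lit 37, nat_lit 74, nat_lit 37, nat_lit 74, nat_lit 111, nat_lit 259, nat_lit 74])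
(.leaf 163 5 [nat_lit 0, nat_lit 185, nat_lit 0, nat_lit 185, nat_lit 0, nat_lit 259, nat_lit 185, nat_lit 0, nat_lit 185])))))
(.node (nat_lit 90) (.node (nat_lit 87) (.node (nat_lit 85) (.leaf 611 8 [nat_lit 111, nat_lit 185, nat_lit 222, nat_lit 74, nat_lit 185, nat_lit 222, nat_lit 185, nat_lit 74, nat_lit 0, nat_lit 148, nat_lit 259, nat_lit 148, nat_lit 259, nat_lit 148, nat_lit 185, nat_lit 111])
(.node (nat_lit 86) (.leaf 485 1 [nat_lit 148, nat_lit 185, nat_lit 148, nat_lit 185, nat_lit 259, nat_lit 111, nat_lit 259, nat_lit 185, nat_lit 148, nat_lit 185, nat_lit 148, nat_lit 259, nat_lit 111])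
(.leaf 213 5 [nat_lit 37, nat_lit 74, nat_lit 259, nat_lit 74, nat_lit 37, nat_lit 259, nat_lit 74, nat_lit 259, nat_lit 74])))
(.node (nat_lit 88) (.leaf 271 7 [nat_lit 185, nat_lit 259, nat_lit 185, nat_lit 259, nat_lit 296, nat_lit 185, nat_lit 259, nat_lit 185, nat_lit 296])
(.node (nat_lit 89) (.leaf 405 1 [nat_lit 296, nat_lit 185, nat_lit 296, nat_lit 74, nat_lit 259, nat_lit 37, nat_lit 296, nat_lit 185, nat_lit 296, nat_lit 74, nat_lit 37])
(.leaf 411 8 [nat_lit 148, nat_lit 259, nat_lit 296, nat_lit 37, nat_lit 296, nat_lit 259, nat_lit 148, nat_lit 259, nat_lit 296, nat_lit 37, nat_lit 296]))))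
(.node (nat_lit 93) (.node (nat_lit 91) (.leaf 443 3 [nat_lit 148, nat_lit 74, nat_lit 148, nat_lit 259, nat_lit 0, nat_lit 111, nat_lit 185, nat_lit 0, nat_lit 111, nat_lit 37, nat_lit 0, nat_lit 185, nat_lit 74])
(.node (nat_lit 92) (.leaf 187 1 [nat_lit 74, nat_lit 37, nat_lit 74, nat_lit 259, nat_lit 37, nat_lit 74, nat_lit 37, nat_lit 74, nat_lit 37])
(.leaf 335 7 [nat_lit 148, nat_lit 0, nat_lit 148, nat_lit 0, nat_lit 148, nat_lit 296, nat_lit 185, nat_lit 259, nat_lit 185, nat_lit 296])))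
(.node (nat_lit 94) (.leaf 291 6 [nat_lit 185, nat_lit 222, nat_lit 185, nat_lit 37, nat_lit 0, nat_lit 222, nat_lit 296, nat_lit 0, nat_lit 296, nat_lit 37])
(.node (nat_lit 95) (.leaf 443 7 [nat_lit 0, nat_lit 111, nat_lit 185, nat_lit 0, nat_lit 111, nat_lit 37, nat_lit 0, nat_lit 185, nat_lit 74, nat_lit 259, nat_lit 148, nat_lit 74, nat_lit 148])
(.leaf 293 9 [nat_lit 37, nat_lit 0, nat_lit 222, nat_lit 296, nat_lit 0, nat_lit 296, nat_lit 37, nat_lit 185, nat_lit 222, nat_lit 185]))))))))))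
(.node (nat_lit 370) (.node (nat_lit 166) (.node (nat_lit 126) (.node (nat_lit 110) (.node (nat_lit 103) (.node (nat_lit 99) (.node (nat_lit 97) (.leaf 495 7 [nat_lit 185, nat_lit 296, nat_lit 185, nat_lit 296, nat_lit 74, nat_lit 0, nat_lit 37, nat_lit 0, nat_lit 296, nat_lit 37, nat_lit 296, nat_lit 0, nat_lit 185, nat_lit 296])
(.node (nat_lit 98) (.leaf 367 3 [nat_lit 148, nat_lit 296, nat_lit 148, nat_lit 259, nat_lit 185, nat_lit 259, nat_lit 185, nat_lit 148, nat_lit 296, nat_lit 148])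
(.leaf 159 5 [nat_lit 0, nat_lit 148, nat_lit 296, nat_lit 148, nat_lit 0, nat_lit 259, nat_lit 148, nat_lit 296, nat_lit 148])))
(.node (nat_lit 101) (.node (nat_lit 100) (.leaf 277 9 [nat_lit 222, nat_lit 296, nat_lit 222, nat_lit 296, nat_lit 222, nat_lit 259, nat_lit 296, nat_lit 222, nat_lit 296])
(.leaf 183 7 [nat_lit 296, nat_lit 222, nat_lit 0, nat_lit 296, nat_lit 0, nat_lit 296, nat_lit 222, nat_lit 259, nat_lit 296]))
(.node (nat_lit 102) (.leaf 179 2 [nat_lit 296, nat_lit 0, nat_lit 222, nat_lit 296, nat_lit 259, nat_lit 296, nat_lit 222, nat_lit 0, nat_lit 296])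
(.leaf 341 9 [nat_lit 148, nat_lit 0, nat_lit 148, nat_lit 259, nat_lit 185, nat_lit 259, nat_lit 185, nat_lit 148, nat_lit 259, nat_lit 0]))))
(.node (nat_lit 106) (.node (nat_lit 104) (.leaf 353 9 [nat_lit 111, nat_lit 37, nat_lit 222, nat_lit 259, nat_lit 111, nat_lit 259, nat_lit 111, nat_lit 222, nat_lit 37, nat_lit 111])
(.node (nat_lit 105) (.leaf 597 10 [nat_lit 111, nat_lit 185, nat_lit 74, nat_lit 37, nat_lit 111, nat_lit 37, nat_lit 0, nat_lit 259, nat_lit 74, nat_lit 111, nat_lit 148, nat_lit 222, nat_lit 0, nat_lit 222, nat_lit 148, nat_lit 185])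
(.leaf 459 5 [nat_lit 111, nat_lit 259, nat_lit 0, nat_lit 111, nat_lit 0, nat_lit 148, nat_lit 0, nat_lit 111, nat_lit 0, nat_lit 259, nat_lit 111, nat_lit 259, nat_lit 148])))
(.node (nat_lit 108) (.node (nat_lit 107) (.leaf 305 4 [nat_lit 296, nat_lit 74, nat_lit 185, nat_lit 222, nat_lit 185, nat_lit 74, nat_lit 0, nat_lit 222, nat_lit 0, nat_lit 296])
(.leaf 183 5 [nat_lit 296, nat_lit 259, nat_lit 296, nat_lit 222, nat_lit 0, nat_lit 296, nat_lit 0, nat_lit 296, nat_lit 222]))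
(.node (nat_lit 109) (.leaf 209 2 [nat_lit 74, nat_lit 222, nat_lit 37, nat_lit 185, nat_lit 259, nat_lit 222, nat_lit 74, nat_lit 37, nat_lit 185])
(.leaf 431 10 [nat_lit 296, nat_lit 111, nat_lit 0, nat_lit 148, nat_lit 259, nat_lit 111, nat_lit 259, nat_lit 74, nat_lit 296, nat_lit 74, nat_lit 148, nat_lit 111])))))
(.node (nat_lit 118) (.node (nat_lit 114) (.node (nat_lit 112) (.node (nat_lit 111) (.leaf 485 8 [nat_lit 185, nat_lit 148, nat_lit 185, nat_lit 148, nat_lit 259, nat_lit 111, nat_lit 259, nat_lit 148, nat_lit 185, nat_lit 148, nat_lit 185, nat_lit 259, nat_lit 111])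
(.leaf 265 2 [nat_lit 185, nat_lit 222, nat_lit 185, nat_lit 259, nat_lit 222, nat_lit 185, nat_lit 222, nat_lit 185, nat_lit 222]))
(.node (nat_lit 113) (.leaf 285 1 [nat_lit 222, nat_lit 296, nat_lit 0, nat_lit 296, nat_lit 37, nat_lit 185, nat_lit 222, nat_lit 185, nat_lit 37, nat_lit 0])
(.leaf 287 2 [nat_lit 296, nat_lit 0, nat_lit 296, nat_lit 37, nat_lit 185, nat_lit 222, nat_lit 185, nat_lit 37, nat_lit 0, nat_lit 222])))
(.node (nat_lit 116) (.node (nat_lit 115) (.leaf 619 7 [nat_lit 148, nat_lit 111, nat_lit 222, nat_lit 74, nat_lit 185, nat_lit 222, nat_lit 74, nat_lit 111, nat_lit 74, nat_lit 37, nat_lit 185, nat_lit 37, nat_lit 185, nat_lit 148, nat_lit 259, nat_lit 74])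
(.leaf 539 12 [nat_lit 148, nat_lit 222, nat_lit 148, nat_lit 259, nat_lit 296, nat_lit 148, nat_lit 296, nat_lit 148, nat_lit 259, nat_lit 148, nat_lit 222, nat_lit 148, nat_lit 259, nat_lit 148]))
(.node (nat_lit 117) (.leaf 157 5 [nat_lit 0, nat_lit 296, nat_lit 259, nat_lit 148, nat_lit 0, nat_lit 296, nat_lit 148, nat_lit 259, nat_lit 148])
(.leaf 567 11 [nat_lit 296, nat_lit 37, nat_lit 148, nat_lit 74, nat_lit 0, nat_lit 148, nat_lit 259, nat_lit 111, nat_lit 74, nat_lit 37, nat_lit 111, nat_lit 259, nat_lit 0, nat_lit 148, nat_lit 296]))))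
(.node (nat_lit 122) (.node (nat_lit 120) (.node (nat_lit 119) (.leaf 161 6 [nat_lit 148, nat_lit 296, nat_lit 148, nat_lit 0, nat_lit 259, nat_lit 148, nat_lit 296, nat_lit 148, nat_lit 0])
(.leaf 611 4 [nat_lit 148, nat_lit 185, nat_lit 111, nat_lit 259, nat_lit 111, nat_lit 185, nat_lit 222, nat_lit 74, nat_lit 185, nat_lit 222, nat_lit 185, nat_lit 74, nat_lit 0, nat_lit 148, nat_lit 259, nat_lit 148]))
(.node (nat_lit 121) (.leaf 515 11 [nat_lit 185, nat_lit 222, nat_lit 37, nat_lit 0, nat_lit 37, nat_lit 296, nat_lit 222, nat_lit 37, nat_lit 0, nat_lit 74, nat_lit 185, nat_lit 296, nat_lit 185, nat_lit 296])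
(.leaf 603 11 [nat_lit 0, nat_lit 37, nat_lit 185, nat_lit 148, nat_lit 37, nat_lit 0, nat_lit 37, nat_lit 259, nat_lit 148, nat_lit 185, nat_lit 37, nat_lit 259, nat_lit 0, nat_lit 148, nat_lit 185, nat_lit 148])))
(.node (nat_lit 124) (.node (nat_lit 123) (.leaf 523 9 [nat_lit 148, nat_lit 74, nat_lit 185, nat_lit 37, nat_lit 74, nat_lit 0, nat_lit 74, nat_lit 185, nat_lit 0, nat_lit 185, nat_lit 148, nat_lit 296, nat_lit 0, nat_lit 296])
(.leaf 315 7 [nat_lit 111, nat_lit 148, nat_lit 111, nat_lit 0, nat_lit 148, nat_lit 0, nat_lit 148, nat_lit 185, nat_lit 259, nat_lit 185]))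
(.node (nat_lit 125) (.leaf 447 4 [nat_lit 185, nat_lit 111, nat_lit 185, nat_lit 111, nat_lit 259, nat_lit 148, nat_lit 37, nat_lit 111, nat_lit 37, nat_lit 0, nat_lit 111, nat_lit 0, nat_lit 148])
(.leaf 351 1 [nat_lit 222, nat_lit 111, nat_lit 259, nat_lit 111, nat_lit 222, nat_lit 37, nat_lit 111, nat_lit 259, nat_lit 111, nat_lit 37]))))))
(.node (nat_lit 145) (.node (nat_lit 135) (.node (nat_lit 130) (.node (nat_lit 128) (.node (nat_lit 127) (.leaf 307 8 [nat_lit 185, nat_lit 74, nat_lit 0, nat_lit 74, nat_lit 296, nat_lit 74, nat_lit 0, nat_lit 74, nat_lit 296, nat_lit 185])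
(.leaf 25 5 [nat_lit 0, nat_lit 37, nat_lit 0, nat_lit 259, nat_lit 0, nat_lit 37, nat_lit 0]))
(.node (nat_lit 129) (.leaf 193 3 [nat_lit 74, nat_lit 259, nat_lit 74, nat_lit 111, nat_lit 37, nat_lit 74, nat_lit 37, nat_lit 111, nat_lit 74])
(.leaf 603 2 [nat_lit 148, nat_lit 185, nat_lit 37, nat_lit 259, nat_lit 0, nat_lit 148, nat_lit 185, nat_lit 148, nat_lit 259, nat_lit 0, nat_lit 37, nat_lit 185, nat_lit 148, nat_lit 37, nat_lit 0, nat_lit 37])))
(.node (nat_lit 132) (.node (nat_lit 131) (.leaf 131 5 [nat_lit 0, nat_lit 74, nat_lit 296, nat_lit 74, nat_lit 0, nat_lit 259, nat_lit 74, nat_lit 296, nat_lit 74])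
(.leaf 191 5 [nat_lit 37, nat_lit 111, nat_lit 37, nat_lit 74, nat_lit 37, nat_lit 111, nat_lit 259, nat_lit 74, nat_lit 37]))
(.node (nat_lit 133) (.leaf 127 1 [nat_lit 0, nat_lit 111, nat_lit 37, nat_lit 74, nat_lit 37, nat_lit 111, nat_lit 259, nat_lit 74, nat_lit 0])
(.node (nat_lit 134) (.leaf 155 1 [nat_lit 296, nat_lit 259, nat_lit 148, nat_lit 0, nat_lit 296, nat_lit 148, nat_lit 259, nat_lit 148, nat_lit 0])
(.leaf 315 5 [nat_lit 185, nat_lit 259, nat_lit 111, nat_lit 148, nat_lit 111, nat_lit 0, nat_lit 148, nat_lit 0, nat_lit 148, nat_lit 185])))))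
(.node (nat_lit 140) (.node (nat_lit 137) (.node (nat_lit 136) (.leaf 485 13 [nat_lit 111, nat_lit 259, nat_lit 148, nat_lit 185, nat_lit 148, nat_lit 185, nat_lit 259, nat_lit 111, nat_lit 259, nat_lit 185, nat_lit 148, nat_lit 185, nat_lit 148])
(.leaf 43 5 [nat_lit 0, nat_lit 222, nat_lit 0, nat_lit 259, nat_lit 0, nat_lit 222, nat_lit 0]))
(.node (nat_lit 138) (.leaf 213 8 [nat_lit 74, nat_lit 37, nat_lit 259, nat_lit 74, nat_lit 259, nat_lit 74, nat_lit 259, nat_lit 37, nat_lit 74])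
(.node (nat_lit 139) (.leaf 609 7 [nat_lit 37, nat_lit 148, nat_lit 185, nat_lit 74, nat_lit 185, nat_lit 37, nat_lit 148, nat_lit 185, nat_lit 74, nat_lit 0, nat_lit 148, nat_lit 111, nat_lit 37, nat_lit 74, nat_lit 259, nat_lit 185])
(.leaf 421 3 [nat_lit 296, nat_lit 111, nat_lit 222, nat_lit 0, nat_lit 222, nat_lit 111, nat_lit 37, nat_lit 0, nat_lit 37, nat_lit 0, nat_lit 37, nat_lit 296]))))
(.node (nat_lit 142) (.node (nat_lit 141) (.leaf 17 5 [nat_lit 0, nat_lit 296, nat_lit 0, nat_lit 259, nat_lit 296])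
(.leaf 429 4 [nat_lit 296, nat_lit 111, nat_lit 0, nat_lit 148, nat_lit 111, nat_lit 74, nat_lit 296, nat_lit 74, nat_lit 0, nat_lit 111, nat_lit 0, nat_lit 148]))
(.node (nat_lit 143) (.leaf 363 1 [nat_lit 74, nat_lit 259, nat_lit 148, nat_lit 222, nat_lit 148, nat_lit 74, nat_lit 148, nat_lit 222, nat_lit 148, nat_lit 74])
(.node (nat_lit 144) (.leaf 23 1 [nat_lit 222, nat_lit 259, nat_lit 74, nat_lit 222, nat_lit 74])
(.leaf 297 2 [nat_lit 296, nat_lit 222, nat_lit 0, nat_lit 74, nat_lit 185, nat_lit 222, nat_lit 185, nat_lit 74, nat_lit 0, nat_lit 296]))))))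
(.node (nat_lit 155) (.node (nat_lit 150) (.node (nat_lit 147) (.node (nat_lit 146) (.leaf 403 1 [nat_lit 111, nat_lit 74, nat_lit 111, nat_lit 74, nat_lit 259, nat_lit 37, nat_lit 111, nat_lit 74, nat_lit 111, nat_lit 74, nat_lit 37])
(.leaf 193 5 [nat_lit 74, nat_lit 111, nat_lit 37, nat_lit 74, nat_lit 37, nat_lit 111, nat_lit 74, nat_lit 259, nat_lit 74]))
(.node (nat_lit 148) (.leaf 197 4 [nat_lit 74, nat_lit 259, nat_lit 111, nat_lit 37, nat_lit 74, nat_lit 37, nat_lit 148, nat_lit 111, nat_lit 148])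
(.node (nat_lit 149) (.leaf 611 2 [nat_lit 148, nat_lit 259, nat_lit 148, nat_lit 185, nat_lit 111, nat_lit 259, nat_lit 111, nat_lit 185, nat_lit 222, nat_lit 74, nat_lit 185, nat_lit 222, nat_lit 185, nat_lit 74, nat_lit 0, nat_lit 148])
(.leaf 563 6 [nat_lit 185, nat_lit 259, nat_lit 148, nat_lit 185, nat_lit 0, nat_lit 148, nat_lit 74, nat_lit 111, nat_lit 74, nat_lit 0, nat_lit 185, nat_lit 74, nat_lit 111, nat_lit 74, nat_lit 148]))))
(.node (nat_lit 152) (.node (nat_lit 151) (.leaf 501 12 [nat_lit 74, nat_lit 37, nat_lit 0, nat_lit 185, nat_lit 37, nat_lit 0, nat_lit 185, nat_lit 74, nat_lit 259, nat_lit 185, nat_lit 74, nat_lit 0, nat_lit 74, nat_lit 0])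
(.leaf 441 9 [nat_lit 296, nat_lit 148, nat_lit 74, nat_lit 37, nat_lit 0, nat_lit 296, nat_lit 148, nat_lit 296, nat_lit 0, nat_lit 37, nat_lit 296, nat_lit 74, nat_lit 148]))
(.node (nat_lit 153) (.leaf 205 7 [nat_lit 222, nat_lit 74, nat_lit 37, nat_lit 74, nat_lit 222, nat_lit 259, nat_lit 74, nat_lit 37, nat_lit 74])
(.node (nat_lit 154) (.leaf 321 6 [nat_lit 37, nat_lit 148, nat_lit 0, nat_lit 148, nat_lit 0, nat_lit 148, nat_lit 185, nat_lit 259, nat_lit 185, nat_lit 37])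
(.leaf 127 8 [nat_lit 74, nat_lit 0, nat_lit 259, nat_lit 0, nat_lit 111, nat_lit 37, nat_lit 74, nat_lit 37, nat_lit 111])))))
(.node (nat_lit 160) (.node (nat_lit 157) (.node (nat_lit 156) (.leaf 265 6 [nat_lit 222, nat_lit 185, nat_lit 222, nat_lit 185, nat_lit 222, nat_lit 259, nat_lit 185, nat_lit 222, nat_lit 185])
(.leaf 629 10 [nat_lit 37, nat_lit 185, nat_lit 259, nat_lit 37, nat_lit 74, nat_lit 148, nat_lit 37, nat_lit 0, nat_lit 111, nat_lit 185, nat_lit 111, nat_lit 148, nat_lit 37, nat_lit 148, nat_lit 185, nat_lit 37, nat_lit 148]))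
(.node (nat_lit 158) (.leaf 361 9 [nat_lit 111, nat_lit 74, nat_lit 296, nat_lit 74, nat_lit 111, nat_lit 259, nat_lit 296, nat_lit 185, nat_lit 259, nat_lit 185])
(.node (nat_lit 159) (.leaf 619 5 [nat_lit 74, nat_lit 259, nat_lit 148, nat_lit 111, nat_lit 222, nat_lit 74, nat_lit 185, nat_lit 222, nat_lit 74, nat_lit 111, nat_lit 74, nat_lit 37, nat_lit 185, nat_lit 37, nat_lit 185, nat_lit 148])
(.leaf 621 14 [nat_lit 148, nat_lit 74, nat_lit 37, nat_lit 74, nat_lit 185, nat_lit 37, nat_lit 185, nat_lit 37, nat_lit 185, nat_lit 259, nat_lit 37, nat_lit 74, nat_lit 259, nat_lit 148, nat_lit 259, nat_lit 74]))))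
(.node (nat_lit 163) (.node (nat_lit 161) (.leaf 189 3 [nat_lit 74, nat_lit 259, nat_lit 111, nat_lit 74, nat_lit 37, nat_lit 74, nat_lit 37, nat_lit 74, nat_lit 111])
(.node (nat_lit 162) (.leaf 209 7 [nat_lit 222, nat_lit 74, nat_lit 37, nat_lit 185, nat_lit 259, nat_lit 74, nat_lit 222, nat_lit 37, nat_lit 185])
(.leaf 517 8 [nat_lit 74, nat_lit 259, nat_lit 185, nat_lit 0, nat_lit 296, nat_lit 37, nat_lit 0, nat_lit 185, nat_lit 259, nat_lit 296, nat_lit 185, nat_lit 296, nat_lit 37, nat_lit 0])))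
(.node (nat_lit 164) (.leaf 423 10 [nat_lit 0, nat_lit 37, nat_lit 0, nat_lit 296, nat_lit 0, nat_lit 296, nat_lit 185, nat_lit 74, nat_lit 0, nat_lit 37, nat_lit 185, nat_lit 74])
(.node (nat_lit 165) (.leaf 603 6 [nat_lit 0, nat_lit 148, nat_lit 185, nat_lit 148, nat_lit 259, nat_lit 0, nat_lit 37, nat_lit 185, nat_lit 148, nat_lit 37, nat_lit 0, nat_lit 37, nat_lit 259, nat_lit 148, nat_lit 185, nat_lit 37])
(.leaf 529 9 [nat_lit 111, nat_lit 185, nat_lit 37, nat_lit 185, nat_lit 111, nat_lit 0, nat_lit 296, nat_lit 0, nat_lit 296, nat_lit 111, nat_lit 185, nat_lit 37, nat_lit 185, nat_lit 111]))))))))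
(.node (nat_lit 226) (.node (nat_lit 193) (.node (nat_lit 179) (.node (nat_lit 172) (.node (nat_lit 169) (.node (nat_lit 167) (.leaf 445 3 [nat_lit 111, nat_lit 259, nat_lit 111, nat_lit 296, nat_lit 37, nat_lit 0, nat_lit 111, nat_lit 37, nat_lit 111, nat_lit 37, nat_lit 0, nat_lit 37, nat_lit 296])
(.node (nat_lit 168) (.leaf 493 9 [nat_lit 185, nat_lit 259, nat_lit 74, nat_lit 0, nat_lit 37, nat_lit 0, nat_lit 296, nat_lit 37, nat_lit 0, nat_lit 185, nat_lit 259, nat_lit 296, nat_lit 185, nat_lit 296])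
(.leaf 411 10 [nat_lit 296, nat_lit 37, nat_lit 296, nat_lit 259, nat_lit 148, nat_lit 259, nat_lit 296, nat_lit 37, nat_lit 296, nat_lit 259, nat_lit 148])))
(.node (nat_lit 170) (.leaf 317 1 [nat_lit 185, nat_lit 259, nat_lit 185, nat_lit 0, nat_lit 148, nat_lit 0, nat_lit 148, nat_lit 0, nat_lit 148, nat_lit 0])
(.node (nat_lit 171) (.leaf 625 7 [nat_lit 111, nat_lit 185, nat_lit 37, nat_lit 148, nat_lit 0, nat_lit 148, nat_lit 74, nat_lit 111, nat_lit 74, nat_lit 37, nat_lit 0, nat_lit 148, nat_lit 37, nat_lit 111, nat_lit 37, nat_lit 259, nat_lit 185])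
(.leaf 557 12 [nat_lit 74, nat_lit 111, nat_lit 37, nat_lit 0, nat_lit 185, nat_lit 74, nat_lit 0, nat_lit 74, nat_lit 111, nat_lit 74, nat_lit 259, nat_lit 74, nat_lit 185, nat_lit 0, nat_lit 74]))))
(.node (nat_lit 175) (.node (nat_lit 173) (.leaf 27 6 [nat_lit 37, nat_lit 0, nat_lit 37, nat_lit 259, nat_lit 37, nat_lit 0, nat_lit 37])
(.node (nat_lit 174) (.leaf 211 2 [nat_lit 74, nat_lit 37, nat_lit 222, nat_lit 185, nat_lit 259, nat_lit 222, nat_lit 74, nat_lit 37, nat_lit 185])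
(.leaf 557 7 [nat_lit 74, nat_lit 185, nat_lit 0, nat_lit 74, nat_lit 259, nat_lit 74, nat_lit 111, nat_lit 37, nat_lit 0, nat_lit 185, nat_lit 74, nat_lit 0, nat_lit 74, nat_lit 111, nat_lit 74])))
(.node (nat_lit 177) (.node (nat_lit 176) (.leaf 195 3 [nat_lit 74, nat_lit 259, nat_lit 222, nat_lit 111, nat_lit 37, nat_lit 74, nat_lit 37, nat_lit 111, nat_lit 222])
(.leaf 393 4 [nat_lit 185, nat_lit 111, nat_lit 185, nat_lit 0, nat_lit 111, nat_lit 259, nat_lit 111, nat_lit 0, nat_lit 185, nat_lit 111, nat_lit 185]))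
(.node (nat_lit 178) (.leaf 29 6 [nat_lit 37, nat_lit 0, nat_lit 296, nat_lit 0, nat_lit 259, nat_lit 296, nat_lit 37])
(.leaf 167 1 [nat_lit 185, nat_lit 259, nat_lit 185, nat_lit 259, nat_lit 0, nat_lit 185, nat_lit 259, nat_lit 185, nat_lit 0])))))
(.node (nat_lit 186) (.node (nat_lit 182) (.node (nat_lit 180) (.leaf 267 4 [nat_lit 185, nat_lit 259, nat_lit 185, nat_lit 259, nat_lit 222, nat_lit 185, nat_lit 259, nat_lit 185, nat_lit 222])
(.node (nat_lit 181) (.leaf 301 1 [nat_lit 222, nat_lit 296, nat_lit 0, nat_lit 296, nat_lit 74, nat_lit 185, nat_lit 222, nat_lit 185, nat_lit 74, nat_lit 0])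
(.leaf 435 3 [nat_lit 74, nat_lit 37, nat_lit 185, nat_lit 37, nat_lit 74, nat_lit 296, nat_lit 222, nat_lit 0, nat_lit 222, nat_lit 0, nat_lit 296, nat_lit 185])))
(.node (nat_lit 184) (.node (nat_lit 183) (.leaf 621 12 [nat_lit 74, nat_lit 259, nat_lit 148, nat_lit 74, nat_lit 37, nat_lit 74, nat_lit 185, nat_lit 37, nat_lit 185, nat_lit 37, nat_lit 185, nat_lit 259, nat_lit 37, nat_lit 74, nat_lit 259, nat_lit 148])
(.leaf 521 4 [nat_lit 74, nat_lit 0, nat_lit 111, nat_lit 222, nat_lit 148, nat_lit 296, nat_lit 148, nat_lit 259, nat_lit 0, nat_lit 74, nat_lit 0, nat_lit 296, nat_lit 222, nat_lit 111]))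
(.node (nat_lit 185) (.leaf 365 1 [nat_lit 74, nat_lit 296, nat_lit 74, nat_lit 259, nat_lit 74, nat_lit 296, nat_lit 185, nat_lit 259, nat_lit 185, nat_lit 74])
(.leaf 277 5 [nat_lit 296, nat_lit 222, nat_lit 296, nat_lit 259, nat_lit 222, nat_lit 296, nat_lit 222, nat_lit 296, nat_lit 222]))))
(.node (nat_lit 189) (.node (nat_lit 187) (.leaf 167 8 [nat_lit 185, nat_lit 0, nat_lit 259, nat_lit 185, nat_lit 259, nat_lit 185, nat_lit 259, nat_lit 0, nat_lit 185])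
(.node (nat_lit 188) (.leaf 365 9 [nat_lit 185, nat_lit 74, nat_lit 259, nat_lit 74, nat_lit 296, nat_lit 74, nat_lit 259, nat_lit 74, nat_lit 296, nat_lit 185])
(.leaf 165 8 [nat_lit 185, nat_lit 0, nat_lit 222, nat_lit 185, nat_lit 259, nat_lit 185, nat_lit 222, nat_lit 0, nat_lit 185])))
(.node (nat_lit 191) (.node (nat_lit 190) (.leaf 395 6 [nat_lit 185, nat_lit 259, nat_lit 185, nat_lit 0, nat_lit 148, nat_lit 0, nat_lit 259, nat_lit 185, nat_lit 259, nat_lit 185, nat_lit 148])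
(.leaf 65 6 [nat_lit 74, nat_lit 37, nat_lit 222, nat_lit 37, nat_lit 74, nat_lit 259, nat_lit 222]))
(.node (nat_lit 192) (.leaf 499 9 [nat_lit 37, nat_lit 0, nat_lit 37, nat_lit 74, nat_lit 37, nat_lit 0, nat_lit 37, nat_lit 259, nat_lit 296, nat_lit 74, nat_lit 296, nat_lit 148, nat_lit 74, nat_lit 148])
(.leaf 615 8 [nat_lit 148, nat_lit 74, nat_lit 259, nat_lit 296, nat_lit 111, nat_lit 74, nat_lit 37, nat_lit 74, nat_lit 37, nat_lit 74, nat_lit 296, nat_lit 259, nat_lit 111, nat_lit 148, nat_lit 259, nat_lit 111]))))))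
(.node (nat_lit 209) (.node (nat_lit 201) (.node (nat_lit 197) (.node (nat_lit 195) (.node (nat_lit 194) (.leaf 325 5 [nat_lit 37, nat_lit 185, nat_lit 148, nat_lit 0, nat_lit 148, nat_lit 0, nat_lit 148, nat_lit 259, nat_lit 185, nat_lit 37])
(.leaf 463 5 [nat_lit 111, nat_lit 259, nat_lit 0, nat_lit 185, nat_lit 296, nat_lit 259, nat_lit 0, nat_lit 111, nat_lit 0, nat_lit 259, nat_lit 296, nat_lit 185, nat_lit 0]))
(.node (nat_lit 196) (.leaf 201 5 [nat_lit 111, nat_lit 222, nat_lit 37, nat_lit 74, nat_lit 37, nat_lit 222, nat_lit 111, nat_lit 259, nat_lit 74])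
(.leaf 445 5 [nat_lit 111, nat_lit 296, nat_lit 37, nat_lit 0, nat_lit 111, nat_lit 37, nat_lit 111, nat_lit 37, nat_lit 0, nat_lit 37, nat_lit 296, nat_lit 259, nat_lit 111])))
(.node (nat_lit 199) (.node (nat_lit 198) (.leaf 133 6 [nat_lit 74, nat_lit 296, nat_lit 74, nat_lit 0, nat_lit 259, nat_lit 74, nat_lit 296, nat_lit 74, nat_lit 0])
(.leaf 329 3 [nat_lit 222, nat_lit 185, nat_lit 259, nat_lit 185, nat_lit 148, nat_lit 0, nat_lit 148, nat_lit 0, nat_lit 148, nat_lit 222]))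
(.node (nat_lit 200) (.leaf 331 5 [nat_lit 185, nat_lit 222, nat_lit 148, nat_lit 0, nat_lit 148, nat_lit 0, nat_lit 148, nat_lit 259, nat_lit 222, nat_lit 185])
(.leaf 71 5 [nat_lit 37, nat_lit 222, nat_lit 37, nat_lit 259, nat_lit 37, nat_lit 222, nat_lit 37]))))
(.node (nat_lit 205) (.node (nat_lit 203) (.node (nat_lit 202) (.leaf 525 5 [nat_lit 296, nat_lit 37, nat_lit 74, nat_lit 148, nat_lit 111, nat_lit 0, nat_lit 148, nat_lit 37, nat_lit 111, nat_lit 0, nat_lit 148, nat_lit 74, nat_lit 296, nat_lit 111])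
(.leaf 613 3 [nat_lit 37, nat_lit 74, nat_lit 37, nat_lit 296, nat_lit 222, nat_lit 0, nat_lit 222, nat_lit 111, nat_lit 222, nat_lit 111, nat_lit 222, nat_lit 111, nat_lit 222, nat_lit 0, nat_lit 296, nat_lit 74]))
(.node (nat_lit 204) (.leaf 345 1 [nat_lit 37, nat_lit 185, nat_lit 222, nat_lit 185, nat_lit 37, nat_lit 296, nat_lit 0, nat_lit 296, nat_lit 222, nat_lit 0])
(.leaf 567 2 [nat_lit 111, nat_lit 74, nat_lit 37, nat_lit 111, nat_lit 259, nat_lit 0, nat_lit 148, nat_lit 296, nat_lit 259, nat_lit 296, nat_lit 37, nat_lit 148, nat_lit 74, nat_lit 0, nat_lit 148])))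
(.node (nat_lit 207) (.node (nat_lit 206) (.leaf 339 2 [nat_lit 0, nat_lit 259, nat_lit 148, nat_lit 259, nat_lit 185, nat_lit 259, nat_lit 185, nat_lit 148, nat_lit 0, nat_lit 148])
(.leaf 327 5 [nat_lit 222, nat_lit 185, nat_lit 148, nat_lit 0, nat_lit 148, nat_lit 0, nat_lit 148, nat_lit 259, nat_lit 185, nat_lit 222]))
(.node (nat_lit 208) (.leaf 353 2 [nat_lit 111, nat_lit 259, nat_lit 111, nat_lit 222, nat_lit 37, nat_lit 111, nat_lit 259, nat_lit 111, nat_lit 37, nat_lit 222])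
(.leaf 425 5 [nat_lit 0, nat_lit 37, nat_lit 148, nat_lit 74, nat_lit 148, nat_lit 74, nat_lit 37, nat_lit 0, nat_lit 259, nat_lit 111, nat_lit 74, nat_lit 111])))))
(.node (nat_lit 217) (.node (nat_lit 213) (.node (nat_lit 211) (.node (nat_lit 210) (.leaf 567 7 [nat_lit 0, nat_lit 148, nat_lit 296, nat_lit 259, nat_lit 296, nat_lit 37, nat_lit 148, nat_lit 74, nat_lit 0, nat_lit 148, nat_lit 259, nat_lit 111, nat_lit 74, nat_lit 37, nat_lit 111])
(.leaf 539 10 [nat_lit 148, nat_lit 259, nat_lit 148, nat_lit 222, nat_lit 148, nat_lit 259, nat_lit 296, nat_lit 148, nat_lit 296, nat_lit 148, nat_lit 259, nat_lit 148, nat_lit 222, nat_lit 148]))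
(.node (nat_lit 212) (.leaf 181 7 [nat_lit 296, nat_lit 222, nat_lit 0, nat_lit 259, nat_lit 296, nat_lit 0, nat_lit 296, nat_lit 222, nat_lit 296])
(.leaf 533 7 [nat_lit 296, nat_lit 111, nat_lit 185, nat_lit 37, nat_lit 296, nat_lit 37, nat_lit 74, nat_lit 37, nat_lit 296, nat_lit 185, nat_lit 37, nat_lit 111, nat_lit 296, nat_lit 74])))
(.node (nat_lit 215) (.node (nat_lit 214) (.leaf 299 5 [nat_lit 74, nat_lit 185, nat_lit 222, nat_lit 185, nat_lit 74, nat_lit 0, nat_lit 222, nat_lit 296, nat_lit 0, nat_lit 296])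
(.leaf 263 1 [nat_lit 222, nat_lit 259, nat_lit 148, nat_lit 222, nat_lit 148, nat_lit 222, nat_lit 148, nat_lit 222, nat_lit 148]))
(.node (nat_lit 216) (.leaf 311 4 [nat_lit 185, nat_lit 111, nat_lit 74, nat_lit 296, nat_lit 74, nat_lit 111, nat_lit 0, nat_lit 296, nat_lit 0, nat_lit 185])
(.leaf 395 3 [nat_lit 185, nat_lit 148, nat_lit 259, nat_lit 185, nat_lit 259, nat_lit 185, nat_lit 0, nat_lit 148, nat_lit 0, nat_lit 259, nat_lit 185]))))
(.node (nat_lit 221) (.node (nat_lit 219) (.node (nat_lit 218) (.leaf 431 2 [nat_lit 111, nat_lit 259, nat_lit 74, nat_lit 296, nat_lit 74, nat_lit 148, nat_lit 111, nat_lit 259, nat_lit 296, nat_lit 111, nat_lit 0, nat_lit 148])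
(.leaf 205 3 [nat_lit 74, nat_lit 37, nat_lit 74, nat_lit 259, nat_lit 222, nat_lit 74, nat_lit 37, nat_lit 74, nat_lit 222]))
(.node (nat_lit 220) (.leaf 319 2 [nat_lit 185, nat_lit 0, nat_lit 259, nat_lit 148, nat_lit 0, nat_lit 148, nat_lit 0, nat_lit 148, nat_lit 0, nat_lit 185])
(.leaf 267 8 [nat_lit 222, nat_lit 185, nat_lit 259, nat_lit 185, nat_lit 222, nat_lit 259, nat_lit 185, nat_lit 259, nat_lit 185])))
(.node (nat_lit 223) (.node (nat_lit 222) (.leaf 625 5 [nat_lit 185, nat_lit 259, nat_lit 111, nat_lit 185, nat_lit 37, nat_lit 148, nat_lit 0, nat_lit 148, nat_lit 74, nat_lit 111, nat_lit 74, nat_lit 37, nat_lit 0, nat_lit 148, nat_lit 37, nat_lit 111, nat_lit 37])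
(.leaf 213 1 [nat_lit 74, nat_lit 259, nat_lit 74, nat_lit 259, nat_lit 37, nat_lit 74, nat_lit 259, nat_lit 74, nat_lit 37]))
(.node (nat_lit 224) (.leaf 167 5 [nat_lit 0, nat_lit 185, nat_lit 259, nat_lit 185, nat_lit 0, nat_lit 259, nat_lit 185, nat_lit 259, nat_lit 185])
(.node (nat_lit 225) (.leaf 469 7 [nat_lit 222, nat_lit 296, nat_lit 222, nat_lit 0, nat_lit 222, nat_lit 111, nat_lit 0, nat_lit 296, nat_lit 222, nat_lit 111, nat_lit 259, nat_lit 222, nat_lit 111])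
(.leaf 181 1 [nat_lit 296, nat_lit 0, nat_lit 296, nat_lit 222, nat_lit 296, nat_lit 259, nat_lit 296, nat_lit 222, nat_lit 0]))))))))
(.node (nat_lit 271) (.node (nat_lit 246) (.node (nat_lit 236) (.node (nat_lit 231) (.node (nat_lit 228) (.node (nat_lit 227) (.leaf 185 5 [nat_lit 37, nat_lit 296, nat_lit 0, nat_lit 296, nat_lit 0, nat_lit 296, nat_lit 259, nat_lit 296, nat_lit 37])
(.leaf 197 6 [nat_lit 111, nat_lit 37, nat_lit 74, nat_lit 37, nat_lit 148, nat_lit 111, nat_lit 148, nat_lit 259, nat_lit 74]))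
(.node (nat_lit 229) (.leaf 549 7 [nat_lit 148, nat_lit 185, nat_lit 148, nat_lit 37, nat_lit 185, nat_lit 148, nat_lit 0, nat_lit 37, nat_lit 0, nat_lit 185, nat_lit 296, nat_lit 74, nat_lit 296, nat_lit 259, nat_lit 185])
(.node (nat_lit 230) (.leaf 361 4 [nat_lit 296, nat_lit 185, nat_lit 259, nat_lit 185, nat_lit 259, nat_lit 111, nat_lit 74, nat_lit 296, nat_lit 74, nat_lit 111])
(.leaf 501 6 [nat_lit 185, nat_lit 74, nat_lit 0, nat_lit 74, nat_lit 0, nat_lit 259, nat_lit 74, nat_lit 37, nat_lit 0, nat_lit 185, nat_lit 37, nat_lit 0, nat_lit 185, nat_lit 74]))))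
(.node (nat_lit 233) (.node (nat_lit 232) (.leaf 513 1 [nat_lit 111, nat_lit 74, nat_lit 259, nat_lit 111, nat_lit 185, nat_lit 74, nat_lit 37, nat_lit 296, nat_lit 148, nat_lit 296, nat_lit 148, nat_lit 185, nat_lit 37, nat_lit 0])
(.leaf 503 1 [nat_lit 222, nat_lit 111, nat_lit 74, nat_lit 148, nat_lit 222, nat_lit 0, nat_lit 222, nat_lit 148, nat_lit 37, nat_lit 222, nat_lit 259, nat_lit 74, nat_lit 37, nat_lit 0]))
(.node (nat_lit 234) (.leaf 191 2 [nat_lit 74, nat_lit 37, nat_lit 259, nat_lit 37, nat_lit 111, nat_lit 37, nat_lit 74, nat_lit 37, nat_lit 111])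
(.node (nat_lit 235) (.leaf 509 3 [nat_lit 111, nat_lit 0, nat_lit 148, nat_lit 185, nat_lit 37, nat_lit 148, nat_lit 185, nat_lit 74, nat_lit 111, nat_lit 148, nat_lit 37, nat_lit 0, nat_lit 259, nat_lit 185])
(.leaf 215 8 [nat_lit 74, nat_lit 37, nat_lit 222, nat_lit 185, nat_lit 222, nat_lit 259, nat_lit 74, nat_lit 37, nat_lit 185])))))
(.node (nat_lit 241) (.node (nat_lit 238) (.node (nat_lit 237) (.leaf 551 1 [nat_lit 111, nat_lit 0, nat_lit 111, nat_lit 37, nat_lit 259, nat_lit 74, nat_lit 148, nat_lit 185, nat_lit 111, nat_lit 185, nat_lit 148, nat_lit 111, nat_lit 74, nat_lit 37, nat_lit 0])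
(.leaf 477 10 [nat_lit 185, nat_lit 259, nat_lit 74, nat_lit 37, nat_lit 185, nat_lit 37, nat_lit 296, nat_lit 222, nat_lit 185, nat_lit 222, nat_lit 185, nat_lit 296, nat_lit 74]))
(.node (nat_lit 239) (.leaf 615 6 [nat_lit 111, nat_lit 259, nat_lit 148, nat_lit 74, nat_lit 259, nat_lit 296, nat_lit 111, nat_lit 74, nat_lit 37, nat_lit 74, nat_lit 37, nat_lit 74, nat_lit 296, nat_lit 259, nat_lit 111, nat_lit 148])
(.node (nat_lit 240) (.leaf 341 7 [nat_lit 0, nat_lit 259, nat_lit 148, nat_lit 0, nat_lit 148, nat_lit 259, nat_lit 185, nat_lit 259, nat_lit 185, nat_lit 148])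
(.leaf 395 8 [nat_lit 185, nat_lit 0, nat_lit 148, nat_lit 0, nat_lit 259, nat_lit 185, nat_lit 259, nat_lit 185, nat_lit 148, nat_lit 259, nat_lit 185]))))
(.node (nat_lit 243) (.node (nat_lit 242) (.leaf 479 3 [nat_lit 296, nat_lit 74, nat_lit 222, nat_lit 37, nat_lit 296, nat_lit 259, nat_lit 222, nat_lit 185, nat_lit 296, nat_lit 74, nat_lit 37, nat_lit 296, nat_lit 185])
(.leaf 303 2 [nat_lit 296, nat_lit 0, nat_lit 296, nat_lit 74, nat_lit 185, nat_lit 222, nat_lit 185, nat_lit 74, nat_lit 0, nat_lit 222]))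
(.node (nat_lit 244) (.leaf 359 6 [nat_lit 185, nat_lit 259, nat_lit 185, nat_lit 111, nat_lit 74, nat_lit 296, nat_lit 74, nat_lit 111, nat_lit 259, nat_lit 296])
(.node (nat_lit 245) (.leaf 169 8 [nat_lit 185, nat_lit 0, nat_lit 296, nat_lit 185, nat_lit 259, nat_lit 185, nat_lit 296, nat_lit 0, nat_lit 185])
(.leaf 477 12 [nat_lit 74, nat_lit 37, nat_lit 185, nat_lit 37, nat_lit 296, nat_lit 222, nat_lit 185, nat_lit 222, nat_lit 185, nat_lit 296, nat_lit 74, nat_lit 259, nat_lit 185]))))))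
(.node (nat_lit 258) (.node (nat_lit 252) (.node (nat_lit 249) (.node (nat_lit 247) (.leaf 479 9 [nat_lit 222, nat_lit 185, nat_lit 296, nat_lit 74, nat_lit 37, nat_lit 296, nat_lit 185, nat_lit 259, nat_lit 296, nat_lit 74, nat_lit 222, nat_lit 37, nat_lit 296])
(.node (nat_lit 248) (.leaf 459 7 [nat_lit 0, nat_lit 111, nat_lit 0, nat_lit 148, nat_lit 0, nat_lit 111, nat_lit 0, nat_lit 259, nat_lit 111, nat_lit 259, nat_lit 148, nat_lit 259, nat_lit 111])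
(.leaf 485 6 [nat_lit 111, nat_lit 259, nat_lit 185, nat_lit 148, nat_lit 185, nat_lit 148, nat_lit 259, nat_lit 111, nat_lit 259, nat_lit 148, nat_lit 185, nat_lit 148, nat_lit 185])))
(.node (nat_lit 250) (.leaf 629 13 [nat_lit 37, nat_lit 74, nat_lit 148, nat_lit 37, nat_lit 0, nat_lit 111, nat_lit 185, nat_lit 111, nat_lit 148, nat_lit 37, nat_lit 148, nat_lit 185, nat_lit 37, nat_lit 148, nat_lit 259, nat_lit 37, nat_lit 185])
(.node (nat_lit 251) (.leaf 333 3 [nat_lit 185, nat_lit 259, nat_lit 185, nat_lit 222, nat_lit 148, nat_lit 0, nat_lit 148, nat_lit 0, nat_lit 148, nat_lit 222])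
(.leaf 617 4 [nat_lit 148, nat_lit 296, nat_lit 74, nat_lit 296, nat_lit 148, nat_lit 259, nat_lit 296, nat_lit 74, nat_lit 148, nat_lit 111, nat_lit 37, nat_lit 74, nat_lit 37, nat_lit 111, nat_lit 148, nat_lit 296]))))
(.node (nat_lit 255) (.node (nat_lit 253) (.leaf 45 6 [nat_lit 222, nat_lit 0, nat_lit 222, nat_lit 259, nat_lit 222, nat_lit 0, nat_lit 222])
(.node (nat_lit 254) (.leaf 317 3 [nat_lit 185, nat_lit 0, nat_lit 148, nat_lit 0, nat_lit 148, nat_lit 0, nat_lit 148, nat_lit 0, nat_lit 259, nat_lit 185])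
(.leaf 309 3 [nat_lit 185, nat_lit 0, nat_lit 111, nat_lit 74, nat_lit 296, nat_lit 74, nat_lit 111, nat_lit 0, nat_lit 296, nat_lit 185])))
(.node (nat_lit 256) (.leaf 473 3 [nat_lit 111, nat_lit 259, nat_lit 111, nat_lit 222, nat_lit 185, nat_lit 148, nat_lit 259, nat_lit 148, nat_lit 259, nat_lit 148, nat_lit 0, nat_lit 185, nat_lit 222])
(.node (nat_lit 257) (.leaf 215 4 [nat_lit 74, nat_lit 37, nat_lit 185, nat_lit 259, nat_lit 74, nat_lit 37, nat_lit 222, nat_lit 185, nat_lit 222])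
(.leaf 609 5 [nat_lit 185, nat_lit 259, nat_lit 37, nat_lit 148, nat_lit 185, nat_lit 74, nat_lit 185, nat_lit 37, nat_lit 148, nat_lit 185, nat_lit 74, nat_lit 0, nat_lit 148, nat_lit 111, nat_lit 37, nat_lit 74])))))
(.node (nat_lit 264) (.node (nat_lit 261) (.node (nat_lit 259) (.leaf 213 3 [nat_lit 74, nat_lit 259, nat_lit 37, nat_lit 74, nat_lit 259, nat_lit 74, nat_lit 37, nat_lit 259, nat_lit 74])
(.node (nat_lit 260) (.leaf 451 2 [nat_lit 185, nat_lit 222, nat_lit 74, nat_lit 259, nat_lit 0, nat_lit 74, nat_lit 185, nat_lit 0, nat_lit 74, nat_lit 37, nat_lit 74, nat_lit 0, nat_lit 222])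
(.leaf 425 1 [nat_lit 111, nat_lit 74, nat_lit 111, nat_lit 259, nat_lit 0, nat_lit 37, nat_lit 148, nat_lit 74, nat_lit 148, nat_lit 74, nat_lit 37, nat_lit 0])))
(.node (nat_lit 262) (.leaf 357 9 [nat_lit 111, nat_lit 37, nat_lit 222, nat_lit 259, nat_lit 111, nat_lit 259, nat_lit 111, nat_lit 37, nat_lit 222, nat_lit 111])
(.node (nat_lit 263) (.leaf 551 6 [nat_lit 74, nat_lit 148, nat_lit 185, nat_lit 111, nat_lit 185, nat_lit 148, nat_lit 111, nat_lit 74, nat_lit 37, nat_lit 0, nat_lit 259, nat_lit 111, nat_lit 0, nat_lit 111, nat_lit 37])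
(.leaf 321 3 [nat_lit 185, nat_lit 37, nat_lit 259, nat_lit 37, nat_lit 148, nat_lit 0, nat_lit 148, nat_lit 0, nat_lit 148, nat_lit 185]))))
(.node (nat_lit 267) (.node (nat_lit 265) (.leaf 507 12 [nat_lit 111, nat_lit 37, nat_lit 0, nat_lit 185, nat_lit 148, nat_lit 74, nat_lit 296, nat_lit 148, nat_lit 296, nat_lit 259, nat_lit 74, nat_lit 185, nat_lit 0, nat_lit 111])
(.node (nat_lit 266) (.leaf 503 12 [nat_lit 74, nat_lit 37, nat_lit 0, nat_lit 259, nat_lit 222, nat_lit 111, nat_lit 74, nat_lit 148, nat_lit 222, nat_lit 0, nat_lit 222, nat_lit 148, nat_lit 37, nat_lit 222])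
(.leaf 395 1 [nat_lit 185, nat_lit 259, nat_lit 185, nat_lit 148, nat_lit 259, nat_lit 185, nat_lit 259, nat_lit 185, nat_lit 0, nat_lit 148, nat_lit 0])))
(.node (nat_lit 269) (.node (nat_lit 268) (.leaf 29 3 [nat_lit 296, nat_lit 37, nat_lit 259, nat_lit 37, nat_lit 0, nat_lit 296, nat_lit 0])
(.leaf 461 1 [nat_lit 185, nat_lit 296, nat_lit 74, nat_lit 296, nat_lit 185, nat_lit 259, nat_lit 185, nat_lit 74, nat_lit 111, nat_lit 185, nat_lit 0, nat_lit 111, nat_lit 0]))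
(.node (nat_lit 270) (.leaf 605 7 [nat_lit 296, nat_lit 37, nat_lit 74, nat_lit 0, nat_lit 296, nat_lit 37, nat_lit 0, nat_lit 222, nat_lit 37, nat_lit 0, nat_lit 37, nat_lit 296, nat_lit 74, nat_lit 37, nat_lit 222, nat_lit 296])
(.leaf 615 11 [nat_lit 296, nat_lit 111, nat_lit 74, nat_lit 37, nat_lit 74, nat_lit 37, nat_lit 74, nat_lit 296, nat_lit 259, nat_lit 111, nat_lit 148, nat_lit 259, nat_lit 111, nat_lit 259, nat_lit 148, nat_lit 74])))))))
(.node (nat_lit 304) (.node (nat_lit 286) (.node (nat_lit 278) (.node (nat_lit 274) (.node (nat_lit 272) (.leaf 331 2 [nat_lit 222, nat_lit 185, nat_lit 259, nat_lit 185, nat_lit 222, nat_lit 148, nat_lit 0, nat_lit 148, nat_lit 0, nat_lit 148])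
(.node (nat_lit 273) (.leaf 461 7 [nat_lit 185, nat_lit 74, nat_lit 111, nat_lit 185, nat_lit 0, nat_lit 111, nat_lit 0, nat_lit 259, nat_lit 185, nat_lit 296, nat_lit 74, nat_lit 296, nat_lit 185])
(.leaf 471 8 [nat_lit 222, nat_lit 148, nat_lit 296, nat_lit 0, nat_lit 148, nat_lit 0, nat_lit 296, nat_lit 222, nat_lit 148, nat_lit 222, nat_lit 148, nat_lit 222, nat_lit 148])))
(.node (nat_lit 276) (.node (nat_lit 275) (.leaf 269 1 [nat_lit 185, nat_lit 222, nat_lit 296, nat_lit 185, nat_lit 259, nat_lit 185, nat_lit 296, nat_lit 222, nat_lit 185])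
(.leaf 499 2 [nat_lit 296, nat_lit 74, nat_lit 296, nat_lit 148, nat_lit 74, nat_lit 148, nat_lit 259, nat_lit 37, nat_lit 0, nat_lit 37, nat_lit 74, nat_lit 37, nat_lit 0, nat_lit 37]))
(.node (nat_lit 277) (.leaf 165 3 [nat_lit 185, nat_lit 222, nat_lit 0, nat_lit 185, nat_lit 259, nat_lit 185, nat_lit 0, nat_lit 222, nat_lit 185])
(.leaf 147 2 [nat_lit 222, nat_lit 259, nat_lit 111, nat_lit 0, nat_lit 111, nat_lit 222, nat_lit 111, nat_lit 0, nat_lit 111]))))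
(.node (nat_lit 282) (.node (nat_lit 280) (.node (nat_lit 279) (.leaf 517 2 [nat_lit 296, nat_lit 185, nat_lit 296, nat_lit 37, nat_lit 0, nat_lit 259, nat_lit 74, nat_lit 259, nat_lit 185, nat_lit 0, nat_lit 296, nat_lit 37, nat_lit 0, nat_lit 185])
(.leaf 463 7 [nat_lit 0, nat_lit 185, nat_lit 296, nat_lit 259, nat_lit 0, nat_lit 111, nat_lit 0, nat_lit 259, nat_lit 296, nat_lit 185, nat_lit 0, nat_lit 259, nat_lit 111]))
(.node (nat_lit 281) (.leaf 151 8 [nat_lit 111, nat_lit 0, nat_lit 111, nat_lit 296, nat_lit 0, nat_lit 111, nat_lit 259, nat_lit 296, nat_lit 111])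
(.leaf 617 10 [nat_lit 296, nat_lit 74, nat_lit 148, nat_lit 111, nat_lit 37, nat_lit 74, nat_lit 37, nat_lit 111, nat_lit 148, nat_lit 296, nat_lit 259, nat_lit 148, nat_lit 296, nat_lit 74, nat_lit 296, nat_lit 148])))
(.node (nat_lit 284) (.node (nat_lit 283) (.leaf 239 7 [nat_lit 222, nat_lit 111, nat_lit 74, nat_lit 111, nat_lit 222, nat_lit 259, nat_lit 111, nat_lit 74, nat_lit 111])
(.leaf 47 6 [nat_lit 222, nat_lit 0, nat_lit 296, nat_lit 0, nat_lit 259, nat_lit 296, nat_lit 222]))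
(.node (nat_lit 285) (.leaf 347 1 [nat_lit 74, nat_lit 185, nat_lit 222, nat_lit 185, nat_lit 74, nat_lit 296, nat_lit 0, nat_lit 296, nat_lit 222, nat_lit 0])
(.leaf 167 3 [nat_lit 185, nat_lit 259, nat_lit 0, nat_lit 185, nat_lit 259, nat_lit 185, nat_lit 0, nat_lit 259, nat_lit 185])))))
(.node (nat_lit 295) (.node (nat_lit 290) (.node (nat_lit 288) (.node (nat_lit 287) (.leaf 355 1 [nat_lit 222, nat_lit 111, nat_lit 259, nat_lit 111, nat_lit 37, nat_lit 222, nat_lit 111, nat_lit 259, nat_lit 111, nat_lit 37])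
(.leaf 597 1 [nat_lit 74, nat_lit 111, nat_lit 148, nat_lit 222, nat_lit 0, nat_lit 222, nat_lit 148, nat_lit 185, nat_lit 259, nat_lit 111, nat_lit 185, nat_lit 74, nat_lit 37, nat_lit 111, nat_lit 37, nat_lit 0]))
(.node (nat_lit 289) (.leaf 615 3 [nat_lit 111, nat_lit 148, nat_lit 259, nat_lit 111, nat_lit 259, nat_lit 148, nat_lit 74, nat_lit 259, nat_lit 296, nat_lit 111, nat_lit 74, nat_lit 37, nat_lit 74, nat_lit 37, nat_lit 74, nat_lit 296])
(.leaf 221 8 [nat_lit 74, nat_lit 37, nat_lit 185, nat_lit 222, nat_lit 259, nat_lit 74, nat_lit 37, nat_lit 185, nat_lit 222])))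
(.node (nat_lit 292) (.node (nat_lit 291) (.leaf 509 1 [nat_lit 185, nat_lit 259, nat_lit 111, nat_lit 0, nat_lit 148, nat_lit 185, nat_lit 37, nat_lit 148, nat_lit 185, nat_lit 74, nat_lit 111, nat_lit 148, nat_lit 37, nat_lit 0])
(.leaf 359 8 [nat_lit 185, nat_lit 111, nat_lit 74, nat_lit 296, nat_lit 74, nat_lit 111, nat_lit 259, nat_lit 296, nat_lit 259, nat_lit 185]))
(.node (nat_lit 293) (.leaf 513 4 [nat_lit 111, nat_lit 185, nat_lit 74, nat_lit 37, nat_lit 296, nat_lit 148, nat_lit 296, nat_lit 148, nat_lit 185, nat_lit 37, nat_lit 0, nat_lit 259, nat_lit 111, nat_lit 74])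
(.node (nat_lit 294) (.leaf 171 3 [nat_lit 296, nat_lit 222, nat_lit 0, nat_lit 259, nat_lit 0, nat_lit 222, nat_lit 0, nat_lit 296, nat_lit 0])
(.leaf 171 7 [nat_lit 0, nat_lit 222, nat_lit 0, nat_lit 296, nat_lit 0, nat_lit 259, nat_lit 296, nat_lit 222, nat_lit 0])))))
(.node (nat_lit 299) (.node (nat_lit 297) (.node (nat_lit 296) (.leaf 199 4 [nat_lit 74, nat_lit 259, nat_lit 111, nat_lit 37, nat_lit 74, nat_lit 37, nat_lit 296, nat_lit 111, nat_lit 296])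
(.leaf 199 6 [nat_lit 111, nat_lit 37, nat_lit 74, nat_lit 37, nat_lit 296, nat_lit 111, nat_lit 296, nat_lit 259, nat_lit 74]))
(.node (nat_lit 298) (.leaf 361 7 [nat_lit 185, nat_lit 259, nat_lit 111, nat_lit 74, nat_lit 296, nat_lit 74, nat_lit 111, nat_lit 259, nat_lit 296, nat_lit 185])
(.leaf 633 1 [nat_lit 111, nat_lit 222, nat_lit 148, nat_lit 222, nat_lit 259, nat_lit 148, nat_lit 222, nat_lit 74, nat_lit 111, nat_lit 259, nat_lit 148, nat_lit 222, nat_lit 148, nat_lit 74, nat_lit 0, nat_lit 74, nat_lit 0])))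
(.node (nat_lit 301) (.node (nat_lit 300) (.leaf 275 9 [nat_lit 185, nat_lit 259, nat_lit 296, nat_lit 222, nat_lit 296, nat_lit 185, nat_lit 296, nat_lit 222, nat_lit 296])
(.leaf 463 1 [nat_lit 296, nat_lit 185, nat_lit 0, nat_lit 259, nat_lit 111, nat_lit 259, nat_lit 0, nat_lit 185, nat_lit 296, nat_lit 259, nat_lit 0, nat_lit 111, nat_lit 0]))
(.node (nat_lit 302) (.leaf 313 4 [nat_lit 185, nat_lit 148, nat_lit 0, nat_lit 111, nat_lit 148, nat_lit 111, nat_lit 0, nat_lit 148, nat_lit 259, nat_lit 185])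
(.node (nat_lit 303) (.leaf 313 2 [nat_lit 185, nat_lit 259, nat_lit 185, nat_lit 148, nat_lit 0, nat_lit 111, nat_lit 148, nat_lit 111, nat_lit 0, nat_lit 148])
(.leaf 121 7 [nat_lit 0, nat_lit 37, nat_lit 0, nat_lit 296, nat_lit 0, nat_lit 259, nat_lit 296, nat_lit 37, nat_lit 0])))))))
(.node (nat_lit 327) (.node (nat_lit 314) (.node (nat_lit 309) (.node (nat_lit 306) (.node (nat_lit 305) (.leaf 329 6 [nat_lit 185, nat_lit 148, nat_lit 0, nat_lit 148, nat_lit 0, nat_lit 148, nat_lit 222, nat_lit 259, nat_lit 222, nat_lit 185])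
(.leaf 415 9 [nat_lit 74, nat_lit 148, nat_lit 74, nat_lit 259, nat_lit 148, nat_lit 259, nat_lit 296, nat_lit 148, nat_lit 74, nat_lit 296, nat_lit 74]))
(.node (nat_lit 307) (.leaf 431 4 [nat_lit 74, nat_lit 296, nat_lit 74, nat_lit 148, nat_lit 111, nat_lit 259, nat_lit 296, nat_lit 111, nat_lit 0, nat_lit 148, nat_lit 259, nat_lit 111])
(.node (nat_lit 308) (.leaf 85 7 [nat_lit 74, nat_lit 259, nat_lit 222, nat_lit 259, nat_lit 74, nat_lit 259, nat_lit 222])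
(.leaf 339 8 [nat_lit 185, nat_lit 148, nat_lit 0, nat_lit 148, nat_lit 259, nat_lit 0, nat_lit 259, nat_lit 148, nat_lit 259, nat_lit 185]))))
(.node (nat_lit 311) (.node (nat_lit 310) (.leaf 507 7 [nat_lit 74, nat_lit 185, nat_lit 0, nat_lit 111, nat_lit 259, nat_lit 111, nat_lit 37, nat_lit 0, nat_lit 185, nat_lit 148, nat_lit 74, nat_lit 296, nat_lit 148, nat_lit 296])
(.leaf 323 5 [nat_lit 0, nat_lit 185, nat_lit 148, nat_lit 0, nat_lit 148, nat_lit 0, nat_lit 148, nat_lit 259, nat_lit 185, nat_lit 0]))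
(.node (nat_lit 312) (.leaf 65 4 [nat_lit 222, nat_lit 259, nat_lit 74, nat_lit 37, nat_lit 222, nat_lit 37, nat_lit 74])
(.node (nat_lit 313) (.leaf 621 7 [nat_lit 37, nat_lit 74, nat_lit 259, nat_lit 148, nat_lit 259, nat_lit 74, nat_lit 259, nat_lit 148, nat_lit 74, nat_lit 37, nat_lit 74, nat_lit 185, nat_lit 37, nat_lit 185, nat_lit 37, nat_lit 185])
(.leaf 569 9 [nat_lit 111, nat_lit 259, nat_lit 296, nat_lit 148, nat_lit 0, nat_lit 111, nat_lit 0, nat_lit 259, nat_lit 111, nat_lit 259, nat_lit 148, nat_lit 296, nat_lit 0, nat_lit 111, nat_lit 0])))))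
(.node (nat_lit 320) (.node (nat_lit 317) (.node (nat_lit 315) (.leaf 357 2 [nat_lit 111, nat_lit 259, nat_lit 111, nat_lit 37, nat_lit 222, nat_lit 111, nat_lit 259, nat_lit 111, nat_lit 37, nat_lit 222])
(.node (nat_lit 316) (.leaf 493 11 [nat_lit 74, nat_lit 0, nat_lit 37, nat_lit 0, nat_lit 296, nat_lit 37, nat_lit 0, nat_lit 185, nat_lit 259, nat_lit 296, nat_lit 185, nat_lit 296, nat_lit 259, nat_lit 185])
(.leaf 201 3 [nat_lit 74, nat_lit 259, nat_lit 111, nat_lit 222, nat_lit 37, nat_lit 74, nat_lit 37, nat_lit 222, nat_lit 111])))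
(.node (nat_lit 318) (.leaf 569 11 [nat_lit 296, nat_lit 148, nat_lit 0, nat_lit 111, nat_lit 0, nat_lit 259, nat_lit 111, nat_lit 259, nat_lit 148, nat_lit 296, nat_lit 0, nat_lit 111, nat_lit 0, nat_lit 259, nat_lit 111])
(.node (nat_lit 319) (.leaf 325 2 [nat_lit 185, nat_lit 37, nat_lit 259, nat_lit 37, nat_lit 185, nat_lit 148, nat_lit 0, nat_lit 148, nat_lit 0, nat_lit 148])
(.leaf 231 9 [nat_lit 37, nat_lit 296, nat_lit 222, nat_lit 296, nat_lit 259, nat_lit 296, nat_lit 222, nat_lit 296, nat_lit 37]))))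
(.node (nat_lit 323) (.node (nat_lit 321) (.leaf 367 7 [nat_lit 185, nat_lit 259, nat_lit 185, nat_lit 148, nat_lit 296, nat_lit 148, nat_lit 259, nat_lit 148, nat_lit 296, nat_lit 148])
(.node (nat_lit 322) (.leaf 85 5 [nat_lit 222, nat_lit 259, nat_lit 74, nat_lit 259, nat_lit 222, nat_lit 259, nat_lit 74])
(.leaf 569 3 [nat_lit 148, nat_lit 296, nat_lit 0, nat_lit 111, nat_lit 0, nat_lit 259, nat_lit 111, nat_lit 259, nat_lit 296, nat_lit 148, nat_lit 0, nat_lit 111, nat_lit 0, nat_lit 259, nat_lit 111])))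
(.node (nat_lit 325) (.node (nat_lit 324) (.leaf 231 4 [nat_lit 296, nat_lit 222, nat_lit 296, nat_lit 37, nat_lit 259, nat_lit 37, nat_lit 296, nat_lit 222, nat_lit 296])
(.leaf 121 3 [nat_lit 296, nat_lit 37, nat_lit 0, nat_lit 259, nat_lit 0, nat_lit 37, nat_lit 0, nat_lit 296, nat_lit 0]))
(.node (nat_lit 326) (.leaf 169 3 [nat_lit 185, nat_lit 296, nat_lit 0, nat_lit 185, nat_lit 259, nat_lit 185, nat_lit 0, nat_lit 296, nat_lit 185])
(.leaf 253 6 [nat_lit 296, nat_lit 74, nat_lit 222, nat_lit 74, nat_lit 296, nat_lit 259, nat_lit 296, nat_lit 222, nat_lit 296]))))))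
(.node (nat_lit 342) (.node (nat_lit 334) (.node (nat_lit 330) (.node (nat_lit 328) (.leaf 355 9 [nat_lit 111, nat_lit 37, nat_lit 259, nat_lit 222, nat_lit 111, nat_lit 259, nat_lit 111, nat_lit 37, nat_lit 222, nat_lit 111])
(.node (nat_lit 329) (.leaf 253 2 [nat_lit 296, nat_lit 222, nat_lit 296, nat_lit 259, nat_lit 296, nat_lit 74, nat_lit 222, nat_lit 74, nat_lit 296])
(.leaf 621 10 [nat_lit 148, nat_lit 259, nat_lit 74, nat_lit 259, nat_lit 148, nat_lit 74, nat_lit 37, nat_lit 74, nat_lit 185, nat_lit 37, nat_lit 185, nat_lit 37, nat_lit 185, nat_lit 259, nat_lit 37, nat_lit 74])))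
(.node (nat_lit 332) (.node (nat_lit 331) (.leaf 125 7 [nat_lit 222, nat_lit 37, nat_lit 0, nat_lit 296, nat_lit 0, nat_lit 259, nat_lit 296, nat_lit 37, nat_lit 222])
(.leaf 229 6 [nat_lit 296, nat_lit 37, nat_lit 222, nat_lit 37, nat_lit 296, nat_lit 259, nat_lit 296, nat_lit 222, nat_lit 296]))
(.node (nat_lit 333) (.leaf 343 2 [nat_lit 185, nat_lit 148, nat_lit 296, nat_lit 148, nat_lit 0, nat_lit 148, nat_lit 296, nat_lit 148, nat_lit 0, nat_lit 185])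
(.leaf 463 11 [nat_lit 0, nat_lit 111, nat_lit 0, nat_lit 259, nat_lit 296, nat_lit 185, nat_lit 0, nat_lit 259, nat_lit 111, nat_lit 259, nat_lit 0, nat_lit 185, nat_lit 296]))))
(.node (nat_lit 338) (.node (nat_lit 336) (.node (nat_lit 335) (.leaf 81 5 [nat_lit 74, nat_lit 222, nat_lit 74, nat_lit 259, nat_lit 74, nat_lit 222, nat_lit 74])
(.leaf 125 3 [nat_lit 296, nat_lit 37, nat_lit 222, nat_lit 259, nat_lit 222, nat_lit 37, nat_lit 0, nat_lit 296, nat_lit 0]))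
(.node (nat_lit 337) (.leaf 553 6 [nat_lit 74, nat_lit 0, nat_lit 74, nat_lit 37, nat_lit 296, nat_lit 222, nat_lit 296, nat_lit 74, nat_lit 37, nat_lit 0, nat_lit 296, nat_lit 222, nat_lit 296, nat_lit 259, nat_lit 74])
(.leaf 459 1 [nat_lit 111, nat_lit 259, nat_lit 148, nat_lit 259, nat_lit 111, nat_lit 259, nat_lit 0, nat_lit 111, nat_lit 0, nat_lit 148, nat_lit 0, nat_lit 111, nat_lit 0])))
(.node (nat_lit 340) (.node (nat_lit 339) (.leaf 157 3 [nat_lit 148, nat_lit 259, nat_lit 0, nat_lit 296, nat_lit 259, nat_lit 148, nat_lit 0, nat_lit 296, nat_lit 148])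
(.leaf 575 14 [nat_lit 111, nat_lit 0, nat_lit 148, nat_lit 74, nat_lit 148, nat_lit 0, nat_lit 111, nat_lit 259, nat_lit 296, nat_lit 222, nat_lit 296, nat_lit 74, nat_lit 296, nat_lit 222, nat_lit 296]))
(.node (nat_lit 341) (.leaf 353 4 [nat_lit 111, nat_lit 222, nat_lit 37, nat_lit 111, nat_lit 259, nat_lit 111, nat_lit 37, nat_lit 222, nat_lit 259, nat_lit 111])
(.leaf 593 6 [nat_lit 185, nat_lit 296, nat_lit 222, nat_lit 185, nat_lit 296, nat_lit 37, nat_lit 74, nat_lit 185, nat_lit 0, nat_lit 37, nat_lit 0, nat_lit 222, nat_lit 0, nat_lit 296, nat_lit 37, nat_lit 0])))))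
(.node (nat_lit 351) (.node (nat_lit 346) (.node (nat_lit 344) (.node (nat_lit 343) (.leaf 335 4 [nat_lit 185, nat_lit 296, nat_lit 259, nat_lit 148, nat_lit 0, nat_lit 148, nat_lit 0, nat_lit 148, nat_lit 296, nat_lit 185])
(.leaf 521 12 [nat_lit 0, nat_lit 74, nat_lit 0, nat_lit 296, nat_lit 222, nat_lit 111, nat_lit 259, nat_lit 74, nat_lit 0, nat_lit 111, nat_lit 222, nat_lit 148, nat_lit 296, nat_lit 148]))
(.node (nat_lit 345) (.leaf 185 2 [nat_lit 296, nat_lit 37, nat_lit 259, nat_lit 37, nat_lit 296, nat_lit 0, nat_lit 296, nat_lit 0, nat_lit 296])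
(.leaf 75 7 [nat_lit 37, nat_lit 259, nat_lit 222, nat_lit 259, nat_lit 37, nat_lit 259, nat_lit 222])))
(.node (nat_lit 348) (.node (nat_lit 347) (.leaf 211 7 [nat_lit 222, nat_lit 74, nat_lit 37, nat_lit 185, nat_lit 259, nat_lit 74, nat_lit 37, nat_lit 222, nat_lit 185])
(.leaf 229 2 [nat_lit 296, nat_lit 222, nat_lit 296, nat_lit 259, nat_lit 296, nat_lit 37, nat_lit 222, nat_lit 37, nat_lit 296]))
(.node (nat_lit 349) (.leaf 553 4 [nat_lit 74, nat_lit 259, nat_lit 74, nat_lit 0, nat_lit 74, nat_lit 37, nat_lit 296, nat_lit 222, nat_lit 296, nat_lit 74, nat_lit 37, nat_lit 0, nat_lit 296, nat_lit 222, nat_lit 296])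
(.node (nat_lit 350) (.leaf 539 6 [nat_lit 148, nat_lit 222, nat_lit 148, nat_lit 259, nat_lit 148, nat_lit 259, nat_lit 148, nat_lit 222, nat_lit 148, nat_lit 259, nat_lit 296, nat_lit 148, nat_lit 296, nat_lit 148])
(.leaf 271 9 [nat_lit 185, nat_lit 259, nat_lit 296, nat_lit 185, nat_lit 259, nat_lit 185, nat_lit 296, nat_lit 259, nat_lit 185])))))
(.node (nat_lit 358) (.node (nat_lit 354) (.node (nat_lit 352) (.leaf 575 6 [nat_lit 296, nat_lit 222, nat_lit 296, nat_lit 74, nat_lit 296, nat_lit 222, nat_lit 296, nat_lit 259, nat_lit 111, nat_lit 0, nat_lit 148, nat_lit 74, nat_lit 148, nat_lit 0, nat_lit 111])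
(.node (nat_lit 353) (.leaf 267 6 [nat_lit 185, nat_lit 259, nat_lit 222, nat_lit 185, nat_lit 259, nat_lit 185, nat_lit 222, nat_lit 259, nat_lit 185])
(.leaf 367 9 [nat_lit 185, nat_lit 148, nat_lit 296, nat_lit 148, nat_lit 259, nat_lit 148, nat_lit 296, nat_lit 148, nat_lit 259, nat_lit 185])))
(.node (nat_lit 356) (.node (nat_lit 355) (.leaf 217 3 [nat_lit 74, nat_lit 222, nat_lit 37, nat_lit 185, nat_lit 259, nat_lit 74, nat_lit 37, nat_lit 222, nat_lit 185])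
(.leaf 217 8 [nat_lit 74, nat_lit 37, nat_lit 222, nat_lit 185, nat_lit 259, nat_lit 74, nat_lit 222, nat_lit 37, nat_lit 185]))
(.node (nat_lit 357) (.leaf 539 1 [nat_lit 296, nat_lit 148, nat_lit 296, nat_lit 148, nat_lit 259, nat_lit 148, nat_lit 222, nat_lit 148, nat_lit 259, nat_lit 148, nat_lit 259, nat_lit 148, nat_lit 222, nat_lit 148])
(.leaf 569 1 [nat_lit 111, nat_lit 259, nat_lit 148, nat_lit 296, nat_lit 0, nat_lit 111, nat_lit 0, nat_lit 259, nat_lit 111, nat_lit 259, nat_lit 296, nat_lit 148, nat_lit 0, nat_lit 111, nat_lit 0]))))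
(.node (nat_lit 363) (.node (nat_lit 360) (.node (nat_lit 359) (.leaf 271 4 [nat_lit 185, nat_lit 296, nat_lit 259, nat_lit 185, nat_lit 259, nat_lit 185, nat_lit 259, nat_lit 296, nat_lit 185])
(.leaf 549 5 [nat_lit 185, nat_lit 259, nat_lit 148, nat_lit 185, nat_lit 148, nat_lit 37, nat_lit 185, nat_lit 148, nat_lit 0, nat_lit 37, nat_lit 0, nat_lit 185, nat_lit 296, nat_lit 74, nat_lit 296]))
(.node (nat_lit 361) (.leaf 269 6 [nat_lit 185, nat_lit 296, nat_lit 222, nat_lit 185, nat_lit 259, nat_lit 185, nat_lit 222, nat_lit 296, nat_lit 185])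
(.node (nat_lit 362) (.leaf 339 6 [nat_lit 185, nat_lit 259, nat_lit 185, nat_lit 148, nat_lit 0, nat_lit 148, nat_lit 259, nat_lit 0, nat_lit 259, nat_lit 148])
(.leaf 341 4 [nat_lit 185, nat_lit 148, nat_lit 259, nat_lit 0, nat_lit 259, nat_lit 148, nat_lit 0, nat_lit 148, nat_lit 259, nat_lit 185]))))
(.node (nat_lit 366) (.node (nat_lit 364) (.leaf 355 4 [nat_lit 111, nat_lit 37, nat_lit 222, nat_lit 111, nat_lit 259, nat_lit 111, nat_lit 37, nat_lit 259, nat_lit 222, nat_lit 111])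
(.node (nat_lit 365) (.leaf 75 5 [nat_lit 222, nat_lit 259, nat_lit 37, nat_lit 259, nat_lit 222, nat_lit 259, nat_lit 37])
(.leaf 517 10 [nat_lit 185, nat_lit 0, nat_lit 296, nat_lit 37, nat_lit 0, nat_lit 185, nat_lit 259, nat_lit 296, nat_lit 185, nat_lit 296, nat_lit 37, nat_lit 0, nat_lit 259, nat_lit 74])))
(.node (nat_lit 368) (.node (nat_lit 367) (.leaf 341 2 [nat_lit 185, nat_lit 259, nat_lit 185, nat_lit 148, nat_lit 259, nat_lit 0, nat_lit 259, nat_lit 148, nat_lit 0, nat_lit 148])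
(.leaf 219 8 [nat_lit 74, nat_lit 37, nat_lit 222, nat_lit 185, nat_lit 259, nat_lit 74, nat_lit 37, nat_lit 222, nat_lit 185]))
(.node (nat_lit 369) (.leaf 357 4 [nat_lit 111, nat_lit 37, nat_lit 222, nat_lit 111, nat_lit 259, nat_lit 111, nat_lit 37, nat_lit 222, nat_lit 259, nat_lit 111])
(.leaf 73 6 [nat_lit 222, nat_lit 37, nat_lit 222, nat_lit 259, nat_lit 222, nat_lit 37, nat_lit 222])))))))))))))
(.leaf 0 0 []))))
noncomputable def wt8 : LT := (.node (nat_lit 24) (.node (nat_lit 4) (.node (nat_lit 1) (.node (nat_lit 0) (.leaf 17 1 [nat_lit 0, nat_lit 259, nat_lit 296, nat_lit 259, nat_lit 0])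
(.leaf 11 3 [nat_lit 111, nat_lit 296, nat_lit 111]))
(.node (nat_lit 2) (.leaf 15 4 [nat_lit 259, nat_lit 0, nat_lit 296, nat_lit 259, nat_lit 0])
(.node (nat_lit 3) (.leaf 35 1 [nat_lit 148, nat_lit 259, nat_lit 148, nat_lit 296, nat_lit 0, nat_lit 148, nat_lit 0])
(.leaf 111 5 [nat_lit 185, nat_lit 259, nat_lit 185, nat_lit 296, nat_lit 185, nat_lit 259, nat_lit 185]))))
(.node (nat_lit 9) (.node (nat_lit 6) (.node (nat_lit 5) (.leaf 87 7 [nat_lit 74, nat_lit 296, nat_lit 74, nat_lit 296, nat_lit 74, nat_lit 296, nat_lit 74])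
(.leaf 113 7 [nat_lit 222, nat_lit 296, nat_lit 222, nat_lit 296, nat_lit 222, nat_lit 296, nat_lit 222]))
(.node (nat_lit 7) (.leaf 47 4 [nat_lit 222, nat_lit 259, nat_lit 222, nat_lit 0, nat_lit 296, nat_lit 0, nat_lit 259])
(.node (nat_lit 8) (.leaf 89 5 [nat_lit 148, nat_lit 296, nat_lit 74, nat_lit 296, nat_lit 148, nat_lit 296, nat_lit 74])
(.leaf 29 4 [nat_lit 37, nat_lit 259, nat_lit 37, nat_lit 0, nat_lit 296, nat_lit 0, nat_lit 259]))))
(.node (nat_lit 13) (.node (nat_lit 11) (.node (nat_lit 10) (.leaf 91 6 [nat_lit 148, nat_lit 111, nat_lit 148, nat_lit 296, nat_lit 148, nat_lit 111, nat_lit 148])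
(.leaf 275 4 [nat_lit 185, nat_lit 296, nat_lit 222, nat_lit 296, nat_lit 259, nat_lit 185, nat_lit 259, nat_lit 296, nat_lit 222]))
(.node (nat_lit 12) (.leaf 89 7 [nat_lit 74, nat_lit 296, nat_lit 148, nat_lit 296, nat_lit 74, nat_lit 296, nat_lit 148])
(.leaf 103 7 [nat_lit 148, nat_lit 296, nat_lit 148, nat_lit 296, nat_lit 148, nat_lit 296, nat_lit 148])))
(.node (nat_lit 17) (.node (nat_lit 15) (.node (nat_lit 14) (.leaf 35 5 [nat_lit 0, nat_lit 148, nat_lit 0, nat_lit 296, nat_lit 148, nat_lit 259, nat_lit 148])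
(.leaf 225 3 [nat_lit 37, nat_lit 111, nat_lit 37, nat_lit 111, nat_lit 37, nat_lit 111, nat_lit 37, nat_lit 296, nat_lit 111]))
(.node (nat_lit 16) (.leaf 17 4 [nat_lit 259, nat_lit 0, nat_lit 296, nat_lit 0, nat_lit 259])
(.leaf 115 7 [nat_lit 222, nat_lit 296, nat_lit 259, nat_lit 296, nat_lit 222, nat_lit 296, nat_lit 259])))
(.node (nat_lit 20) (.node (nat_lit 18) (.leaf 131 8 [nat_lit 74, nat_lit 0, nat_lit 259, nat_lit 74, nat_lit 296, nat_lit 74, nat_lit 259, nat_lit 0, nat_lit 74])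
(.node (nat_lit 19) (.leaf 405 8 [nat_lit 185, nat_lit 296, nat_lit 74, nat_lit 37, nat_lit 259, nat_lit 296, nat_lit 185, nat_lit 296, nat_lit 74, nat_lit 259, nat_lit 37])
(.leaf 159 8 [nat_lit 148, nat_lit 0, nat_lit 259, nat_lit 148, nat_lit 296, nat_lit 148, nat_lit 259, nat_lit 0, nat_lit 148])))
(.node (nat_lit 22) (.node (nat_lit 21) (.leaf 115 5 [nat_lit 259, nat_lit 296, nat_lit 222, nat_lit 296, nat_lit 259, nat_lit 296, nat_lit 222])
(.leaf 493 6 [nat_lit 185, nat_lit 296, nat_lit 259, nat_lit 185, nat_lit 259, nat_lit 74, nat_lit 0, nat_lit 37, nat_lit 0, nat_lit 296, nat_lit 37, nat_lit 0, nat_lit 185, nat_lit 259]))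
(.node (nat_lit 23) (.leaf 227 7 [nat_lit 37, nat_lit 222, nat_lit 37, nat_lit 296, nat_lit 222, nat_lit 296, nat_lit 222, nat_lit 296, nat_lit 222])
(.leaf 49 7 [nat_lit 0, nat_lit 296, nat_lit 0, nat_lit 296, nat_lit 0, nat_lit 296, nat_lit 0]))))))))
(.node (nat_lit 353) (.node (nat_lit 78) (.node (nat_lit 42) (.node (nat_lit 32) (.node (nat_lit 28) (.node (nat_lit 26) (.node (nat_lit 25) (.leaf 273 6 [nat_lit 222, nat_lit 296, nat_lit 259, nat_lit 185, nat_lit 296, nat_lit 222, nat_lit 296, nat_lit 259, nat_lit 185])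
(.leaf 381 10 [nat_lit 37, nat_lit 0, nat_lit 74, nat_lit 0, nat_lit 37, nat_lit 296, nat_lit 37, nat_lit 0, nat_lit 74, nat_lit 0, nat_lit 37]))
(.node (nat_lit 27) (.leaf 145 3 [nat_lit 222, nat_lit 111, nat_lit 0, nat_lit 111, nat_lit 222, nat_lit 111, nat_lit 0, nat_lit 296, nat_lit 111])
(.leaf 419 9 [nat_lit 148, nat_lit 185, nat_lit 148, nat_lit 296, nat_lit 148, nat_lit 185, nat_lit 148, nat_lit 296, nat_lit 148, nat_lit 185, nat_lit 148])))
(.node (nat_lit 30) (.node (nat_lit 29) (.leaf 51 5 [nat_lit 0, nat_lit 296, nat_lit 0, nat_lit 296, nat_lit 259, nat_lit 296, nat_lit 259])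
(.leaf 173 3 [nat_lit 222, nat_lit 296, nat_lit 0, nat_lit 296, nat_lit 0, nat_lit 222, nat_lit 0, nat_lit 296, nat_lit 0]))
(.node (nat_lit 31) (.leaf 409 7 [nat_lit 185, nat_lit 296, nat_lit 37, nat_lit 185, nat_lit 37, nat_lit 296, nat_lit 185, nat_lit 296, nat_lit 37, nat_lit 185, nat_lit 37])
(.leaf 307 6 [nat_lit 185, nat_lit 259, nat_lit 185, nat_lit 74, nat_lit 0, nat_lit 74, nat_lit 296, nat_lit 74, nat_lit 0, nat_lit 74]))))
(.node (nat_lit 37) (.node (nat_lit 34) (.node (nat_lit 33) (.leaf 185 3 [nat_lit 37, nat_lit 259, nat_lit 37, nat_lit 296, nat_lit 0, nat_lit 296, nat_lit 0, nat_lit 296, nat_lit 259])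
(.leaf 495 9 [nat_lit 185, nat_lit 296, nat_lit 74, nat_lit 0, nat_lit 37, nat_lit 0, nat_lit 296, nat_lit 37, nat_lit 296, nat_lit 0, nat_lit 185, nat_lit 296, nat_lit 259, nat_lit 185]))
(.node (nat_lit 35) (.leaf 481 12 [nat_lit 111, nat_lit 37, nat_lit 296, nat_lit 37, nat_lit 222, nat_lit 185, nat_lit 222, nat_lit 37, nat_lit 296, nat_lit 37, nat_lit 296, nat_lit 111, nat_lit 185])
(.node (nat_lit 36) (.leaf 409 9 [nat_lit 37, nat_lit 185, nat_lit 37, nat_lit 296, nat_lit 185, nat_lit 296, nat_lit 37, nat_lit 185, nat_lit 37, nat_lit 296, nat_lit 185])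
(.leaf 235 3 [nat_lit 74, nat_lit 111, nat_lit 74, nat_lit 111, nat_lit 74, nat_lit 111, nat_lit 74, nat_lit 296, nat_lit 111]))))
(.node (nat_lit 39) (.node (nat_lit 38) (.leaf 175 1 [nat_lit 74, nat_lit 296, nat_lit 0, nat_lit 222, nat_lit 148, nat_lit 74, nat_lit 148, nat_lit 222, nat_lit 0])
(.leaf 413 1 [nat_lit 185, nat_lit 148, nat_lit 185, nat_lit 111, nat_lit 185, nat_lit 148, nat_lit 185, nat_lit 296, nat_lit 74, nat_lit 111, nat_lit 74]))
(.node (nat_lit 40) (.leaf 383 8 [nat_lit 37, nat_lit 296, nat_lit 74, nat_lit 0, nat_lit 222, nat_lit 0, nat_lit 74, nat_lit 296, nat_lit 37, nat_lit 296, nat_lit 222])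
(.node (nat_lit 41) (.leaf 481 7 [nat_lit 37, nat_lit 296, nat_lit 111, nat_lit 185, nat_lit 296, nat_lit 111, nat_lit 37, nat_lit 296, nat_lit 37, nat_lit 222, nat_lit 185, nat_lit 222, nat_lit 37])
(.leaf 593 8 [nat_lit 222, nat_lit 185, nat_lit 296, nat_lit 37, nat_lit 74, nat_lit 185, nat_lit 0, nat_lit 37, nat_lit 0, nat_lit 222, nat_lit 0, nat_lit 296, nat_lit 37, nat_lit 0, nat_lit 259, nat_lit 185]))))))
(.node (nat_lit 57) (.node (nat_lit 49) (.node (nat_lit 45) (.node (nat_lit 43) (.leaf 51 1 [nat_lit 259, nat_lit 296, nat_lit 259, nat_lit 296, nat_lit 0, nat_lit 296, nat_lit 0])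
(.node (nat_lit 44) (.leaf 269 8 [nat_lit 222, nat_lit 185, nat_lit 259, nat_lit 185, nat_lit 222, nat_lit 296, nat_lit 185, nat_lit 259, nat_lit 185])
(.leaf 279 3 [nat_lit 259, nat_lit 296, nat_lit 37, nat_lit 0, nat_lit 74, nat_lit 185, nat_lit 37, nat_lit 0, nat_lit 74, nat_lit 185])))
(.node (nat_lit 47) (.node (nat_lit 46) (.leaf 169 1 [nat_lit 185, nat_lit 259, nat_lit 185, nat_lit 296, nat_lit 0, nat_lit 185, nat_lit 259, nat_lit 185, nat_lit 0])
(.leaf 129 7 [nat_lit 259, nat_lit 74, nat_lit 0, nat_lit 74, nat_lit 296, nat_lit 259, nat_lit 74, nat_lit 0, nat_lit 74]))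
(.node (nat_lit 48) (.leaf 269 4 [nat_lit 185, nat_lit 259, nat_lit 185, nat_lit 296, nat_lit 222, nat_lit 185, nat_lit 259, nat_lit 185, nat_lit 222])
(.leaf 51 3 [nat_lit 259, nat_lit 296, nat_lit 0, nat_lit 296, nat_lit 0, nat_lit 296, nat_lit 259]))))
(.node (nat_lit 53) (.node (nat_lit 51) (.node (nat_lit 50) (.leaf 349 3 [nat_lit 74, nat_lit 296, nat_lit 74, nat_lit 37, nat_lit 148, nat_lit 37, nat_lit 74, nat_lit 37, nat_lit 148, nat_lit 37])
(.leaf 51 7 [nat_lit 0, nat_lit 296, nat_lit 259, nat_lit 296, nat_lit 259, nat_lit 296, nat_lit 0]))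
(.node (nat_lit 52) (.leaf 231 7 [nat_lit 37, nat_lit 259, nat_lit 37, nat_lit 296, nat_lit 222, nat_lit 296, nat_lit 259, nat_lit 296, nat_lit 222])
(.leaf 285 5 [nat_lit 37, nat_lit 185, nat_lit 222, nat_lit 185, nat_lit 37, nat_lit 0, nat_lit 259, nat_lit 222, nat_lit 296, nat_lit 0])))
(.node (nat_lit 55) (.node (nat_lit 54) (.leaf 243 6 [nat_lit 148, nat_lit 74, nat_lit 148, nat_lit 74, nat_lit 296, nat_lit 148, nat_lit 74, nat_lit 148, nat_lit 74])
(.leaf 515 8 [nat_lit 185, nat_lit 296, nat_lit 259, nat_lit 185, nat_lit 222, nat_lit 37, nat_lit 0, nat_lit 37, nat_lit 296, nat_lit 222, nat_lit 37, nat_lit 0, nat_lit 74, nat_lit 185]))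
(.node (nat_lit 56) (.leaf 149 6 [nat_lit 111, nat_lit 259, nat_lit 111, nat_lit 0, nat_lit 296, nat_lit 111, nat_lit 0, nat_lit 111, nat_lit 259])
(.leaf 383 4 [nat_lit 37, nat_lit 296, nat_lit 222, nat_lit 296, nat_lit 37, nat_lit 296, nat_lit 74, nat_lit 0, nat_lit 222, nat_lit 0, nat_lit 74])))))
(.node (nat_lit 67) (.node (nat_lit 62) (.node (nat_lit 59) (.node (nat_lit 58) (.leaf 279 5 [nat_lit 37, nat_lit 0, nat_lit 74, nat_lit 185, nat_lit 37, nat_lit 0, nat_lit 74, nat_lit 185, nat_lit 296, nat_lit 259])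
(.leaf 97 5 [nat_lit 148, nat_lit 296, nat_lit 111, nat_lit 296, nat_lit 148, nat_lit 296, nat_lit 111]))
(.node (nat_lit 60) (.leaf 149 1 [nat_lit 111, nat_lit 0, nat_lit 111, nat_lit 259, nat_lit 296, nat_lit 111, nat_lit 259, nat_lit 111, nat_lit 0])
(.node (nat_lit 61) (.leaf 245 6 [nat_lit 148, nat_lit 74, nat_lit 148, nat_lit 74, nat_lit 296, nat_lit 74, nat_lit 148, nat_lit 74, nat_lit 148])
(.leaf 273 8 [nat_lit 259, nat_lit 185, nat_lit 296, nat_lit 222, nat_lit 296, nat_lit 259, nat_lit 185, nat_lit 296, nat_lit 222]))))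
(.node (nat_lit 64) (.node (nat_lit 63) (.leaf 405 10 [nat_lit 74, nat_lit 37, nat_lit 259, nat_lit 296, nat_lit 185, nat_lit 296, nat_lit 74, nat_lit 259, nat_lit 37, nat_lit 296, nat_lit 185])
(.leaf 343 9 [nat_lit 148, nat_lit 0, nat_lit 185, nat_lit 259, nat_lit 185, nat_lit 148, nat_lit 296, nat_lit 148, nat_lit 0, nat_lit 148]))
(.node (nat_lit 65) (.leaf 137 3 [nat_lit 0, nat_lit 111, nat_lit 0, nat_lit 111, nat_lit 0, nat_lit 111, nat_lit 0, nat_lit 296, nat_lit 111])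
(.node (nat_lit 66) (.leaf 475 7 [nat_lit 185, nat_lit 222, nat_lit 111, nat_lit 185, nat_lit 111, nat_lit 74, nat_lit 37, nat_lit 111, nat_lit 37, nat_lit 111, nat_lit 222, nat_lit 296, nat_lit 74])
(.leaf 367 5 [nat_lit 148, nat_lit 259, nat_lit 185, nat_lit 259, nat_lit 185, nat_lit 148, nat_lit 296, nat_lit 148, nat_lit 259, nat_lit 148])))))
(.node (nat_lit 72) (.node (nat_lit 69) (.node (nat_lit 68) (.leaf 411 11 [nat_lit 37, nat_lit 296, nat_lit 259, nat_lit 148, nat_lit 259, nat_lit 296, nat_lit 37, nat_lit 296, nat_lit 259, nat_lit 148, nat_lit 259])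
(.leaf 151 2 [nat_lit 0, nat_lit 111, nat_lit 259, nat_lit 296, nat_lit 111, nat_lit 259, nat_lit 111, nat_lit 0, nat_lit 111]))
(.node (nat_lit 70) (.leaf 309 1 [nat_lit 185, nat_lit 259, nat_lit 185, nat_lit 0, nat_lit 111, nat_lit 74, nat_lit 296, nat_lit 74, nat_lit 111, nat_lit 0])
(.node (nat_lit 71) (.leaf 345 9 [nat_lit 222, nat_lit 0, nat_lit 259, nat_lit 37, nat_lit 185, nat_lit 222, nat_lit 185, nat_lit 37, nat_lit 296, nat_lit 0])
(.leaf 251 7 [nat_lit 74, nat_lit 222, nat_lit 74, nat_lit 296, nat_lit 222, nat_lit 296, nat_lit 222, nat_lit 296, nat_lit 222]))))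
(.node (nat_lit 75) (.node (nat_lit 73) (.leaf 175 3 [nat_lit 0, nat_lit 222, nat_lit 148, nat_lit 74, nat_lit 148, nat_lit 222, nat_lit 0, nat_lit 296, nat_lit 74])
(.node (nat_lit 74) (.leaf 177 8 [nat_lit 222, nat_lit 0, nat_lit 296, nat_lit 0, nat_lit 296, nat_lit 222, nat_lit 0, nat_lit 296, nat_lit 0])
(.leaf 493 8 [nat_lit 259, nat_lit 185, nat_lit 259, nat_lit 74, nat_lit 0, nat_lit 37, nat_lit 0, nat_lit 296, nat_lit 37, nat_lit 0, nat_lit 185, nat_lit 259, nat_lit 296, nat_lit 185])))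
(.node (nat_lit 76) (.leaf 415 4 [nat_lit 148, nat_lit 74, nat_lit 296, nat_lit 74, nat_lit 259, nat_lit 74, nat_lit 148, nat_lit 74, nat_lit 259, nat_lit 148, nat_lit 259])
(.node (nat_lit 77) (.leaf 349 5 [nat_lit 74, nat_lit 37, nat_lit 148, nat_lit 37, nat_lit 74, nat_lit 37, nat_lit 148, nat_lit 37, nat_lit 296, nat_lit 74])
(.leaf 343 5 [nat_lit 148, nat_lit 0, nat_lit 148, nat_lit 296, nat_lit 148, nat_lit 0, nat_lit 185, nat_lit 259, nat_lit 185, nat_lit 148]))))))))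
(.node (nat_lit 146) (.node (nat_lit 106) (.node (nat_lit 91) (.node (nat_lit 84) (.node (nat_lit 81) (.node (nat_lit 79) (.leaf 463 2 [nat_lit 185, nat_lit 0, nat_lit 259, nat_lit 111, nat_lit 259, nat_lit 0, nat_lit 185, nat_lit 296, nat_lit 259, nat_lit 0, nat_lit 111, nat_lit 0, nat_lit 259])
(.node (nat_lit 80) (.leaf 437 3 [nat_lit 37, nat_lit 148, nat_lit 37, nat_lit 296, nat_lit 148, nat_lit 296, nat_lit 148, nat_lit 37, nat_lit 148, nat_lit 37, nat_lit 296, nat_lit 148])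
(.leaf 513 11 [nat_lit 148, nat_lit 185, nat_lit 37, nat_lit 0, nat_lit 259, nat_lit 111, nat_lit 74, nat_lit 259, nat_lit 111, nat_lit 185, nat_lit 74, nat_lit 37, nat_lit 296, nat_lit 148])))
(.node (nat_lit 82) (.leaf 405 2 [nat_lit 185, nat_lit 296, nat_lit 74, nat_lit 259, nat_lit 37, nat_lit 296, nat_lit 185, nat_lit 296, nat_lit 74, nat_lit 37, nat_lit 259])
(.node (nat_lit 83) (.leaf 311 8 [nat_lit 74, nat_lit 111, nat_lit 0, nat_lit 296, nat_lit 0, nat_lit 185, nat_lit 259, nat_lit 185, nat_lit 111, nat_lit 74])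
(.leaf 479 1 [nat_lit 185, nat_lit 259, nat_lit 296, nat_lit 74, nat_lit 222, nat_lit 37, nat_lit 296, nat_lit 259, nat_lit 222, nat_lit 185, nat_lit 296, nat_lit 74, nat_lit 37]))))
(.node (nat_lit 87) (.node (nat_lit 85) (.leaf 361 5 [nat_lit 185, nat_lit 259, nat_lit 185, nat_lit 259, nat_lit 111, nat_lit 74, nat_lit 296, nat_lit 74, nat_lit 111, nat_lit 259])
(.node (nat_lit 86) (.leaf 515 2 [nat_lit 222, nat_lit 37, nat_lit 0, nat_lit 74, nat_lit 185, nat_lit 296, nat_lit 185, nat_lit 296, nat_lit 259, nat_lit 185, nat_lit 222, nat_lit 37, nat_lit 0, nat_lit 37])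
(.leaf 229 7 [nat_lit 37, nat_lit 222, nat_lit 37, nat_lit 296, nat_lit 259, nat_lit 296, nat_lit 222, nat_lit 296, nat_lit 259])))
(.node (nat_lit 89) (.node (nat_lit 88) (.leaf 541 4 [nat_lit 222, nat_lit 37, nat_lit 296, nat_lit 0, nat_lit 37, nat_lit 0, nat_lit 74, nat_lit 296, nat_lit 74, nat_lit 0, nat_lit 37, nat_lit 0, nat_lit 296, nat_lit 222, nat_lit 37])
(.leaf 427 3 [nat_lit 222, nat_lit 0, nat_lit 222, nat_lit 296, nat_lit 74, nat_lit 148, nat_lit 111, nat_lit 222, nat_lit 74, nat_lit 0, nat_lit 222, nat_lit 148]))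
(.node (nat_lit 90) (.leaf 275 6 [nat_lit 222, nat_lit 296, nat_lit 259, nat_lit 185, nat_lit 259, nat_lit 296, nat_lit 222, nat_lit 296, nat_lit 185])
(.leaf 153 8 [nat_lit 111, nat_lit 0, nat_lit 148, nat_lit 0, nat_lit 296, nat_lit 148, nat_lit 259, nat_lit 111, nat_lit 148])))))
(.node (nat_lit 98) (.node (nat_lit 94) (.node (nat_lit 92) (.leaf 173 5 [nat_lit 0, nat_lit 296, nat_lit 0, nat_lit 222, nat_lit 0, nat_lit 296, nat_lit 0, nat_lit 296, nat_lit 222])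
(.node (nat_lit 93) (.leaf 383 6 [nat_lit 222, nat_lit 296, nat_lit 37, nat_lit 296, nat_lit 74, nat_lit 0, nat_lit 222, nat_lit 0, nat_lit 74, nat_lit 296, nat_lit 37])
(.leaf 367 1 [nat_lit 148, nat_lit 259, nat_lit 148, nat_lit 296, nat_lit 148, nat_lit 259, nat_lit 185, nat_lit 259, nat_lit 185, nat_lit 148])))
(.node (nat_lit 96) (.node (nat_lit 95) (.leaf 457 4 [nat_lit 222, nat_lit 37, nat_lit 296, nat_lit 222, nat_lit 296, nat_lit 222, nat_lit 37, nat_lit 296, nat_lit 74, nat_lit 0, nat_lit 222, nat_lit 0, nat_lit 74])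
(.leaf 537 6 [nat_lit 222, nat_lit 148, nat_lit 222, nat_lit 37, nat_lit 148, nat_lit 74, nat_lit 148, nat_lit 74, nat_lit 37, nat_lit 222, nat_lit 148, nat_lit 222, nat_lit 296, nat_lit 74]))
(.node (nat_lit 97) (.leaf 271 6 [nat_lit 259, nat_lit 185, nat_lit 259, nat_lit 185, nat_lit 259, nat_lit 296, nat_lit 185, nat_lit 259, nat_lit 185])
(.leaf 483 11 [nat_lit 222, nat_lit 111, nat_lit 74, nat_lit 111, nat_lit 296, nat_lit 222, nat_lit 296, nat_lit 222, nat_lit 296, nat_lit 111, nat_lit 74, nat_lit 111, nat_lit 222]))))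
(.node (nat_lit 102) (.node (nat_lit 100) (.node (nat_lit 99) (.leaf 495 6 [nat_lit 259, nat_lit 185, nat_lit 296, nat_lit 185, nat_lit 296, nat_lit 74, nat_lit 0, nat_lit 37, nat_lit 0, nat_lit 296, nat_lit 37, nat_lit 296, nat_lit 0, nat_lit 185])
(.leaf 283 2 [nat_lit 0, nat_lit 296, nat_lit 259, nat_lit 37, nat_lit 185, nat_lit 222, nat_lit 185, nat_lit 37, nat_lit 0, nat_lit 222]))
(.node (nat_lit 101) (.leaf 199 3 [nat_lit 259, nat_lit 74, nat_lit 259, nat_lit 111, nat_lit 37, nat_lit 74, nat_lit 37, nat_lit 296, nat_lit 111])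
(.leaf 179 8 [nat_lit 222, nat_lit 0, nat_lit 296, nat_lit 259, nat_lit 296, nat_lit 0, nat_lit 222, nat_lit 296, nat_lit 259])))
(.node (nat_lit 104) (.node (nat_lit 103) (.leaf 457 9 [nat_lit 222, nat_lit 37, nat_lit 296, nat_lit 74, nat_lit 0, nat_lit 222, nat_lit 0, nat_lit 74, nat_lit 296, nat_lit 222, nat_lit 37, nat_lit 296, nat_lit 222])
(.leaf 517 13 [nat_lit 37, nat_lit 0, nat_lit 185, nat_lit 259, nat_lit 296, nat_lit 185, nat_lit 296, nat_lit 37, nat_lit 0, nat_lit 259, nat_lit 74, nat_lit 259, nat_lit 185, nat_lit 0]))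
(.node (nat_lit 105) (.leaf 307 2 [nat_lit 74, nat_lit 0, nat_lit 74, nat_lit 296, nat_lit 185, nat_lit 259, nat_lit 185, nat_lit 74, nat_lit 0, nat_lit 74])
(.leaf 523 8 [nat_lit 259, nat_lit 148, nat_lit 74, nat_lit 185, nat_lit 37, nat_lit 74, nat_lit 0, nat_lit 74, nat_lit 185, nat_lit 0, nat_lit 185, nat_lit 148, nat_lit 296, nat_lit 0]))))))
(.node (nat_lit 124) (.node (nat_lit 115) (.node (nat_lit 110) (.node (nat_lit 108) (.node (nat_lit 107) (.leaf 481 1 [nat_lit 37, nat_lit 222, nat_lit 185, nat_lit 222, nat_lit 37, nat_lit 296, nat_lit 37, nat_lit 296, nat_lit 111, nat_lit 185, nat_lit 296, nat_lit 111, nat_lit 37])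
(.leaf 301 5 [nat_lit 74, nat_lit 185, nat_lit 222, nat_lit 185, nat_lit 74, nat_lit 0, nat_lit 259, nat_lit 222, nat_lit 296, nat_lit 0]))
(.node (nat_lit 109) (.leaf 295 1 [nat_lit 74, nat_lit 296, nat_lit 148, nat_lit 0, nat_lit 74, nat_lit 0, nat_lit 148, nat_lit 0, nat_lit 74, nat_lit 0])
(.leaf 271 2 [nat_lit 185, nat_lit 259, nat_lit 185, nat_lit 296, nat_lit 259, nat_lit 185, nat_lit 259, nat_lit 185, nat_lit 259])))
(.node (nat_lit 112) (.node (nat_lit 111) (.leaf 391 4 [nat_lit 148, nat_lit 0, nat_lit 111, nat_lit 74, nat_lit 148, nat_lit 74, nat_lit 111, nat_lit 0, nat_lit 148, nat_lit 296, nat_lit 259])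
(.leaf 53 7 [nat_lit 0, nat_lit 296, nat_lit 259, nat_lit 296, nat_lit 0, nat_lit 296, nat_lit 259]))
(.node (nat_lit 113) (.leaf 521 10 [nat_lit 148, nat_lit 259, nat_lit 0, nat_lit 74, nat_lit 0, nat_lit 296, nat_lit 222, nat_lit 111, nat_lit 259, nat_lit 74, nat_lit 0, nat_lit 111, nat_lit 222, nat_lit 148])
(.node (nat_lit 114) (.leaf 247 8 [nat_lit 148, nat_lit 74, nat_lit 296, nat_lit 74, nat_lit 296, nat_lit 74, nat_lit 148, nat_lit 296, nat_lit 74])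
(.leaf 277 3 [nat_lit 222, nat_lit 259, nat_lit 296, nat_lit 222, nat_lit 296, nat_lit 259, nat_lit 222, nat_lit 296, nat_lit 222])))))
(.node (nat_lit 119) (.node (nat_lit 117) (.node (nat_lit 116) (.leaf 311 1 [nat_lit 0, nat_lit 185, nat_lit 259, nat_lit 185, nat_lit 111, nat_lit 74, nat_lit 296, nat_lit 74, nat_lit 111, nat_lit 0])
(.leaf 383 10 [nat_lit 74, nat_lit 0, nat_lit 222, nat_lit 0, nat_lit 74, nat_lit 296, nat_lit 37, nat_lit 296, nat_lit 222, nat_lit 296, nat_lit 37]))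
(.node (nat_lit 118) (.leaf 515 10 [nat_lit 259, nat_lit 185, nat_lit 222, nat_lit 37, nat_lit 0, nat_lit 37, nat_lit 296, nat_lit 222, nat_lit 37, nat_lit 0, nat_lit 74, nat_lit 185, nat_lit 296, nat_lit 185])
(.leaf 481 9 [nat_lit 111, nat_lit 185, nat_lit 296, nat_lit 111, nat_lit 37, nat_lit 296, nat_lit 37, nat_lit 222, nat_lit 185, nat_lit 222, nat_lit 37, nat_lit 296, nat_lit 37])))
(.node (nat_lit 121) (.node (nat_lit 120) (.leaf 245 1 [nat_lit 74, nat_lit 148, nat_lit 74, nat_lit 148, nat_lit 296, nat_lit 148, nat_lit 74, nat_lit 148, nat_lit 74])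
(.leaf 423 3 [nat_lit 185, nat_lit 74, nat_lit 0, nat_lit 37, nat_lit 185, nat_lit 74, nat_lit 259, nat_lit 0, nat_lit 37, nat_lit 0, nat_lit 296, nat_lit 0]))
(.node (nat_lit 122) (.leaf 475 5 [nat_lit 74, nat_lit 296, nat_lit 185, nat_lit 222, nat_lit 111, nat_lit 185, nat_lit 111, nat_lit 74, nat_lit 37, nat_lit 111, nat_lit 37, nat_lit 111, nat_lit 222])
(.node (nat_lit 123) (.leaf 291 4 [nat_lit 37, nat_lit 259, nat_lit 185, nat_lit 222, nat_lit 185, nat_lit 37, nat_lit 0, nat_lit 222, nat_lit 296, nat_lit 0])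
(.leaf 533 12 [nat_lit 37, nat_lit 74, nat_lit 37, nat_lit 296, nat_lit 185, nat_lit 37, nat_lit 111, nat_lit 296, nat_lit 74, nat_lit 259, nat_lit 296, nat_lit 111, nat_lit 185, nat_lit 37]))))))
(.node (nat_lit 134) (.node (nat_lit 129) (.node (nat_lit 126) (.node (nat_lit 125) (.leaf 359 5 [nat_lit 259, nat_lit 185, nat_lit 259, nat_lit 185, nat_lit 111, nat_lit 74, nat_lit 296, nat_lit 74, nat_lit 111, nat_lit 259])
(.leaf 365 7 [nat_lit 185, nat_lit 259, nat_lit 185, nat_lit 74, nat_lit 259, nat_lit 74, nat_lit 296, nat_lit 74, nat_lit 259, nat_lit 74]))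
(.node (nat_lit 127) (.leaf 181 4 [nat_lit 222, nat_lit 296, nat_lit 259, nat_lit 296, nat_lit 222, nat_lit 0, nat_lit 259, nat_lit 296, nat_lit 0])
(.node (nat_lit 128) (.leaf 241 3 [nat_lit 74, nat_lit 111, nat_lit 296, nat_lit 148, nat_lit 296, nat_lit 111, nat_lit 74, nat_lit 296, nat_lit 148])
(.leaf 337 3 [nat_lit 0, nat_lit 148, nat_lit 259, nat_lit 74, nat_lit 259, nat_lit 74, nat_lit 148, nat_lit 0, nat_lit 296, nat_lit 74]))))
(.node (nat_lit 131) (.node (nat_lit 130) (.leaf 275 2 [nat_lit 222, nat_lit 296, nat_lit 185, nat_lit 296, nat_lit 222, nat_lit 296, nat_lit 259, nat_lit 185, nat_lit 259])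
(.leaf 601 5 [nat_lit 37, nat_lit 222, nat_lit 111, nat_lit 222, nat_lit 74, nat_lit 37, nat_lit 74, nat_lit 296, nat_lit 37, nat_lit 148, nat_lit 37, nat_lit 0, nat_lit 37, nat_lit 148, nat_lit 222, nat_lit 111]))
(.node (nat_lit 132) (.leaf 533 1 [nat_lit 185, nat_lit 37, nat_lit 111, nat_lit 296, nat_lit 74, nat_lit 259, nat_lit 296, nat_lit 111, nat_lit 185, nat_lit 37, nat_lit 296, nat_lit 37, nat_lit 74, nat_lit 37])
(.node (nat_lit 133) (.leaf 241 8 [nat_lit 111, nat_lit 74, nat_lit 296, nat_lit 148, nat_lit 296, nat_lit 74, nat_lit 111, nat_lit 296, nat_lit 148])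
(.leaf 337 1 [nat_lit 74, nat_lit 296, nat_lit 0, nat_lit 148, nat_lit 259, nat_lit 74, nat_lit 259, nat_lit 74, nat_lit 148, nat_lit 0])))))
(.node (nat_lit 140) (.node (nat_lit 137) (.node (nat_lit 135) (.leaf 561 13 [nat_lit 37, nat_lit 74, nat_lit 0, nat_lit 222, nat_lit 0, nat_lit 185, nat_lit 37, nat_lit 74, nat_lit 185, nat_lit 296, nat_lit 185, nat_lit 0, nat_lit 222, nat_lit 0, nat_lit 185])
(.node (nat_lit 136) (.leaf 429 5 [nat_lit 111, nat_lit 0, nat_lit 148, nat_lit 111, nat_lit 74, nat_lit 296, nat_lit 74, nat_lit 0, nat_lit 111, nat_lit 0, nat_lit 148, nat_lit 259])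
(.leaf 281 1 [nat_lit 259, nat_lit 296, nat_lit 222, nat_lit 0, nat_lit 37, nat_lit 185, nat_lit 222, nat_lit 185, nat_lit 37, nat_lit 0])))
(.node (nat_lit 138) (.leaf 335 2 [nat_lit 185, nat_lit 259, nat_lit 185, nat_lit 296, nat_lit 259, nat_lit 148, nat_lit 0, nat_lit 148, nat_lit 0, nat_lit 148])
(.node (nat_lit 139) (.leaf 449 8 [nat_lit 37, nat_lit 74, nat_lit 0, nat_lit 296, nat_lit 37, nat_lit 0, nat_lit 296, nat_lit 0, nat_lit 37, nat_lit 296, nat_lit 0, nat_lit 74, nat_lit 37])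
(.leaf 441 10 [nat_lit 148, nat_lit 74, nat_lit 37, nat_lit 0, nat_lit 296, nat_lit 148, nat_lit 296, nat_lit 0, nat_lit 37, nat_lit 296, nat_lit 74, nat_lit 148, nat_lit 259]))))
(.node (nat_lit 143) (.node (nat_lit 141) (.leaf 359 1 [nat_lit 74, nat_lit 111, nat_lit 259, nat_lit 296, nat_lit 259, nat_lit 185, nat_lit 259, nat_lit 185, nat_lit 111, nat_lit 74])
(.node (nat_lit 142) (.leaf 561 7 [nat_lit 185, nat_lit 0, nat_lit 222, nat_lit 0, nat_lit 185, nat_lit 296, nat_lit 37, nat_lit 74, nat_lit 0, nat_lit 222, nat_lit 0, nat_lit 185, nat_lit 37, nat_lit 74, nat_lit 185])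
(.leaf 309 8 [nat_lit 74, nat_lit 111, nat_lit 0, nat_lit 296, nat_lit 185, nat_lit 259, nat_lit 185, nat_lit 0, nat_lit 111, nat_lit 74])))
(.node (nat_lit 144) (.leaf 391 2 [nat_lit 259, nat_lit 296, nat_lit 148, nat_lit 0, nat_lit 111, nat_lit 74, nat_lit 148, nat_lit 74, nat_lit 111, nat_lit 0, nat_lit 148])
(.node (nat_lit 145) (.leaf 173 1 [nat_lit 0, nat_lit 296, nat_lit 222, nat_lit 296, nat_lit 0, nat_lit 296, nat_lit 0, nat_lit 222, nat_lit 0])
(.leaf 431 11 [nat_lit 111, nat_lit 0, nat_lit 148, nat_lit 259, nat_lit 111, nat_lit 259, nat_lit 74, nat_lit 296, nat_lit 74, nat_lit 148, nat_lit 111, nat_lit 259]))))))))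
(.node (nat_lit 209) (.node (nat_lit 174) (.node (nat_lit 159) (.node (nat_lit 152) (.node (nat_lit 149) (.node (nat_lit 147) (.leaf 365 3 [nat_lit 74, nat_lit 259, nat_lit 74, nat_lit 296, nat_lit 185, nat_lit 259, nat_lit 185, nat_lit 74, nat_lit 259, nat_lit 74])
(.node (nat_lit 148) (.leaf 247 6 [nat_lit 74, nat_lit 296, nat_lit 148, nat_lit 74, nat_lit 296, nat_lit 74, nat_lit 296, nat_lit 74, nat_lit 148])
(.leaf 159 3 [nat_lit 148, nat_lit 259, nat_lit 0, nat_lit 148, nat_lit 296, nat_lit 148, nat_lit 0, nat_lit 259, nat_lit 148])))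
(.node (nat_lit 150) (.leaf 507 4 [nat_lit 148, nat_lit 296, nat_lit 259, nat_lit 74, nat_lit 185, nat_lit 0, nat_lit 111, nat_lit 259, nat_lit 111, nat_lit 37, nat_lit 0, nat_lit 185, nat_lit 148, nat_lit 74])
(.node (nat_lit 151) (.leaf 131 3 [nat_lit 74, nat_lit 259, nat_lit 0, nat_lit 74, nat_lit 296, nat_lit 74, nat_lit 0, nat_lit 259, nat_lit 74])
(.leaf 281 3 [nat_lit 222, nat_lit 0, nat_lit 37, nat_lit 185, nat_lit 222, nat_lit 185, nat_lit 37, nat_lit 0, nat_lit 296, nat_lit 259]))))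
(.node (nat_lit 155) (.node (nat_lit 153) (.leaf 199 1 [nat_lit 111, nat_lit 296, nat_lit 259, nat_lit 74, nat_lit 259, nat_lit 111, nat_lit 37, nat_lit 74, nat_lit 37])
(.node (nat_lit 154) (.leaf 533 5 [nat_lit 74, nat_lit 259, nat_lit 296, nat_lit 111, nat_lit 185, nat_lit 37, nat_lit 296, nat_lit 37, nat_lit 74, nat_lit 37, nat_lit 296, nat_lit 185, nat_lit 37, nat_lit 111])
(.leaf 519 2 [nat_lit 37, nat_lit 148, nat_lit 74, nat_lit 148, nat_lit 111, nat_lit 74, nat_lit 111, nat_lit 37, nat_lit 296, nat_lit 222, nat_lit 0, nat_lit 74, nat_lit 0, nat_lit 222])))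
(.node (nat_lit 157) (.node (nat_lit 156) (.leaf 531 5 [nat_lit 74, nat_lit 37, nat_lit 74, nat_lit 37, nat_lit 296, nat_lit 148, nat_lit 74, nat_lit 37, nat_lit 74, nat_lit 37, nat_lit 111, nat_lit 74, nat_lit 111, nat_lit 148])
(.leaf 153 3 [nat_lit 148, nat_lit 259, nat_lit 111, nat_lit 148, nat_lit 296, nat_lit 111, nat_lit 0, nat_lit 148, nat_lit 0]))
(.node (nat_lit 158) (.leaf 449 12 [nat_lit 37, nat_lit 0, nat_lit 296, nat_lit 0, nat_lit 37, nat_lit 296, nat_lit 0, nat_lit 74, nat_lit 37, nat_lit 296, nat_lit 37, nat_lit 74, nat_lit 0])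
(.leaf 483 4 [nat_lit 222, nat_lit 296, nat_lit 111, nat_lit 74, nat_lit 111, nat_lit 222, nat_lit 296, nat_lit 222, nat_lit 111, nat_lit 74, nat_lit 111, nat_lit 296, nat_lit 222])))))
(.node (nat_lit 166) (.node (nat_lit 162) (.node (nat_lit 160) (.leaf 413 9 [nat_lit 74, nat_lit 111, nat_lit 74, nat_lit 296, nat_lit 185, nat_lit 148, nat_lit 185, nat_lit 111, nat_lit 185, nat_lit 148, nat_lit 185])
(.node (nat_lit 161) (.leaf 173 7 [nat_lit 0, nat_lit 222, nat_lit 0, nat_lit 296, nat_lit 0, nat_lit 296, nat_lit 222, nat_lit 296, nat_lit 0])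
(.leaf 117 7 [nat_lit 259, nat_lit 296, nat_lit 259, nat_lit 296, nat_lit 259, nat_lit 296, nat_lit 259])))
(.node (nat_lit 164) (.node (nat_lit 163) (.leaf 155 2 [nat_lit 259, nat_lit 148, nat_lit 0, nat_lit 296, nat_lit 148, nat_lit 259, nat_lit 148, nat_lit 0, nat_lit 259])
(.leaf 283 4 [nat_lit 259, nat_lit 37, nat_lit 185, nat_lit 222, nat_lit 185, nat_lit 37, nat_lit 0, nat_lit 222, nat_lit 296, nat_lit 0]))
(.node (nat_lit 165) (.leaf 441 1 [nat_lit 148, nat_lit 296, nat_lit 0, nat_lit 37, nat_lit 296, nat_lit 74, nat_lit 148, nat_lit 259, nat_lit 296, nat_lit 148, nat_lit 74, nat_lit 37, nat_lit 0])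
(.leaf 445 2 [nat_lit 259, nat_lit 111, nat_lit 259, nat_lit 111, nat_lit 296, nat_lit 37, nat_lit 0, nat_lit 111, nat_lit 37, nat_lit 111, nat_lit 37, nat_lit 0, nat_lit 37]))))
(.node (nat_lit 170) (.node (nat_lit 168) (.node (nat_lit 167) (.leaf 249 8 [nat_lit 148, nat_lit 74, nat_lit 296, nat_lit 148, nat_lit 296, nat_lit 74, nat_lit 148, nat_lit 296, nat_lit 148])
(.leaf 437 1 [nat_lit 148, nat_lit 296, nat_lit 37, nat_lit 148, nat_lit 37, nat_lit 296, nat_lit 148, nat_lit 296, nat_lit 148, nat_lit 37, nat_lit 148, nat_lit 37]))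
(.node (nat_lit 169) (.leaf 437 7 [nat_lit 148, nat_lit 296, nat_lit 148, nat_lit 37, nat_lit 148, nat_lit 37, nat_lit 296, nat_lit 148, nat_lit 296, nat_lit 37, nat_lit 148, nat_lit 37])
(.leaf 179 6 [nat_lit 259, nat_lit 296, nat_lit 222, nat_lit 0, nat_lit 296, nat_lit 259, nat_lit 296, nat_lit 0, nat_lit 222])))
(.node (nat_lit 172) (.node (nat_lit 171) (.leaf 289 5 [nat_lit 37, nat_lit 185, nat_lit 222, nat_lit 185, nat_lit 37, nat_lit 0, nat_lit 222, nat_lit 0, nat_lit 296, nat_lit 259])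
(.leaf 435 9 [nat_lit 222, nat_lit 0, nat_lit 222, nat_lit 0, nat_lit 296, nat_lit 185, nat_lit 259, nat_lit 74, nat_lit 37, nat_lit 185, nat_lit 37, nat_lit 74]))
(.node (nat_lit 173) (.leaf 411 7 [nat_lit 259, nat_lit 148, nat_lit 259, nat_lit 296, nat_lit 37, nat_lit 296, nat_lit 259, nat_lit 148, nat_lit 259, nat_lit 296, nat_lit 37])
(.leaf 155 6 [nat_lit 148, nat_lit 259, nat_lit 148, nat_lit 0, nat_lit 259, nat_lit 296, nat_lit 259, nat_lit 148, nat_lit 0]))))))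
(.node (nat_lit 190) (.node (nat_lit 182) (.node (nat_lit 178) (.node (nat_lit 176) (.node (nat_lit 175) (.leaf 519 11 [nat_lit 222, nat_lit 0, nat_lit 74, nat_lit 0, nat_lit 222, nat_lit 296, nat_lit 37, nat_lit 148, nat_lit 74, nat_lit 148, nat_lit 111, nat_lit 74, nat_lit 111, nat_lit 37])
(.leaf 437 9 [nat_lit 148, nat_lit 37, nat_lit 148, nat_lit 37, nat_lit 296, nat_lit 148, nat_lit 296, nat_lit 37, nat_lit 148, nat_lit 37, nat_lit 296, nat_lit 148]))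
(.node (nat_lit 177) (.leaf 531 10 [nat_lit 148, nat_lit 74, nat_lit 37, nat_lit 74, nat_lit 37, nat_lit 111, nat_lit 74, nat_lit 111, nat_lit 148, nat_lit 296, nat_lit 74, nat_lit 37, nat_lit 74, nat_lit 37])
(.leaf 457 7 [nat_lit 222, nat_lit 296, nat_lit 222, nat_lit 37, nat_lit 296, nat_lit 74, nat_lit 0, nat_lit 222, nat_lit 0, nat_lit 74, nat_lit 296, nat_lit 222, nat_lit 37])))
(.node (nat_lit 180) (.node (nat_lit 179) (.leaf 517 3 [nat_lit 185, nat_lit 296, nat_lit 37, nat_lit 0, nat_lit 259, nat_lit 74, nat_lit 259, nat_lit 185, nat_lit 0, nat_lit 296, nat_lit 37, nat_lit 0, nat_lit 185, nat_lit 259])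
(.leaf 235 1 [nat_lit 111, nat_lit 296, nat_lit 74, nat_lit 111, nat_lit 74, nat_lit 111, nat_lit 74, nat_lit 111, nat_lit 74]))
(.node (nat_lit 181) (.leaf 469 9 [nat_lit 222, nat_lit 0, nat_lit 222, nat_lit 111, nat_lit 0, nat_lit 296, nat_lit 222, nat_lit 111, nat_lit 259, nat_lit 222, nat_lit 111, nat_lit 259, nat_lit 222])
(.leaf 299 2 [nat_lit 0, nat_lit 296, nat_lit 259, nat_lit 74, nat_lit 185, nat_lit 222, nat_lit 185, nat_lit 74, nat_lit 0, nat_lit 222]))))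
(.node (nat_lit 186) (.node (nat_lit 184) (.node (nat_lit 183) (.leaf 493 1 [nat_lit 37, nat_lit 0, nat_lit 185, nat_lit 259, nat_lit 296, nat_lit 185, nat_lit 296, nat_lit 259, nat_lit 185, nat_lit 259, nat_lit 74, nat_lit 0, nat_lit 37, nat_lit 0])
(.leaf 567 10 [nat_lit 259, nat_lit 296, nat_lit 37, nat_lit 148, nat_lit 74, nat_lit 0, nat_lit 148, nat_lit 259, nat_lit 111, nat_lit 74, nat_lit 37, nat_lit 111, nat_lit 259, nat_lit 0, nat_lit 148]))
(.node (nat_lit 185) (.leaf 463 10 [nat_lit 259, nat_lit 0, nat_lit 111, nat_lit 0, nat_lit 259, nat_lit 296, nat_lit 185, nat_lit 0, nat_lit 259, nat_lit 111, nat_lit 259, nat_lit 0, nat_lit 185])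
(.leaf 479 12 [nat_lit 74, nat_lit 37, nat_lit 296, nat_lit 185, nat_lit 259, nat_lit 296, nat_lit 74, nat_lit 222, nat_lit 37, nat_lit 296, nat_lit 259, nat_lit 222, nat_lit 185])))
(.node (nat_lit 188) (.node (nat_lit 187) (.leaf 299 4 [nat_lit 259, nat_lit 74, nat_lit 185, nat_lit 222, nat_lit 185, nat_lit 74, nat_lit 0, nat_lit 222, nat_lit 296, nat_lit 0])
(.leaf 241 1 [nat_lit 148, nat_lit 296, nat_lit 74, nat_lit 111, nat_lit 296, nat_lit 148, nat_lit 296, nat_lit 111, nat_lit 74]))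
(.node (nat_lit 189) (.leaf 241 6 [nat_lit 148, nat_lit 296, nat_lit 111, nat_lit 74, nat_lit 296, nat_lit 148, nat_lit 296, nat_lit 74, nat_lit 111])
(.leaf 247 1 [nat_lit 74, nat_lit 296, nat_lit 74, nat_lit 148, nat_lit 296, nat_lit 74, nat_lit 296, nat_lit 148, nat_lit 74])))))
(.node (nat_lit 199) (.node (nat_lit 194) (.node (nat_lit 192) (.node (nat_lit 191) (.leaf 415 7 [nat_lit 74, nat_lit 259, nat_lit 74, nat_lit 148, nat_lit 74, nat_lit 259, nat_lit 148, nat_lit 259, nat_lit 296, nat_lit 148, nat_lit 74])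
(.leaf 581 11 [nat_lit 111, nat_lit 185, nat_lit 37, nat_lit 185, nat_lit 37, nat_lit 185, nat_lit 111, nat_lit 296, nat_lit 185, nat_lit 222, nat_lit 37, nat_lit 185, nat_lit 222, nat_lit 37, nat_lit 185]))
(.node (nat_lit 193) (.leaf 249 6 [nat_lit 148, nat_lit 296, nat_lit 148, nat_lit 74, nat_lit 296, nat_lit 148, nat_lit 296, nat_lit 74, nat_lit 148])
(.leaf 537 4 [nat_lit 74, nat_lit 296, nat_lit 222, nat_lit 148, nat_lit 222, nat_lit 37, nat_lit 148, nat_lit 74, nat_lit 148, nat_lit 74, nat_lit 37, nat_lit 222, nat_lit 148, nat_lit 222])))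
(.node (nat_lit 196) (.node (nat_lit 195) (.leaf 53 5 [nat_lit 259, nat_lit 296, nat_lit 0, nat_lit 296, nat_lit 259, nat_lit 296, nat_lit 0])
(.leaf 253 7 [nat_lit 74, nat_lit 222, nat_lit 74, nat_lit 296, nat_lit 259, nat_lit 296, nat_lit 222, nat_lit 296, nat_lit 259]))
(.node (nat_lit 197) (.leaf 289 3 [nat_lit 259, nat_lit 296, nat_lit 37, nat_lit 185, nat_lit 222, nat_lit 185, nat_lit 37, nat_lit 0, nat_lit 222, nat_lit 0])
(.node (nat_lit 198) (.leaf 151 6 [nat_lit 111, nat_lit 259, nat_lit 111, nat_lit 0, nat_lit 111, nat_lit 296, nat_lit 0, nat_lit 111, nat_lit 259])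
(.leaf 277 1 [nat_lit 222, nat_lit 296, nat_lit 222, nat_lit 259, nat_lit 296, nat_lit 222, nat_lit 296, nat_lit 259, nat_lit 222])))))
(.node (nat_lit 204) (.node (nat_lit 201) (.node (nat_lit 200) (.leaf 539 2 [nat_lit 148, nat_lit 296, nat_lit 148, nat_lit 259, nat_lit 148, nat_lit 222, nat_lit 148, nat_lit 259, nat_lit 148, nat_lit 259, nat_lit 148, nat_lit 222, nat_lit 148, nat_lit 259])
(.leaf 429 11 [nat_lit 74, nat_lit 0, nat_lit 111, nat_lit 0, nat_lit 148, nat_lit 259, nat_lit 296, nat_lit 111, nat_lit 0, nat_lit 148, nat_lit 111, nat_lit 74]))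
(.node (nat_lit 202) (.leaf 479 8 [nat_lit 259, nat_lit 222, nat_lit 185, nat_lit 296, nat_lit 74, nat_lit 37, nat_lit 296, nat_lit 185, nat_lit 259, nat_lit 296, nat_lit 74, nat_lit 222, nat_lit 37])
(.node (nat_lit 203) (.leaf 507 6 [nat_lit 259, nat_lit 74, nat_lit 185, nat_lit 0, nat_lit 111, nat_lit 259, nat_lit 111, nat_lit 37, nat_lit 0, nat_lit 185, nat_lit 148, nat_lit 74, nat_lit 296, nat_lit 148])
(.leaf 495 3 [nat_lit 0, nat_lit 185, nat_lit 296, nat_lit 259, nat_lit 185, nat_lit 296, nat_lit 185, nat_lit 296, nat_lit 74, nat_lit 0, nat_lit 37, nat_lit 0, nat_lit 296, nat_lit 37]))))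
(.node (nat_lit 206) (.node (nat_lit 205) (.leaf 169 5 [nat_lit 0, nat_lit 185, nat_lit 259, nat_lit 185, nat_lit 0, nat_lit 296, nat_lit 185, nat_lit 259, nat_lit 185])
(.leaf 335 6 [nat_lit 259, nat_lit 148, nat_lit 0, nat_lit 148, nat_lit 0, nat_lit 148, nat_lit 296, nat_lit 185, nat_lit 259, nat_lit 185]))
(.node (nat_lit 207) (.leaf 593 11 [nat_lit 37, nat_lit 74, nat_lit 185, nat_lit 0, nat_lit 37, nat_lit 0, nat_lit 222, nat_lit 0, nat_lit 296, nat_lit 37, nat_lit 0, nat_lit 259, nat_lit 185, nat_lit 296, nat_lit 222, nat_lit 185])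
(.node (nat_lit 208) (.leaf 431 6 [nat_lit 74, nat_lit 148, nat_lit 111, nat_lit 259, nat_lit 296, nat_lit 111, nat_lit 0, nat_lit 148, nat_lit 259, nat_lit 111, nat_lit 259, nat_lit 74])
(.leaf 529 1 [nat_lit 0, nat_lit 296, nat_lit 111, nat_lit 185, nat_lit 37, nat_lit 185, nat_lit 111, nat_lit 259, nat_lit 111, nat_lit 185, nat_lit 37, nat_lit 185, nat_lit 111, nat_lit 0]))))))))
(.node (nat_lit 255) (.node (nat_lit 230) (.node (nat_lit 219) (.node (nat_lit 214) (.node (nat_lit 211) (.node (nat_lit 210) (.leaf 605 12 [nat_lit 37, nat_lit 0, nat_lit 222, nat_lit 37, nat_lit 0, nat_lit 37, nat_lit 296, nat_lit 74, nat_lit 37, nat_lit 222, nat_lit 296, nat_lit 259, nat_lit 296, nat_lit 37, nat_lit 74, nat_lit 0])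
(.leaf 435 1 [nat_lit 185, nat_lit 259, nat_lit 74, nat_lit 37, nat_lit 185, nat_lit 37, nat_lit 74, nat_lit 296, nat_lit 222, nat_lit 0, nat_lit 222, nat_lit 0]))
(.node (nat_lit 212) (.leaf 601 13 [nat_lit 37, nat_lit 148, nat_lit 37, nat_lit 0, nat_lit 37, nat_lit 148, nat_lit 222, nat_lit 111, nat_lit 296, nat_lit 37, nat_lit 222, nat_lit 111, nat_lit 222, nat_lit 74, nat_lit 37, nat_lit 74])
(.node (nat_lit 213) (.leaf 477 3 [nat_lit 222, nat_lit 185, nat_lit 222, nat_lit 185, nat_lit 296, nat_lit 74, nat_lit 259, nat_lit 185, nat_lit 259, nat_lit 74, nat_lit 37, nat_lit 185, nat_lit 37])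
(.leaf 581 3 [nat_lit 185, nat_lit 222, nat_lit 37, nat_lit 185, nat_lit 222, nat_lit 37, nat_lit 185, nat_lit 296, nat_lit 111, nat_lit 185, nat_lit 37, nat_lit 185, nat_lit 37, nat_lit 185, nat_lit 111]))))
(.node (nat_lit 216) (.node (nat_lit 215) (.leaf 183 8 [nat_lit 222, nat_lit 0, nat_lit 296, nat_lit 0, nat_lit 296, nat_lit 222, nat_lit 259, nat_lit 296, nat_lit 259])
(.leaf 517 5 [nat_lit 37, nat_lit 0, nat_lit 259, nat_lit 74, nat_lit 259, nat_lit 185, nat_lit 0, nat_lit 296, nat_lit 37, nat_lit 0, nat_lit 185, nat_lit 259, nat_lit 296, nat_lit 185]))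
(.node (nat_lit 217) (.leaf 421 4 [nat_lit 111, nat_lit 222, nat_lit 0, nat_lit 222, nat_lit 111, nat_lit 37, nat_lit 0, nat_lit 37, nat_lit 0, nat_lit 37, nat_lit 296, nat_lit 259])
(.node (nat_lit 218) (.leaf 545 8 [nat_lit 37, nat_lit 74, nat_lit 0, nat_lit 37, nat_lit 111, nat_lit 0, nat_lit 37, nat_lit 0, nat_lit 296, nat_lit 37, nat_lit 74, nat_lit 185, nat_lit 111, nat_lit 185, nat_lit 37])
(.leaf 461 3 [nat_lit 74, nat_lit 296, nat_lit 185, nat_lit 259, nat_lit 185, nat_lit 74, nat_lit 111, nat_lit 185, nat_lit 0, nat_lit 111, nat_lit 0, nat_lit 259, nat_lit 185])))))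
(.node (nat_lit 224) (.node (nat_lit 221) (.node (nat_lit 220) (.leaf 449 1 [nat_lit 0, nat_lit 37, nat_lit 296, nat_lit 0, nat_lit 74, nat_lit 37, nat_lit 296, nat_lit 37, nat_lit 74, nat_lit 0, nat_lit 296, nat_lit 37, nat_lit 0])
(.leaf 605 2 [nat_lit 74, nat_lit 37, nat_lit 222, nat_lit 296, nat_lit 259, nat_lit 296, nat_lit 37, nat_lit 74, nat_lit 0, nat_lit 296, nat_lit 37, nat_lit 0, nat_lit 222, nat_lit 37, nat_lit 0, nat_lit 37]))
(.node (nat_lit 222) (.leaf 587 4 [nat_lit 0, nat_lit 37, nat_lit 296, nat_lit 222, nat_lit 148, nat_lit 296, nat_lit 74, nat_lit 148, nat_lit 0, nat_lit 148, nat_lit 0, nat_lit 37, nat_lit 0, nat_lit 296, nat_lit 148, nat_lit 222])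
(.node (nat_lit 223) (.leaf 471 1 [nat_lit 222, nat_lit 148, nat_lit 222, nat_lit 148, nat_lit 222, nat_lit 148, nat_lit 259, nat_lit 222, nat_lit 148, nat_lit 296, nat_lit 0, nat_lit 148, nat_lit 0])
(.leaf 303 3 [nat_lit 0, nat_lit 296, nat_lit 74, nat_lit 185, nat_lit 222, nat_lit 185, nat_lit 74, nat_lit 0, nat_lit 222, nat_lit 259]))))
(.node (nat_lit 227) (.node (nat_lit 225) (.leaf 469 1 [nat_lit 222, nat_lit 111, nat_lit 259, nat_lit 222, nat_lit 111, nat_lit 259, nat_lit 222, nat_lit 296, nat_lit 222, nat_lit 0, nat_lit 222, nat_lit 111, nat_lit 0])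
(.node (nat_lit 226) (.leaf 185 7 [nat_lit 0, nat_lit 296, nat_lit 0, nat_lit 296, nat_lit 259, nat_lit 296, nat_lit 37, nat_lit 259, nat_lit 37])
(.leaf 529 3 [nat_lit 111, nat_lit 185, nat_lit 37, nat_lit 185, nat_lit 111, nat_lit 259, nat_lit 111, nat_lit 185, nat_lit 37, nat_lit 185, nat_lit 111, nat_lit 0, nat_lit 296, nat_lit 0])))
(.node (nat_lit 228) (.leaf 305 5 [nat_lit 74, nat_lit 185, nat_lit 222, nat_lit 185, nat_lit 74, nat_lit 0, nat_lit 222, nat_lit 0, nat_lit 296, nat_lit 259])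
(.node (nat_lit 229) (.leaf 615 12 [nat_lit 111, nat_lit 74, nat_lit 37, nat_lit 74, nat_lit 37, nat_lit 74, nat_lit 296, nat_lit 259, nat_lit 111, nat_lit 148, nat_lit 259, nat_lit 111, nat_lit 259, nat_lit 148, nat_lit 74, nat_lit 259])
(.leaf 361 1 [nat_lit 74, nat_lit 111, nat_lit 259, nat_lit 296, nat_lit 185, nat_lit 259, nat_lit 185, nat_lit 259, nat_lit 111, nat_lit 74]))))))
(.node (nat_lit 242) (.node (nat_lit 236) (.node (nat_lit 233) (.node (nat_lit 231) (.leaf 525 6 [nat_lit 37, nat_lit 74, nat_lit 148, nat_lit 111, nat_lit 0, nat_lit 148, nat_lit 37, nat_lit 111, nat_lit 0, nat_lit 148, nat_lit 74, nat_lit 296, nat_lit 111, nat_lit 259])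
(.node (nat_lit 232) (.leaf 145 1 [nat_lit 111, nat_lit 296, nat_lit 222, nat_lit 111, nat_lit 0, nat_lit 111, nat_lit 222, nat_lit 111, nat_lit 0])
(.leaf 477 8 [nat_lit 74, nat_lit 259, nat_lit 185, nat_lit 259, nat_lit 74, nat_lit 37, nat_lit 185, nat_lit 37, nat_lit 296, nat_lit 222, nat_lit 185, nat_lit 222, nat_lit 185])))
(.node (nat_lit 234) (.leaf 295 3 [nat_lit 148, nat_lit 0, nat_lit 74, nat_lit 0, nat_lit 148, nat_lit 0, nat_lit 74, nat_lit 0, nat_lit 296, nat_lit 74])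
(.node (nat_lit 235) (.leaf 553 11 [nat_lit 222, nat_lit 296, nat_lit 74, nat_lit 37, nat_lit 0, nat_lit 296, nat_lit 222, nat_lit 296, nat_lit 259, nat_lit 74, nat_lit 259, nat_lit 74, nat_lit 0, nat_lit 74, nat_lit 37])
(.leaf 157 7 [nat_lit 259, nat_lit 148, nat_lit 0, nat_lit 296, nat_lit 148, nat_lit 259, nat_lit 148, nat_lit 259, nat_lit 0]))))
(.node (nat_lit 239) (.node (nat_lit 237) (.leaf 277 8 [nat_lit 259, nat_lit 222, nat_lit 296, nat_lit 222, nat_lit 296, nat_lit 222, nat_lit 259, nat_lit 296, nat_lit 222])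
(.node (nat_lit 238) (.leaf 137 1 [nat_lit 111, nat_lit 296, nat_lit 0, nat_lit 111, nat_lit 0, nat_lit 111, nat_lit 0, nat_lit 111, nat_lit 0])
(.leaf 513 9 [nat_lit 148, nat_lit 296, nat_lit 148, nat_lit 185, nat_lit 37, nat_lit 0, nat_lit 259, nat_lit 111, nat_lit 74, nat_lit 259, nat_lit 111, nat_lit 185, nat_lit 74, nat_lit 37])))
(.node (nat_lit 240) (.leaf 587 10 [nat_lit 74, nat_lit 148, nat_lit 0, nat_lit 148, nat_lit 0, nat_lit 37, nat_lit 0, nat_lit 296, nat_lit 148, nat_lit 222, nat_lit 296, nat_lit 0, nat_lit 37, nat_lit 296, nat_lit 222, nat_lit 148])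
(.node (nat_lit 241) (.leaf 247 3 [nat_lit 74, nat_lit 148, nat_lit 296, nat_lit 74, nat_lit 296, nat_lit 148, nat_lit 74, nat_lit 296, nat_lit 74])
(.leaf 523 6 [nat_lit 0, nat_lit 296, nat_lit 259, nat_lit 148, nat_lit 74, nat_lit 185, nat_lit 37, nat_lit 74, nat_lit 0, nat_lit 74, nat_lit 185, nat_lit 0, nat_lit 185, nat_lit 148])))))
(.node (nat_lit 248) (.node (nat_lit 245) (.node (nat_lit 243) (.leaf 499 5 [nat_lit 148, nat_lit 74, nat_lit 148, nat_lit 259, nat_lit 37, nat_lit 0, nat_lit 37, nat_lit 74, nat_lit 37, nat_lit 0, nat_lit 37, nat_lit 259, nat_lit 296, nat_lit 74])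
(.node (nat_lit 244) (.leaf 287 3 [nat_lit 0, nat_lit 296, nat_lit 37, nat_lit 185, nat_lit 222, nat_lit 185, nat_lit 37, nat_lit 0, nat_lit 222, nat_lit 259])
(.leaf 285 3 [nat_lit 0, nat_lit 296, nat_lit 37, nat_lit 185, nat_lit 222, nat_lit 185, nat_lit 37, nat_lit 0, nat_lit 259, nat_lit 222])))
(.node (nat_lit 246) (.leaf 441 3 [nat_lit 0, nat_lit 37, nat_lit 296, nat_lit 74, nat_lit 148, nat_lit 259, nat_lit 296, nat_lit 148, nat_lit 74, nat_lit 37, nat_lit 0, nat_lit 296, nat_lit 148])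
(.node (nat_lit 247) (.leaf 421 2 [nat_lit 259, nat_lit 296, nat_lit 111, nat_lit 222, nat_lit 0, nat_lit 222, nat_lit 111, nat_lit 37, nat_lit 0, nat_lit 37, nat_lit 0, nat_lit 37])
(.leaf 183 3 [nat_lit 222, nat_lit 259, nat_lit 296, nat_lit 259, nat_lit 296, nat_lit 222, nat_lit 0, nat_lit 296, nat_lit 0]))))
(.node (nat_lit 251) (.node (nat_lit 249) (.leaf 553 13 [nat_lit 74, nat_lit 37, nat_lit 0, nat_lit 296, nat_lit 222, nat_lit 296, nat_lit 259, nat_lit 74, nat_lit 259, nat_lit 74, nat_lit 0, nat_lit 74, nat_lit 37, nat_lit 296, nat_lit 222])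
(.node (nat_lit 250) (.leaf 249 3 [nat_lit 74, nat_lit 148, nat_lit 296, nat_lit 148, nat_lit 296, nat_lit 148, nat_lit 74, nat_lit 296, nat_lit 148])
(.leaf 181 2 [nat_lit 0, nat_lit 296, nat_lit 222, nat_lit 296, nat_lit 259, nat_lit 296, nat_lit 222, nat_lit 0, nat_lit 259])))
(.node (nat_lit 253) (.node (nat_lit 252) (.leaf 297 1 [nat_lit 259, nat_lit 296, nat_lit 222, nat_lit 0, nat_lit 74, nat_lit 185, nat_lit 222, nat_lit 185, nat_lit 74, nat_lit 0])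
(.leaf 445 7 [nat_lit 37, nat_lit 0, nat_lit 111, nat_lit 37, nat_lit 111, nat_lit 37, nat_lit 0, nat_lit 37, nat_lit 296, nat_lit 259, nat_lit 111, nat_lit 259, nat_lit 111]))
(.node (nat_lit 254) (.leaf 287 5 [nat_lit 37, nat_lit 185, nat_lit 222, nat_lit 185, nat_lit 37, nat_lit 0, nat_lit 222, nat_lit 259, nat_lit 296, nat_lit 0])
(.leaf 549 2 [nat_lit 74, nat_lit 296, nat_lit 259, nat_lit 185, nat_lit 259, nat_lit 148, nat_lit 185, nat_lit 148, nat_lit 37, nat_lit 185, nat_lit 148, nat_lit 0, nat_lit 37, nat_lit 0, nat_lit 185])))))))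
(.node (nat_lit 287) (.node (nat_lit 270) (.node (nat_lit 262) (.node (nat_lit 258) (.node (nat_lit 256) (.leaf 539 4 [nat_lit 148, nat_lit 259, nat_lit 148, nat_lit 222, nat_lit 148, nat_lit 259, nat_lit 148, nat_lit 259, nat_lit 148, nat_lit 222, nat_lit 148, nat_lit 259, nat_lit 296, nat_lit 148])
(.node (nat_lit 257) (.leaf 483 6 [nat_lit 111, nat_lit 74, nat_lit 111, nat_lit 222, nat_lit 296, nat_lit 222, nat_lit 111, nat_lit 74, nat_lit 111, nat_lit 296, nat_lit 222, nat_lit 296, nat_lit 222])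
(.leaf 587 1 [nat_lit 148, nat_lit 222, nat_lit 296, nat_lit 0, nat_lit 37, nat_lit 296, nat_lit 222, nat_lit 148, nat_lit 296, nat_lit 74, nat_lit 148, nat_lit 0, nat_lit 148, nat_lit 0, nat_lit 37, nat_lit 0])))
(.node (nat_lit 260) (.node (nat_lit 259) (.leaf 497 7 [nat_lit 0, nat_lit 111, nat_lit 37, nat_lit 0, nat_lit 111, nat_lit 0, nat_lit 37, nat_lit 0, nat_lit 296, nat_lit 222, nat_lit 111, nat_lit 259, nat_lit 111, nat_lit 222])
(.leaf 543 9 [nat_lit 37, nat_lit 0, nat_lit 37, nat_lit 111, nat_lit 0, nat_lit 37, nat_lit 0, nat_lit 296, nat_lit 222, nat_lit 111, nat_lit 0, nat_lit 222, nat_lit 111, nat_lit 222, nat_lit 0]))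
(.node (nat_lit 261) (.leaf 427 7 [nat_lit 74, nat_lit 148, nat_lit 111, nat_lit 222, nat_lit 74, nat_lit 0, nat_lit 222, nat_lit 148, nat_lit 296, nat_lit 222, nat_lit 0, nat_lit 222])
(.leaf 567 12 [nat_lit 37, nat_lit 148, nat_lit 74, nat_lit 0, nat_lit 148, nat_lit 259, nat_lit 111, nat_lit 74, nat_lit 37, nat_lit 111, nat_lit 259, nat_lit 0, nat_lit 148, nat_lit 296, nat_lit 259]))))
(.node (nat_lit 266) (.node (nat_lit 264) (.node (nat_lit 263) (.leaf 461 5 [nat_lit 185, nat_lit 259, nat_lit 185, nat_lit 74, nat_lit 111, nat_lit 185, nat_lit 0, nat_lit 111, nat_lit 0, nat_lit 259, nat_lit 185, nat_lit 296, nat_lit 74])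
(.leaf 533 8 [nat_lit 111, nat_lit 185, nat_lit 37, nat_lit 296, nat_lit 37, nat_lit 74, nat_lit 37, nat_lit 296, nat_lit 185, nat_lit 37, nat_lit 111, nat_lit 296, nat_lit 74, nat_lit 259]))
(.node (nat_lit 265) (.leaf 345 7 [nat_lit 0, nat_lit 296, nat_lit 222, nat_lit 0, nat_lit 259, nat_lit 37, nat_lit 185, nat_lit 222, nat_lit 185, nat_lit 37])
(.leaf 423 1 [nat_lit 0, nat_lit 296, nat_lit 185, nat_lit 74, nat_lit 0, nat_lit 37, nat_lit 185, nat_lit 74, nat_lit 259, nat_lit 0, nat_lit 37, nat_lit 0])))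
(.node (nat_lit 268) (.node (nat_lit 267) (.leaf 181 8 [nat_lit 222, nat_lit 0, nat_lit 259, nat_lit 296, nat_lit 0, nat_lit 296, nat_lit 222, nat_lit 296, nat_lit 259])
(.leaf 521 1 [nat_lit 222, nat_lit 111, nat_lit 259, nat_lit 74, nat_lit 0, nat_lit 111, nat_lit 222, nat_lit 148, nat_lit 296, nat_lit 148, nat_lit 259, nat_lit 0, nat_lit 74, nat_lit 0]))
(.node (nat_lit 269) (.leaf 543 1 [nat_lit 222, nat_lit 111, nat_lit 0, nat_lit 222, nat_lit 111, nat_lit 222, nat_lit 0, nat_lit 296, nat_lit 37, nat_lit 0, nat_lit 37, nat_lit 111, nat_lit 0, nat_lit 37, nat_lit 0])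
(.leaf 525 3 [nat_lit 111, nat_lit 259, nat_lit 296, nat_lit 37, nat_lit 74, nat_lit 148, nat_lit 111, nat_lit 0, nat_lit 148, nat_lit 37, nat_lit 111, nat_lit 0, nat_lit 148, nat_lit 74])))))
(.node (nat_lit 278) (.node (nat_lit 274) (.node (nat_lit 272) (.node (nat_lit 271) (.leaf 277 6 [nat_lit 222, nat_lit 296, nat_lit 259, nat_lit 222, nat_lit 296, nat_lit 222, nat_lit 296, nat_lit 222, nat_lit 259])
(.leaf 157 1 [nat_lit 148, nat_lit 259, nat_lit 148, nat_lit 259, nat_lit 0, nat_lit 296, nat_lit 259, nat_lit 148, nat_lit 0]))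
(.node (nat_lit 273) (.leaf 549 4 [nat_lit 259, nat_lit 185, nat_lit 259, nat_lit 148, nat_lit 185, nat_lit 148, nat_lit 37, nat_lit 185, nat_lit 148, nat_lit 0, nat_lit 37, nat_lit 0, nat_lit 185, nat_lit 296, nat_lit 74])
(.leaf 183 1 [nat_lit 0, nat_lit 296, nat_lit 222, nat_lit 259, nat_lit 296, nat_lit 259, nat_lit 296, nat_lit 222, nat_lit 0])))
(.node (nat_lit 276) (.node (nat_lit 275) (.leaf 47 1 [nat_lit 0, nat_lit 259, nat_lit 296, nat_lit 222, nat_lit 259, nat_lit 222, nat_lit 0])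
(.leaf 497 1 [nat_lit 222, nat_lit 111, nat_lit 259, nat_lit 111, nat_lit 222, nat_lit 296, nat_lit 0, nat_lit 111, nat_lit 37, nat_lit 0, nat_lit 111, nat_lit 0, nat_lit 37, nat_lit 0]))
(.node (nat_lit 277) (.leaf 449 4 [nat_lit 0, nat_lit 74, nat_lit 37, nat_lit 296, nat_lit 37, nat_lit 74, nat_lit 0, nat_lit 296, nat_lit 37, nat_lit 0, nat_lit 296, nat_lit 0, nat_lit 37])
(.leaf 297 3 [nat_lit 222, nat_lit 0, nat_lit 74, nat_lit 185, nat_lit 222, nat_lit 185, nat_lit 74, nat_lit 0, nat_lit 296, nat_lit 259]))))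
(.node (nat_lit 282) (.node (nat_lit 280) (.node (nat_lit 279) (.leaf 553 1 [nat_lit 222, nat_lit 296, nat_lit 259, nat_lit 74, nat_lit 259, nat_lit 74, nat_lit 0, nat_lit 74, nat_lit 37, nat_lit 296, nat_lit 222, nat_lit 296, nat_lit 74, nat_lit 37, nat_lit 0])
(.leaf 249 1 [nat_lit 148, nat_lit 296, nat_lit 74, nat_lit 148, nat_lit 296, nat_lit 148, nat_lit 296, nat_lit 148, nat_lit 74]))
(.node (nat_lit 281) (.leaf 185 9 [nat_lit 0, nat_lit 296, nat_lit 259, nat_lit 296, nat_lit 37, nat_lit 259, nat_lit 37, nat_lit 296, nat_lit 0])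
(.leaf 225 1 [nat_lit 111, nat_lit 296, nat_lit 37, nat_lit 111, nat_lit 37, nat_lit 111, nat_lit 37, nat_lit 111, nat_lit 37])))
(.node (nat_lit 284) (.node (nat_lit 283) (.leaf 483 2 [nat_lit 222, nat_lit 296, nat_lit 222, nat_lit 296, nat_lit 111, nat_lit 74, nat_lit 111, nat_lit 222, nat_lit 296, nat_lit 222, nat_lit 111, nat_lit 74, nat_lit 111])
(.leaf 457 12 [nat_lit 74, nat_lit 0, nat_lit 222, nat_lit 0, nat_lit 74, nat_lit 296, nat_lit 222, nat_lit 37, nat_lit 296, nat_lit 222, nat_lit 296, nat_lit 222, nat_lit 37]))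
(.node (nat_lit 285) (.leaf 179 3 [nat_lit 0, nat_lit 222, nat_lit 296, nat_lit 259, nat_lit 296, nat_lit 222, nat_lit 0, nat_lit 296, nat_lit 259])
(.node (nat_lit 286) (.leaf 97 7 [nat_lit 111, nat_lit 296, nat_lit 148, nat_lit 296, nat_lit 111, nat_lit 296, nat_lit 148])
(.leaf 617 3 [nat_lit 259, nat_lit 148, nat_lit 296, nat_lit 74, nat_lit 296, nat_lit 148, nat_lit 259, nat_lit 296, nat_lit 74, nat_lit 148, nat_lit 111, nat_lit 37, nat_lit 74, nat_lit 37, nat_lit 111, nat_lit 148])))))))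
(.node (nat_lit 309) (.node (nat_lit 297) (.node (nat_lit 292) (.node (nat_lit 289) (.node (nat_lit 288) (.leaf 29 1 [nat_lit 0, nat_lit 259, nat_lit 296, nat_lit 37, nat_lit 259, nat_lit 37, nat_lit 0])
(.leaf 305 3 [nat_lit 259, nat_lit 296, nat_lit 74, nat_lit 185, nat_lit 222, nat_lit 185, nat_lit 74, nat_lit 0, nat_lit 222, nat_lit 0]))
(.node (nat_lit 290) (.leaf 405 4 [nat_lit 74, nat_lit 259, nat_lit 37, nat_lit 296, nat_lit 185, nat_lit 296, nat_lit 74, nat_lit 37, nat_lit 259, nat_lit 296, nat_lit 185])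
(.node (nat_lit 291) (.leaf 635 26 [nat_lit 37, nat_lit 0, nat_lit 148, nat_lit 296, nat_lit 37, nat_lit 0, nat_lit 148, nat_lit 296, nat_lit 37, nat_lit 0, nat_lit 148, nat_lit 296, nat_lit 37, nat_lit 0, nat_lit 148, nat_lit 296, nat_lit 37, nat_lit 0, nat_lit 148, nat_lit 296, nat_lit 37, nat_lit 0, nat_lit 148, nat_lit 296, nat_lit 37, nat_lit 0, nat_lit 148])
(.leaf 545 1 [nat_lit 37, nat_lit 74, nat_lit 185, nat_lit 111, nat_lit 185, nat_lit 37, nat_lit 296, nat_lit 37, nat_lit 74, nat_lit 0, nat_lit 37, nat_lit 111, nat_lit 0, nat_lit 37, nat_lit 0]))))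
(.node (nat_lit 294) (.node (nat_lit 293) (.leaf 133 8 [nat_lit 74, nat_lit 0, nat_lit 259, nat_lit 74, nat_lit 296, nat_lit 74, nat_lit 0, nat_lit 259, nat_lit 74])
(.leaf 541 1 [nat_lit 222, nat_lit 37, nat_lit 296, nat_lit 222, nat_lit 37, nat_lit 296, nat_lit 0, nat_lit 37, nat_lit 0, nat_lit 74, nat_lit 296, nat_lit 74, nat_lit 0, nat_lit 37, nat_lit 0]))
(.node (nat_lit 295) (.leaf 575 9 [nat_lit 74, nat_lit 296, nat_lit 222, nat_lit 296, nat_lit 259, nat_lit 111, nat_lit 0, nat_lit 148, nat_lit 74, nat_lit 148, nat_lit 0, nat_lit 111, nat_lit 259, nat_lit 296, nat_lit 222])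
(.node (nat_lit 296) (.leaf 177 6 [nat_lit 0, nat_lit 296, nat_lit 222, nat_lit 0, nat_lit 296, nat_lit 0, nat_lit 296, nat_lit 222, nat_lit 0])
(.leaf 183 6 [nat_lit 259, nat_lit 296, nat_lit 222, nat_lit 0, nat_lit 296, nat_lit 0, nat_lit 296, nat_lit 222, nat_lit 259])))))
(.node (nat_lit 303) (.node (nat_lit 300) (.node (nat_lit 298) (.leaf 575 11 [nat_lit 222, nat_lit 296, nat_lit 259, nat_lit 111, nat_lit 0, nat_lit 148, nat_lit 74, nat_lit 148, nat_lit 0, nat_lit 111, nat_lit 259, nat_lit 296, nat_lit 222, nat_lit 296, nat_lit 74])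
(.node (nat_lit 299) (.leaf 569 5 [nat_lit 0, nat_lit 111, nat_lit 0, nat_lit 259, nat_lit 111, nat_lit 259, nat_lit 296, nat_lit 148, nat_lit 0, nat_lit 111, nat_lit 0, nat_lit 259, nat_lit 111, nat_lit 259, nat_lit 148])
(.leaf 347 9 [nat_lit 222, nat_lit 0, nat_lit 259, nat_lit 74, nat_lit 185, nat_lit 222, nat_lit 185, nat_lit 74, nat_lit 296, nat_lit 0])))
(.node (nat_lit 301) (.leaf 587 7 [nat_lit 222, nat_lit 148, nat_lit 296, nat_lit 74, nat_lit 148, nat_lit 0, nat_lit 148, nat_lit 0, nat_lit 37, nat_lit 0, nat_lit 296, nat_lit 148, nat_lit 222, nat_lit 296, nat_lit 0, nat_lit 37])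
(.node (nat_lit 302) (.leaf 275 8 [nat_lit 259, nat_lit 185, nat_lit 259, nat_lit 296, nat_lit 222, nat_lit 296, nat_lit 185, nat_lit 296, nat_lit 222])
(.leaf 617 11 [nat_lit 74, nat_lit 148, nat_lit 111, nat_lit 37, nat_lit 74, nat_lit 37, nat_lit 111, nat_lit 148, nat_lit 296, nat_lit 259, nat_lit 148, nat_lit 296, nat_lit 74, nat_lit 296, nat_lit 148, nat_lit 259]))))
(.node (nat_lit 306) (.node (nat_lit 304) (.leaf 479 4 [nat_lit 74, nat_lit 222, nat_lit 37, nat_lit 296, nat_lit 259, nat_lit 222, nat_lit 185, nat_lit 296, nat_lit 74, nat_lit 37, nat_lit 296, nat_lit 185, nat_lit 259])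
(.node (nat_lit 305) (.leaf 615 2 [nat_lit 259, nat_lit 111, nat_lit 148, nat_lit 259, nat_lit 111, nat_lit 259, nat_lit 148, nat_lit 74, nat_lit 259, nat_lit 296, nat_lit 111, nat_lit 74, nat_lit 37, nat_lit 74, nat_lit 37, nat_lit 74])
(.leaf 613 7 [nat_lit 222, nat_lit 0, nat_lit 222, nat_lit 111, nat_lit 222, nat_lit 111, nat_lit 222, nat_lit 111, nat_lit 222, nat_lit 0, nat_lit 296, nat_lit 74, nat_lit 259, nat_lit 37, nat_lit 74, nat_lit 37])))
(.node (nat_lit 307) (.leaf 471 11 [nat_lit 0, nat_lit 148, nat_lit 0, nat_lit 296, nat_lit 222, nat_lit 148, nat_lit 222, nat_lit 148, nat_lit 222, nat_lit 148, nat_lit 259, nat_lit 222, nat_lit 148])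
(.node (nat_lit 308) (.leaf 495 1 [nat_lit 37, nat_lit 296, nat_lit 0, nat_lit 185, nat_lit 296, nat_lit 259, nat_lit 185, nat_lit 296, nat_lit 185, nat_lit 296, nat_lit 74, nat_lit 0, nat_lit 37, nat_lit 0])
(.leaf 613 1 [nat_lit 74, nat_lit 259, nat_lit 37, nat_lit 74, nat_lit 37, nat_lit 296, nat_lit 222, nat_lit 0, nat_lit 222, nat_lit 111, nat_lit 222, nat_lit 111, nat_lit 222, nat_lit 111, nat_lit 222, nat_lit 0]))))))
(.node (nat_lit 324) (.node (nat_lit 316) (.node (nat_lit 312) (.node (nat_lit 310) (.leaf 605 6 [nat_lit 259, nat_lit 296, nat_lit 37, nat_lit 74, nat_lit 0, nat_lit 296, nat_lit 37, nat_lit 0, nat_lit 222, nat_lit 37, nat_lit 0, nat_lit 37, nat_lit 296, nat_lit 74, nat_lit 37, nat_lit 222])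
(.node (nat_lit 311) (.leaf 495 11 [nat_lit 74, nat_lit 0, nat_lit 37, nat_lit 0, nat_lit 296, nat_lit 37, nat_lit 296, nat_lit 0, nat_lit 185, nat_lit 296, nat_lit 259, nat_lit 185, nat_lit 296, nat_lit 185])
(.leaf 441 6 [nat_lit 74, nat_lit 148, nat_lit 259, nat_lit 296, nat_lit 148, nat_lit 74, nat_lit 37, nat_lit 0, nat_lit 296, nat_lit 148, nat_lit 296, nat_lit 0, nat_lit 37])))
(.node (nat_lit 314) (.node (nat_lit 313) (.leaf 541 12 [nat_lit 74, nat_lit 0, nat_lit 37, nat_lit 0, nat_lit 296, nat_lit 222, nat_lit 37, nat_lit 296, nat_lit 222, nat_lit 37, nat_lit 296, nat_lit 0, nat_lit 37, nat_lit 0, nat_lit 74])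
(.leaf 617 8 [nat_lit 148, nat_lit 259, nat_lit 296, nat_lit 74, nat_lit 148, nat_lit 111, nat_lit 37, nat_lit 74, nat_lit 37, nat_lit 111, nat_lit 148, nat_lit 296, nat_lit 259, nat_lit 148, nat_lit 296, nat_lit 74]))
(.node (nat_lit 315) (.leaf 617 6 [nat_lit 74, nat_lit 296, nat_lit 148, nat_lit 259, nat_lit 296, nat_lit 74, nat_lit 148, nat_lit 111, nat_lit 37, nat_lit 74, nat_lit 37, nat_lit 111, nat_lit 148, nat_lit 296, nat_lit 259, nat_lit 148])
(.leaf 301 3 [nat_lit 0, nat_lit 296, nat_lit 74, nat_lit 185, nat_lit 222, nat_lit 185, nat_lit 74, nat_lit 0, nat_lit 259, nat_lit 222]))))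
(.node (nat_lit 320) (.node (nat_lit 318) (.node (nat_lit 317) (.leaf 229 3 [nat_lit 222, nat_lit 296, nat_lit 259, nat_lit 296, nat_lit 37, nat_lit 222, nat_lit 37, nat_lit 296, nat_lit 259])
(.leaf 291 2 [nat_lit 0, nat_lit 296, nat_lit 37, nat_lit 259, nat_lit 185, nat_lit 222, nat_lit 185, nat_lit 37, nat_lit 0, nat_lit 222]))
(.node (nat_lit 319) (.leaf 227 1 [nat_lit 222, nat_lit 296, nat_lit 222, nat_lit 296, nat_lit 222, nat_lit 296, nat_lit 37, nat_lit 222, nat_lit 37])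
(.leaf 251 1 [nat_lit 222, nat_lit 296, nat_lit 222, nat_lit 296, nat_lit 222, nat_lit 296, nat_lit 74, nat_lit 222, nat_lit 74])))
(.node (nat_lit 322) (.node (nat_lit 321) (.leaf 593 3 [nat_lit 37, nat_lit 0, nat_lit 259, nat_lit 185, nat_lit 296, nat_lit 222, nat_lit 185, nat_lit 296, nat_lit 37, nat_lit 74, nat_lit 185, nat_lit 0, nat_lit 37, nat_lit 0, nat_lit 222, nat_lit 0])
(.leaf 303 5 [nat_lit 74, nat_lit 185, nat_lit 222, nat_lit 185, nat_lit 74, nat_lit 0, nat_lit 222, nat_lit 259, nat_lit 296, nat_lit 0]))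
(.node (nat_lit 323) (.leaf 541 7 [nat_lit 0, nat_lit 37, nat_lit 0, nat_lit 74, nat_lit 296, nat_lit 74, nat_lit 0, nat_lit 37, nat_lit 0, nat_lit 296, nat_lit 222, nat_lit 37, nat_lit 296, nat_lit 222, nat_lit 37])
(.leaf 347 7 [nat_lit 0, nat_lit 296, nat_lit 222, nat_lit 0, nat_lit 259, nat_lit 74, nat_lit 185, nat_lit 222, nat_lit 185, nat_lit 74])))))
(.node (nat_lit 333) (.node (nat_lit 328) (.node (nat_lit 326) (.node (nat_lit 325) (.leaf 569 12 [nat_lit 148, nat_lit 0, nat_lit 111, nat_lit 0, nat_lit 259, nat_lit 111, nat_lit 259, nat_lit 148, nat_lit 296, nat_lit 0, nat_lit 111, nat_lit 0, nat_lit 259, nat_lit 111, nat_lit 259])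
(.leaf 185 1 [nat_lit 259, nat_lit 296, nat_lit 37, nat_lit 259, nat_lit 37, nat_lit 296, nat_lit 0, nat_lit 296, nat_lit 0]))
(.node (nat_lit 327) (.leaf 125 1 [nat_lit 0, nat_lit 259, nat_lit 296, nat_lit 37, nat_lit 222, nat_lit 259, nat_lit 222, nat_lit 37, nat_lit 0])
(.leaf 293 4 [nat_lit 37, nat_lit 185, nat_lit 222, nat_lit 185, nat_lit 259, nat_lit 37, nat_lit 0, nat_lit 222, nat_lit 296, nat_lit 0])))
(.node (nat_lit 330) (.node (nat_lit 329) (.leaf 499 3 [nat_lit 74, nat_lit 296, nat_lit 148, nat_lit 74, nat_lit 148, nat_lit 259, nat_lit 37, nat_lit 0, nat_lit 37, nat_lit 74, nat_lit 37, nat_lit 0, nat_lit 37, nat_lit 259])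
(.leaf 179 1 [nat_lit 259, nat_lit 296, nat_lit 0, nat_lit 222, nat_lit 296, nat_lit 259, nat_lit 296, nat_lit 222, nat_lit 0]))
(.node (nat_lit 331) (.leaf 229 5 [nat_lit 259, nat_lit 296, nat_lit 37, nat_lit 222, nat_lit 37, nat_lit 296, nat_lit 259, nat_lit 296, nat_lit 222])
(.node (nat_lit 332) (.leaf 553 3 [nat_lit 259, nat_lit 74, nat_lit 259, nat_lit 74, nat_lit 0, nat_lit 74, nat_lit 37, nat_lit 296, nat_lit 222, nat_lit 296, nat_lit 74, nat_lit 37, nat_lit 0, nat_lit 296, nat_lit 222])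
(.leaf 253 5 [nat_lit 259, nat_lit 296, nat_lit 74, nat_lit 222, nat_lit 74, nat_lit 296, nat_lit 259, nat_lit 296, nat_lit 222])))))
(.node (nat_lit 340) (.node (nat_lit 336) (.node (nat_lit 334) (.leaf 121 4 [nat_lit 37, nat_lit 0, nat_lit 259, nat_lit 0, nat_lit 37, nat_lit 0, nat_lit 296, nat_lit 0, nat_lit 259])
(.node (nat_lit 335) (.leaf 251 3 [nat_lit 222, nat_lit 296, nat_lit 222, nat_lit 296, nat_lit 74, nat_lit 222, nat_lit 74, nat_lit 296, nat_lit 222])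
(.leaf 125 4 [nat_lit 37, nat_lit 222, nat_lit 259, nat_lit 222, nat_lit 37, nat_lit 0, nat_lit 296, nat_lit 0, nat_lit 259])))
(.node (nat_lit 338) (.node (nat_lit 337) (.leaf 251 5 [nat_lit 222, nat_lit 296, nat_lit 74, nat_lit 222, nat_lit 74, nat_lit 296, nat_lit 222, nat_lit 296, nat_lit 222])
(.leaf 575 13 [nat_lit 259, nat_lit 111, nat_lit 0, nat_lit 148, nat_lit 74, nat_lit 148, nat_lit 0, nat_lit 111, nat_lit 259, nat_lit 296, nat_lit 222, nat_lit 296, nat_lit 74, nat_lit 296, nat_lit 222]))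
(.node (nat_lit 339) (.leaf 253 3 [nat_lit 222, nat_lit 296, nat_lit 259, nat_lit 296, nat_lit 74, nat_lit 222, nat_lit 74, nat_lit 296, nat_lit 259])
(.leaf 605 8 [nat_lit 37, nat_lit 74, nat_lit 0, nat_lit 296, nat_lit 37, nat_lit 0, nat_lit 222, nat_lit 37, nat_lit 0, nat_lit 37, nat_lit 296, nat_lit 74, nat_lit 37, nat_lit 222, nat_lit 296, nat_lit 259]))))
(.node (nat_lit 345) (.node (nat_lit 342) (.node (nat_lit 341) (.leaf 161 8 [nat_lit 148, nat_lit 0, nat_lit 259, nat_lit 148, nat_lit 296, nat_lit 148, nat_lit 0, nat_lit 259, nat_lit 148])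
(.leaf 171 1 [nat_lit 0, nat_lit 259, nat_lit 296, nat_lit 222, nat_lit 0, nat_lit 259, nat_lit 0, nat_lit 222, nat_lit 0]))
(.node (nat_lit 343) (.leaf 253 1 [nat_lit 259, nat_lit 296, nat_lit 222, nat_lit 296, nat_lit 259, nat_lit 296, nat_lit 74, nat_lit 222, nat_lit 74])
(.node (nat_lit 344) (.leaf 229 1 [nat_lit 259, nat_lit 296, nat_lit 222, nat_lit 296, nat_lit 259, nat_lit 296, nat_lit 37, nat_lit 222, nat_lit 37])
(.leaf 121 1 [nat_lit 0, nat_lit 259, nat_lit 296, nat_lit 37, nat_lit 0, nat_lit 259, nat_lit 0, nat_lit 37, nat_lit 0]))))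
(.node (nat_lit 348) (.node (nat_lit 346) (.leaf 293 2 [nat_lit 0, nat_lit 296, nat_lit 37, nat_lit 185, nat_lit 222, nat_lit 185, nat_lit 259, nat_lit 37, nat_lit 0, nat_lit 222])
(.node (nat_lit 347) (.leaf 227 3 [nat_lit 222, nat_lit 296, nat_lit 222, nat_lit 296, nat_lit 37, nat_lit 222, nat_lit 37, nat_lit 296, nat_lit 222])
(.leaf 231 1 [nat_lit 222, nat_lit 296, nat_lit 259, nat_lit 296, nat_lit 222, nat_lit 296, nat_lit 37, nat_lit 259, nat_lit 37])))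
(.node (nat_lit 350) (.node (nat_lit 349) (.leaf 181 6 [nat_lit 259, nat_lit 296, nat_lit 222, nat_lit 0, nat_lit 259, nat_lit 296, nat_lit 0, nat_lit 296, nat_lit 222])
(.leaf 575 7 [nat_lit 222, nat_lit 296, nat_lit 74, nat_lit 296, nat_lit 222, nat_lit 296, nat_lit 259, nat_lit 111, nat_lit 0, nat_lit 148, nat_lit 74, nat_lit 148, nat_lit 0, nat_lit 111, nat_lit 259]))
(.node (nat_lit 351) (.leaf 231 3 [nat_lit 259, nat_lit 296, nat_lit 222, nat_lit 296, nat_lit 37, nat_lit 259, nat_lit 37, nat_lit 296, nat_lit 222])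
(.node (nat_lit 352) (.leaf 227 5 [nat_lit 222, nat_lit 296, nat_lit 37, nat_lit 222, nat_lit 37, nat_lit 296, nat_lit 222, nat_lit 296, nat_lit 222])
(.leaf 171 4 [nat_lit 222, nat_lit 0, nat_lit 259, nat_lit 0, nat_lit 222, nat_lit 0, nat_lit 296, nat_lit 0, nat_lit 259])))))))))))))))
(.leaf 0 0 [])))
noncomputable def wt9 : LT := (.leaf 0 0 [])
noncomputable def sl : List (ℕ × ℕ × List ℕ × List ℕ) := [(0, nat_lit 0, [], []),
(2, nat_lit 37, [], []),
(4, nat_lit 74, [], []),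
(6, nat_lit 111, [], []),
(8, nat_lit 148, [], []),
(10, nat_lit 185, [], []),
(12, nat_lit 222, [], []),
(14, nat_lit 259, [], [])]
/-- the inverse column -/
noncomputable def icol (x : ℕ) : ℕ := x
noncomputable def inv (x : ℕ) : ℕ := x
def cols : List ℕ := [nat_lit 333, nat_lit 0, nat_lit 37, nat_lit 74, nat_lit 111, nat_lit 148, nat_lit 185, nat_lit 222, nat_lit 259, nat_lit 296]
noncomputable def cl : CL := (.cons (nat_lit 0) (nat_lit 0) (nat_lit 0) (nat_lit 0) wt0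
(.cons (nat_lit 37) (nat_lit 37) (nat_lit 13) (nat_lit 1536) wt1
(.cons (nat_lit 74) (nat_lit 74) (nat_lit 26) (nat_lit 3072) wt2
(.cons (nat_lit 111) (nat_lit 111) (nat_lit 39) (nat_lit 4608) wt3
(.cons (nat_lit 148) (nat_lit 148) (nat_lit 52) (nat_lit 6144) wt4
(.cons (nat_lit 185) (nat_lit 185) (nat_lit 65) (nat_lit 7680) wt5
(.cons (nat_lit 222) (nat_lit 222) (nat_lit 78) (nat_lit 9216) wt6
(.cons (nat_lit 259) (nat_lit 259) (nat_lit 91) (nat_lit 10752) wt7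
(.cons (nat_lit 296) (nat_lit 296) (nat_lit 104) (nat_lit 12288) wt8
.nil)))))))))
def rels : List (List ℕ) := [[0, 7, 0, 7],
[1, 6, 1, 6],
[1, 7, 1, 7],
[2, 6, 2, 6],
[3, 4, 3, 4],
[3, 8, 3, 8],
[6, 7, 6, 7],
[0, 7, 8, 0, 7, 8],
[0, 7, 8, 7, 0, 8],
[1, 6, 7, 1, 6, 7],
[2, 5, 2, 5, 2, 5],
[2, 6, 2, 7, 6, 7],
[0, 1, 0, 7, 0, 1, 0, 7],
[0, 1, 7, 1, 0, 1, 7, 1],
[0, 1, 7, 1, 8, 7, 0, 8],
[0, 3, 0, 3, 0, 3, 0, 3],
[0, 3, 6, 3, 0, 3, 6, 3],
[0, 4, 0, 8, 4, 7, 4, 8],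
[0, 5, 0, 5, 0, 5, 0, 5],
[0, 5, 7, 5, 0, 5, 7, 5],
[0, 6, 0, 6, 0, 6, 0, 6],
[0, 6, 0, 7, 0, 6, 0, 7],
[0, 6, 7, 6, 0, 6, 7, 6],
[0, 6, 7, 6, 8, 7, 0, 8],
[0, 8, 0, 8, 0, 8, 0, 8],
[0, 8, 0, 8, 7, 8, 7, 8],
[0, 8, 7, 8, 0, 8, 7, 8],
[1, 2, 1, 2, 1, 2, 1, 2],
[1, 2, 1, 3, 7, 2, 7, 3],
[1, 2, 1, 6, 1, 2, 1, 6],
[1, 2, 6, 2, 1, 2, 6, 2],
[1, 2, 7, 2, 1, 2, 7, 2],
[1, 2, 7, 6, 7, 2, 1, 6],
[1, 3, 1, 3, 1, 3, 1, 3],
[1, 4, 1, 4, 1, 4, 1, 4],
[1, 6, 1, 7, 1, 6, 1, 7],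
[1, 6, 7, 6, 1, 6, 7, 6],
[1, 7, 6, 7, 1, 7, 6, 7],
[2, 3, 2, 3, 2, 3, 2, 3],
[2, 4, 2, 4, 2, 4, 2, 4],
[2, 6, 2, 7, 2, 6, 2, 7],
[2, 7, 2, 7, 2, 7, 2, 7],
[2, 7, 6, 7, 2, 7, 6, 7],
[2, 8, 2, 8, 2, 8, 2, 8],
[2, 8, 4, 8, 2, 8, 4, 8],
[3, 4, 8, 4, 3, 4, 8, 4],
[3, 5, 3, 5, 3, 5, 3, 5],
[3, 7, 3, 7, 3, 7, 3, 7],
[3, 8, 4, 8, 3, 8, 4, 8],
[4, 5, 4, 5, 4, 5, 4, 5],
[4, 6, 4, 6, 4, 6, 4, 6],
[4, 8, 4, 8, 4, 8, 4, 8],
[5, 6, 5, 6, 5, 6, 5, 6],
[5, 6, 5, 7, 5, 6, 5, 7],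
[5, 7, 5, 7, 5, 7, 5, 7],
[5, 7, 5, 8, 5, 7, 5, 8],
[6, 8, 6, 8, 6, 8, 6, 8],
[6, 8, 7, 8, 6, 8, 7, 8],
[7, 8, 7, 8, 7, 8, 7, 8],
[0, 4, 0, 4, 5, 7, 5, 7, 4],
[0, 1, 0, 7, 0, 1, 8, 7, 0, 8],
[0, 1, 5, 7, 2, 0, 1, 5, 7, 2],
[0, 1, 6, 7, 6, 1, 8, 7, 0, 8],
[0, 2, 7, 3, 1, 2, 1, 3, 0, 7],
[0, 2, 7, 8, 2, 0, 2, 7, 8, 2],
[0, 2, 8, 2, 0, 7, 2, 8, 2, 7],
[0, 2, 8, 2, 7, 0, 2, 8, 2, 7],
[0, 3, 0, 3, 0, 3, 0, 4, 3, 4],
[0, 3, 0, 3, 0, 3, 0, 8, 3, 8],
[0, 3, 0, 3, 0, 6, 3, 0, 3, 6],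
[0, 3, 5, 1, 5, 0, 3, 5, 1, 5],
[0, 3, 6, 3, 0, 3, 6, 4, 3, 4],
[0, 3, 6, 3, 0, 3, 6, 8, 3, 8],
[0, 3, 6, 3, 0, 3, 7, 6, 7, 3],
[0, 3, 7, 3, 8, 7, 3, 0, 3, 8],
[0, 3, 7, 3, 8, 7, 3, 0, 8, 3],
[0, 3, 8, 4, 3, 7, 4, 8, 0, 4],
[0, 4, 7, 4, 8, 0, 4, 7, 8, 7],
[0, 4, 7, 8, 0, 7, 4, 7, 4, 8],
[0, 4, 8, 4, 0, 7, 4, 8, 4, 7],
[0, 4, 8, 4, 7, 0, 4, 8, 4, 7],
[0, 5, 0, 5, 0, 7, 5, 0, 5, 7],
[0, 5, 7, 5, 0, 6, 5, 7, 5, 6],
[0, 5, 7, 5, 0, 7, 5, 7, 5, 7],
[0, 5, 7, 5, 0, 8, 5, 7, 5, 8],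
[0, 6, 0, 7, 0, 6, 8, 7, 0, 8],
[0, 6, 0, 8, 0, 8, 6, 8, 0, 8],
[0, 6, 4, 2, 4, 6, 0, 8, 2, 8],
[0, 6, 8, 0, 8, 0, 6, 8, 0, 8],
[0, 6, 8, 7, 8, 6, 0, 8, 7, 8],
[0, 6, 8, 7, 8, 6, 8, 0, 8, 7],
[0, 6, 8, 7, 8, 7, 6, 8, 0, 8],
[0, 8, 0, 8, 1, 7, 1, 8, 7, 8],
[1, 2, 1, 2, 1, 7, 2, 1, 2, 7],
[1, 2, 1, 2, 3, 7, 2, 7, 3, 2],
[1, 2, 1, 3, 1, 7, 1, 2, 7, 3],
[1, 2, 1, 3, 2, 7, 2, 7, 2, 3],
[1, 2, 1, 3, 6, 7, 2, 7, 6, 3],
[1, 2, 1, 3, 7, 2, 7, 4, 3, 4],
[1, 2, 1, 3, 7, 2, 7, 8, 3, 8],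
[1, 2, 1, 6, 3, 7, 2, 7, 3, 6],
[1, 2, 5, 6, 5, 2, 1, 5, 6, 5],
[1, 2, 6, 7, 2, 1, 2, 7, 6, 2],
[1, 2, 6, 7, 5, 1, 2, 7, 6, 5],
[1, 2, 6, 7, 5, 1, 6, 2, 7, 5],
[1, 2, 6, 7, 5, 6, 1, 2, 7, 5],
[1, 2, 7, 2, 1, 7, 2, 7, 2, 7],
[1, 2, 7, 5, 1, 2, 7, 6, 5, 6],
[1, 2, 7, 5, 1, 6, 2, 7, 5, 6],
[1, 2, 7, 5, 6, 1, 2, 7, 5, 6],
[1, 2, 7, 6, 5, 1, 2, 7, 6, 5],
[1, 3, 1, 3, 1, 3, 1, 4, 3, 4],
[1, 3, 1, 3, 1, 3, 1, 8, 3, 8],
[1, 6, 1, 8, 6, 8, 6, 8, 6, 8],
[1, 6, 1, 8, 7, 8, 6, 8, 7, 8],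
[1, 7, 1, 8, 6, 8, 7, 8, 6, 8],
[2, 3, 2, 3, 2, 3, 2, 4, 3, 4],
[2, 3, 2, 3, 2, 3, 2, 8, 3, 8],
[2, 3, 6, 7, 3, 2, 3, 6, 7, 3],
[2, 3, 6, 7, 3, 2, 3, 7, 6, 3],
[2, 3, 8, 4, 8, 3, 2, 8, 4, 8],
[2, 4, 2, 4, 8, 2, 4, 2, 4, 8],
[2, 4, 2, 4, 8, 4, 2, 4, 2, 8],
[2, 4, 8, 2, 8, 4, 2, 8, 2, 8],
[2, 4, 8, 4, 8, 4, 2, 8, 4, 8],
[2, 6, 2, 8, 6, 8, 6, 8, 6, 8],
[2, 6, 2, 8, 7, 8, 6, 8, 7, 8],
[3, 4, 3, 5, 4, 5, 4, 5, 4, 5],
[3, 4, 3, 6, 4, 6, 4, 6, 4, 6],
[3, 5, 6, 5, 6, 3, 5, 6, 5, 6],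
[3, 5, 6, 5, 6, 3, 6, 5, 6, 5],
[4, 6, 4, 6, 4, 6, 4, 7, 6, 7],
[5, 6, 5, 6, 7, 5, 6, 5, 7, 6],
[5, 6, 7, 5, 7, 5, 7, 6, 5, 7],
[5, 6, 8, 5, 7, 5, 8, 6, 5, 7],
[5, 7, 5, 7, 8, 5, 7, 5, 8, 7],
[5, 7, 8, 6, 8, 5, 7, 8, 6, 8],
[5, 7, 8, 6, 8, 5, 8, 6, 8, 7],
[6, 7, 8, 6, 8, 7, 6, 8, 6, 8],
[0, 1, 5, 2, 0, 1, 8, 7, 8, 5, 2],
[0, 1, 5, 6, 5, 1, 0, 6, 8, 7, 8],
[0, 1, 5, 6, 5, 1, 7, 8, 0, 8, 6],
[0, 1, 5, 6, 5, 1, 8, 0, 8, 6, 7],
[0, 1, 5, 6, 5, 1, 8, 0, 8, 7, 6],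
[0, 1, 5, 6, 5, 1, 8, 7, 8, 0, 6],
[0, 1, 5, 6, 5, 7, 1, 8, 0, 8, 6],
[0, 1, 7, 5, 6, 5, 1, 8, 0, 8, 6],
[0, 2, 0, 4, 0, 2, 0, 4, 8, 2, 8],
[0, 2, 5, 6, 5, 2, 0, 6, 8, 7, 8],
[0, 2, 5, 6, 5, 2, 7, 8, 0, 8, 6],
[0, 2, 5, 6, 5, 2, 8, 0, 8, 6, 7],
[0, 2, 5, 6, 5, 2, 8, 0, 8, 7, 6],
[0, 2, 5, 6, 5, 2, 8, 7, 8, 0, 6],
[0, 2, 5, 7, 5, 8, 2, 0, 2, 8, 2],
[0, 3, 2, 8, 2, 3, 0, 5, 7, 5, 8],
[0, 3, 2, 8, 2, 3, 5, 7, 5, 0, 8],
[0, 3, 4, 3, 0, 4, 5, 7, 5, 7, 4],
[0, 3, 4, 3, 7, 5, 7, 5, 4, 0, 4],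
[0, 4, 0, 4, 0, 4, 0, 5, 7, 5, 7],
[0, 4, 0, 4, 0, 4, 7, 0, 5, 7, 5],
[0, 4, 0, 4, 1, 7, 1, 5, 7, 5, 4],
[0, 4, 0, 4, 5, 0, 7, 0, 5, 7, 4],
[0, 4, 0, 4, 5, 1, 7, 1, 5, 7, 4],
[0, 4, 0, 4, 5, 6, 7, 6, 5, 7, 4],
[0, 4, 0, 4, 5, 7, 5, 6, 7, 6, 4],
[0, 4, 0, 4, 6, 5, 7, 5, 6, 7, 4],
[0, 4, 0, 4, 6, 5, 7, 5, 7, 6, 4],
[0, 4, 0, 4, 7, 8, 5, 7, 5, 8, 4],
[0, 4, 2, 7, 2, 7, 4, 0, 8, 2, 8],
[0, 4, 5, 7, 5, 7, 4, 7, 0, 7, 4],
[0, 4, 7, 0, 7, 4, 5, 7, 5, 7, 4],
[0, 4, 8, 4, 0, 4, 8, 4, 5, 7, 5],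
[0, 6, 8, 0, 8, 1, 5, 6, 5, 1, 7],
[0, 6, 8, 0, 8, 2, 5, 6, 5, 2, 7],
[1, 2, 1, 4, 1, 2, 8, 2, 8, 1, 4],
[1, 3, 7, 3, 1, 6, 3, 7, 3, 6, 7],
[1, 3, 7, 3, 1, 6, 3, 7, 3, 7, 6],
[1, 3, 7, 3, 6, 1, 3, 7, 3, 6, 7],
[1, 3, 7, 3, 6, 1, 3, 7, 3, 7, 6],
[2, 3, 5, 7, 5, 7, 8, 7, 3, 2, 8],
[2, 3, 7, 5, 7, 5, 8, 7, 3, 2, 8],
[2, 4, 6, 4, 2, 4, 6, 4, 7, 2, 7],
[2, 5, 7, 5, 8, 2, 7, 2, 8, 2, 7],
[4, 5, 7, 5, 7, 4, 8, 4, 7, 4, 8],
[0, 1, 0, 2, 1, 5, 1, 0, 1, 5, 1, 2],
[0, 1, 0, 3, 1, 0, 1, 3, 5, 6, 5, 6],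
[0, 1, 0, 4, 7, 4, 0, 1, 0, 4, 7, 4],
[0, 1, 0, 5, 1, 2, 1, 0, 1, 2, 1, 5],
[0, 1, 2, 3, 2, 1, 0, 5, 3, 6, 5, 6],
[0, 1, 5, 3, 0, 4, 2, 4, 5, 1, 5, 3],
[0, 1, 8, 1, 0, 2, 0, 1, 8, 1, 0, 2],
[0, 2, 8, 1, 8, 6, 8, 1, 8, 2, 0, 6],
[0, 3, 0, 5, 2, 4, 2, 3, 2, 4, 2, 5],
[0, 3, 0, 5, 3, 5, 0, 3, 0, 5, 3, 5],
[0, 3, 1, 3, 0, 6, 0, 3, 1, 3, 0, 6],
[0, 3, 2, 4, 2, 3, 0, 4, 8, 7, 8, 4],
[0, 3, 7, 3, 0, 5, 3, 5, 7, 5, 3, 5],
[0, 4, 0, 5, 7, 5, 7, 4, 5, 7, 5, 7],
[0, 4, 7, 4, 7, 4, 0, 4, 7, 4, 7, 4],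
[0, 5, 6, 5, 3, 6, 0, 5, 6, 5, 3, 6],
[1, 2, 1, 3, 2, 3, 1, 2, 1, 3, 2, 3],
[1, 2, 3, 2, 3, 1, 7, 2, 3, 2, 3, 7],
[1, 2, 8, 5, 8, 1, 7, 2, 8, 5, 8, 7],
[1, 3, 2, 3, 1, 3, 6, 3, 2, 3, 6, 3],
[1, 5, 1, 8, 5, 8, 1, 5, 1, 8, 5, 8],
[1, 8, 7, 4, 7, 8, 1, 8, 7, 4, 7, 8],
[2, 3, 2, 8, 5, 4, 5, 3, 5, 4, 5, 8],
[2, 4, 2, 7, 2, 8, 2, 4, 8, 7, 4, 7],
[3, 4, 6, 3, 4, 6, 3, 4, 6, 4, 3, 6],
[4, 5, 4, 8, 4, 5, 4, 8, 4, 5, 4, 8],
[0, 1, 0, 1, 3, 6, 0, 6, 3, 8, 7, 8, 1],
[0, 1, 0, 7, 2, 5, 1, 0, 2, 5, 8, 0, 8],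
[0, 1, 2, 4, 2, 4, 1, 0, 7, 3, 2, 3, 7],
[0, 2, 6, 3, 4, 2, 8, 6, 0, 6, 8, 4, 6],
[0, 2, 8, 2, 3, 4, 0, 3, 8, 7, 4, 0, 3],
[0, 3, 8, 7, 3, 4, 2, 8, 2, 7, 3, 7, 4],
[0, 4, 6, 3, 6, 3, 6, 4, 0, 5, 6, 5, 6],
[0, 6, 0, 6, 8, 2, 1, 5, 1, 2, 7, 5, 8],
[1, 4, 1, 4, 8, 4, 8, 1, 4, 1, 8, 4, 8],
[0, 1, 0, 1, 4, 1, 4, 1, 0, 1, 0, 4, 1, 4],
[0, 1, 2, 4, 8, 7, 4, 2, 8, 1, 0, 8, 4, 8],
[0, 1, 3, 0, 5, 3, 0, 7, 4, 2, 4, 7, 2, 5],
[0, 1, 3, 1, 3, 0, 1, 8, 3, 7, 3, 7, 8, 1],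
[0, 1, 3, 1, 4, 7, 3, 5, 3, 5, 7, 4, 0, 3],
[0, 1, 8, 0, 2, 1, 8, 1, 2, 0, 8, 1, 0, 8],
[0, 2, 1, 2, 0, 5, 2, 0, 7, 2, 6, 5, 7, 6],
[0, 2, 4, 0, 4, 2, 0, 5, 4, 5, 1, 5, 4, 5],
[0, 2, 5, 0, 4, 0, 3, 1, 3, 0, 4, 0, 5, 2],
[0, 2, 8, 1, 6, 8, 6, 8, 1, 6, 8, 2, 0, 6],
[0, 3, 0, 4, 0, 3, 0, 7, 3, 7, 4, 7, 3, 7],
[0, 3, 0, 5, 3, 2, 5, 7, 5, 8, 2, 8, 5, 7],
[0, 3, 0, 7, 8, 5, 0, 7, 3, 7, 0, 5, 8, 7],
[0, 3, 4, 0, 6, 4, 6, 0, 3, 4, 0, 6, 4, 6],
[0, 3, 4, 6, 3, 4, 0, 6, 4, 0, 6, 0, 4, 6],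
[0, 3, 6, 0, 6, 8, 6, 7, 3, 6, 7, 3, 6, 8],
[0, 4, 0, 8, 4, 6, 7, 4, 6, 4, 6, 4, 6, 8],
[0, 4, 7, 4, 7, 4, 5, 6, 3, 7, 3, 7, 6, 5],
[1, 2, 3, 5, 3, 6, 5, 8, 2, 8, 6, 3, 1, 3],
[1, 2, 7, 5, 7, 2, 8, 5, 6, 5, 6, 8, 1, 5],
[1, 2, 8, 5, 6, 7, 8, 1, 6, 2, 8, 7, 5, 8],
[1, 3, 8, 5, 3, 8, 1, 8, 1, 6, 5, 6, 1, 8],
[2, 3, 6, 8, 6, 3, 2, 3, 8, 6, 8, 6, 8, 3],
[3, 7, 4, 5, 4, 5, 7, 3, 7, 5, 4, 5, 4, 7],
[0, 1, 0, 1, 3, 0, 4, 1, 3, 1, 4, 1, 2, 3, 2],
[0, 1, 0, 1, 3, 0, 5, 3, 5, 1, 4, 0, 3, 0, 4],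
[0, 1, 0, 2, 3, 2, 1, 0, 1, 4, 5, 6, 5, 6, 4],
[0, 1, 0, 2, 7, 5, 7, 8, 5, 8, 7, 5, 0, 1, 8],
[0, 1, 0, 2, 8, 5, 8, 5, 7, 8, 5, 0, 8, 1, 8],
[0, 1, 0, 3, 0, 1, 3, 0, 8, 6, 3, 7, 3, 6, 8],
[0, 1, 2, 1, 0, 1, 7, 4, 2, 4, 8, 2, 8, 7, 1],
[0, 1, 2, 7, 0, 2, 0, 2, 5, 7, 2, 5, 0, 1, 5],
[0, 1, 2, 7, 6, 1, 4, 6, 0, 6, 4, 2, 3, 6, 7],
[0, 1, 3, 0, 1, 3, 4, 1, 4, 0, 4, 1, 4, 1, 3],
[0, 1, 3, 7, 3, 0, 5, 2, 7, 8, 4, 8, 2, 4, 5],
[0, 1, 4, 3, 2, 5, 4, 1, 5, 4, 0, 3, 7, 5, 7],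
[0, 1, 5, 4, 0, 2, 0, 4, 2, 3, 2, 0, 5, 1, 3],
[0, 1, 5, 4, 8, 4, 8, 1, 2, 5, 3, 7, 2, 3, 7],
[0, 1, 6, 5, 7, 8, 5, 8, 5, 2, 0, 1, 6, 8, 1],
[0, 1, 8, 0, 5, 7, 2, 7, 0, 1, 8, 5, 8, 7, 5],
[0, 2, 0, 6, 8, 1, 3, 2, 3, 4, 2, 4, 1, 8, 6],
[0, 2, 0, 7, 4, 8, 4, 6, 3, 0, 2, 7, 3, 6, 8],
[0, 2, 1, 5, 2, 4, 7, 8, 0, 8, 4, 5, 0, 5, 2],
[0, 3, 1, 4, 0, 3, 4, 2, 1, 8, 7, 3, 8, 2, 4],
[0, 3, 2, 5, 3, 2, 3, 4, 5, 4, 2, 5, 4, 1, 4],
[0, 3, 5, 1, 5, 3, 7, 3, 5, 1, 5, 3, 8, 0, 8],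
[1, 2, 1, 2, 4, 8, 1, 2, 1, 2, 8, 4, 3, 2, 3],
[1, 2, 1, 8, 1, 5, 3, 8, 7, 2, 8, 3, 1, 5, 8],
[1, 2, 3, 2, 5, 3, 5, 4, 5, 6, 5, 6, 4, 1, 3],
[1, 2, 4, 2, 4, 1, 6, 4, 6, 8, 2, 8, 6, 4, 6],
[4, 6, 4, 7, 4, 7, 4, 6, 4, 7, 4, 8, 4, 8, 7],
[0, 1, 0, 2, 8, 2, 0, 1, 0, 8, 1, 6, 8, 1, 6, 8],
[0, 1, 0, 3, 1, 0, 1, 8, 0, 6, 3, 6, 0, 3, 6, 8],
[0, 1, 0, 3, 1, 0, 2, 1, 8, 1, 5, 3, 5, 2, 1, 8],
[0, 1, 0, 4, 0, 2, 0, 6, 3, 4, 2, 4, 1, 3, 6, 4],
[0, 1, 0, 4, 5, 1, 4, 5, 4, 7, 5, 7, 8, 2, 8, 5],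
[0, 1, 2, 3, 4, 5, 3, 5, 4, 2, 7, 1, 3, 0, 3, 7],
[0, 1, 2, 8, 6, 8, 1, 2, 0, 2, 7, 2, 7, 8, 6, 8],
[0, 1, 3, 2, 4, 6, 0, 6, 4, 0, 5, 2, 1, 5, 0, 2],
[0, 1, 3, 2, 7, 2, 0, 5, 2, 7, 2, 3, 2, 0, 2, 5],
[0, 1, 6, 3, 2, 4, 5, 3, 4, 1, 5, 4, 0, 6, 5, 2],
[0, 2, 1, 8, 5, 0, 6, 0, 5, 8, 5, 2, 1, 5, 0, 6],
[0, 2, 3, 2, 4, 0, 5, 4, 7, 5, 7, 4, 2, 3, 2, 5],
[0, 2, 4, 1, 3, 2, 1, 4, 5, 3, 1, 3, 0, 5, 1, 5],
[0, 2, 4, 1, 8, 7, 8, 4, 0, 7, 3, 1, 2, 3, 7, 4],
[0, 3, 0, 4, 8, 7, 3, 7, 0, 3, 0, 8, 4, 7, 3, 7],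
[0, 3, 1, 3, 0, 4, 5, 1, 2, 5, 1, 5, 2, 1, 5, 4],
[0, 3, 4, 5, 0, 4, 5, 4, 1, 5, 0, 5, 1, 4, 0, 5],
[0, 3, 7, 8, 6, 8, 2, 8, 6, 8, 7, 3, 0, 4, 2, 4],
[0, 4, 0, 5, 1, 2, 1, 4, 6, 5, 6, 4, 1, 2, 1, 5],
[1, 5, 1, 5, 2, 4, 6, 3, 2, 6, 3, 6, 4, 6, 5, 6],
[1, 5, 1, 5, 3, 8, 5, 1, 6, 5, 1, 6, 5, 8, 3, 5],
[0, 1, 0, 1, 2, 1, 4, 6, 5, 0, 3, 0, 5, 1, 3, 6, 4],
[0, 1, 0, 2, 6, 0, 6, 3, 4, 6, 0, 3, 1, 2, 3, 6, 4],
[0, 1, 0, 4, 0, 4, 2, 8, 4, 6, 8, 1, 0, 8, 6, 4, 8],
[0, 1, 0, 4, 1, 3, 1, 4, 1, 0, 1, 5, 1, 3, 1, 3, 5],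
[0, 1, 0, 4, 5, 0, 2, 5, 0, 1, 0, 4, 5, 4, 0, 2, 5],
[0, 1, 0, 5, 2, 1, 8, 5, 6, 8, 5, 7, 0, 1, 8, 0, 6],
[0, 1, 2, 3, 5, 0, 2, 3, 5, 4, 5, 4, 1, 5, 2, 4, 5],
[0, 1, 3, 1, 2, 5, 3, 7, 5, 4, 6, 0, 6, 4, 3, 2, 7],
[0, 1, 3, 6, 5, 6, 4, 6, 5, 2, 6, 4, 0, 4, 5, 0, 4],
[0, 1, 4, 1, 8, 2, 1, 2, 6, 3, 6, 1, 8, 3, 6, 4, 1],
[0, 1, 4, 5, 1, 0, 7, 4, 5, 4, 0, 7, 1, 5, 4, 7, 1],
[0, 1, 6, 0, 1, 8, 0, 2, 1, 8, 7, 8, 6, 1, 2, 8, 1],
[0, 1, 6, 4, 1, 6, 0, 6, 2, 3, 1, 4, 3, 1, 4, 2, 6],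
[0, 2, 5, 4, 1, 5, 2, 5, 4, 1, 7, 5, 7, 2, 1, 3, 4],
[0, 2, 5, 6, 5, 2, 6, 5, 3, 7, 3, 5, 4, 7, 4, 7, 4],
[0, 6, 3, 6, 3, 6, 3, 6, 0, 6, 8, 1, 2, 1, 7, 2, 8],
[1, 2, 1, 2, 3, 8, 7, 2, 4, 7, 3, 7, 4, 3, 7, 8, 2],
[1, 2, 1, 3, 4, 2, 8, 7, 4, 8, 2, 8, 4, 7, 8, 4, 3],
[1, 2, 3, 2, 6, 5, 2, 6, 3, 4, 7, 2, 7, 4, 5, 1, 5],
[1, 2, 4, 7, 2, 7, 4, 7, 2, 1, 7, 5, 1, 5, 1, 5, 2],
[0, 1, 0, 1, 5, 3, 0, 2, 3, 2, 3, 1, 5, 4, 2, 4, 5, 3],
[0, 1, 2, 3, 2, 4, 0, 4, 1, 5, 3, 7, 5, 7, 1, 3, 1, 4],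
[0, 1, 3, 4, 6, 3, 2, 5, 3, 6, 3, 5, 2, 1, 4, 3, 1, 2],
[0, 1, 4, 2, 1, 7, 5, 1, 7, 4, 1, 5, 4, 1, 4, 3, 5, 3],
[0, 1, 6, 0, 4, 6, 0, 5, 6, 1, 4, 2, 0, 4, 5, 4, 6, 5],
[0, 2, 0, 2, 4, 6, 4, 7, 3, 2, 6, 4, 7, 6, 4, 6, 3, 7],
[0, 1, 8, 4, 0, 1, 8, 4, 0, 1, 8, 4, 0, 1, 8, 4, 0, 1, 8, 4, 0, 1, 8, 4, 0, 1, 8, 4]]
def subs : List (List ℕ) := [[0],
[1],
[2],
[3],
[4],
[5],
[6],
[7]]
noncomputable def chk : ℕ → Bool := rowChk row jrow fget sl cols (nat_lit 98280) (nat_lit 98280) (nat_lit 137438953471) (nat_lit 131071) (nat_lit 137438953472) (nat_lit 333) (nat_lit 370) (nat_lit 8191) (nat_lit 6) (nat_lit 63) (nat_lit 17) (nat_lit 131071) cl (nat_lit 117) wt9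
end H18.H30T
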